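import Mathlib
import Cfsg.Agent.Lib.Helper53.CenterMeet

/-!
A maximal normal abelian subgroup of a finite `p`-group is self-centralizing.
-/

set_option autoImplicit false

namespace Cfsg.Agent.Lib.Helper53

open scoped Pointwise

/-- In a finite `p`-group, a normal abelian subgroup `A` that is maximal among the normal
abelian subgroups is self-centralizing. -/
theorem centralizer_eq_of_max_normal_abelian {G : Type*} [Group G] [Finite G] {p : ℕ}
    [hp : Fact p.Prime] (hG : IsPGroup p G) (A : Subgroup G) [hAn : A.Normal]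
    (hA : ∀ x ∈ A, ∀ y ∈ A, x * y = y * x)
    (hmax : ∀ B : Subgroup G, B.Normal → (∀ x ∈ B, ∀ y ∈ B, x * y = y * x) → A ≤ B → B = A) :
    Subgroup.centralizer (A : Set G) = A := by
  classical
  have hAC : A ≤ Subgroup.centralizer (A : Set G) := by
    intro x hx
    rw [Subgroup.mem_centralizer_iff]
    intro y hy
    exact hA y hy x hx
  by_contra hne
  have hnle : ¬ Subgroup.centralizer (A : Set G) ≤ A := fun h => hne (le_antisymm h hAC)
  obtain ⟨c, hcC, hcA⟩ := SetLike.not_le_iff_exists.1 hnle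
  set π := QuotientGroup.mk' A with hπ
  have hCn : (Subgroup.centralizer (A : Set G)).Normal := Subgroup.normal_centralizer
  set N := (Subgroup.centralizer (A : Set G)).map π with hN
  have hNn : N.Normal := hCn.map π (QuotientGroup.mk'_surjective A)
  have hNne : N ≠ ⊥ := by
    intro h
    have : π c ∈ N := ⟨c, hcC, rfl⟩
    rw [h, Subgroup.mem_bot, hπ, QuotientGroup.mk'_apply, QuotientGroup.eq_one_iff] at this
    exact hcA this
  obtain ⟨b, hbN, hb1, hbZ⟩ := normal_meets_center (hG.to_quotient A) N hNne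
  obtain ⟨x, hxC, rfl⟩ := hbN
  have hxA : x ∉ A := by
    intro h
    apply hb1
    rw [hπ, QuotientGroup.mk'_apply, QuotientGroup.eq_one_iff]
    exact h
  have hcommA : ∀ g : G, g * x * g⁻¹ * x⁻¹ ∈ A := by
    intro g
    rw [← QuotientGroup.eq_one_iff, ← QuotientGroup.mk'_apply, ← hπ, map_mul, map_mul, map_mul,
      map_inv, map_inv]
    have := (Subgroup.mem_center_iff.1 hbZ) (π g)
    rw [this]
    group
  have hxcomm : ∀ a' ∈ A, a' * x = x * a' := fun a' ha' =>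
    (Subgroup.mem_centralizer_iff.1 hxC) a' ha'
  set B := A ⊔ Subgroup.zpowers x with hB
  have hmemB : ∀ y, y ∈ B ↔ ∃ a' ∈ A, ∃ i : ℤ, y = a' * x ^ i := by
    intro y
    rw [← SetLike.mem_coe, hB, Subgroup.normal_mul, Set.mem_mul]
    constructor
    · rintro ⟨a', ha', k, hk, rfl⟩
      obtain ⟨i, rfl⟩ := Subgroup.mem_zpowers_iff.1 hk
      exact ⟨a', ha', i, rfl⟩
    · rintro ⟨a', ha', i, rfl⟩
      exact ⟨a', ha', x ^ i, Subgroup.zpow_mem _ (Subgroup.mem_zpowers x) i, rfl⟩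
  have hxB : x ∈ B := by
    rw [hB]; exact Subgroup.mem_sup_right (Subgroup.mem_zpowers x)
  have hAB : A ≤ B := le_sup_left
  have hBn : B.Normal := by
    refine ⟨fun y hy g => ?_⟩
    obtain ⟨a', ha', i, rfl⟩ := (hmemB y).1 hy
    have h1 : g * (a' * x ^ i) * g⁻¹ = (g * a' * g⁻¹) * (g * x * g⁻¹) ^ i := by
      rw [conj_zpow]; group
    rw [h1]
    have h2 : g * x * g⁻¹ ∈ B := by
      have : g * x * g⁻¹ = (g * x * g⁻¹ * x⁻¹) * x := by group
      rw [this]
      exact B.mul_mem (hAB (hcommA g)) hxB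
    exact B.mul_mem (hAB (hAn.conj_mem a' ha' g)) (B.zpow_mem h2 i)
  have hBc : ∀ y₁ ∈ B, ∀ y₂ ∈ B, y₁ * y₂ = y₂ * y₁ := by
    intro y₁ h₁ y₂ h₂
    obtain ⟨a₁, ha₁, i, rfl⟩ := (hmemB y₁).1 h₁
    obtain ⟨a₂, ha₂, j, rfl⟩ := (hmemB y₂).1 h₂
    have c1 : Commute a₁ a₂ := hA a₁ ha₁ a₂ ha₂
    have c2 : Commute (x ^ i) a₂ :=
      Commute.zpow_left (show Commute x a₂ from (hxcomm a₂ ha₂).symm) i
    have c3 : Commute (x ^ j) a₁ :=
      Commute.zpow_left (show Commute x a₁ from (hxcomm a₁ ha₁).symm) j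
    have c4 : Commute (x ^ i) (x ^ j) := (Commute.refl x).zpow_zpow i j
    calc a₁ * x ^ i * (a₂ * x ^ j) = a₁ * (x ^ i * a₂) * x ^ j := by group
      _ = a₁ * (a₂ * x ^ i) * x ^ j := by rw [c2.eq]
      _ = (a₁ * a₂) * (x ^ i * x ^ j) := by group
      _ = (a₂ * a₁) * (x ^ j * x ^ i) := by rw [c1.eq, c4.eq]
      _ = a₂ * (a₁ * x ^ j) * x ^ i := by group
      _ = a₂ * (x ^ j * a₁) * x ^ i := by rw [c3.eq]
      _ = a₂ * x ^ j * (a₁ * x ^ i) := by group
  have := hmax B hBn hBc hAB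
  apply hxA
  rw [← this]
  exact hxB

/-- Existence of a maximal normal abelian subgroup above a given one. -/
theorem exists_max_normal_abelian {G : Type*} [Group G] [Finite G] (A₀ : Subgroup G)
    (hA₀n : A₀.Normal) (hA₀ : ∀ x ∈ A₀, ∀ y ∈ A₀, x * y = y * x) :
    ∃ A : Subgroup G, A₀ ≤ A ∧ A.Normal ∧ (∀ x ∈ A, ∀ y ∈ A, x * y = y * x) ∧
      ∀ B : Subgroup G, B.Normal → (∀ x ∈ B, ∀ y ∈ B, x * y = y * x) → A ≤ B → B = A := by
  obtain ⟨A, hA₀A, hA⟩ := Finite.exists_le_maximal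
    (p := fun B : Subgroup G => B.Normal ∧ ∀ x ∈ B, ∀ y ∈ B, x * y = y * x) (a := A₀)
    ⟨hA₀n, hA₀⟩
  refine ⟨A, hA₀A, hA.prop.1, hA.prop.2, ?_⟩
  intro B hBn hBc hAB
  exact le_antisymm (hA.le_of_ge ⟨hBn, hBc⟩ hAB) hAB

end Cfsg.Agent.Lib.Helper53
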