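import Mathlib

/-!
Finite 2-groups with a unique involution: abelian ones are cyclic; the structure relative to a
cyclic subgroup.
-/

set_option autoImplicit false

namespace Cfsg.Agent.Lib.Helper53

section basic
variable {G : Type*} [Group G]

theorem exists_npow_eq_of_mem_zpowers [Finite G] {x y : G} (h : y ∈ Subgroup.zpowers x) :
    ∃ n : ℕ, x ^ n = y := by
  rw [← mem_powers_iff_mem_zpowers] at h
  exact (Submonoid.mem_powers_iff _ _).1 h

/-- `t * t = 1` forces `t = 1` or `t = z` when `z` is the unique involution. -/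
theorem ui_sq_eq_one {z : G} (hu : ∀ t : G, orderOf t = 2 → t = z) {t : G} (ht : t * t = 1) :
    t = 1 ∨ t = z := by
  by_cases h1 : t = 1
  · exact Or.inl h1
  · right
    apply hu
    have : Fact (Nat.Prime 2) := ⟨Nat.prime_two⟩
    exact orderOf_eq_prime (by rw [pow_two]; exact ht) h1

/-- the unique involution is central -/
theorem ui_central {z : G} (hz : orderOf z = 2) (hu : ∀ t : G, orderOf t = 2 → t = z) (g : G) :
    g * z = z * g := by
  have ho : orderOf (g * z * g⁻¹) = 2 := by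
    have : g * z * g⁻¹ = MulAut.conj g z := by simp [MulAut.conj_apply]
    rw [this, MulEquiv.orderOf_eq, hz]
  have := hu _ ho
  calc g * z = (g * z * g⁻¹) * g := by group
    _ = z * g := by rw [this]

theorem ui_z_sq {z : G} (hz : orderOf z = 2) : z * z = 1 := by
  have := pow_orderOf_eq_one z
  rw [hz, pow_two] at this
  exact this

theorem ui_z_ne_one {z : G} (hz : orderOf z = 2) : z ≠ 1 := by
  intro h; rw [h, orderOf_one] at hz; norm_num at hz

/-- every nontrivial cyclic subgroup of a 2-group with unique involution `z` contains `z` -/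
theorem ui_mem_zpowers (hG : IsPGroup 2 G) {z : G} (hu : ∀ t : G, orderOf t = 2 → t = z)
    {a : G} (ha : a ≠ 1) : z ∈ Subgroup.zpowers a := by
  have : Fact (Nat.Prime 2) := ⟨Nat.prime_two⟩
  obtain ⟨k, hk⟩ := (IsPGroup.iff_orderOf.1 hG) a
  have hk0 : k ≠ 0 := by
    rintro rfl
    rw [pow_zero, orderOf_eq_one_iff] at hk
    exact ha hk
  obtain ⟨j, rfl⟩ : ∃ j, k = j + 1 := ⟨k - 1, by omega⟩
  have hdvd : 2 ^ j ∣ orderOf a := by rw [hk]; exact pow_dvd_pow 2 (Nat.le_succ j)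
  have hne : 2 ^ j ≠ 0 := by positivity
  have ho : orderOf (a ^ (2 ^ j)) = 2 := by
    rw [orderOf_pow_of_dvd hne hdvd, hk, pow_succ, Nat.mul_div_cancel_left _ (by positivity)]
  rw [← hu _ ho]
  exact Subgroup.pow_mem _ (Subgroup.mem_zpowers a) _

/-- In a 2-group, an odd power of `a` generates the same cyclic group. -/
theorem mem_zpowers_pow_of_odd (hG : IsPGroup 2 G) (a : G) {s : ℕ} (hs : Odd s) :
    a ∈ Subgroup.zpowers (a ^ s) := by
  have : Fact (Nat.Prime 2) := ⟨Nat.prime_two⟩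
  obtain ⟨k, hk⟩ := (IsPGroup.iff_orderOf.1 hG) a
  have hcop : s.Coprime (orderOf a) := by
    rw [hk]
    apply Nat.Coprime.pow_right
    exact (Nat.coprime_comm.1 (Nat.coprime_two_left.2 hs))
  obtain ⟨m, hm⟩ := exists_pow_eq_self_of_coprime hcop
  have h1 : (a ^ s) ^ m ∈ Subgroup.zpowers (a ^ s) :=
    Subgroup.pow_mem _ (Subgroup.mem_zpowers (a ^ s)) m
  rwa [hm] at h1

/-- For `g ∉ H` in a finite 2-group there is a power of `g` outside `H` with square in `H`. -/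
theorem exists_pow_not_mem_sq_mem [Finite G] (hG : IsPGroup 2 G) (H : Subgroup G) {g : G}
    (hg : g ∉ H) : ∃ i : ℕ, g ^ i ∉ H ∧ g ^ i * g ^ i ∈ H := by
  classical
  have : Fact (Nat.Prime 2) := ⟨Nat.prime_two⟩
  obtain ⟨j, hj⟩ := (IsPGroup.iff_orderOf.1 hG) g
  have hex : ∃ k : ℕ, g ^ (2 ^ k) ∈ H := ⟨j, by rw [← hj, pow_orderOf_eq_one]; exact H.one_mem⟩
  have hk0 : Nat.find hex ≠ 0 := by
    intro h0
    have := Nat.find_spec hex
    rw [h0, pow_zero, pow_one] at this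
    exact hg this
  obtain ⟨k, hk⟩ : ∃ k, Nat.find hex = k + 1 := ⟨Nat.find hex - 1, by omega⟩
  refine ⟨2 ^ k, ?_, ?_⟩
  · exact Nat.find_min hex (by omega)
  · have := Nat.find_spec hex
    rw [hk, pow_succ, pow_mul, pow_two] at this
    exact this

/-- **Key lemma.** If `g` commutes with `a`, `g² ∈ ⟨a⟩` and `g ∉ ⟨a⟩` then `a ∈ ⟨g⟩`. -/
theorem ui_mem_zpowers_of_commute [Finite G] (hG : IsPGroup 2 G) {z : G}
    (hu : ∀ t : G, orderOf t = 2 → t = z) {a g : G} (hc : a * g = g * a)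
    (hgg : g * g ∈ Subgroup.zpowers a) (hg : g ∉ Subgroup.zpowers a) :
    a ∈ Subgroup.zpowers g := by
  by_cases ha : a = 1
  · rw [ha]; exact Subgroup.one_mem _
  obtain ⟨s, hs⟩ := exists_npow_eq_of_mem_zpowers hgg
  rcases Nat.even_or_odd s with ⟨s', hs'⟩ | hodd
  · exfalso
    -- t = g * (a^s')⁻¹ squares to 1
    have hcomm : Commute g (a ^ s')⁻¹ := by
      apply Commute.inv_right
      apply Commute.pow_right
      exact hc.symm
    have e1 : g * g = a ^ s' * a ^ s' := by rw [← hs, hs', pow_add]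
    have ht : (g * (a ^ s')⁻¹) * (g * (a ^ s')⁻¹) = 1 := by
      rw [hcomm.symm.mul_mul_mul_comm g (a ^ s')⁻¹, e1]
      group
    apply hg
    have hzmem := ui_mem_zpowers hG hu ha
    have hpow : a ^ s' ∈ Subgroup.zpowers a := Subgroup.pow_mem _ (Subgroup.mem_zpowers a) _
    have hgeq : g = (g * (a ^ s')⁻¹) * a ^ s' := by group
    rw [hgeq]
    rcases ui_sq_eq_one hu ht with h | h
    · rw [h, one_mul]; exact hpow
    · rw [h]; exact Subgroup.mul_mem _ hzmem hpow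
  · have h1 := mem_zpowers_pow_of_odd hG a hodd
    rw [hs] at h1
    have h2 : Subgroup.zpowers (g * g) ≤ Subgroup.zpowers g := by
      rw [Subgroup.zpowers_le]
      exact Subgroup.mul_mem _ (Subgroup.mem_zpowers g) (Subgroup.mem_zpowers g)
    exact h2 h1

/-- An abelian finite 2-group with a unique involution is cyclic. -/
theorem ui_isCyclic_of_comm [Finite G] (hG : IsPGroup 2 G) {z : G}
    (hu : ∀ t : G, orderOf t = 2 → t = z) (hcomm : ∀ x y : G, x * y = y * x) : IsCyclic G := by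
  obtain ⟨a, ha⟩ := Finite.exists_max (fun g : G => orderOf g)
  refine ⟨a, fun g => ?_⟩
  by_contra hg
  obtain ⟨i, hi1, hi2⟩ := exists_pow_not_mem_sq_mem hG (Subgroup.zpowers a) hg
  have h1 := ui_mem_zpowers_of_commute hG hu (hcomm a (g ^ i)) hi2 hi1
  have hle : Subgroup.zpowers a ≤ Subgroup.zpowers (g ^ i) := by
    rw [Subgroup.zpowers_le]; exact h1
  have hlt : Subgroup.zpowers a < Subgroup.zpowers (g ^ i) := by
    refine lt_of_le_of_ne hle ?_
    intro heq
    apply hi1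
    rw [heq]
    exact Subgroup.mem_zpowers _
  have hcard : Nat.card (Subgroup.zpowers a) < Nat.card (Subgroup.zpowers (g ^ i)) := by
    by_contra hcon
    rw [not_lt] at hcon
    exact hlt.ne (Subgroup.eq_of_le_of_card_ge hle hcon)
  rw [Nat.card_zpowers, Nat.card_zpowers] at hcard
  have := ha (g ^ i)
  omega

theorem zpowers_comm {a u v : G} (hu : u ∈ Subgroup.zpowers a) (hv : v ∈ Subgroup.zpowers a) :
    u * v = v * u := by
  obtain ⟨i, rfl⟩ := Subgroup.mem_zpowers_iff.1 hu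
  obtain ⟨j, rfl⟩ := Subgroup.mem_zpowers_iff.1 hv
  exact zpow_mul_comm a i j

theorem conj_mem_zpowers {a b : G} (hba : b * a * b⁻¹ ∈ Subgroup.zpowers a) {u : G}
    (hu : u ∈ Subgroup.zpowers a) : b * u * b⁻¹ ∈ Subgroup.zpowers a := by
  obtain ⟨i, rfl⟩ := Subgroup.mem_zpowers_iff.1 hu
  have : b * a ^ i * b⁻¹ = (b * a * b⁻¹) ^ i := (conj_zpow (a := b) (b := a) (i := i)).symm
  rw [this]
  exact Subgroup.zpow_mem _ hba i

/-- **Structure lemma.** In a finite 2-group with unique involution `z`, an element `b` which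
normalizes but does not centralize `⟨a⟩`, with `b ∉ ⟨a⟩` and `b² ∈ ⟨a⟩`, inverts `a` and
squares to `z`. -/
theorem ui_invert [Finite G] (hG : IsPGroup 2 G) {z : G} (hz : orderOf z = 2)
    (hu : ∀ t : G, orderOf t = 2 → t = z) {a b : G} (hb : b ∉ Subgroup.zpowers a)
    (hbb : b * b ∈ Subgroup.zpowers a) (hba : b * a * b⁻¹ ∈ Subgroup.zpowers a)
    (hnc : a * b ≠ b * a) : b * b = z ∧ b * a * b⁻¹ = a⁻¹ := by
  have ha1 : a ≠ 1 := by
    rintro rfl
    apply hnc
    rw [one_mul, mul_one]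
  have hzM : z ∈ Subgroup.zpowers a := ui_mem_zpowers hG hu ha1
  have hzz : z * z = 1 := ui_z_sq hz
  have haM : a ∈ Subgroup.zpowers a := Subgroup.mem_zpowers a
  obtain ⟨s, hs⟩ := exists_npow_eq_of_mem_zpowers hbb
  rcases Nat.even_or_odd s with ⟨s', hs'⟩ | hodd
  swap
  · exfalso
    have h1 := mem_zpowers_pow_of_odd hG a hodd
    rw [hs] at h1
    obtain ⟨n, hn⟩ := exists_npow_eq_of_mem_zpowers h1
    apply hnc
    rw [← hn]
    exact (((Commute.refl b).mul_left (Commute.refl b)).pow_left n).eq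
  set u := a ^ s' with hu_def
  have huM : u ∈ Subgroup.zpowers a := Subgroup.pow_mem _ haM _
  have huu : u * u = b * b := by rw [← hs, hs', pow_add]
  set b₁ := u⁻¹ * b with hb₁_def
  have hbeq : b = u * b₁ := by rw [hb₁_def]; group
  have hb₁M : b₁ ∉ Subgroup.zpowers a := by
    intro h
    apply hb
    rw [hbeq]
    exact Subgroup.mul_mem _ huM h
  have hconj₁ : ∀ x ∈ Subgroup.zpowers a, b₁ * x * b₁⁻¹ ∈ Subgroup.zpowers a := by
    intro x hx
    have : b₁ * x * b₁⁻¹ = u⁻¹ * (b * x * b⁻¹) * u := by rw [hb₁_def]; group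
    rw [this]
    exact Subgroup.mul_mem _ (Subgroup.mul_mem _ (Subgroup.inv_mem _ huM)
      (conj_mem_zpowers hba hx)) huM
  set w := b * u * b⁻¹ with hw_def
  have hwM : w ∈ Subgroup.zpowers a := conj_mem_zpowers hba huM
  have hwu : w * u = u * w := zpowers_comm hwM huM
  have hwiu : w⁻¹ * u = u * w⁻¹ := by
    rw [inv_mul_eq_iff_eq_mul, ← mul_assoc, hwu, mul_assoc, mul_inv_cancel, mul_one]
  have hwiui : w⁻¹ * u⁻¹ = u⁻¹ * w⁻¹ := by
    rw [← mul_inv_rev, ← mul_inv_rev, hwu]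
  -- b₁² = u w⁻¹
  have hb₁sq : b₁ * b₁ = u * w⁻¹ := by
    calc b₁ * b₁ = u⁻¹ * (b * u * b⁻¹)⁻¹ * (b * b) := by rw [hb₁_def]; group
      _ = u⁻¹ * w⁻¹ * (u * u) := by rw [huu]
      _ = u⁻¹ * (w⁻¹ * u) * u := by group
      _ = u⁻¹ * (u * w⁻¹) * u := by rw [hwiu]
      _ = w⁻¹ * u := by group
      _ = u * w⁻¹ := hwiu
  -- also b₁² = u⁻¹ w
  have hbw : b * w * b⁻¹ = u := by
    calc b * w * b⁻¹ = (b * b) * u * (b * b)⁻¹ := by rw [hw_def]; group
      _ = (u * u) * u * (u * u)⁻¹ := by rw [huu]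
      _ = u := by group
  have hb₁sq' : b₁ * b₁ = u⁻¹ * w := by
    have h1 : b₁ * (b₁ * b₁) * b₁⁻¹ = b₁ * b₁ := by group
    have h2 : b₁ * (u * w⁻¹) * b₁⁻¹ = u⁻¹ * w := by
      calc b₁ * (u * w⁻¹) * b₁⁻¹ = u⁻¹ * ((b * u * b⁻¹) * (b * w * b⁻¹)⁻¹) * u := by
            rw [hb₁_def]; group
        _ = u⁻¹ * (w * u⁻¹) * u := by rw [hbw]
        _ = u⁻¹ * w := by group
    rw [hb₁sq] at h1
    rw [hb₁sq]
    exact h1.symm.trans h2
  have hvv : (b₁ * b₁) * (b₁ * b₁) = 1 := by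
    calc (b₁ * b₁) * (b₁ * b₁) = (u * w⁻¹) * (u⁻¹ * w) := by rw [← hb₁sq, ← hb₁sq']
      _ = u * (w⁻¹ * u⁻¹) * w := by group
      _ = u * (u⁻¹ * w⁻¹) * w := by rw [hwiui]
      _ = 1 := by group
  have hb₁z : b₁ * b₁ = z := by
    rcases ui_sq_eq_one hu hvv with h | h
    · exfalso
      apply hb₁M
      rcases ui_sq_eq_one hu h with h' | h'
      · rw [h']; exact Subgroup.one_mem _
      · rw [h']; exact hzM
    · exact h
  -- inversion by b₁
  have hinv₁ : ∀ x ∈ Subgroup.zpowers a, b₁ * x * b₁⁻¹ = x⁻¹ := by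
    intro x hx
    set c := b₁ * x * b₁⁻¹ with hc_def
    have hcM : c ∈ Subgroup.zpowers a := hconj₁ x hx
    have hxc : Commute x c := zpowers_comm hx hcM
    by_contra hne
    have hy1 : x * c ≠ 1 := by
      intro h
      apply hne
      exact (eq_inv_of_mul_eq_one_right h)
    obtain ⟨n, hn⟩ := exists_npow_eq_of_mem_zpowers (ui_mem_zpowers hG hu hy1)
    have hsq : (x ^ n * b₁) * (x ^ n * b₁) = 1 := by
      calc (x ^ n * b₁) * (x ^ n * b₁) = x ^ n * (b₁ * x ^ n * b₁⁻¹) * (b₁ * b₁) := by group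
        _ = x ^ n * c ^ n * z := by
          rw [hb₁z, hc_def, conj_pow]
        _ = (x * c) ^ n * z := by rw [hxc.mul_pow]
        _ = 1 := by rw [hn, hzz]
    apply hb₁M
    have hxn : x ^ n ∈ Subgroup.zpowers a := Subgroup.pow_mem _ hx _
    have hb₁eq : b₁ = (x ^ n)⁻¹ * (x ^ n * b₁) := by group
    rw [hb₁eq]
    rcases ui_sq_eq_one hu hsq with h | h
    · rw [h, mul_one]; exact Subgroup.inv_mem _ hxn
    · rw [h]; exact Subgroup.mul_mem _ (Subgroup.inv_mem _ hxn) hzM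
  constructor
  · calc b * b = u * (b₁ * u * b₁⁻¹) * (b₁ * b₁) := by rw [hbeq]; group
      _ = u * u⁻¹ * z := by rw [hinv₁ u huM, hb₁z]
      _ = z := by group
  · have hua : u * a⁻¹ = a⁻¹ * u := zpowers_comm huM (Subgroup.inv_mem _ haM)
    calc b * a * b⁻¹ = u * (b₁ * a * b₁⁻¹) * u⁻¹ := by rw [hbeq]; group
      _ = u * a⁻¹ * u⁻¹ := by rw [hinv₁ a haM]
      _ = a⁻¹ := by rw [hua]; group

end basic

end Cfsg.Agent.Lib.Helper53
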