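import Mathlib
import Cfsg.Agent.Lib.Helper2.ClassTwo

set_option autoImplicit false
set_option linter.unusedSectionVars false

/-!
Class-two tools: in a group whose commutators are central and of exponent `p` (`p` odd), the
`p ^ j`-th power maps are endomorphisms, commutators are bimultiplicative, etc.
-/

namespace Cfsg.Agent.Lib.Helper53

open scoped commutatorElement

/-- Commutators are central and have order dividing `p`. -/
structure CTwo (p : ℕ) (Q : Type*) [Group Q] : Prop where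
  central : ∀ x y : Q, ⁅x, y⁆ ∈ Subgroup.center Q
  exp : ∀ x y : Q, ⁅x, y⁆ ^ p = 1

namespace CTwo

variable {p : ℕ} {Q : Type*} [Group Q] (h : CTwo p Q)
include h

theorem comm_left (x y w : Q) : Commute ⁅x, y⁆ w := by
  have := Subgroup.mem_center_iff.1 (h.central x y) w
  exact this.symm

theorem commutator_mul_left (x y w : Q) : ⁅x * y, w⁆ = ⁅x, w⁆ * ⁅y, w⁆ := by
  have h1 : ⁅x * y, w⁆ = x * ⁅y, w⁆ * x⁻¹ * ⁅x, w⁆ := by
    simp only [commutatorElement_def]; group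
  have h2 : x * ⁅y, w⁆ = ⁅y, w⁆ * x := ((h.comm_left y w x).eq).symm
  rw [h1, h2, mul_assoc ⁅y, w⁆, mul_inv_cancel, mul_one, (h.comm_left y w ⁅x, w⁆).eq]

theorem commutator_mul_right (x y w : Q) : ⁅x, y * w⁆ = ⁅x, y⁆ * ⁅x, w⁆ := by
  have h1 : ⁅x, y * w⁆ = ⁅x, y⁆ * (y * ⁅x, w⁆ * y⁻¹) := by
    simp only [commutatorElement_def]; group
  have h2 : y * ⁅x, w⁆ = ⁅x, w⁆ * y := ((h.comm_left x w y).eq).symm
  rw [h1, h2, mul_assoc ⁅x, w⁆, mul_inv_cancel, mul_one]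

theorem commutator_one_right (x : Q) : ⁅x, (1 : Q)⁆ = 1 := by
  simp [commutatorElement_def]

/-- `t ↦ ⁅s, t⁆` as a homomorphism. -/
def commHom (s : Q) : Q →* Q where
  toFun t := ⁅s, t⁆
  map_one' := by simp [commutatorElement_def]
  map_mul' := fun y w => h.commutator_mul_right s y w

@[simp] theorem commHom_apply (s t : Q) : h.commHom s t = ⁅s, t⁆ := rfl

theorem commutator_pow_left (x y : Q) (n : ℕ) : ⁅x ^ n, y⁆ = ⁅x, y⁆ ^ n :=
  Cfsg.Agent.Lib.Helper2.commutator_pow_left x y (h.comm_left x y x) n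

theorem commutator_pow_right (x y : Q) (n : ℕ) : ⁅x, y ^ n⁆ = ⁅x, y⁆ ^ n :=
  Cfsg.Agent.Lib.Helper2.commutator_pow_right x y (h.comm_left x y y) n

theorem commutator_of_mem_center_left {u : Q} (hu : u ∈ Subgroup.center Q) (y : Q) :
    ⁅u, y⁆ = 1 := by
  have := Subgroup.mem_center_iff.1 hu y
  rw [commutatorElement_def, ← this]; group

theorem commutator_of_mem_center_right {u : Q} (hu : u ∈ Subgroup.center Q) (y : Q) :
    ⁅y, u⁆ = 1 := by
  have := Subgroup.mem_center_iff.1 hu y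
  rw [commutatorElement_def, this]; group

theorem commutator_mul_center_left (x y : Q) {u : Q} (hu : u ∈ Subgroup.center Q) :
    ⁅x * u, y⁆ = ⁅x, y⁆ := by
  rw [h.commutator_mul_left, h.commutator_of_mem_center_left hu, mul_one]

theorem commutator_mul_center_right (x y : Q) {u : Q} (hu : u ∈ Subgroup.center Q) :
    ⁅x, y * u⁆ = ⁅x, y⁆ := by
  rw [h.commutator_mul_right, h.commutator_of_mem_center_right hu, mul_one]

theorem pow_mem_center (x : Q) : x ^ p ∈ Subgroup.center Q := by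
  rw [Subgroup.mem_center_iff]
  intro y
  have h1 : ⁅x ^ p, y⁆ = 1 := by rw [h.commutator_pow_left, h.exp]
  rw [commutatorElement_eq_one_iff_mul_comm] at h1
  exact h1.symm

theorem mul_pow_prime (hp : p.Prime) (hp2 : p ≠ 2) (x y : Q) : (x * y) ^ p = x ^ p * y ^ p :=
  Cfsg.Agent.Lib.Helper2.mul_pow_prime_of_commutator_central hp hp2 x y
    (h.comm_left y x x) (h.comm_left y x y) (h.exp y x)

theorem mul_pow_prime_pow (hp : p.Prime) (hp2 : p ≠ 2) (j : ℕ) (x y : Q) :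
    (x * y) ^ (p ^ j) = x ^ (p ^ j) * y ^ (p ^ j) := by
  induction j with
  | zero => simp
  | succ j ih =>
    rw [pow_succ, pow_mul, pow_mul, pow_mul, ih, h.mul_pow_prime hp hp2]

/-- The `p ^ j`-th power endomorphism. -/
def ppow (hp : p.Prime) (hp2 : p ≠ 2) (j : ℕ) : Q →* Q where
  toFun x := x ^ (p ^ j)
  map_one' := one_pow _
  map_mul' := h.mul_pow_prime_pow hp hp2 j

@[simp] theorem ppow_apply (hp : p.Prime) (hp2 : p ≠ 2) (j : ℕ) (x : Q) :
    h.ppow hp hp2 j x = x ^ (p ^ j) := rfl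

end CTwo

/-- cancellation of a `p'`-power on elements of exponent `p` that commute -/
theorem eq_of_pow_eq_of_coprime {Q : Type*} [Group Q] {p k : ℕ} (hk : k.Coprime p) {u v : Q}
    (huv : Commute u v) (hu : u ^ p = 1) (hv : v ^ p = 1) (h : u ^ k = v ^ k) : u = v := by
  have h1 : (u * v⁻¹) ^ k = 1 := by
    rw [(huv.inv_right).mul_pow, h, inv_pow, mul_inv_cancel]
  have h2 : (u * v⁻¹) ^ p = 1 := by
    rw [(huv.inv_right).mul_pow, hu, inv_pow, hv, inv_one, mul_one]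
  have h3 : (u * v⁻¹) ^ (k.gcd p) = 1 := pow_gcd_eq_one.2 ⟨h1, h2⟩
  rw [Nat.Coprime.gcd_eq_one hk, pow_one] at h3
  exact mul_inv_eq_one.1 h3

/-- if `a * b ∣ p ^ 2` with `a ≠ 1` and `b ≠ 1` then `a = p` and `b = p`. -/
theorem eq_prime_of_mul_dvd_sq {p a b : ℕ} (hp : p.Prime) (h : a * b ∣ p ^ 2) (ha : a ≠ 1)
    (hb : b ≠ 1) : a = p ∧ b = p := by
  obtain ⟨i, hi, hai⟩ := (Nat.dvd_prime_pow hp).1 (Dvd.dvd.trans (Dvd.intro _ rfl) h)
  obtain ⟨j, hj, hbj⟩ := (Nat.dvd_prime_pow hp).1 (Dvd.dvd.trans (Dvd.intro_left _ rfl) h)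
  subst hai hbj
  have hi1 : i ≠ 0 := by rintro rfl; simp at ha
  have hj1 : j ≠ 0 := by rintro rfl; simp at hb
  rw [← pow_add] at h
  have hij : i + j ≤ 2 := (Nat.pow_dvd_pow_iff_le_right hp.one_lt).1 h
  have hi' : i = 1 := by omega
  have hj' : j = 1 := by omega
  subst hi' hj'
  simp

/-- if `a * b ∣ p ^ 2` with `a ≠ 1` then `b ∣ p`. -/
theorem dvd_prime_of_mul_dvd_sq {p a b : ℕ} (hp : p.Prime) (h : a * b ∣ p ^ 2) (ha : a ≠ 1) :
    b ∣ p := by
  obtain ⟨i, hi, hai⟩ := (Nat.dvd_prime_pow hp).1 (Dvd.dvd.trans (Dvd.intro _ rfl) h)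
  obtain ⟨j, hj, hbj⟩ := (Nat.dvd_prime_pow hp).1 (Dvd.dvd.trans (Dvd.intro_left _ rfl) h)
  subst hai hbj
  have hi1 : i ≠ 0 := by rintro rfl; simp at ha
  rw [← pow_add] at h
  have hij : i + j ≤ 2 := (Nat.pow_dvd_pow_iff_le_right hp.one_lt).1 h
  have hj' : j ≤ 1 := by omega
  calc p ^ j ∣ p ^ 1 := pow_dvd_pow p hj'
    _ = p := pow_one p

end Cfsg.Agent.Lib.Helper53
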