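import Mathlib
import Cfsg.Agent.Lib.Helper53.MetaPow
import Cfsg.Agent.Lib.Helper2.PGroup
import Cfsg.Agent.Lib.Helper47.Frattini
import Cfsg.Agent.Lib.Helper63.PGroup

set_option autoImplicit false
set_option linter.unusedSectionVars false
set_option linter.style.haveILetI false

/-!
Core of the coprime action on metacyclic `p`-groups (`p` odd): a metacyclic `p`-group `Q` of class
at most two with `|Q'| = p` which satisfies `[Q, 𝒜] = Q` for a `p'`-group `𝒜` of automorphisms
cannot exist (i.e. `Q` is commutative).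
-/

namespace Cfsg.Agent.Lib.Helper53

open scoped commutatorElement

section Generic

variable {Q : Type*} [Group Q] [Finite Q]

/-- decomposition by an element outside a normal subgroup of prime relative index -/
theorem exists_pow_mul_of_relIndex_prime {p : ℕ} (hp : p.Prime) (H L : Subgroup Q) [H.Normal]
    (hHL : H ≤ L) (hrel : H.relIndex L = p) (t : Q) (htL : t ∈ L) (htH : t ∉ H) (x : Q)
    (hx : x ∈ L) : ∃ i : ℕ, ∃ u ∈ H, x = t ^ i * u := by
  set M := Subgroup.zpowers t ⊔ H with hM
  have hML : M ≤ L := sup_le (Subgroup.zpowers_le.2 htL) hHL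
  have hHM : H ≤ M := le_sup_right
  have h1 := Subgroup.relIndex_mul_relIndex H M L hHM hML
  rw [hrel] at h1
  have h2 : H.relIndex M ≠ 1 := by
    intro h
    have := Subgroup.relIndex_eq_one.1 h
    exact htH (this (le_sup_left (a := Subgroup.zpowers t) (Subgroup.mem_zpowers t)))
  have h3 : H.relIndex M = p := by
    rcases hp.eq_one_or_self_of_dvd _ (Dvd.intro _ h1) with h | h
    · exact absurd h h2
    · exact h
  have h4 : M.relIndex L = 1 := by
    rw [h3] at h1
    have : p * M.relIndex L = p * 1 := by rw [h1, mul_one]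
    exact Nat.eq_of_mul_eq_mul_left hp.pos this
  have hxM : x ∈ M := Subgroup.relIndex_eq_one.1 h4 hx
  have hset : (x : Q) ∈ ((M : Subgroup Q) : Set Q) := hxM
  rw [hM, Subgroup.mul_normal] at hset
  obtain ⟨a, ha, u, hu, rfl⟩ := Set.mem_mul.1 hset
  have ha' : a ∈ Submonoid.powers t := mem_powers_iff_mem_zpowers.2 ha
  obtain ⟨i, rfl⟩ := (Submonoid.mem_powers_iff _ _).1 ha'
  exact ⟨i, u, hu, rfl⟩

/-- The norm-map argument: if `[Q, 𝒜] = Q` for a `p'`-group `𝒜` of automorphisms, `Q / X` is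
abelian, and `t` is fixed by `𝒜` modulo `X` with `t ^ p ∈ X`, then `t ∈ X`. -/
theorem mem_of_fixed_mod {p : ℕ} (X : Subgroup Q) [X.Normal]
    (hX : commutator Q ≤ X) (𝒜 : Subgroup (MulAut Q)) (hcop : (Nat.card 𝒜).Coprime p)
    (hgen : Subgroup.closure {x : Q | ∃ α ∈ 𝒜, ∃ y : Q, x = α y * y⁻¹} = ⊤) (t : Q)
    (htp : t ^ p ∈ X) (ht : ∀ α ∈ 𝒜, α t * t⁻¹ ∈ X) : t ∈ X := by
  classical
  letI : CommGroup (Q ⧸ X) :=
    { (inferInstance : Group (Q ⧸ X)) with
      mul_comm := by
        intro a b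
        induction a using QuotientGroup.induction_on with
        | H a =>
        induction b using QuotientGroup.induction_on with
        | H b =>
        rw [← QuotientGroup.mk_mul, ← QuotientGroup.mk_mul, QuotientGroup.eq]
        apply hX
        have : (a * b)⁻¹ * (b * a) = ⁅b⁻¹, a⁻¹⁆ := by
          rw [commutatorElement_def]; group
        rw [this, commutator_def]
        exact Subgroup.commutator_mem_commutator (Subgroup.mem_top _) (Subgroup.mem_top _) }
  haveI : Fintype 𝒜 := Fintype.ofFinite 𝒜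
  let N : Q →* Q ⧸ X :=
    { toFun := fun x => ∏ α : 𝒜, (QuotientGroup.mk (((α : MulAut Q)) x) : Q ⧸ X)
      map_one' := by simp
      map_mul' := by
        intro x y
        simp only [map_mul, QuotientGroup.mk_mul]
        exact Finset.prod_mul_distrib }
  have hN : ∀ x, N x = ∏ α : 𝒜, (QuotientGroup.mk (((α : MulAut Q)) x) : Q ⧸ X) := fun x => rfl
  have hNinv : ∀ β ∈ 𝒜, ∀ x, N (β x) = N x := by
    intro β hβ x
    rw [hN, hN]
    exact Fintype.prod_equiv (Equiv.mulRight (⟨β, hβ⟩ : 𝒜)) _ _ (fun α => rfl)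
  have hker : (⊤ : Subgroup Q) ≤ N.ker := by
    rw [← hgen, Subgroup.closure_le]
    rintro x ⟨α, hα, y, rfl⟩
    show N (α y * y⁻¹) = 1
    rw [map_mul, map_inv, hNinv α hα, mul_inv_cancel]
  have hNt : N t = 1 := hker (Subgroup.mem_top t)
  have hNt' : N t = (QuotientGroup.mk t : Q ⧸ X) ^ Nat.card 𝒜 := by
    rw [hN]
    have : ∀ α : 𝒜, (QuotientGroup.mk (((α : MulAut Q)) t) : Q ⧸ X) = QuotientGroup.mk t := by
      intro α
      have h1 := ht α α.2
      have h2 : (QuotientGroup.mk (((α : MulAut Q)) t * t⁻¹) : Q ⧸ X) = 1 :=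
        (QuotientGroup.eq_one_iff _).2 h1
      have h3 : ((α : MulAut Q)) t = (((α : MulAut Q)) t * t⁻¹) * t := by group
      rw [h3, QuotientGroup.mk_mul, h2, one_mul]
    rw [Finset.prod_congr rfl (fun α _ => this α), Finset.prod_const, Finset.card_univ,
      Nat.card_eq_fintype_card]
  have h1 : (QuotientGroup.mk t : Q ⧸ X) ^ Nat.card 𝒜 = 1 := by rw [← hNt', hNt]
  have h2 : (QuotientGroup.mk t : Q ⧸ X) ^ p = 1 := by
    rw [← QuotientGroup.mk_pow, QuotientGroup.eq_one_iff]
    exact htp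
  have h3 : (QuotientGroup.mk t : Q ⧸ X) ^ ((Nat.card 𝒜).gcd p) = 1 := pow_gcd_eq_one.2 ⟨h1, h2⟩
  rw [Nat.Coprime.gcd_eq_one hcop, pow_one, QuotientGroup.eq_one_iff] at h3
  exact h3

/-- a central element outside the Frattini subgroup of index `p ^ 2` forces commutativity -/
theorem comm_of_center_not_le_frattini {p : ℕ} [hpf : Fact p.Prime]
    (hΦ : (frattini Q).index ∣ p ^ 2) (hΦZ : frattini Q ≤ Subgroup.center Q) (s : Q)
    (hs : s ∈ Subgroup.center Q) (hsΦ : s ∉ frattini Q) : ∀ x y : Q, x * y = y * x := by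
  have h := Subgroup.relIndex_mul_index hΦZ
  have h1 : (frattini Q).relIndex (Subgroup.center Q) ≠ 1 := by
    intro h1
    exact hsΦ (Subgroup.relIndex_eq_one.1 h1 hs)
  have h2 : (Subgroup.center Q).index ∣ p := by
    apply dvd_prime_of_mul_dvd_sq hpf.out _ h1
    rw [h]; exact hΦ
  have hcard : Nat.card (Q ⧸ Subgroup.center Q) = (Subgroup.center Q).index :=
    (Subgroup.index_eq_card _).symm
  haveI : IsCyclic (Q ⧸ Subgroup.center Q) := by
    rcases (Nat.dvd_prime hpf.out).1 h2 with h3 | h3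
    · haveI : Subsingleton (Q ⧸ Subgroup.center Q) := by
        rw [← Finite.card_le_one_iff_subsingleton, hcard, h3]
      exact isCyclic_of_subsingleton
    · exact isCyclic_of_prime_card (hcard.trans h3)
  have hc := MonoidHom.isMulCommutative_of_isCyclic_of_ker_le_center
    (QuotientGroup.mk' (Subgroup.center Q)) (by rw [QuotientGroup.ker_mk'])
  exact fun x y => hc.is_comm.comm x y

end Generic

end Cfsg.Agent.Lib.Helper53
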