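import Mathlib
import Cfsg.Agent.Lib.Helper53.MetaAb

set_option autoImplicit false
set_option linter.unusedSectionVars false
set_option linter.style.haveILetI false
set_option maxHeartbeats 1000000

namespace Cfsg.Agent.Lib.Helper53

open scoped commutatorElement

/-- **Core lemma.** Let `Q` be a finite `p`-group, `p` odd, whose Frattini quotient has order
dividing `p ^ 2`, whose derived subgroup is generated by an element `z` of order dividing `p`
which is a `p`-th power.  If `𝒜` is a `p'`-group of automorphisms with `[Q, 𝒜] = Q`, then `Q` is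
commutative. -/
theorem metaCore {Q : Type*} [Group Q] [Finite Q] {p : ℕ} [hpf : Fact p.Prime] (hp2 : p ≠ 2)
    (hQ : IsPGroup p Q) (hΦ : (frattini Q).index ∣ p ^ 2)
    (z : Q) (hz : commutator Q = Subgroup.zpowers z) (hzp : z ^ p = 1)
    (y₀ : Q) (hy₀ : y₀ ^ p = z)
    (𝒜 : Subgroup (MulAut Q)) (hcop : (Nat.card 𝒜).Coprime p)
    (hgen : Subgroup.closure {x : Q | ∃ α ∈ 𝒜, ∃ y : Q, x = α y * y⁻¹} = ⊤) :
    ∀ x y : Q, x * y = y * x := by
  by_contra hnc
  simp only [not_forall] at hnc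
  obtain ⟨x₀, x₁, hx⟩ := hnc
  have hp : p.Prime := hpf.out
  have hcm : ∀ x y : Q, ⁅x, y⁆ ∈ commutator Q := fun x y => by
    rw [commutator_def]
    exact Subgroup.commutator_mem_commutator (Subgroup.mem_top _) (Subgroup.mem_top _)
  have hz1 : z ≠ 1 := by
    rintro rfl
    rw [Subgroup.zpowers_one_eq_bot] at hz
    apply hx
    have := hcm x₀ x₁
    rw [hz, Subgroup.mem_bot, commutatorElement_eq_one_iff_mul_comm] at this
    exact this
  have hoz : orderOf z = p := orderOf_eq_prime hzp hz1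
  have hcz : ∀ x y : Q, ⁅x, y⁆ ∈ Subgroup.zpowers z := fun x y => hz ▸ hcm x y
  have hzZ : Subgroup.zpowers z ≤ Subgroup.center Q := by
    haveI : (Subgroup.zpowers z).Normal := hz ▸ (inferInstance : (commutator Q).Normal)
    exact Cfsg.Agent.Lib.Helper63.normal_card_prime_le_center hQ _
      (by rw [Nat.card_zpowers, hoz])
  have hzpow : ∀ w ∈ Subgroup.zpowers z, w ^ p = 1 := by
    intro w hw
    obtain ⟨k, rfl⟩ := Subgroup.mem_zpowers_iff.1 hw
    rw [← zpow_natCast, ← zpow_mul, mul_comm, zpow_mul, zpow_natCast, hzp, one_zpow]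
  have hct : CTwo p Q := ⟨fun x y => hzZ (hcz x y), fun x y => hzpow _ (hcz x y)⟩
  -- the Frattini subgroup
  have hΦpow : ∀ x : Q, x ∈ frattini Q → ∃ y, y ^ p = x := by
    have hle : frattini Q ≤ (hct.ppow hp hp2 1).range := by
      apply Cfsg.Agent.Lib.Helper47.frattini_le_of_elementary_abelian_quotient p
      · intro x y
        have h1 : Subgroup.zpowers z ≤ (hct.ppow hp hp2 1).range := by
          rw [Subgroup.zpowers_le]
          exact ⟨y₀, by simp [hy₀]⟩
        exact h1 (hcz x y)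
      · intro x
        exact ⟨x, by simp⟩
    intro x hx
    obtain ⟨y, hy⟩ := hle hx
    exact ⟨y, by simpa using hy⟩
  have hΦZ : frattini Q ≤ Subgroup.center Q := by
    intro x hx
    obtain ⟨y, rfl⟩ := hΦpow x hx
    exact hct.pow_mem_center y
  have hpowΦ : ∀ x : Q, x ^ p ∈ frattini Q := Cfsg.Agent.Lib.Helper2.pow_mem_frattini hQ
  have hcΦ : ∀ x y : Q, ⁅x, y⁆ ∈ frattini Q := fun x y =>
    Cfsg.Agent.Lib.Helper2.commutator_le_frattini hQ (hcm x y)
  -- the chain of power subgroups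
  let P : ℕ → Subgroup Q := fun j => (hct.ppow hp hp2 j).range
  have hPmem : ∀ j (w : Q), w ∈ P j ↔ ∃ y, y ^ (p ^ j) = w := by
    intro j w
    constructor
    · rintro ⟨y, hy⟩; exact ⟨y, by simpa using hy⟩
    · rintro ⟨y, hy⟩; exact ⟨y, by simpa using hy⟩
  obtain ⟨n, hn⟩ := IsPGroup.iff_card.1 hQ
  have hzPn : z ∉ P n := by
    intro h
    obtain ⟨y, hy⟩ := (hPmem n z).1 h
    rw [← hn, pow_card_eq_one'] at hy
    exact hz1 hy.symm
  have hex : ∃ j, z ∉ P j := ⟨n, hzPn⟩
  classical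
  let j₀ := Nat.find hex
  have hj₀ : z ∉ P j₀ := Nat.find_spec hex
  have hj₀min : ∀ m < j₀, z ∈ P m := fun m hm => by
    by_contra h
    exact Nat.find_min hex hm h
  have hj0 : j₀ ≠ 0 := by
    intro h
    apply hj₀
    rw [h, hPmem]
    exact ⟨z, by simp⟩
  have hj1 : j₀ ≠ 1 := by
    intro h
    apply hj₀
    rw [h, hPmem]
    exact ⟨y₀, by simpa using hy₀⟩
  obtain ⟨j, hj⟩ : ∃ j, j₀ = j + 1 := ⟨j₀ - 1, by omega⟩
  have hjpos : 1 ≤ j := by omega
  have hzPj : z ∈ P j := hj₀min j (by omega)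
  have hzPj1 : z ∉ P (j + 1) := hj ▸ hj₀
  obtain ⟨s, hs⟩ := (hPmem j z).1 hzPj
  let K : Subgroup Q := (P (j + 1)).comap (hct.ppow hp hp2 j)
  have hKmem : ∀ x : Q, x ∈ K ↔ x ^ (p ^ j) ∈ P (j + 1) := fun x => Iff.rfl
  have hΦK : frattini Q ≤ K := by
    intro x hx
    obtain ⟨y, rfl⟩ := hΦpow x hx
    rw [hKmem, hPmem]
    exact ⟨y, by rw [pow_succ', pow_mul]⟩
  have hsK : s ∉ K := by
    rw [hKmem, hs]; exact hzPj1
  haveI hKn : K.Normal := by
    refine ⟨fun x hx g => ?_⟩
    have : g * x * g⁻¹ = ⁅g, x⁆ * x := by simp [commutatorElement_def]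
    rw [this]
    exact K.mul_mem (hΦK (hcΦ g x)) hx
  have hkerK : ∀ u : Q, u ^ (p ^ j) = 1 → u ∈ K := by
    intro u hu
    rw [hKmem, hu]
    exact Subgroup.one_mem _
  -- automorphism data
  have hzmem : z ∈ commutator Q := hz ▸ Subgroup.mem_zpowers z
  have hαz : ∀ α : MulAut Q, ∃ k : ℕ, k.Coprime p ∧ (∀ w ∈ Subgroup.zpowers z, α w = w ^ k) ∧
      ∃ u ∈ K, α s = s ^ k * u := by
    intro α
    have h1 : α z ∈ commutator Q :=
      (Subgroup.characteristic_iff_map_le.1 (inferInstance : (commutator Q).Characteristic) α)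
        (Subgroup.mem_map_of_mem _ hzmem)
    rw [hz] at h1
    have h2 : α z ∈ Submonoid.powers z := mem_powers_iff_mem_zpowers.2 h1
    obtain ⟨k, hk⟩ := (Submonoid.mem_powers_iff _ _).1 h2
    have hkp : k.Coprime p := by
      apply Nat.Coprime.symm
      rw [Nat.Prime.coprime_iff_not_dvd hp]
      intro hdvd
      obtain ⟨l, rfl⟩ := hdvd
      rw [pow_mul, hzp, one_pow] at hk
      have : α z = α 1 := by rw [← hk, map_one]
      exact hz1 (α.injective this)
    refine ⟨k, hkp, ?_, ?_⟩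
    · intro w hw
      obtain ⟨i, rfl⟩ := Subgroup.mem_zpowers_iff.1 hw
      rw [map_zpow, ← hk, ← zpow_natCast, ← zpow_natCast, ← zpow_mul, ← zpow_mul, mul_comm]
    · refine ⟨(s ^ k)⁻¹ * α s, ?_, by group⟩
      apply hkerK
      have h3 : ((s ^ k)⁻¹ * α s) ^ (p ^ j) = hct.ppow hp hp2 j ((s ^ k)⁻¹ * α s) := rfl
      rw [h3, map_mul, map_inv, CTwo.ppow_apply, CTwo.ppow_apply, ← map_pow, hs, ← hk,
        ← pow_mul, mul_comm, pow_mul, hs, inv_mul_cancel]
  have hαK : ∀ α : MulAut Q, ∀ x ∈ K, α x ∈ K := by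
    intro α x hx
    rw [hKmem] at hx ⊢
    obtain ⟨y, hy⟩ := (hPmem _ _).1 hx
    rw [hPmem]
    exact ⟨α y, by rw [← map_pow, hy, map_pow]⟩
  have hcomm_zz : ∀ u v : Q, u ∈ Subgroup.zpowers z → Commute u v := fun u v hu =>
    ((Subgroup.mem_center_iff.1 (hzZ hu)) v).symm
  -- common computation: `⁅α s, α t⁆ = ⁅s, t⁆ ^ k`
  by_cases hK : K ≤ frattini Q
  · -- Case A
    have hinv : ∀ α ∈ 𝒜, ∀ t : Q, ⁅s, α t⁆ = ⁅s, t⁆ := by
      intro α _ t
      obtain ⟨k, hkp, hkw, u, huK, hus⟩ := hαz α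
      have huZ : u ∈ Subgroup.center Q := hΦZ (hK huK)
      have h1 : ⁅α s, α t⁆ = ⁅s, t⁆ ^ k := by
        rw [← map_commutatorElement, hkw _ (hcz s t)]
      have h2 : ⁅α s, α t⁆ = ⁅s, α t⁆ ^ k := by
        rw [hus, hct.commutator_mul_center_left _ _ huZ, hct.commutator_pow_left]
      apply eq_of_pow_eq_of_coprime hkp (hcomm_zz _ _ (hcz _ _)) (hct.exp _ _) (hct.exp _ _)
      rw [← h2, h1]
    have hker : (⊤ : Subgroup Q) ≤ (hct.commHom s).ker := by
      rw [← hgen, Subgroup.closure_le]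
      rintro x ⟨α, hα, y, rfl⟩
      show hct.commHom s (α y * y⁻¹) = 1
      rw [map_mul, map_inv, CTwo.commHom_apply, CTwo.commHom_apply, hinv α hα, mul_inv_cancel]
    have hsZ : s ∈ Subgroup.center Q := by
      rw [Subgroup.mem_center_iff]
      intro t
      have : hct.commHom s t = 1 := hker (Subgroup.mem_top t)
      rw [CTwo.commHom_apply, commutatorElement_eq_one_iff_mul_comm] at this
      exact this.symm
    exact hx (comm_of_center_not_le_frattini hΦ hΦZ s hsZ (fun h => hsK (hΦK h)) x₀ x₁)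
  · -- Case B
    obtain ⟨t, htK, htΦ⟩ := SetLike.not_le_iff_exists.1 hK
    have hidx := Subgroup.relIndex_mul_index hΦK
    have hne1 : (frattini Q).relIndex K ≠ 1 := fun h => hK (Subgroup.relIndex_eq_one.1 h)
    have hne2 : K.index ≠ 1 := by
      intro h
      rw [Subgroup.index_eq_one] at h
      exact hsK (h ▸ Subgroup.mem_top s)
    obtain ⟨hrel, hKidx⟩ := eq_prime_of_mul_dvd_sq hp (by rw [hidx]; exact hΦ) hne1 hne2
    have decK := exists_pow_mul_of_relIndex_prime hp (frattini Q) K hΦK hrel t htK htΦ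
    have decQ := exists_pow_mul_of_relIndex_prime hp K ⊤ le_top
      (by rw [Subgroup.relIndex_top_right]; exact hKidx) s (Subgroup.mem_top s) hsK
    have hKt : ∀ x ∈ K, ⁅x, t⁆ = 1 := by
      intro x hx
      obtain ⟨i, f, hf, rfl⟩ := decK x hx
      rw [hct.commutator_mul_center_left _ _ (hΦZ hf), hct.commutator_pow_left,
        commutatorElement_self, one_pow]
    have hst : ⁅s, t⁆ ≠ 1 := by
      intro h
      have htZ : t ∈ Subgroup.center Q := by
        rw [Subgroup.mem_center_iff]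
        intro x
        obtain ⟨i, k', hk', rfl⟩ := decQ x (Subgroup.mem_top x)
        have : ⁅s ^ i * k', t⁆ = 1 := by
          rw [hct.commutator_mul_left, hct.commutator_pow_left, h, one_pow, hKt k' hk', one_mul]
        rw [commutatorElement_eq_one_iff_mul_comm] at this
        exact this
      exact hx (comm_of_center_not_le_frattini hΦ hΦZ t htZ htΦ x₀ x₁)
    have host : orderOf ⁅s, t⁆ = p := orderOf_eq_prime (hct.exp s t) hst
    have hfix : ∀ α ∈ 𝒜, α t * t⁻¹ ∈ frattini Q := by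
      intro α _
      obtain ⟨k, hkp, hkw, u, huK, hus⟩ := hαz α
      obtain ⟨m, f, hf, hαt⟩ := decK (α t) (hαK α t htK)
      have h1 : ⁅α s, α t⁆ = ⁅s, t⁆ ^ k := by
        rw [← map_commutatorElement, hkw _ (hcz s t)]
      have h2 : ⁅α s, α t⁆ = (⁅s, t⁆ ^ m) ^ k := by
        rw [hus, hαt, hct.commutator_mul_center_right _ _ (hΦZ hf), hct.commutator_mul_left,
          hct.commutator_pow_right u t, hKt u huK, one_pow, mul_one, hct.commutator_pow_left,
          hct.commutator_pow_right]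
      have h3 : ⁅s, t⁆ ^ m = ⁅s, t⁆ := by
        apply eq_of_pow_eq_of_coprime hkp
          (hcomm_zz _ _ (Subgroup.pow_mem _ (hcz _ _) _)) _ (hct.exp _ _)
        · rw [← h2, h1]
        · rw [← pow_mul, mul_comm, pow_mul, hct.exp, one_pow]
      have h4 : m ≡ 1 [MOD p] := by
        have : ⁅s, t⁆ ^ m = ⁅s, t⁆ ^ 1 := by rw [h3, pow_one]
        rw [pow_eq_pow_iff_modEq, host] at this
        exact this
      have h5 : m % p = 1 := by
        have := h4
        unfold Nat.ModEq at this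
        rw [this]
        exact Nat.mod_eq_of_lt hp.one_lt
      have h6 : t ^ m = (t ^ p) ^ (m / p) * t := by
        conv_lhs => rw [← Nat.div_add_mod m p, h5]
        rw [pow_add, pow_mul, pow_one]
      have h7 : α t * t⁻¹ = (t ^ p) ^ (m / p) * f := by
        rw [hαt, h6]
        have := Subgroup.mem_center_iff.1 (hΦZ hf) t
        calc (t ^ p) ^ (m / p) * t * f * t⁻¹ = (t ^ p) ^ (m / p) * (t * f) * t⁻¹ := by group
          _ = (t ^ p) ^ (m / p) * (f * t) * t⁻¹ := by rw [this]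
          _ = (t ^ p) ^ (m / p) * f := by group
      rw [h7]
      exact Subgroup.mul_mem _ (Subgroup.pow_mem _ (hpowΦ t) _) hf
    have hcomΦ : commutator Q ≤ frattini Q := Cfsg.Agent.Lib.Helper2.commutator_le_frattini hQ
    exact htΦ (mem_of_fixed_mod (frattini Q) hcomΦ 𝒜 hcop hgen t (hpowΦ t) hfix)

end Cfsg.Agent.Lib.Helper53
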