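import Mathlib
import Cfsg.Agent.Lib.Helper53.MetaAb2
import Cfsg.Agent.Lib.Helper64.MetaCore
import Cfsg.Agent.S4419

set_option autoImplicit false
set_option linter.unusedSectionVars false
set_option linter.style.haveILetI false
set_option maxHeartbeats 1000000

namespace Cfsg.Agent.Lib.Helper53

open scoped commutatorElement

/-- the action of automorphisms on the quotient by a characteristic subgroup -/
def quotAut {E : Type*} [Group E] (N : Subgroup E) [hN : N.Characteristic] :
    MulAut E →* MulAut (E ⧸ N) where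
  toFun f := QuotientGroup.congr N N f (Subgroup.characteristic_iff_map_eq.1 hN f)
  map_one' := by
    ext x
    induction x using QuotientGroup.induction_on with
    | H x => rfl
  map_mul' f g := by
    ext x
    induction x using QuotientGroup.induction_on with
    | H x => rfl

theorem quotAut_mk {E : Type*} [Group E] (N : Subgroup E) [hN : N.Characteristic] (f : MulAut E)
    (x : E) : quotAut N f (QuotientGroup.mk x) = QuotientGroup.mk (f x) := rfl

/-- A metacyclic `p`-group, `p` odd, that equals its commutator with a `p'`-group of automorphisms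
is commutative. -/
theorem comm_of_metacyclic_action {E : Type*} [Group E] [Finite E] {p : ℕ} [hpf : Fact p.Prime]
    (hp2 : p ≠ 2) (hE : IsPGroup p E) (hm : Cfsg.IsMetacyclic E) (𝒜 : Subgroup (MulAut E))
    (hcop : (Nat.card 𝒜).Coprime p)
    (hgen : Subgroup.closure {x : E | ∃ α ∈ 𝒜, ∃ y : E, x = α y * y⁻¹} = ⊤) :
    ∀ x y : E, x * y = y * x := by
  have hp : p.Prime := hpf.out
  obtain ⟨D⟩ := Cfsg.Agent.Lib.Helper64.exists_metaDatum hE hm
  obtain ⟨c, hc⟩ : ∃ c, c = D.c := ⟨_, rfl⟩
  have hcomm : commutator E = Subgroup.zpowers c := hc ▸ D.commutator_eq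
  obtain ⟨T, hT⟩ : ∃ T : Subgroup E, T = Subgroup.zpowers (c ^ p) := ⟨_, rfl⟩
  have hcmem : c ∈ commutator E := hcomm ▸ Subgroup.mem_zpowers c
  haveI hTchar : T.Characteristic := by
    rw [Subgroup.characteristic_iff_map_le]
    intro ϕ
    rw [hT, MonoidHom.map_zpowers, Subgroup.zpowers_le]
    have h1 : ϕ c ∈ commutator E :=
      (Subgroup.characteristic_iff_map_le.1 (inferInstance : (commutator E).Characteristic) ϕ)
        (Subgroup.mem_map_of_mem _ hcmem)
    rw [hcomm] at h1
    obtain ⟨k, hk⟩ := Subgroup.mem_zpowers_iff.1 h1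
    show ϕ (c ^ p) ∈ Subgroup.zpowers (c ^ p)
    rw [map_pow, ← hk]
    refine Subgroup.mem_zpowers_iff.2 ⟨k, ?_⟩
    rw [← zpow_natCast, ← zpow_natCast, ← zpow_mul, ← zpow_mul, mul_comm]
  have hπ : Function.Surjective (QuotientGroup.mk' T) := QuotientGroup.mk'_surjective T
  have hQ : IsPGroup p (E ⧸ T) := hE.to_quotient T
  have hΦ : (frattini (E ⧸ T)).index ∣ p ^ 2 := by
    have h1 := frattini_le_comap_frattini_of_surjective hπ
    have h2 := Subgroup.index_dvd_of_le h1
    rw [Subgroup.index_comap_of_surjective _ hπ] at h2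
    exact h2.trans (Cfsg.Agent.S4419.frattini_index_dvd_of_isMetacyclic hE hm)
  have hz : commutator (E ⧸ T) = Subgroup.zpowers (QuotientGroup.mk' T c) := by
    rw [← MonoidHom.map_zpowers, ← hcomm, commutator_def, commutator_def, Subgroup.map_commutator,
      Subgroup.map_top_of_surjective _ hπ]
  have hzp : (QuotientGroup.mk' T c) ^ p = 1 := by
    rw [← map_pow]
    exact (QuotientGroup.eq_one_iff _).2 (hT ▸ Subgroup.mem_zpowers _)
  obtain ⟨l, hl⟩ : p ∣ D.r - 1 := by
    have := D.hr
    rw [← D.r_cast] at this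
    exact Int.natCast_dvd_natCast.1 this
  have hy₀ : (QuotientGroup.mk' T (D.a ^ l)) ^ p = QuotientGroup.mk' T c := by
    rw [← map_pow, ← pow_mul, mul_comm, ← hl, hc]
    rfl
  have hcop' : (Nat.card (𝒜.map (quotAut T))).Coprime p :=
    Nat.Coprime.coprime_dvd_left (Subgroup.card_map_dvd _ _) hcop
  have hgen' : Subgroup.closure {x : E ⧸ T | ∃ α ∈ 𝒜.map (quotAut T), ∃ y : E ⧸ T,
      x = α y * y⁻¹} = ⊤ := by
    rw [eq_top_iff, ← Subgroup.map_top_of_surjective _ hπ, ← hgen, MonoidHom.map_closure]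
    apply Subgroup.closure_mono
    rintro _ ⟨x, ⟨α, hα, y, rfl⟩, rfl⟩
    refine ⟨quotAut T α, Subgroup.mem_map_of_mem _ hα, QuotientGroup.mk' T y, ?_⟩
    rw [map_mul, map_inv]
    rfl
  have hcommQ := metaCore hp2 hQ hΦ (QuotientGroup.mk' T c) hz hzp _ hy₀ _ hcop' hgen'
  have hcT : c ∈ T := by
    have hle : commutator E ≤ T := by
      rw [commutator_eq_closure, Subgroup.closure_le]
      rintro _ ⟨x, y, rfl⟩
      show ⁅x, y⁆ ∈ T
      rw [← QuotientGroup.eq_one_iff, ← QuotientGroup.mk'_apply, map_commutatorElement,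
        commutatorElement_eq_one_iff_mul_comm]
      exact hcommQ _ _
    exact hle hcmem
  have hc1 : c = 1 := by
    rw [hT] at hcT
    obtain ⟨k, hk⟩ := Subgroup.mem_zpowers_iff.1 hcT
    have h1 : c ^ ((p : ℤ) * k - 1) = 1 := by
      rw [zpow_sub_one, zpow_mul, zpow_natCast, hk, mul_inv_cancel]
    have h2 := orderOf_dvd_iff_zpow_eq_one.2 h1
    obtain ⟨m, hm⟩ := (IsPGroup.iff_orderOf.1 hE) c
    rcases Nat.eq_zero_or_pos m with h0 | hpos
    · rw [h0, pow_zero] at hm
      exact orderOf_eq_one_iff.1 hm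
    · exfalso
      have h3 : (p : ℤ) ∣ (orderOf c : ℤ) := by
        rw [hm]
        exact_mod_cast dvd_pow_self p (Nat.pos_iff_ne_zero.1 hpos)
      have h4 : (p : ℤ) ∣ (p : ℤ) * k - 1 := h3.trans h2
      have h5 : (p : ℤ) ∣ 1 := by
        have := dvd_sub (Dvd.intro k rfl : (p : ℤ) ∣ (p : ℤ) * k) h4
        simpa using this
      exact (Nat.prime_iff_prime_int.mp hp).not_dvd_one h5
  intro x y
  have : ⁅x, y⁆ ∈ commutator E := by
    rw [commutator_def]
    exact Subgroup.commutator_mem_commutator (Subgroup.mem_top _) (Subgroup.mem_top _)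
  rw [hcomm, hc1, Subgroup.zpowers_one_eq_bot, Subgroup.mem_bot,
    commutatorElement_eq_one_iff_mul_comm] at this
  exact this

end Cfsg.Agent.Lib.Helper53
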