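import Mathlib
import Cfsg.Agent.Lib.Helper53.MetaAb
import Cfsg.Agent.Lib.Helper53.CenterMeet
import Cfsg.Agent.Lib.Helper76.PGroup2
import Cfsg.Prelude.Def_OddOrderLocal

set_option autoImplicit false
set_option linter.unusedSectionVars false
set_option linter.style.haveILetI false
set_option maxHeartbeats 1000000

/-!
Huppert's criterion: a finite `p`-group, `p` odd, whose quotient by the subgroup generated by the
`p`-th powers has order at most `p ^ 2`, is metacyclic.
-/

universe u

namespace Cfsg.Agent.Lib.Helper53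

open scoped commutatorElement

section Mho

variable {G : Type*} [Group G]

/-- The subgroup generated by the `p`-th powers. -/
def mhoOne (p : ℕ) (G : Type*) [Group G] : Subgroup G :=
  Subgroup.closure {x : G | ∃ y : G, y ^ p = x}

theorem pow_mem_mhoOne (p : ℕ) (y : G) : y ^ p ∈ mhoOne p G :=
  Subgroup.subset_closure ⟨y, rfl⟩

instance mhoOne_characteristic (p : ℕ) : (mhoOne p G).Characteristic := by
  rw [Subgroup.characteristic_iff_map_le]
  intro φ
  rw [mhoOne, MonoidHom.map_closure, Subgroup.closure_le]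
  rintro _ ⟨x, ⟨y, rfl⟩, rfl⟩
  apply Subgroup.subset_closure
  exact ⟨φ y, by simp⟩

theorem mhoOne_index_quotient_dvd (p : ℕ) (N : Subgroup G) [N.Normal] :
    (mhoOne p (G ⧸ N)).index ∣ (mhoOne p G).index := by
  have h : mhoOne p G ≤ (mhoOne p (G ⧸ N)).comap (QuotientGroup.mk' N) := by
    rw [mhoOne, Subgroup.closure_le]
    rintro _ ⟨y, rfl⟩
    show QuotientGroup.mk' N (y ^ p) ∈ mhoOne p (G ⧸ N)
    rw [map_pow]
    exact pow_mem_mhoOne p _
  have h2 := Subgroup.index_dvd_of_le h
  rwa [Subgroup.index_comap_of_surjective _ (QuotientGroup.mk'_surjective N)] at h2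

theorem mhoOne_le_frattini [Finite G] {p : ℕ} [Fact p.Prime] (hG : IsPGroup p G) :
    mhoOne p G ≤ frattini G := by
  rw [mhoOne, Subgroup.closure_le]
  rintro _ ⟨y, rfl⟩
  exact Cfsg.Agent.Lib.Helper2.pow_mem_frattini hG y

/-- If the Frattini quotient of the `p`-group `G` has order dividing `p ^ 2` and `x ∉ Φ(G)`, then
`G` is generated by `x` and one more element. -/
theorem exists_closure_pair_eq_top [Finite G] {p : ℕ} [hpf : Fact p.Prime]
    (hΦ : (frattini G).index ∣ p ^ 2) (x : G) (hx : x ∉ frattini G) :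
    ∃ y : G, Subgroup.zpowers x ⊔ Subgroup.zpowers y = ⊤ := by
  have hp := hpf.out
  by_cases hS : frattini G ⊔ Subgroup.zpowers x = ⊤
  · refine ⟨1, ?_⟩
    rw [Subgroup.zpowers_one_eq_bot, sup_bot_eq]
    apply frattini_nongenerating
    rw [sup_comm]; exact hS
  · set S := frattini G ⊔ Subgroup.zpowers x with hSdef
    have hΦS : frattini G ≤ S := le_sup_left
    have h1 := Subgroup.relIndex_mul_index hΦS
    have h2 : (frattini G).relIndex S ≠ 1 := by
      intro h
      exact hx (Subgroup.relIndex_eq_one.1 h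
        (le_sup_right (a := frattini G) (Subgroup.mem_zpowers x)))
    have h3 : S.index ≠ 1 := fun h => hS (Subgroup.index_eq_one.1 h)
    obtain ⟨-, hSp⟩ := eq_prime_of_mul_dvd_sq hp (by rw [h1]; exact hΦ) h2 h3
    obtain ⟨y, -, hy⟩ := SetLike.exists_of_lt (lt_top_iff_ne_top.2 hS)
    refine ⟨y, ?_⟩
    apply frattini_nongenerating
    have hle : S ≤ Subgroup.zpowers x ⊔ Subgroup.zpowers y ⊔ frattini G := by
      rw [hSdef]
      exact sup_le le_sup_right (le_sup_left.trans le_sup_left)
    -- `S < S ⊔ ⟨y⟩` and `S` has prime index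
    set U := Subgroup.zpowers x ⊔ Subgroup.zpowers y ⊔ frattini G with hU
    have hyU : y ∈ U := le_sup_left (a := Subgroup.zpowers x ⊔ Subgroup.zpowers y)
      (le_sup_right (a := Subgroup.zpowers x) (Subgroup.mem_zpowers y))
    have h4 := Subgroup.relIndex_mul_index hle
    rw [hSp] at h4
    have h5 : S.relIndex U ≠ 1 := fun h => hy (Subgroup.relIndex_eq_one.1 h hyU)
    have h6 : S.relIndex U = p := by
      rcases hp.eq_one_or_self_of_dvd _ (Dvd.intro _ h4) with h | h
      · exact absurd h h5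
      · exact h
    rw [h6] at h4
    have h7 : U.index = 1 := by
      have : p * U.index = p * 1 := by rw [h4, mul_one]
      exact Nat.eq_of_mul_eq_mul_left hp.pos this
    exact Subgroup.index_eq_one.1 h7

/-- With the hypotheses of `exists_closure_pair_eq_top`, `G / M` is cyclic for every normal
subgroup `M` containing `x`. -/
theorem isCyclic_quotient_of_not_mem_frattini [Finite G] {p : ℕ} [hpf : Fact p.Prime]
    (hΦ : (frattini G).index ∣ p ^ 2) (x : G) (hx : x ∉ frattini G)
    (M : Subgroup G) [M.Normal] (hxM : x ∈ M) : IsCyclic (G ⧸ M) := by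
  obtain ⟨y, hy⟩ := exists_closure_pair_eq_top hΦ x hx
  refine ⟨⟨QuotientGroup.mk' M y, ?_⟩⟩
  intro q
  obtain ⟨g, rfl⟩ := QuotientGroup.mk'_surjective M q
  have hg : g ∈ Subgroup.zpowers x ⊔ Subgroup.zpowers y := hy ▸ Subgroup.mem_top g
  have hmap : (Subgroup.zpowers x ⊔ Subgroup.zpowers y).map (QuotientGroup.mk' M) ≤
      Subgroup.zpowers (QuotientGroup.mk' M y) := by
    rw [Subgroup.map_sup, MonoidHom.map_zpowers, MonoidHom.map_zpowers]
    have h1 : QuotientGroup.mk' M x = 1 := (QuotientGroup.eq_one_iff x).2 hxM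
    rw [h1, Subgroup.zpowers_one_eq_bot, bot_sup_eq]
  exact hmap (Subgroup.mem_map_of_mem _ hg)

end Mho


section Main

theorem mk'_eq_one_iff {G : Type*} [Group G] (N : Subgroup G) [N.Normal] (x : G) :
    QuotientGroup.mk' N x = 1 ↔ x ∈ N := QuotientGroup.eq_one_iff x

/-- In a finite `p`-group, a non-identity `p`-th power `z` has a root `x` of maximal `p`-power
degree `p ^ j` (`j ≥ 1`). -/
theorem exists_max_root {G : Type*} [Group G] [Finite G] {p : ℕ} [hpf : Fact p.Prime]
    (hG : IsPGroup p G) (z : G) (hz1 : z ≠ 1) (y₀ : G) (hy₀ : y₀ ^ p = z) :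
    ∃ j : ℕ, 1 ≤ j ∧ (∃ x : G, x ^ (p ^ j) = z) ∧ ∀ y : G, y ^ (p ^ (j + 1)) ≠ z := by
  classical
  obtain ⟨n, hn⟩ := IsPGroup.iff_card.1 hG
  have hex : ∃ j, ∀ y : G, y ^ (p ^ j) ≠ z := by
    refine ⟨n, fun y hy => ?_⟩
    rw [← hn, pow_card_eq_one'] at hy
    exact hz1 hy.symm
  have hj₀ := Nat.find_spec hex
  have hmin : ∀ m < Nat.find hex, ∃ y : G, y ^ (p ^ m) = z := by
    intro m hm
    have := Nat.find_min hex hm
    by_contra h
    exact this (fun y hy => h ⟨y, hy⟩)
  have h0 : Nat.find hex ≠ 0 := by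
    intro h
    rw [h] at hj₀
    exact hj₀ z (by simp)
  have h1 : Nat.find hex ≠ 1 := by
    intro h
    rw [h] at hj₀
    exact hj₀ y₀ (by simpa using hy₀)
  refine ⟨Nat.find hex - 1, by omega, hmin _ (by omega), ?_⟩
  have : Nat.find hex - 1 + 1 = Nat.find hex := by omega
  rw [this]
  exact hj₀

theorem mem_normalizer_of_conj_mem {G : Type*} [Group G] [Finite G] (H : Subgroup G) (b : G)
    (hb : ∀ h ∈ H, b * h * b⁻¹ ∈ H) : b ∈ Subgroup.normalizer (H : Set G) := by
  have hpow : ∀ k : ℕ, ∀ h ∈ H, b ^ k * h * (b ^ k)⁻¹ ∈ H := by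
    intro k
    induction k with
    | zero => intro h hh; simpa using hh
    | succ k ih =>
      intro h hh
      have : b ^ (k + 1) * h * (b ^ (k + 1))⁻¹ = b * (b ^ k * h * (b ^ k)⁻¹) * b⁻¹ := by
        rw [pow_succ']; group
      rw [this]
      exact hb _ (ih h hh)
  rw [Subgroup.mem_normalizer_iff]
  intro h
  refine ⟨hb h, fun hh => ?_⟩
  have hpos : 0 < orderOf b := orderOf_pos b
  have h1 := hpow (orderOf b - 1) _ hh
  have h2 : b ^ (orderOf b - 1) * b = 1 := by
    rw [← pow_succ, Nat.sub_add_cancel hpos, pow_orderOf_eq_one]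
  have h3 : b ^ (orderOf b - 1) = b⁻¹ := eq_inv_of_mul_eq_one_left h2
  rw [h3] at h1
  have : b⁻¹ * (b * h * b⁻¹) * b⁻¹⁻¹ = h := by group
  rwa [this] at h1

/-- **Huppert's criterion** (inductive form). -/
theorem isMetacyclic_of_mho_index_aux {p : ℕ} [hpf : Fact p.Prime] (hp2 : p ≠ 2) :
    ∀ (n : ℕ) (G : Type u) [Group G] [Finite G], Nat.card G = n → IsPGroup p G →
      (mhoOne p G).index ∣ p ^ 2 → Cfsg.IsMetacyclic G := by
  intro n
  induction n using Nat.strong_induction_on with
  | _ n ih =>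
  intro G _ _ hcard hG hmho
  have hp : p.Prime := hpf.out
  have hΦ : (frattini G).index ∣ p ^ 2 :=
    (Subgroup.index_dvd_of_le (mhoOne_le_frattini hG)).trans hmho
  have hcm : ∀ x y : G, ⁅x, y⁆ ∈ commutator G := fun x y => by
    rw [commutator_def]
    exact Subgroup.commutator_mem_commutator (Subgroup.mem_top _) (Subgroup.mem_top _)
  by_cases hcomm : ∀ x y : G, x * y = y * x
  · -- the abelian case
    by_cases hfr : ∃ x : G, x ∉ frattini G
    · obtain ⟨x, hx⟩ := hfr
      haveI : (Subgroup.zpowers x).Normal := by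
        refine ⟨fun y hy g => ?_⟩
        rw [hcomm g y, mul_assoc, mul_inv_cancel, mul_one]
        exact hy
      exact ⟨Subgroup.zpowers x, inferInstance,
        (Subgroup.isCyclic_iff_exists_zpowers_eq_top _).2 ⟨x, rfl⟩,
        isCyclic_quotient_of_not_mem_frattini hΦ x hx _ (Subgroup.mem_zpowers x)⟩
    · have htop : frattini G = ⊤ := by
        rw [eq_top_iff]
        intro x _
        by_contra h
        exact hfr ⟨x, h⟩
      have hbot : (⊥ : Subgroup G) = ⊤ := frattini_nongenerating (by rw [htop]; simp)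
      haveI : Subsingleton G := by
        refine ⟨fun x y => ?_⟩
        have hx : x ∈ (⊥ : Subgroup G) := hbot ▸ Subgroup.mem_top x
        have hy : y ∈ (⊥ : Subgroup G) := hbot ▸ Subgroup.mem_top y
        rw [Subgroup.mem_bot] at hx hy
        rw [hx, hy]
      exact ⟨⊥, inferInstance, isCyclic_of_subsingleton, isCyclic_of_subsingleton⟩
  · -- the non-abelian case
    have hGne : commutator G ≠ ⊥ := by
      intro h
      apply hcomm
      intro x y
      have := hcm x y
      rw [h, Subgroup.mem_bot, commutatorElement_eq_one_iff_mul_comm] at this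
      exact this
    obtain ⟨w, hwC, hw1, hwZ⟩ := normal_meets_center hG (commutator G) hGne
    obtain ⟨k, hk⟩ := (IsPGroup.iff_orderOf.1 hG) w
    have hk0 : k ≠ 0 := by
      rintro rfl
      rw [pow_zero, orderOf_eq_one_iff] at hk
      exact hw1 hk
    obtain ⟨z, hzdef⟩ : ∃ z, z = w ^ (p ^ (k - 1)) := ⟨_, rfl⟩
    have hzp : z ^ p = 1 := by
      rw [hzdef, ← pow_mul, ← pow_succ, Nat.sub_add_cancel (Nat.pos_of_ne_zero hk0), ← hk,
        pow_orderOf_eq_one]
    have hz1 : z ≠ 1 := by
      intro h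
      rw [hzdef] at h
      have h1 := orderOf_dvd_of_pow_eq_one h
      rw [hk] at h1
      have h2 := (Nat.pow_dvd_pow_iff_le_right hp.one_lt).1 h1
      omega
    have hzC : z ∈ commutator G := hzdef ▸ Subgroup.pow_mem _ hwC _
    have hzZ : z ∈ Subgroup.center G := hzdef ▸ Subgroup.pow_mem _ hwZ _
    have hoz : orderOf z = p := orderOf_eq_prime hzp hz1
    obtain ⟨N, hN⟩ : ∃ N : Subgroup G, N = Subgroup.zpowers z := ⟨_, rfl⟩
    have hNZ : N ≤ Subgroup.center G := by
      rw [hN, Subgroup.zpowers_le]; exact hzZ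
    have hNpow : ∀ m ∈ N, m ^ p = 1 := by
      intro m hm
      rw [hN] at hm
      obtain ⟨i, rfl⟩ := Subgroup.mem_zpowers_iff.1 hm
      rw [← zpow_natCast, ← zpow_mul, mul_comm, zpow_mul, zpow_natCast, hzp, one_zpow]
    have hNcomm : ∀ m ∈ N, ∀ g : G, Commute m g := fun m hm g =>
      ((Subgroup.mem_center_iff.1 (hNZ hm)) g).symm
    haveI hNn : N.Normal := by
      refine ⟨fun m hm g => ?_⟩
      have := (hNcomm m hm g).eq
      rw [← this, mul_assoc, mul_inv_cancel, mul_one]
      exact hm
    have hNcard : Nat.card N = p := by rw [hN, Nat.card_zpowers, hoz]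
    have hlt : Nat.card (G ⧸ N) < n := by
      have h1 := Subgroup.card_eq_card_quotient_mul_card_subgroup N
      rw [hcard, hNcard] at h1
      have hpos : 0 < Nat.card (G ⧸ N) := Nat.card_pos
      rw [h1]
      nlinarith [hp.two_le]
    obtain ⟨Lb, hLbn, hLbc, hQc⟩ := ih _ hlt (G ⧸ N) rfl (hG.to_quotient N)
      ((mhoOne_index_quotient_dvd p N).trans hmho)
    haveI := hLbn
    obtain ⟨L, hL⟩ : ∃ L : Subgroup G, L = Lb.comap (QuotientGroup.mk' N) := ⟨_, rfl⟩
    have hLmem : ∀ x : G, x ∈ L ↔ QuotientGroup.mk' N x ∈ Lb := fun x => by rw [hL]; rfl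
    haveI hLn : L.Normal := hL ▸ hLbn.comap _
    have hNL : N ≤ L := by
      intro x hx
      rw [hLmem, (mk'_eq_one_iff N x).2 hx]
      exact Subgroup.one_mem _
    -- a generator of `L` modulo `N`
    obtain ⟨⟨ab, hab⟩, hgen⟩ := hLbc.exists_generator
    obtain ⟨a, rfl⟩ := QuotientGroup.mk'_surjective N ab
    have haL : a ∈ L := (hLmem a).2 hab
    have hLdec : ∀ l ∈ L, ∃ i : ℤ, ∃ m ∈ N, l = a ^ i * m := by
      intro l hl
      obtain ⟨i, hi⟩ := Subgroup.mem_zpowers_iff.1 (hgen ⟨QuotientGroup.mk' N l, (hLmem l).1 hl⟩)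
      have hi' : (QuotientGroup.mk' N a) ^ i = QuotientGroup.mk' N l := by
        have := congrArg Subtype.val hi
        simpa using this
      refine ⟨i, (a ^ i)⁻¹ * l, ?_, by group⟩
      rw [← QuotientGroup.eq, ← QuotientGroup.mk'_apply, ← QuotientGroup.mk'_apply, map_zpow]
      exact hi'
    -- a generator of `G` modulo `L`
    obtain ⟨bb, hbgen⟩ := hQc.exists_generator
    obtain ⟨b', rfl⟩ := QuotientGroup.mk'_surjective Lb bb
    obtain ⟨b, rfl⟩ := QuotientGroup.mk'_surjective N b'
    have hGdec : ∀ x : G, ∃ k : ℤ, ∃ l ∈ L, x = l * b ^ k := by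
      intro x
      obtain ⟨k, hk⟩ := Subgroup.mem_zpowers_iff.1
        (hbgen (QuotientGroup.mk' Lb (QuotientGroup.mk' N x)))
      refine ⟨k, x * (b ^ k)⁻¹, ?_, by group⟩
      rw [hLmem, ← mk'_eq_one_iff Lb, map_mul, map_mul, map_inv,
        map_inv, map_zpow, map_zpow, hk, mul_inv_cancel]
    have hQLc : IsCyclic (G ⧸ L) := by
      refine ⟨⟨QuotientGroup.mk' L b, fun q => ?_⟩⟩
      obtain ⟨x, rfl⟩ := QuotientGroup.mk'_surjective L q
      obtain ⟨k, l, hl, rfl⟩ := hGdec x
      refine Subgroup.mem_zpowers_iff.2 ⟨k, ?_⟩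
      rw [map_mul, (mk'_eq_one_iff L l).2 hl, one_mul, map_zpow]
    by_cases hLc : IsCyclic L
    · exact ⟨L, inferInstance, hLc, hQLc⟩
    · -- `L` is not cyclic
      have hza : z ∉ Subgroup.zpowers a := by
        intro hza
        apply hLc
        have hLa : L = Subgroup.zpowers a := by
          apply le_antisymm
          · intro l hl
            obtain ⟨i, m, hm, rfl⟩ := hLdec l hl
            refine Subgroup.mul_mem _ (Subgroup.zpow_mem _ (Subgroup.mem_zpowers a) _) ?_
            have hNa : N ≤ Subgroup.zpowers a := by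
              rw [hN, Subgroup.zpowers_le]; exact hza
            exact hNa hm
          · rw [Subgroup.zpowers_le]; exact haL
        rw [hLa]
        exact (Subgroup.isCyclic_iff_exists_zpowers_eq_top _).2 ⟨a, rfl⟩
      have hLcomm : ∀ l₁ ∈ L, ∀ l₂ ∈ L, Commute l₁ l₂ := by
        intro l₁ h₁ l₂ h₂
        obtain ⟨i, m₁, hm₁, rfl⟩ := hLdec l₁ h₁
        obtain ⟨j, m₂, hm₂, rfl⟩ := hLdec l₂ h₂
        have h1 : Commute (a ^ i) (a ^ j) := (Commute.refl a).zpow_zpow i j
        have h2 : Commute (a ^ i) m₂ := (hNcomm m₂ hm₂ _).symm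
        have h3 : Commute m₁ (a ^ j) := hNcomm m₁ hm₁ _
        have h4 : Commute m₁ m₂ := hNcomm m₁ hm₁ _
        exact (h1.mul_right h2).mul_left (h3.mul_right h4)
      obtain ⟨g, hg⟩ : ∃ g, g = b * a * b⁻¹ * a⁻¹ := ⟨_, rfl⟩
      have hgL : g ∈ L := by
        rw [hg]
        exact L.mul_mem (hLn.conj_mem a haL b) (L.inv_mem haL)
      have hga : Commute g a := hLcomm g hgL a haL
      have hbab : b * a * b⁻¹ = g * a := by rw [hg]; group
      have hconj_a : ∀ i : ℤ, b * a ^ i * b⁻¹ = g ^ i * a ^ i := by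
        intro i
        rw [← conj_zpow, hbab, hga.mul_zpow]
      have hconj_L : ∀ l ∈ L, ∃ i : ℤ, b * l * b⁻¹ = g ^ i * l := by
        intro l hl
        obtain ⟨i, m, hm, rfl⟩ := hLdec l hl
        refine ⟨i, ?_⟩
        have h1 : b * (a ^ i * m) * b⁻¹ = (b * a ^ i * b⁻¹) * (b * m * b⁻¹) := by group
        have h2 : b * m * b⁻¹ = m := by
          rw [← (hNcomm m hm b).eq, mul_assoc, mul_inv_cancel, mul_one]
        rw [h1, h2, hconj_a, mul_assoc]
      -- `H = ⟨g⟩` is normal with abelian quotient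
      obtain ⟨H, hH⟩ : ∃ H : Subgroup G, H = Subgroup.zpowers g := ⟨_, rfl⟩
      have hgH : g ∈ H := hH ▸ Subgroup.mem_zpowers g
      have hHL : H ≤ L := by rw [hH, Subgroup.zpowers_le]; exact hgL
      have hbH : b ∈ Subgroup.normalizer (H : Set G) := by
        apply mem_normalizer_of_conj_mem
        intro h hh
        rw [hH] at hh
        obtain ⟨j, rfl⟩ := Subgroup.mem_zpowers_iff.1 hh
        obtain ⟨i, hi⟩ := hconj_L g hgL
        rw [← conj_zpow, hi]
        exact H.zpow_mem (H.mul_mem (H.zpow_mem hgH _) hgH) _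
      have hLH : L ≤ Subgroup.normalizer (H : Set G) := by
        intro l hl
        rw [Subgroup.mem_normalizer_iff]
        intro h
        constructor
        · intro hh
          have := (hLcomm l hl h (hHL hh)).eq
          rw [this, mul_assoc, mul_inv_cancel, mul_one]
          exact hh
        · intro hh
          have h1 : h = l⁻¹ * (l * h * l⁻¹) * l := by group
          have h2 := (hLcomm l⁻¹ (L.inv_mem hl) _ (hHL hh)).eq
          rw [h1, h2, mul_assoc, inv_mul_cancel, mul_one]
          exact hh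
      haveI hHn : H.Normal := by
        rw [← Subgroup.normalizer_eq_top_iff, eq_top_iff]
        intro x _
        obtain ⟨k, l, hl, rfl⟩ := hGdec x
        exact Subgroup.mul_mem _ (hLH hl) (Subgroup.zpow_mem _ hbH _)
      have hcH : commutator G ≤ H := by
        have hab' : Commute (QuotientGroup.mk' H a) (QuotientGroup.mk' H b) := by
          have h1 : b * a = g * (a * b) := by rw [hg]; group
          have h2 : QuotientGroup.mk' H (b * a) = QuotientGroup.mk' H (a * b) := by
            rw [h1, map_mul, (mk'_eq_one_iff H g).2 hgH, one_mul]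
          rw [map_mul, map_mul] at h2
          exact h2.symm
        have hmc : ∀ m ∈ N, ∀ q : G ⧸ H, Commute (QuotientGroup.mk' H m) q := by
          intro m hm q
          obtain ⟨x, rfl⟩ := QuotientGroup.mk'_surjective H q
          have := (hNcomm m hm x).eq
          show QuotientGroup.mk' H m * QuotientGroup.mk' H x =
            QuotientGroup.mk' H x * QuotientGroup.mk' H m
          rw [← map_mul, ← map_mul, this]
        have hall : ∀ x y : G, Commute (QuotientGroup.mk' H x) (QuotientGroup.mk' H y) := by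
          intro x y
          obtain ⟨k₁, l₁, hl₁, rfl⟩ := hGdec x
          obtain ⟨k₂, l₂, hl₂, rfl⟩ := hGdec y
          obtain ⟨i₁, m₁, hm₁, rfl⟩ := hLdec l₁ hl₁
          obtain ⟨i₂, m₂, hm₂, rfl⟩ := hLdec l₂ hl₂
          simp only [map_mul, map_zpow]
          have haa : Commute ((QuotientGroup.mk' H a) ^ i₁) ((QuotientGroup.mk' H a) ^ i₂) :=
            (Commute.refl _).zpow_zpow _ _
          have hab1 : Commute ((QuotientGroup.mk' H a) ^ i₁) ((QuotientGroup.mk' H b) ^ k₂) :=
            hab'.zpow_zpow _ _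
          have hba1 : Commute ((QuotientGroup.mk' H b) ^ k₁) ((QuotientGroup.mk' H a) ^ i₂) :=
            (hab'.symm).zpow_zpow _ _
          have hbb : Commute ((QuotientGroup.mk' H b) ^ k₁) ((QuotientGroup.mk' H b) ^ k₂) :=
            (Commute.refl _).zpow_zpow _ _
          have hm1 := hmc m₁ hm₁
          have hm2 := hmc m₂ hm₂
          refine Commute.mul_left (Commute.mul_left ?_ ?_) ?_
          · exact (haa.mul_right (hm2 _).symm).mul_right hab1
          · exact hm1 _
          · exact (hba1.mul_right (hm2 _).symm).mul_right hbb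
        rw [commutator_eq_closure, Subgroup.closure_le]
        rintro _ ⟨x, y, rfl⟩
        show ⁅x, y⁆ ∈ H
        rw [← QuotientGroup.eq_one_iff, ← QuotientGroup.mk'_apply, map_commutatorElement,
          commutatorElement_eq_one_iff_mul_comm]
        exact (hall x y).eq
      -- `g` has order `p`
      have hzH : z ∈ Subgroup.zpowers g := hH ▸ hcH hzC
      obtain ⟨nn, hnn⟩ := Subgroup.mem_zpowers_iff.1 hzH
      obtain ⟨i₀, m₀, hm₀, hgdec⟩ := hLdec g hgL
      have hgp : g ^ p = (a ^ i₀) ^ p := by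
        rw [hgdec, ((hNcomm m₀ hm₀ (a ^ i₀)).symm).mul_pow, hNpow m₀ hm₀, mul_one]
      have hndvd : ¬ (p : ℤ) ∣ nn := by
        rintro ⟨n', rfl⟩
        apply hza
        rw [zpow_mul, zpow_natCast, hgp] at hnn
        rw [← hnn]
        exact Subgroup.zpow_mem _ (Subgroup.pow_mem _ (Subgroup.zpow_mem _
          (Subgroup.mem_zpowers a) _) _) _
      have hgp1 : g ^ p = 1 := by
        have h1 : g ^ (nn * (p : ℤ)) = 1 := by
          rw [zpow_mul, hnn, zpow_natCast, hzp]
        have h2 := orderOf_dvd_iff_zpow_eq_one.2 h1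
        obtain ⟨e, he⟩ := (IsPGroup.iff_orderOf.1 hG) g
        have he1 : e ≤ 1 := by
          by_contra hcon
          have he2 : 2 ≤ e := by omega
          have h3 : ((p : ℤ) ^ 2) ∣ nn * (p : ℤ) := by
            have h4 : (p : ℤ) ^ 2 ∣ ((orderOf g : ℕ) : ℤ) := by
              rw [he]
              push_cast
              exact pow_dvd_pow _ he2
            exact h4.trans h2
          rw [pow_two] at h3
          have hp0 : (p : ℤ) ≠ 0 := by exact_mod_cast hp.ne_zero
          exact hndvd ((mul_dvd_mul_iff_right hp0).1 h3)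
        have h5 : orderOf g ∣ p := by
          rw [he]
          calc p ^ e ∣ p ^ 1 := pow_dvd_pow p he1
            _ = p := pow_one p
        exact orderOf_dvd_iff_pow_eq_one.1 h5
      have hg1 : g ≠ 1 := by
        rintro rfl
        rw [one_zpow] at hnn
        exact hz1 hnn.symm
      have hog : orderOf g = p := orderOf_eq_prime hgp1 hg1
      have hNH : N = H := by
        rw [hN, hH]
        apply Subgroup.eq_of_le_of_card_ge
        · rw [Subgroup.zpowers_le]; exact hzH
        · rw [Nat.card_zpowers, Nat.card_zpowers, hog, hoz]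
      have hcN : commutator G ≤ N := hNH ▸ hcH
      have hct : CTwo p G :=
        ⟨fun x y => hNZ (hcN (hcm x y)), fun x y => hNpow _ (hcN (hcm x y))⟩
      -- the `p`-th power endomorphism
      have hrange : mhoOne p G = (hct.ppow hp hp2 1).range := by
        apply le_antisymm
        · rw [mhoOne, Subgroup.closure_le]
          rintro _ ⟨y, rfl⟩
          exact ⟨y, by simp⟩
        · rintro _ ⟨y, rfl⟩
          simpa using pow_mem_mhoOne p y
      haveI hrn : ((hct.ppow hp hp2 1).range).Normal := by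
        rw [← hrange]
        exact Subgroup.normal_of_characteristic _
      have hcr : ∀ x y : G, ⁅x, y⁆ ∈ (hct.ppow hp hp2 1).range := by
        intro x y
        have hcardQ : Nat.card (G ⧸ (hct.ppow hp hp2 1).range) ∣ p ^ 2 := by
          rw [← Subgroup.index_eq_card, ← hrange]
          exact hmho
        have hc := Cfsg.Agent.Lib.Helper76.comm_of_card_dvd_sq hcardQ
        rw [← QuotientGroup.eq_one_iff, ← QuotientGroup.mk'_apply, map_commutatorElement,
          commutatorElement_eq_one_iff_mul_comm]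
        exact hc _ _
      obtain ⟨y₀, hy₀⟩ : ∃ y₀ : G, y₀ ^ p = z := by
        have : z ∈ (hct.ppow hp hp2 1).range := by
          have hle : commutator G ≤ (hct.ppow hp hp2 1).range := by
            rw [commutator_eq_closure, Subgroup.closure_le]
            rintro _ ⟨x, y, rfl⟩
            exact hcr x y
          exact hle hzC
        obtain ⟨y, hy⟩ := this
        exact ⟨y, by simpa using hy⟩
      have hΦr : frattini G ≤ (hct.ppow hp hp2 1).range :=
        Cfsg.Agent.Lib.Helper47.frattini_le_of_elementary_abelian_quotient p _ hcr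
          (fun x => ⟨x, by simp⟩)
      obtain ⟨j, hj1, ⟨x, hx⟩, hjmax⟩ := exists_max_root hG z hz1 y₀ hy₀
      have hxΦ : x ∉ frattini G := by
        intro h
        obtain ⟨y, hy⟩ := hΦr h
        have hy' : y ^ p = x := by simpa using hy
        apply hjmax y
        rw [pow_succ', pow_mul, hy', hx]
      have hzM : z ∈ Subgroup.zpowers x := by
        rw [← hx]
        exact Subgroup.pow_mem _ (Subgroup.mem_zpowers x) _
      have hNM : N ≤ Subgroup.zpowers x := by
        rw [hN, Subgroup.zpowers_le]; exact hzM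
      haveI hMn : (Subgroup.zpowers x).Normal := by
        refine ⟨fun h hh w => ?_⟩
        have : w * h * w⁻¹ = ⁅w, h⁆ * h := by simp [commutatorElement_def]
        rw [this]
        exact Subgroup.mul_mem _ (hNM (hcN (hcm w h))) hh
      exact ⟨Subgroup.zpowers x, inferInstance,
        (Subgroup.isCyclic_iff_exists_zpowers_eq_top _).2 ⟨x, rfl⟩,
        isCyclic_quotient_of_not_mem_frattini hΦ x hxΦ _ (Subgroup.mem_zpowers x)⟩

/-- **Huppert's criterion**: a finite `p`-group, `p` odd, with `|G : ℧₁(G)| ≤ p ^ 2` is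
metacyclic. -/
theorem isMetacyclic_of_mho_index {G : Type u} [Group G] [Finite G] {p : ℕ} [Fact p.Prime]
    (hp2 : p ≠ 2) (hG : IsPGroup p G) (h : (mhoOne p G).index ∣ p ^ 2) : Cfsg.IsMetacyclic G :=
  isMetacyclic_of_mho_index_aux hp2 _ G rfl hG h

end Main

end Cfsg.Agent.Lib.Helper53
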