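import Mathlib
import Cfsg.Agent.Lib.Helper2.PGroup
import Cfsg.Agent.Lib.Helper2.ClassTwo
import Cfsg.Agent.Lib.Helper63.PGroup
import Cfsg.Agent.Lib.Helper67.PGroupSmall
import Cfsg.Agent.Lib.Helper86.OrderPCube
import Cfsg.Agent.Lib.Helper52.NormalRankTwo

set_option autoImplicit false
set_option linter.unusedSectionVars false
set_option linter.style.haveILetI false

/-!
A `p`-group `P` (`p` odd) whose elements of order dividing `p` form a non-abelian subgroup `Ω` of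
order `p ^ 3`: basic configuration, and the structure `P = Ω * C_P(Ω)` when `P` acts trivially on
`Ω / Z(Ω)`.
-/

namespace Cfsg.Agent.Lib.Helper53

open scoped commutatorElement
open Subgroup

section general

variable {H : Type*} [Group H]

theorem xc_comm_mul_left (x y w : H) (h : Commute ⁅y, w⁆ x) :
    ⁅x * y, w⁆ = ⁅y, w⁆ * ⁅x, w⁆ := by
  have h1 : ⁅x * y, w⁆ = x * ⁅y, w⁆ * x⁻¹ * ⁅x, w⁆ := by
    simp only [commutatorElement_def]; group
  rw [h1, ← h.eq, mul_assoc ⁅y, w⁆, mul_inv_cancel, mul_one]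

theorem xc_comm_mul_right (x y w : H) (h : Commute ⁅x, w⁆ y) :
    ⁅x, y * w⁆ = ⁅x, y⁆ * ⁅x, w⁆ := by
  have h1 : ⁅x, y * w⁆ = ⁅x, y⁆ * (y * ⁅x, w⁆ * y⁻¹) := by
    simp only [commutatorElement_def]; group
  rw [h1, ← h.eq, mul_assoc ⁅x, w⁆, mul_inv_cancel, mul_one]

theorem xc_comm_inv_left (x w : H) (h : Commute ⁅x, w⁆ x) : ⁅x⁻¹, w⁆ = ⁅x, w⁆⁻¹ := by
  have h1 : ⁅x⁻¹, w⁆ = x⁻¹ * ⁅x, w⁆⁻¹ * x := by
    simp only [commutatorElement_def]; group
  have h2 : Commute ⁅x, w⁆⁻¹ x := h.inv_left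
  rw [h1, mul_assoc, h2.eq, ← mul_assoc, inv_mul_cancel, one_mul]

theorem xc_comm_inv_right (x w : H) (h : Commute ⁅x, w⁆ w) : ⁅x, w⁻¹⁆ = ⁅x, w⁆⁻¹ := by
  have h1 : ⁅x, w⁻¹⁆ = w⁻¹ * ⁅x, w⁆⁻¹ * w := by
    simp only [commutatorElement_def]; group
  have h2 : Commute ⁅x, w⁆⁻¹ w := h.inv_left
  rw [h1, mul_assoc, h2.eq, ← mul_assoc, inv_mul_cancel, one_mul]

theorem xc_comm_swap (x w : H) : ⁅x, w⁆ = ⁅w, x⁆⁻¹ := (commutatorElement_inv w x).symm

theorem xc_comm_self (x : H) : ⁅x, x⁆ = 1 := by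
  simp

theorem xc_comm_eq_one_iff (x w : H) : ⁅x, w⁆ = 1 ↔ x * w = w * x := by
  rw [commutatorElement_def]
  constructor
  · intro h
    have h1 : x * w * x⁻¹ = w := by
      have := mul_inv_eq_one.1 h
      exact this
    calc x * w = x * w * x⁻¹ * x := by group
      _ = w * x := by rw [h1]
  · intro h
    rw [h]; group

/-- If `g` and `ω` have the same commutator with `x`, then `ω⁻¹ g` commutes with `x`. -/
theorem xc_commute_of_comm_eq (g ω x : H) (h : ⁅g, x⁆ = ⁅ω, x⁆) :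
    (ω⁻¹ * g) * x = x * (ω⁻¹ * g) := by
  rw [commutatorElement_def, commutatorElement_def] at h
  have h1 : g * x * g⁻¹ = ω * x * ω⁻¹ := mul_right_cancel h
  calc ω⁻¹ * g * x = ω⁻¹ * (g * x * g⁻¹) * g := by group
    _ = ω⁻¹ * (ω * x * ω⁻¹) * g := by rw [h1]
    _ = x * (ω⁻¹ * g) := by group

theorem xc_eq_or_eq_of_card {G : Type*} [Group G] [Finite G] {p : ℕ} (hp : p.Prime)
    {A M B : Subgroup G} (hAM : A ≤ M) (hMB : M ≤ B) (hc : Nat.card B = p * Nat.card A) :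
    M = A ∨ M = B := by
  have h1 : Nat.card A ∣ Nat.card M := Subgroup.card_dvd_of_le hAM
  have h2 : Nat.card M ∣ Nat.card B := Subgroup.card_dvd_of_le hMB
  obtain ⟨d, hd⟩ := h1
  have hApos : 0 < Nat.card A := Nat.card_pos
  rw [hd, hc, mul_comm p] at h2
  have h3 : d ∣ p := (Nat.mul_dvd_mul_iff_left hApos).1 h2
  rcases (Nat.dvd_prime hp).1 h3 with h | h
  · left
    symm
    apply Subgroup.eq_of_le_of_card_ge hAM
    rw [hd, h, mul_one]
  · right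
    apply Subgroup.eq_of_le_of_card_ge hMB
    rw [hc, hd, h, mul_comm]

/-- A subgroup of prime order is generated by each of its nontrivial elements. -/
theorem xc_exists_pow_of_card_prime {G : Type*} [Group G] {p : ℕ} [hp : Fact p.Prime]
    (Z : Subgroup G) (hZ : Nat.card Z = p) {z : G} (hz : z ∈ Z) (hz1 : z ≠ 1) :
    ∀ y ∈ Z, ∃ m : ℕ, y = z ^ m := by
  intro y hy
  haveI : Finite Z := Nat.finite_of_card_ne_zero (by rw [hZ]; exact hp.out.ne_zero)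
  have h1 : (⟨z, hz⟩ : Z) ≠ 1 := fun h => hz1 (congrArg Subtype.val h)
  have h2 : (⟨y, hy⟩ : Z) ∈ Subgroup.zpowers (⟨z, hz⟩ : Z) :=
    mem_zpowers_of_prime_card hZ h1
  rw [← mem_powers_iff_mem_zpowers] at h2
  obtain ⟨m, hm⟩ := h2
  refine ⟨m, ?_⟩
  have := congrArg Subtype.val hm
  simpa using this.symm

end general

variable {P : Type*} [Group P] [Finite P] {p : ℕ} [hpf : Fact p.Prime]

/-- The configuration: `Ω = {x | x ^ p = 1}` is a subgroup of order `p ^ 3` with centre `Z` of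
order `p`, central in `P`, containing all commutators of `Ω`. -/
structure XCfg (p : ℕ) (Ω Z : Subgroup P) : Prop where
  memΩ : ∀ x : P, x ∈ Ω ↔ x ^ p = 1
  cardΩ : Nat.card Ω = p ^ 3
  cardZ : Nat.card Z = p
  ZleΩ : Z ≤ Ω
  Zcent : ∀ z ∈ Z, ∀ g : P, g * z = z * g
  comm : ∀ x ∈ Ω, ∀ y ∈ Ω, ⁅x, y⁆ ∈ Z
  Zcenter : ∀ z ∈ Ω, (∀ w ∈ Ω, w * z = z * w) → z ∈ Z
  nonab : ∃ x ∈ Ω, ∃ y ∈ Ω, x * y ≠ y * x

theorem xc_normal_of_mem {Ω : Subgroup P} (h : ∀ x : P, x ∈ Ω ↔ x ^ p = 1) : Ω.Normal := by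
  constructor
  intro n hn g
  rw [h] at hn ⊢
  rw [conj_pow, hn, mul_one, mul_inv_cancel]

theorem xc_aut_mem {Ω : Subgroup P} (h : ∀ x : P, x ∈ Ω ↔ x ^ p = 1) (a : MulAut P) (x : P) :
    a x ∈ Ω ↔ x ∈ Ω := by
  rw [h, h, ← map_pow]
  constructor
  · intro hx
    have : a (x ^ p) = a 1 := by rw [hx, map_one]
    exact a.injective this
  · intro hx
    rw [hx, map_one]

/-- Building the configuration from a non-abelian `Ω` of order `p ^ 3`. -/
theorem xcfg_of_nonabelian (hP : IsPGroup p P) (Ω : Subgroup P)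
    (hΩ : ∀ x : P, x ∈ Ω ↔ x ^ p = 1) (hcard : Nat.card Ω = p ^ 3)
    (hna : ∃ x ∈ Ω, ∃ y ∈ Ω, x * y ≠ y * x) :
    XCfg p Ω (Ω ⊓ centralizer (Ω : Set P)) := by
  haveI hΩn : Ω.Normal := xc_normal_of_mem hΩ
  have hna' : ¬ ∀ a b : Ω, a * b = b * a := by
    intro h
    obtain ⟨x, hx, y, hy, hxy⟩ := hna
    exact hxy (congrArg Subtype.val (h ⟨x, hx⟩ ⟨y, hy⟩))
  obtain ⟨hc, hcomm, -⟩ := Cfsg.Agent.Lib.Helper86.nonabelian_basic p hcard hna'
  have hmap : (Subgroup.center Ω).map Ω.subtype = Ω ⊓ centralizer (Ω : Set P) := by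
    ext x
    rw [Subgroup.mem_inf, Subgroup.mem_centralizer_iff]
    constructor
    · rintro ⟨⟨y, hy⟩, hyc, rfl⟩
      refine ⟨hy, ?_⟩
      intro w hw
      have := Subgroup.mem_center_iff.1 hyc ⟨w, hw⟩
      exact congrArg Subtype.val this
    · rintro ⟨hx, hxc⟩
      refine ⟨⟨x, hx⟩, ?_, rfl⟩
      rw [SetLike.mem_coe, Subgroup.mem_center_iff]
      intro w
      exact Subtype.ext (hxc w w.2)
  have hcardZ : Nat.card (Ω ⊓ centralizer (Ω : Set P) : Subgroup P) = p := by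
    rw [← hmap, Subgroup.card_map_of_injective Ω.subtype_injective, hc]
  haveI hZn : (Ω ⊓ centralizer (Ω : Set P) : Subgroup P).Normal := by
    constructor
    intro z hz' g
    rw [Subgroup.mem_inf, Subgroup.mem_centralizer_iff] at hz' ⊢
    obtain ⟨hz, hzc⟩ := hz'
    refine ⟨hΩn.conj_mem z hz g, ?_⟩
    intro w hw
    have hw' : g⁻¹ * w * g ∈ Ω := by
      have := hΩn.conj_mem w hw g⁻¹
      simpa using this
    have h1 := hzc _ hw'
    calc w * (g * z * g⁻¹) = g * ((g⁻¹ * w * g) * z) * g⁻¹ := by group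
      _ = g * (z * (g⁻¹ * w * g)) * g⁻¹ := by rw [h1]
      _ = g * z * g⁻¹ * w := by group
  have hZc := Cfsg.Agent.Lib.Helper63.normal_card_prime_le_center hP
    (Ω ⊓ centralizer (Ω : Set P)) hcardZ
  refine ⟨hΩ, hcard, hcardZ, inf_le_left, ?_, ?_, ?_, hna⟩
  · intro z hz g
    exact Subgroup.mem_center_iff.1 (hZc hz) g
  · intro x hx y hy
    have h1 : ⁅(⟨x, hx⟩ : Ω), ⟨y, hy⟩⁆ ∈ commutator Ω :=
      Subgroup.commutator_mem_commutator (Subgroup.mem_top _) (Subgroup.mem_top _)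
    rw [hcomm] at h1
    have h2 : Ω.subtype ⁅(⟨x, hx⟩ : Ω), ⟨y, hy⟩⁆ ∈ (Subgroup.center Ω).map Ω.subtype :=
      Subgroup.mem_map_of_mem _ h1
    rw [hmap, map_commutatorElement] at h2
    exact h2
  · intro z hz hzc
    rw [Subgroup.mem_inf, Subgroup.mem_centralizer_iff]
    exact ⟨hz, hzc⟩

namespace XCfg

variable {Ω Z : Subgroup P} (h : XCfg p Ω Z)
include h

theorem normalΩ : Ω.Normal := xc_normal_of_mem h.memΩ

theorem normalZ : Z.Normal := by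
  constructor
  intro z hz g
  rw [h.Zcent z hz g, mul_assoc, mul_inv_cancel, mul_one]
  exact hz

theorem pow_eq_one {x : P} (hx : x ∈ Ω) : x ^ p = 1 := (h.memΩ x).1 hx

theorem commuteZ {z : P} (hz : z ∈ Z) (g : P) : Commute z g := (h.Zcent z hz g).symm

theorem mem_Z_iff (z : P) : z ∈ Z ↔ z ∈ Ω ∧ ∀ w ∈ Ω, w * z = z * w :=
  ⟨fun hz => ⟨h.ZleΩ hz, fun w _ => h.Zcent z hz w⟩, fun hz => h.Zcenter z hz.1 hz.2⟩

theorem aut_memΩ (a : MulAut P) (x : P) : a x ∈ Ω ↔ x ∈ Ω := xc_aut_mem h.memΩ a x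

theorem aut_memZ (a : MulAut P) (z : P) : a z ∈ Z ↔ z ∈ Z := by
  rw [h.mem_Z_iff, h.mem_Z_iff, h.aut_memΩ]
  constructor
  · rintro ⟨hz, hc⟩
    refine ⟨hz, fun w hw => ?_⟩
    have := hc (a w) ((h.aut_memΩ a w).2 hw)
    rw [← map_mul, ← map_mul] at this
    exact a.injective this
  · rintro ⟨hz, hc⟩
    refine ⟨hz, fun w hw => ?_⟩
    have hw' : a.symm w ∈ Ω := by
      rw [← h.aut_memΩ a]
      simpa using hw
    have := hc _ hw'
    have h2 := congrArg a this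
    simpa using h2

/-- `Z` is generated by any nontrivial element. -/
theorem exists_pow {z : P} (hz : z ∈ Z) (hz1 : z ≠ 1) : ∀ y ∈ Z, ∃ m : ℕ, y = z ^ m :=
  xc_exists_pow_of_card_prime Z h.cardZ hz hz1

theorem orderOf_Z {z : P} (hz : z ∈ Z) (hz1 : z ≠ 1) : orderOf z = p := by
  have h1 : z ^ p = 1 := h.pow_eq_one (h.ZleΩ hz)
  exact orderOf_eq_prime h1 hz1

theorem isPGroupΩ (hP : IsPGroup p P) : IsPGroup p Ω := hP.to_subgroup Ω

/-- Two non-commuting elements of `Ω` generate it. -/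
theorem closure_pair_eq (hP : IsPGroup p P) {x y : P} (hx : x ∈ Ω) (hy : y ∈ Ω)
    (hxy : x * y ≠ y * x) : Subgroup.closure {x, y} = Ω := by
  have hle : Subgroup.closure {x, y} ≤ Ω := by
    rw [Subgroup.closure_le]
    intro u hu
    rcases hu with rfl | rfl
    · exact hx
    · exact hy
  apply Subgroup.eq_of_le_of_card_ge hle
  rw [h.cardΩ]
  apply Cfsg.Agent.Lib.Helper67.pow_three_le_card_of_not_comm (hP.to_subgroup _)
  intro hc
  have hx' : x ∈ Subgroup.closure {x, y} := Subgroup.subset_closure (by simp)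
  have hy' : y ∈ Subgroup.closure {x, y} := Subgroup.subset_closure (by simp)
  have := hc.is_comm.comm ⟨x, hx'⟩ ⟨y, hy'⟩
  exact hxy (congrArg Subtype.val this)

/-- An element acting trivially on `Ω / Z` lies in `Ω * C_P(Ω)`. -/
theorem exists_mul_centralizer (hP : IsPGroup p P) (g : P) (hg : ∀ w ∈ Ω, ⁅g, w⁆ ∈ Z) :
    ∃ ω ∈ Ω, ω⁻¹ * g ∈ centralizer (Ω : Set P) := by
  obtain ⟨x, hx, y, hy, hxy⟩ := h.nonab
  have hz : ⁅x, y⁆ ∈ Z := h.comm x hx y hy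
  have hz1 : ⁅x, y⁆ ≠ 1 := by
    intro h1
    exact hxy ((xc_comm_eq_one_iff x y).1 h1)
  obtain ⟨a, ha⟩ := h.exists_pow hz hz1 _ (hg x hx)
  obtain ⟨b, hb⟩ := h.exists_pow hz hz1 _ (hg y hy)
  have hyx : ⁅y, x⁆ = ⁅x, y⁆⁻¹ := xc_comm_swap y x
  have hcZ : ∀ u ∈ Ω, ∀ v ∈ Ω, ∀ g' : P, Commute ⁅u, v⁆ g' :=
    fun u hu v hv g' => h.commuteZ (h.comm u hu v hv) g'
  have hxb : x ^ b ∈ Ω := Subgroup.pow_mem _ hx b
  have hya : y ^ a ∈ Ω := Subgroup.pow_mem _ hy a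
  have hyai : (y ^ a)⁻¹ ∈ Ω := Subgroup.inv_mem _ hya
  refine ⟨x ^ b * (y ^ a)⁻¹, Subgroup.mul_mem _ hxb hyai, ?_⟩
  have e1 : ⁅x ^ b * (y ^ a)⁻¹, x⁆ = ⁅g, x⁆ := by
    rw [xc_comm_mul_left _ _ _ (hcZ _ hyai _ hx _), xc_comm_inv_left _ _ (hcZ _ hya _ hx _),
      Cfsg.Agent.Lib.Helper2.commutator_pow_left y x (hcZ _ hy _ hx _) a,
      Cfsg.Agent.Lib.Helper2.commutator_pow_left x x (hcZ _ hx _ hx _) b, xc_comm_self, one_pow,
      mul_one, hyx, ha, inv_pow, inv_inv]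
  have e2 : ⁅x ^ b * (y ^ a)⁻¹, y⁆ = ⁅g, y⁆ := by
    rw [xc_comm_mul_left _ _ _ (hcZ _ hyai _ hy _), xc_comm_inv_left _ _ (hcZ _ hya _ hy _),
      Cfsg.Agent.Lib.Helper2.commutator_pow_left y y (hcZ _ hy _ hy _) a,
      Cfsg.Agent.Lib.Helper2.commutator_pow_left x y (hcZ _ hx _ hy _) b, xc_comm_self, one_pow,
      inv_one, one_mul, hb]
  have c1 := xc_commute_of_comm_eq g (x ^ b * (y ^ a)⁻¹) x e1.symm
  have c2 := xc_commute_of_comm_eq g (x ^ b * (y ^ a)⁻¹) y e2.symm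
  have hcl := h.closure_pair_eq hP hx hy hxy
  rw [Subgroup.mem_centralizer_iff]
  intro w hw
  rw [← hcl] at hw
  have hle : Subgroup.closure {x, y} ≤
      centralizer ({(x ^ b * (y ^ a)⁻¹)⁻¹ * g} : Set P) := by
    rw [Subgroup.closure_le]
    intro u hu
    rw [SetLike.mem_coe, Subgroup.mem_centralizer_iff]
    intro v hv
    rw [Set.mem_singleton_iff] at hv
    rcases hu with rfl | rfl
    · rw [hv]; exact c1
    · rw [hv]; exact c2
  have := hle hw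
  rw [Subgroup.mem_centralizer_iff] at this
  exact (this _ rfl).symm

/-- Elements of `C_P(Ω)` of order dividing `p` are exactly the elements of `Z`. -/
theorem mem_centralizer_pow_iff (x : P) :
    (x ∈ centralizer (Ω : Set P) ∧ x ^ p = 1) ↔ x ∈ Z := by
  constructor
  · rintro ⟨hx, hxp⟩
    rw [Subgroup.mem_centralizer_iff] at hx
    exact h.Zcenter x ((h.memΩ x).2 hxp) hx
  · intro hx
    refine ⟨?_, h.pow_eq_one (h.ZleΩ hx)⟩
    rw [Subgroup.mem_centralizer_iff]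
    intro w _
    exact h.Zcent x hx w

/-- `C_P(Ω)` is cyclic (`p` odd). -/
theorem isCyclic_centralizer (hP : IsPGroup p P) (hp2 : p ≠ 2) :
    IsCyclic ↥(centralizer (Ω : Set P)) := by
  rcases Cfsg.Agent.Lib.Helper52.normal_rank_two p (hP.to_subgroup (centralizer (Ω : Set P)))
    with h1 | h1 | h1
  · exfalso
    obtain ⟨N, -, hNc, hNe⟩ := h1
    have hle : N.map (centralizer (Ω : Set P)).subtype ≤ Z := by
      rintro _ ⟨n, hn, rfl⟩
      rw [← h.mem_centralizer_pow_iff]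
      refine ⟨n.2, ?_⟩
      have := congrArg Subtype.val (hNe n hn)
      simpa using this
    have hc := Subgroup.card_le_of_le hle
    rw [Subgroup.card_map_of_injective (Subgroup.subtype_injective _), hNc, h.cardZ] at hc
    have h2 : p < p ^ 2 := by
      have := hpf.out.one_lt
      nlinarith
    omega
  · exact h1
  · exact absurd h1.1 hp2

/-- `[Ω, Ω] = Z`. -/
theorem commutator_eq : ⁅Ω, Ω⁆ = Z := by
  apply le_antisymm
  · rw [Subgroup.commutator_le]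
    intro x hx y hy
    exact h.comm x hx y hy
  · obtain ⟨x, hx, y, hy, hxy⟩ := h.nonab
    have hz : ⁅x, y⁆ ∈ Z := h.comm x hx y hy
    have hz1 : ⁅x, y⁆ ≠ 1 := fun h1 => hxy ((xc_comm_eq_one_iff x y).1 h1)
    intro u hu
    obtain ⟨m, rfl⟩ := h.exists_pow hz hz1 u hu
    exact Subgroup.pow_mem _ (Subgroup.commutator_mem_commutator hx hy) m

/-- **Structure** when `P` acts trivially on `Ω / Z`. -/
theorem structure_of_central (hP : IsPGroup p P) (hp2 : p ≠ 2)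
    (hc : ∀ g : P, ∀ w ∈ Ω, ⁅g, w⁆ ∈ Z) :
    Ω ⊔ centralizer (Ω : Set P) = ⊤ ∧ IsCyclic ↥(centralizer (Ω : Set P)) ∧
      (∀ x : P, (x ∈ centralizer (Ω : Set P) ∧ x ^ p = 1) ↔ x ∈ ⁅Ω, Ω⁆) := by
  refine ⟨?_, h.isCyclic_centralizer hP hp2, ?_⟩
  · rw [eq_top_iff]
    intro g _
    obtain ⟨ω, hω, hωg⟩ := h.exists_mul_centralizer hP g (hc g)
    have : g = ω * (ω⁻¹ * g) := by group
    rw [this]
    exact Subgroup.mul_mem_sup hω hωg
  · intro x
    rw [h.commutator_eq]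
    exact h.mem_centralizer_pow_iff x

end XCfg

end Cfsg.Agent.Lib.Helper53
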