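import Mathlib
import Cfsg.Agent.Lib.Helper53.XCa
import Cfsg.Agent.Lib.Helper53.CenterMeet
import Cfsg.Agent.Lib.Helper53.Huppert
import Cfsg.Agent.Lib.Helper76.PGroup2

set_option autoImplicit false
set_option linter.unusedSectionVars false
set_option linter.style.haveILetI false

/-!
The case where `P` acts nontrivially on `Ω / Z`: the subgroup `S` of order `p ^ 2` with
`S / Z = C_{Ω/Z}(P)`, and the first consequences.
-/

namespace Cfsg.Agent.Lib.Helper53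

open scoped commutatorElement
open Subgroup

variable {P : Type*} [Group P] [Finite P] {p : ℕ} [hpf : Fact p.Prime]

/-- The elements of `P` whose commutator with `t` lies in the normal subgroup `Z`. -/
def xcCommSub (Z : Subgroup P) [Z.Normal] (t : P) : Subgroup P :=
  Subgroup.comap (QuotientGroup.mk' Z) (centralizer {QuotientGroup.mk' Z t})

theorem mem_xcCommSub (Z : Subgroup P) [Z.Normal] (t ω : P) :
    ω ∈ xcCommSub Z t ↔ ⁅t, ω⁆ ∈ Z := by
  rw [xcCommSub, Subgroup.mem_comap, Subgroup.mem_centralizer_iff, ← mk'_eq_one_iff Z,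
    map_commutatorElement, xc_comm_eq_one_iff]
  constructor
  · intro h
    exact h _ rfl
  · intro h x hx
    rw [Set.mem_singleton_iff] at hx
    rw [hx]; exact h

/-- The second configuration: `S` with `Z < S < Ω`, `[P, S] ≤ Z`, `[P, Ω] ≤ S`. -/
structure XCfg1 (p : ℕ) (Ω Z S : Subgroup P) : Prop where
  base : XCfg p Ω Z
  ZleS : Z ≤ S
  SleΩ : S ≤ Ω
  cardS : Nat.card S = p ^ 2
  Scent : ∀ s ∈ S, ∀ g : P, ⁅g, s⁆ ∈ Z
  Snormal : S.Normal
  commS : ∀ g : P, ∀ ω ∈ Ω, ⁅g, ω⁆ ∈ S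
  Saut : ∀ (a : MulAut P) (s : P), a s ∈ S ↔ s ∈ S

namespace XCfg

variable {Ω Z : Subgroup P} (h : XCfg p Ω Z)
include h

/-- The preimage in `Ω` of the fixed points of `P` on `Ω / Z`. -/
def sOne : Subgroup P where
  carrier := {s | s ∈ Ω ∧ ∀ g : P, ⁅g, s⁆ ∈ Z}
  one_mem' := by
    refine ⟨Subgroup.one_mem _, fun g => ?_⟩
    have : ⁅g, (1 : P)⁆ = 1 := by simp [commutatorElement_def]
    rw [this]; exact Subgroup.one_mem _
  mul_mem' := by
    rintro a b ⟨ha, ha'⟩ ⟨hb, hb'⟩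
    refine ⟨Subgroup.mul_mem _ ha hb, fun g => ?_⟩
    rw [xc_comm_mul_right g a b (h.commuteZ (hb' g) a)]
    exact Subgroup.mul_mem _ (ha' g) (hb' g)
  inv_mem' := by
    rintro a ⟨ha, ha'⟩
    refine ⟨Subgroup.inv_mem _ ha, fun g => ?_⟩
    rw [xc_comm_inv_right g a (h.commuteZ (ha' g) a)]
    exact Subgroup.inv_mem _ (ha' g)

theorem mem_sOne (s : P) : s ∈ h.sOne ↔ s ∈ Ω ∧ ∀ g : P, ⁅g, s⁆ ∈ Z := Iff.rfl

theorem Z_le_sOne : Z ≤ h.sOne := by
  intro z hz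
  refine ⟨h.ZleΩ hz, fun g => ?_⟩
  have : ⁅g, z⁆ = 1 := (xc_comm_eq_one_iff g z).2 (h.Zcent z hz g)
  rw [this]; exact Subgroup.one_mem _

theorem sOne_aut (a : MulAut P) (s : P) : a s ∈ h.sOne ↔ s ∈ h.sOne := by
  rw [h.mem_sOne, h.mem_sOne, h.aut_memΩ]
  constructor
  · rintro ⟨hs, hc⟩
    refine ⟨hs, fun g => ?_⟩
    have := hc (a g)
    rw [← map_commutatorElement, h.aut_memZ] at this
    exact this
  · rintro ⟨hs, hc⟩
    refine ⟨hs, fun g => ?_⟩
    have := hc (a.symm g)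
    rw [← h.aut_memZ a, map_commutatorElement] at this
    simpa using this

theorem sOne_normal : h.sOne.Normal := by
  constructor
  intro s hs g
  have := (h.sOne_aut (MulAut.conj g) s).2 hs
  simpa [MulAut.conj_apply] using this

/-- `S ≠ Z`: the normal subgroup `Ω / Z` of `P / Z` meets the centre. -/
theorem exists_sOne_not_Z (hP : IsPGroup p P) : ∃ s ∈ h.sOne, s ∉ Z := by
  haveI := h.normalZ
  haveI := h.normalΩ
  have hne : Ω.map (QuotientGroup.mk' Z) ≠ ⊥ := by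
    intro h0
    have hle : Ω ≤ Z := by
      intro x hx
      have h1 : QuotientGroup.mk' Z x ∈ Ω.map (QuotientGroup.mk' Z) :=
        Subgroup.mem_map_of_mem _ hx
      rw [h0, Subgroup.mem_bot, mk'_eq_one_iff] at h1
      exact h1
    have hc := Subgroup.card_le_of_le hle
    rw [h.cardΩ, h.cardZ] at hc
    have h2 : p < p ^ 3 := by
      have := hpf.out.one_lt
      nlinarith [pow_pos hpf.out.pos 2]
    omega
  haveI : (Ω.map (QuotientGroup.mk' Z)).Normal :=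
    Subgroup.Normal.map inferInstance _ (QuotientGroup.mk'_surjective Z)
  obtain ⟨b, hb, hb1, hbc⟩ := normal_meets_center (hP.to_quotient Z) _ hne
  obtain ⟨ω, hω, rfl⟩ := hb
  refine ⟨ω, ⟨hω, fun g => ?_⟩, ?_⟩
  · rw [← mk'_eq_one_iff Z, map_commutatorElement, xc_comm_eq_one_iff]
    exact Subgroup.mem_center_iff.1 hbc _
  · intro hωZ
    exact hb1 ((mk'_eq_one_iff Z ω).2 hωZ)

/-- Building the second configuration when `P` acts nontrivially on `Ω / Z`. -/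
theorem xcfg1_of_noncentral (hP : IsPGroup p P) (hcase : ∃ g : P, ∃ ω ∈ Ω, ⁅g, ω⁆ ∉ Z) :
    XCfg1 p Ω Z h.sOne := by
  have hp := hpf.out
  have hSΩ : h.sOne ≤ Ω := fun s hs => hs.1
  have hZS := h.Z_le_sOne
  haveI hSn := h.sOne_normal
  haveI := h.normalΩ
  -- the order of `S`
  have hcardS : Nat.card h.sOne = p ^ 2 := by
    have hdvd : Nat.card h.sOne ∣ p ^ 3 := h.cardΩ ▸ Subgroup.card_dvd_of_le hSΩ
    obtain ⟨k, hk3, hk⟩ := (Nat.dvd_prime_pow hp).1 hdvd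
    have hk1 : k ≠ 0 := by
      intro h0
      rw [h0, pow_zero] at hk
      have := Subgroup.card_le_of_le hZS
      rw [hk, h.cardZ] at this
      exact absurd this (by have := hp.one_lt; omega)
    have hk1' : k ≠ 1 := by
      intro h1
      rw [h1, pow_one] at hk
      have hEq : Z = h.sOne := Subgroup.eq_of_le_of_card_ge hZS (by rw [hk, h.cardZ])
      obtain ⟨s, hs, hsZ⟩ := h.exists_sOne_not_Z hP
      exact hsZ (hEq ▸ hs)
    have hk3' : k ≠ 3 := by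
      intro h3
      rw [h3] at hk
      have hEq : h.sOne = Ω := Subgroup.eq_of_le_of_card_ge hSΩ (by rw [hk, h.cardΩ])
      obtain ⟨g, ω, hω, hgω⟩ := hcase
      have : ω ∈ h.sOne := by rw [hEq]; exact hω
      exact hgω (this.2 g)
    have : k = 2 := by omega
    rw [hk, this]
  refine ⟨h, hZS, hSΩ, hcardS, fun s hs g => hs.2 g, hSn, ?_, h.sOne_aut⟩
  -- `[P, Ω] ≤ S`
  have hker : (QuotientGroup.mk' h.sOne).ker ≤ Ω := by
    rw [QuotientGroup.ker_mk']; exact hSΩ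
  have hcm : Subgroup.comap (QuotientGroup.mk' h.sOne) (Ω.map (QuotientGroup.mk' h.sOne)) = Ω :=
    Subgroup.comap_map_eq_self hker
  have hidx : (Ω.map (QuotientGroup.mk' h.sOne)).index = Ω.index := by
    rw [← Subgroup.index_comap_of_surjective _ (QuotientGroup.mk'_surjective h.sOne), hcm]
  have hcardmap : Nat.card (Ω.map (QuotientGroup.mk' h.sOne)) = p := by
    have e1 := Subgroup.card_mul_index (Ω.map (QuotientGroup.mk' h.sOne))
    have e2 := Subgroup.card_eq_card_quotient_mul_card_subgroup h.sOne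
    have e3 := Subgroup.card_mul_index Ω
    rw [hidx] at e1
    rw [hcardS] at e2
    rw [h.cardΩ] at e3
    have hipos : 0 < Ω.index := Nat.pos_of_ne_zero Subgroup.index_ne_zero_of_finite
    have e4 : Nat.card (Ω.map (QuotientGroup.mk' h.sOne)) * p ^ 2 * Ω.index = p ^ 3 * Ω.index := by
      rw [e3, e2, ← e1]; ring
    have e5 := Nat.eq_of_mul_eq_mul_right hipos e4
    have hp2pos : 0 < p ^ 2 := pow_pos hp.pos 2
    have e6 : Nat.card (Ω.map (QuotientGroup.mk' h.sOne)) * p ^ 2 = p * p ^ 2 := by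
      rw [e5]; ring
    exact Nat.eq_of_mul_eq_mul_right hp2pos e6
  haveI : (Ω.map (QuotientGroup.mk' h.sOne)).Normal :=
    Subgroup.Normal.map inferInstance _ (QuotientGroup.mk'_surjective h.sOne)
  have hcen := Cfsg.Agent.Lib.Helper63.normal_card_prime_le_center (hP.to_quotient h.sOne)
    (Ω.map (QuotientGroup.mk' h.sOne)) hcardmap
  intro g ω hω
  rw [← mk'_eq_one_iff h.sOne, map_commutatorElement, xc_comm_eq_one_iff]
  exact Subgroup.mem_center_iff.1 (hcen (Subgroup.mem_map_of_mem _ hω)) _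

end XCfg

namespace XCfg1

variable {Ω Z S : Subgroup P} (k : XCfg1 p Ω Z S)
include k

theorem S_comm : ∀ s ∈ S, ∀ s' ∈ S, s * s' = s' * s := by
  intro s hs s' hs'
  have hd : Nat.card S ∣ p ^ 2 := by rw [k.cardS]
  have := Cfsg.Agent.Lib.Helper76.comm_of_card_dvd_sq hd ⟨s, hs⟩ ⟨s', hs'⟩
  exact congrArg Subtype.val this

theorem pow_eq_one_S {s : P} (hs : s ∈ S) : s ^ p = 1 := k.base.pow_eq_one (k.SleΩ hs)

/-- A subgroup containing `S` and an element of `Ω` outside `S` contains `Ω`. -/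
theorem Ω_le_of (H : Subgroup P) (hSH : S ≤ H) {ω : P} (hω : ω ∈ Ω) (hωS : ω ∉ S)
    (hωH : ω ∈ H) : Ω ≤ H := by
  have hc : Nat.card Ω = p * Nat.card S := by
    rw [k.base.cardΩ, k.cardS]; ring
  rcases xc_eq_or_eq_of_card hpf.out (le_inf hSH k.SleΩ) (inf_le_right : H ⊓ Ω ≤ Ω) hc
    with h1 | h1
  · exfalso
    apply hωS
    rw [← h1]
    exact ⟨hωH, hω⟩
  · intro x hx
    have : x ∈ H ⊓ Ω := by rw [h1]; exact hx
    exact this.1

/-- A subgroup containing `Z` and an element of `S` outside `Z` contains `S`. -/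
theorem S_le_of (H : Subgroup P) (hZH : Z ≤ H) {s : P} (hs : s ∈ S) (hsZ : s ∉ Z)
    (hsH : s ∈ H) : S ≤ H := by
  have hc : Nat.card S = p * Nat.card Z := by
    rw [k.base.cardZ, k.cardS]; ring
  rcases xc_eq_or_eq_of_card hpf.out (le_inf hZH k.ZleS) (inf_le_right : H ⊓ S ≤ S) hc
    with h1 | h1
  · exfalso
    apply hsZ
    rw [← h1]
    exact ⟨hsH, hs⟩
  · intro x hx
    have : x ∈ H ⊓ S := by rw [h1]; exact hx
    exact this.1

theorem exists_S_not_Z : ∃ s ∈ S, s ∉ Z := by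
  by_contra hcon
  simp only [not_exists, not_and, not_not] at hcon
  have hle : S ≤ Z := fun s hs => hcon s hs
  have := Subgroup.card_le_of_le hle
  rw [k.cardS, k.base.cardZ] at this
  have h2 : p < p ^ 2 := by
    have := hpf.out.one_lt
    nlinarith
  omega

theorem exists_Ω_not_S : ∃ w ∈ Ω, w ∉ S := by
  by_contra hcon
  simp only [not_exists, not_and, not_not] at hcon
  have hle : Ω ≤ S := fun s hs => hcon s hs
  have := Subgroup.card_le_of_le hle
  rw [k.cardS, k.base.cardΩ] at this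
  have h2 : p ^ 2 < p ^ 3 := Nat.pow_lt_pow_right hpf.out.one_lt (by norm_num)
  omega

/-- An element of `S` commuting with an element of `Ω` outside `S` lies in `Z`. -/
theorem mem_Z_of_commute {s ω : P} (hs : s ∈ S) (hω : ω ∈ Ω) (hωS : ω ∉ S)
    (hc : ω * s = s * ω) : s ∈ Z := by
  apply k.base.Zcenter s (k.SleΩ hs)
  have hle : Ω ≤ centralizer ({s} : Set P) := by
    apply k.Ω_le_of _ _ hω hωS
    · rw [Subgroup.mem_centralizer_iff]
      intro x hx
      rw [Set.mem_singleton_iff] at hx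
      rw [hx]; exact hc.symm
    · intro s' hs'
      rw [Subgroup.mem_centralizer_iff]
      intro x hx
      rw [Set.mem_singleton_iff] at hx
      rw [hx]; exact k.S_comm s hs s' hs'
  intro w hw
  have := hle hw
  rw [Subgroup.mem_centralizer_iff] at this
  exact (this s rfl).symm

/-- `Ω ∩ C_P(S) = S`. -/
theorem mem_S_of_commute {ω : P} (hω : ω ∈ Ω) (hc : ∀ s ∈ S, ω * s = s * ω) : ω ∈ S := by
  by_contra hωS
  obtain ⟨s, hs, hsZ⟩ := k.exists_S_not_Z
  exact hsZ (k.mem_Z_of_commute hs hω hωS (hc s hs))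

theorem comm_ne_one {ω s : P} (hω : ω ∈ Ω) (hωS : ω ∉ S) (hs : s ∈ S) (hsZ : s ∉ Z) :
    ⁅ω, s⁆ ≠ 1 := by
  intro h1
  exact hsZ (k.mem_Z_of_commute hs hω hωS ((xc_comm_eq_one_iff ω s).1 h1))

/-- `P = ⟨w⟩ C_P(S)`. -/
theorem exists_pow_mul {w : P} (hw : w ∈ Ω) (hwS : w ∉ S) (g : P) :
    ∃ m : ℕ, ∀ s ∈ S, ((w ^ m)⁻¹ * g) * s = s * ((w ^ m)⁻¹ * g) := by
  obtain ⟨s₁, hs₁, hs₁Z⟩ := k.exists_S_not_Z
  have hz : ⁅w, s₁⁆ ∈ Z := k.base.comm w hw s₁ (k.SleΩ hs₁)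
  have hz1 : ⁅w, s₁⁆ ≠ 1 := k.comm_ne_one hw hwS hs₁ hs₁Z
  obtain ⟨m, hm⟩ := k.base.exists_pow hz hz1 _ (k.Scent s₁ hs₁ g)
  refine ⟨m, ?_⟩
  have e1 : ⁅g, s₁⁆ = ⁅w ^ m, s₁⁆ := by
    rw [Cfsg.Agent.Lib.Helper2.commutator_pow_left w s₁ (k.base.commuteZ hz w) m, hm]
  have c1 := xc_commute_of_comm_eq g (w ^ m) s₁ e1
  have hle : S ≤ centralizer ({(w ^ m)⁻¹ * g} : Set P) := by
    apply k.S_le_of _ _ hs₁ hs₁Z
    · rw [Subgroup.mem_centralizer_iff]
      intro x hx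
      rw [Set.mem_singleton_iff] at hx
      rw [hx]; exact c1
    · intro z hz'
      rw [Subgroup.mem_centralizer_iff]
      intro x hx
      rw [Set.mem_singleton_iff] at hx
      rw [hx]; exact k.base.Zcent z hz' _
  intro s hs
  have := hle hs
  rw [Subgroup.mem_centralizer_iff] at this
  exact this _ rfl

/-- An element of `C_P(S)` whose commutator with `w` lies in `Z` acts trivially on `Ω / Z`. -/
theorem central_of (t : P) (ht : ∀ s ∈ S, t * s = s * t) {w : P} (hw : w ∈ Ω) (hwS : w ∉ S)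
    (htw : ⁅t, w⁆ ∈ Z) : ∀ ω ∈ Ω, ⁅t, ω⁆ ∈ Z := by
  haveI := k.base.normalZ
  have hle : Ω ≤ xcCommSub Z t := by
    apply k.Ω_le_of _ _ hw hwS
    · rw [mem_xcCommSub]; exact htw
    · intro s hs
      rw [mem_xcCommSub, (xc_comm_eq_one_iff t s).2 (ht s hs)]
      exact Subgroup.one_mem _
  intro ω hω
  have := hle hω
  rw [mem_xcCommSub] at this
  exact this

/-- There is `t ∈ C_P(S)` acting nontrivially on `Ω / Z`. -/
theorem exists_t (hcase : ∃ g : P, ∃ ω ∈ Ω, ⁅g, ω⁆ ∉ Z) {w : P} (hw : w ∈ Ω) (hwS : w ∉ S) :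
    ∃ t : P, (∀ s ∈ S, t * s = s * t) ∧ ⁅t, w⁆ ∉ Z := by
  obtain ⟨g, ω, hω, hgω⟩ := hcase
  obtain ⟨m, hm⟩ := k.exists_pow_mul hw hwS g
  refine ⟨(w ^ m)⁻¹ * g, hm, ?_⟩
  intro hZ
  have hall := k.central_of _ hm hw hwS hZ
  apply hgω
  have hg : g = w ^ m * ((w ^ m)⁻¹ * g) := by group
  rw [hg, xc_comm_mul_left _ _ _ (k.base.commuteZ (hall ω hω) _)]
  exact Subgroup.mul_mem _ (hall ω hω) (k.base.comm _ (Subgroup.pow_mem _ hw m) _ hω)

/-- Every element of `S` is `s₁ ^ m * z`. -/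
theorem exists_pow_mul_Z {s₁ : P} (hs₁ : s₁ ∈ S) (hs₁Z : s₁ ∉ Z) :
    ∀ s ∈ S, ∃ m : ℕ, ∃ z ∈ Z, s = s₁ ^ m * z := by
  haveI := k.base.normalZ
  have hle : S ≤ Subgroup.zpowers s₁ ⊔ Z :=
    k.S_le_of _ le_sup_right hs₁ hs₁Z (le_sup_left (a := Subgroup.zpowers s₁)
      (Subgroup.mem_zpowers s₁))
  intro s hs
  have h1 : s ∈ ((Subgroup.zpowers s₁ ⊔ Z : Subgroup P) : Set P) := hle hs
  rw [Subgroup.mul_normal] at h1
  obtain ⟨y, hy, z, hz, rfl⟩ := Set.mem_mul.1 h1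
  rw [SetLike.mem_coe, ← mem_powers_iff_mem_zpowers] at hy
  obtain ⟨m, rfl⟩ := hy
  exact ⟨m, z, hz, rfl⟩

/-- Every element of `Ω` is `w ^ m * s`. -/
theorem exists_pow_mul_S {w : P} (hw : w ∈ Ω) (hwS : w ∉ S) :
    ∀ ω ∈ Ω, ∃ m : ℕ, ∃ s ∈ S, ω = w ^ m * s := by
  haveI := k.Snormal
  have hle : Ω ≤ Subgroup.zpowers w ⊔ S :=
    k.Ω_le_of _ le_sup_right hw hwS (le_sup_left (a := Subgroup.zpowers w)
      (Subgroup.mem_zpowers w))
  intro ω hω
  have h1 : ω ∈ ((Subgroup.zpowers w ⊔ S : Subgroup P) : Set P) := hle hω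
  rw [Subgroup.mul_normal] at h1
  obtain ⟨y, hy, s, hs, rfl⟩ := Set.mem_mul.1 h1
  rw [SetLike.mem_coe, ← mem_powers_iff_mem_zpowers] at hy
  obtain ⟨m, rfl⟩ := hy
  exact ⟨m, s, hs, rfl⟩

end XCfg1

end Cfsg.Agent.Lib.Helper53
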