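import Mathlib
import Cfsg.Agent.Lib.Helper53.XCb
import Cfsg.Agent.Lib.Helper29.CyclicMax

set_option autoImplicit false
set_option linter.unusedSectionVars false
set_option linter.style.haveILetI false
set_option maxHeartbeats 1000000

/-!
The case where `P` acts nontrivially on `Ω / Z`, continued: the element `t`, the cyclic group
`C_P(Ω) = ⟨t ^ p⟩`, and the action of an automorphism on the sections.
-/

namespace Cfsg.Agent.Lib.Helper53

open scoped commutatorElement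
open Subgroup

variable {P : Type*} [Group P] [Finite P] {p : ℕ} [hpf : Fact p.Prime]

theorem xc_pow_of_dvd_sub_one {x : P} (hx : x ^ p = 1) (i : ℕ) (h : (p : ℤ) ∣ (i : ℤ) - 1) :
    x ^ i = x := by
  obtain ⟨c, hc⟩ := h
  have h1 : (i : ℤ) = p * c + 1 := by linarith
  rw [← zpow_natCast x i, h1, zpow_add, zpow_mul, zpow_natCast, hx, one_zpow, one_mul, zpow_one]

theorem xc_pow_of_dvd_add_one {x : P} (hx : x ^ p = 1) (i : ℕ) (h : (p : ℤ) ∣ (i : ℤ) + 1) :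
    x ^ i = x⁻¹ := by
  obtain ⟨c, hc⟩ := h
  have h1 : (i : ℤ) = p * c + (-1) := by linarith
  rw [← zpow_natCast x i, h1, zpow_add, zpow_mul, zpow_natCast, hx, one_zpow, one_mul,
    zpow_neg_one]

/-- The third configuration: `w ∈ Ω \ S` and `t ∈ C_P(S)` acting nontrivially on `Ω / Z`. -/
structure XCfg2 (p : ℕ) (Ω Z S : Subgroup P) (w t : P) : Prop where
  one : XCfg1 p Ω Z S
  hw : w ∈ Ω
  hwS : w ∉ S
  ht : ∀ s ∈ S, t * s = s * t
  htw : ⁅t, w⁆ ∉ Z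

namespace XCfg2

variable {Ω Z S : Subgroup P} {w t : P} (k2 : XCfg2 p Ω Z S w t)
include k2

theorem s1_mem : ⁅t, w⁆ ∈ S := k2.one.commS t w k2.hw

theorem t_not_mem : t ∉ Ω := fun h => k2.htw (k2.one.base.comm t h w k2.hw)

theorem commute_of_mem_centralizer {c x : P} (hc : c ∈ centralizer (Ω : Set P)) (hx : x ∈ Ω) :
    Commute c x := (Subgroup.mem_centralizer_iff.1 hc x hx).symm

/-- `p`-th powers of elements of `C_P(S)` centralize `Ω`. -/
theorem pow_mem_centralizer (t' : P) (ht' : ∀ s ∈ S, t' * s = s * t') :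
    t' ^ p ∈ centralizer (Ω : Set P) := by
  rw [Subgroup.mem_centralizer_iff]
  intro ω hω
  have hy : ⁅t'⁻¹, ω⁆ ∈ S := k2.one.commS _ ω hω
  have hc : Commute t' ⁅t'⁻¹, ω⁆ := ht' _ hy
  have hconj : ω * t' * ω⁻¹ = t' * ⁅t'⁻¹, ω⁆ := by
    rw [commutatorElement_def]; group
  have hpow : (t' * ⁅t'⁻¹, ω⁆) ^ p = t' ^ p := by
    rw [hc.mul_pow, k2.one.pow_eq_one_S hy, mul_one]
  have h1 : ω * t' ^ p * ω⁻¹ = t' ^ p := by
    rw [← conj_pow, hconj, hpow]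
  calc ω * t' ^ p = ω * t' ^ p * ω⁻¹ * ω := by group
    _ = t' ^ p * ω := by rw [h1]

/-- A generator of the cyclic group `C_P(Ω)`. -/
theorem exists_generator (hP : IsPGroup p P) (hp2 : p ≠ 2) :
    ∃ (c₀ : P) (n : ℕ), Subgroup.zpowers c₀ = centralizer (Ω : Set P) ∧ orderOf c₀ = p ^ n := by
  have hcyc := k2.one.base.isCyclic_centralizer hP hp2
  obtain ⟨g, hg⟩ := (isCyclic_iff_exists_zpowers_eq_top).1 hcyc
  obtain ⟨n, hn⟩ := (IsPGroup.iff_orderOf.1 hP) (g : P)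
  refine ⟨(g : P), n, ?_, hn⟩
  have := congrArg (Subgroup.map (centralizer (Ω : Set P)).subtype) hg
  rw [MonoidHom.map_zpowers, ← MonoidHom.range_eq_map, Subgroup.range_subtype] at this
  exact this

/-- Commutators between `C_P(S)` and `C_P(Ω)` lie in `Z`. -/
theorem comm_mem_Z (hP : IsPGroup p P) (hp2 : p ≠ 2) (t' : P)
    (ht' : ∀ s ∈ S, t' * s = s * t') {c : P} (hc : c ∈ centralizer (Ω : Set P)) :
    ⁅t', c⁆ ∈ Z := by
  haveI := k2.one.base.normalΩ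
  obtain ⟨c₀, n, hc₀, hn⟩ := k2.exists_generator hP hp2
  obtain ⟨s, hs1, hs2⟩ := Cfsg.Agent.Lib.Helper29.exists_cm_eq_zpow hpf.out hp2
    (centralizer (Ω : Set P)) c₀ hc₀ hn t' (k2.pow_mem_centralizer t' ht')
  rw [← k2.one.base.mem_centralizer_pow_iff]
  have e : ⁅t', c⁆ = c ^ ((p : ℤ) * s) := by
    rw [← hs1 c hc, Cfsg.Agent.Lib.Helper29.cm_def, commutatorElement_def]
  rw [e]
  refine ⟨Subgroup.zpow_mem _ hc _, ?_⟩
  rw [← zpow_natCast, ← zpow_mul, mul_comm]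
  exact hs2 c hc

/-- `C_P(S) = ⟨t⟩ S C_P(Ω)`. -/
theorem exists_decomp (hP : IsPGroup p P) (t' : P) (ht' : ∀ s ∈ S, t' * s = s * t') :
    ∃ m : ℕ, ∃ s ∈ S, ∃ c ∈ centralizer (Ω : Set P), t' = t ^ m * s * c := by
  haveI := k2.one.base.normalΩ
  have hs₁ := k2.s1_mem
  obtain ⟨m, z', hz', hm⟩ := k2.one.exists_pow_mul_Z hs₁ k2.htw _ (k2.one.commS t' w k2.hw)
  have hct : Commute ⁅t, w⁆ t := (k2.ht _ hs₁).symm
  have hpow : ∀ n : ℕ, ⁅t ^ n, w⁆ = ⁅t, w⁆ ^ n :=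
    fun n => Cfsg.Agent.Lib.Helper2.commutator_pow_left t w hct n
  obtain ⟨K, hK⟩ : ∃ K : ℕ, K = m * (p - 1) := ⟨_, rfl⟩
  have hu_comm : ∀ s ∈ S, (t' * t ^ K) * s = s * (t' * t ^ K) := by
    intro s hs
    have h1 : Commute t s := k2.ht s hs
    have h2 : Commute t' s := ht' s hs
    exact (h2.mul_left (h1.pow_left K)).eq
  have hh : Commute ⁅t ^ K, w⁆ t' := by
    rw [hpow]
    exact Commute.pow_left (show Commute ⁅t, w⁆ t' from (ht' _ hs₁).symm) K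
  have hKm : K + m = m * p := by
    have h1 : p - 1 + 1 = p := Nat.sub_add_cancel hpf.out.one_le
    calc K + m = m * (p - 1 + 1) := by rw [hK]; ring
      _ = m * p := by rw [h1]
  have hu_w : ⁅t' * t ^ K, w⁆ ∈ Z := by
    rw [xc_comm_mul_left t' (t ^ K) w hh, hpow, hm, ← mul_assoc, ← pow_add, hKm, pow_mul',
      k2.one.pow_eq_one_S hs₁, one_pow, one_mul]
    exact hz'
  have hall := k2.one.central_of _ hu_comm k2.hw k2.hwS hu_w
  obtain ⟨ω, hω, hωu⟩ := k2.one.base.exists_mul_centralizer hP _ hall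
  obtain ⟨c, hcdef⟩ : ∃ c : P, c = ω⁻¹ * (t' * t ^ K) := ⟨_, rfl⟩
  rw [← hcdef] at hωu
  have hωS : ω ∈ S := by
    apply k2.one.mem_S_of_commute hω
    intro s hs
    have h1 : Commute (t' * t ^ K) s := hu_comm s hs
    have h2 : Commute c s := k2.commute_of_mem_centralizer hωu (k2.one.SleΩ hs)
    have h3 : ω = (t' * t ^ K) * c⁻¹ := by rw [hcdef]; group
    rw [h3]
    exact (h1.mul_left h2.inv_left).eq
  -- the inverse of `t ^ K` as a power
  have hn0 : 0 < orderOf t := orderOf_pos t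
  obtain ⟨e, he⟩ : ∃ e : ℕ, e = orderOf t * K - K := ⟨_, rfl⟩
  have heK : e + K = orderOf t * K := by
    have : K ≤ orderOf t * K := Nat.le_mul_of_pos_left K hn0
    omega
  have hinv : (t ^ K)⁻¹ = t ^ e := by
    apply inv_eq_of_mul_eq_one_left
    rw [← pow_add, heK, pow_mul, pow_orderOf_eq_one, one_pow]
  have hωt : Commute ω (t ^ e) := (Commute.pow_left (show Commute t ω from k2.ht ω hωS) e).symm
  have hc' : (t ^ e)⁻¹ * c * t ^ e ∈ centralizer (Ω : Set P) := by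
    have := (inferInstance : (centralizer (Ω : Set P)).Normal).conj_mem c hωu (t ^ e)⁻¹
    simpa using this
  refine ⟨e, ω, hωS, _, hc', ?_⟩
  have e1 : t' = ω * (ω⁻¹ * (t' * t ^ K)) * (t ^ K)⁻¹ := by group
  rw [← hcdef, hinv] at e1
  have h3 : t ^ e * ω * ((t ^ e)⁻¹ * c * t ^ e) = (t ^ e * ω) * (t ^ e)⁻¹ * c * t ^ e := by group
  rw [h3, ← hωt.eq, e1]
  group

/-- `C_P(Ω) = ⟨t ^ p⟩`. -/
theorem exists_pow_tp (hP : IsPGroup p P) (hp2 : p ≠ 2) :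
    ∀ c ∈ centralizer (Ω : Set P), ∃ e : ℕ, c = (t ^ p) ^ e := by
  obtain ⟨c₀, n, hc₀, hn⟩ := k2.exists_generator hP hp2
  have htp : t ^ p ∈ centralizer (Ω : Set P) := k2.pow_mem_centralizer t k2.ht
  have htp' : t ^ p ∈ Subgroup.zpowers c₀ := by rw [hc₀]; exact htp
  have htp'' := htp'
  rw [← mem_powers_iff_mem_zpowers] at htp''
  obtain ⟨e₀, he₀⟩ := htp''
  by_cases hdvd : p ∣ e₀
  · exfalso
    obtain ⟨f, rfl⟩ := hdvd
    obtain ⟨c₁, hc₁def⟩ : ∃ c₁ : P, c₁ = c₀ ^ f := ⟨_, rfl⟩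
    have hc₁ : c₁ ∈ centralizer (Ω : Set P) := by
      rw [hc₁def, ← hc₀]
      exact Subgroup.pow_mem _ (Subgroup.mem_zpowers c₀) f
    have htc : t ^ p = c₁ ^ p := by
      rw [hc₁def]
      have : c₀ ^ (p * f) = (c₀ ^ f) ^ p := pow_mul' c₀ p f
      rw [← this]
      exact he₀.symm
    have hcomm : ⁅c₁⁻¹, t⁆ ∈ Z := by
      have h1 := k2.comm_mem_Z hP hp2 t k2.ht (Subgroup.inv_mem _ hc₁)
      rw [xc_comm_swap]
      exact Subgroup.inv_mem _ h1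
    have hmp := Cfsg.Agent.Lib.Helper2.mul_pow_prime_of_commutator_central hpf.out hp2 t c₁⁻¹
      (k2.one.base.commuteZ hcomm t) (k2.one.base.commuteZ hcomm c₁⁻¹)
      (k2.one.base.pow_eq_one (k2.one.base.ZleΩ hcomm))
    have h1 : (t * c₁⁻¹) ^ p = 1 := by rw [hmp, htc, inv_pow, mul_inv_cancel]
    have hΩ' : t * c₁⁻¹ ∈ Ω := (k2.one.base.memΩ _).2 h1
    have hcomS : ∀ s ∈ S, (t * c₁⁻¹) * s = s * (t * c₁⁻¹) := by
      intro s hs
      have h2 : Commute t s := k2.ht s hs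
      have h3 : Commute c₁ s := k2.commute_of_mem_centralizer hc₁ (k2.one.SleΩ hs)
      exact (h2.mul_left h3.inv_left).eq
    have hS' : t * c₁⁻¹ ∈ S := k2.one.mem_S_of_commute hΩ' hcomS
    apply k2.htw
    have ht_eq : t * c₁⁻¹ * c₁ = t := by group
    have hcw : ⁅c₁, w⁆ = 1 :=
      (xc_comm_eq_one_iff _ _).2 (k2.commute_of_mem_centralizer hc₁ k2.hw).eq
    have e : ⁅t, w⁆ = ⁅t * c₁⁻¹ * c₁, w⁆ := by rw [ht_eq]
    rw [e, xc_comm_mul_left _ _ _ (by rw [hcw]; exact Commute.one_left _), hcw, one_mul]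
    exact k2.one.base.comm _ hΩ' _ k2.hw
  · have hcop : (orderOf c₀).Coprime e₀ := by
      rw [hn]
      exact Nat.Coprime.pow_left n ((Nat.Prime.coprime_iff_not_dvd hpf.out).2 hdvd)
    have hord : orderOf (t ^ p) = orderOf c₀ := by
      rw [← he₀]; exact hcop.orderOf_pow
    have hle : Subgroup.zpowers (t ^ p) ≤ Subgroup.zpowers c₀ := by
      rw [Subgroup.zpowers_le]; exact htp'
    have heq : Subgroup.zpowers (t ^ p) = Subgroup.zpowers c₀ :=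
      Subgroup.eq_of_le_of_card_ge hle (by rw [Nat.card_zpowers, Nat.card_zpowers, hord])
    intro c hc
    rw [← hc₀, ← heq, ← mem_powers_iff_mem_zpowers] at hc
    obtain ⟨e, he⟩ := hc
    exact ⟨e, he.symm⟩

theorem aut_commS (a : MulAut P) {t' : P} (ht' : ∀ s ∈ S, t' * s = s * t') :
    ∀ s ∈ S, a t' * s = s * a t' := by
  intro s hs
  have hs' : a.symm s ∈ S := by
    rw [← k2.one.Saut a]; simpa using hs
  have := congrArg a (ht' _ hs')
  simpa using this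

theorem aut_memC (a : MulAut P) {c : P} (hc : c ∈ centralizer (Ω : Set P)) :
    a c ∈ centralizer (Ω : Set P) := by
  rw [Subgroup.mem_centralizer_iff] at hc ⊢
  intro ω hω
  have hω' : a.symm ω ∈ Ω := by
    rw [← k2.one.base.aut_memΩ a]; simpa using hω
  have := congrArg a (hc _ hω')
  simpa using this

/-- The action on `Z` is through the exponent `j` of the action on `C_P(S) / S C_P(Ω)`. -/
theorem key_Z (hP : IsPGroup p P) (hp2 : p ≠ 2) (a : MulAut P) {j : ℕ} {s' c' : P}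
    (hs' : s' ∈ S) (hc' : c' ∈ centralizer (Ω : Set P)) (hat : a t = t ^ j * s' * c') :
    ∀ z ∈ Z, a z = z ^ j := by
  have htp : t ^ p ∈ centralizer (Ω : Set P) := k2.pow_mem_centralizer t k2.ht
  obtain ⟨k, hk⟩ := k2.exists_pow_tp hP hp2 _ (k2.aut_memC a htp)
  obtain ⟨e, he⟩ := k2.exists_pow_tp hP hp2 _ hc'
  have h1 : (t ^ j * s' * c') ^ p = (t ^ j) ^ p * c' ^ p := by
    have hts : Commute (t ^ j) s' := Commute.pow_left (show Commute t s' from k2.ht s' hs') j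
    have hcs : Commute c' s' := k2.commute_of_mem_centralizer hc' (k2.one.SleΩ hs')
    have hrew : t ^ j * s' * c' = s' * (t ^ j * c') := by rw [hts.eq, mul_assoc]
    have hcomm2 : Commute s' (t ^ j * c') := (hts.symm).mul_right hcs.symm
    rw [hrew, hcomm2.mul_pow, k2.one.pow_eq_one_S hs', one_mul]
    have hZ : ⁅c', t ^ j⁆ ∈ Z := by
      have h2 := k2.comm_mem_Z hP hp2 (t ^ j)
        (fun s hs => (Commute.pow_left (show Commute t s from k2.ht s hs) j).eq) hc'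
      rw [xc_comm_swap]
      exact Subgroup.inv_mem _ h2
    exact Cfsg.Agent.Lib.Helper2.mul_pow_prime_of_commutator_central hpf.out hp2 (t ^ j) c'
      (k2.one.base.commuteZ hZ _) (k2.one.base.commuteZ hZ _)
      (k2.one.base.pow_eq_one (k2.one.base.ZleΩ hZ))
  have h2 : (t ^ p) ^ k = (t ^ p) ^ (j + e * p) := by
    rw [← hk, map_pow, hat, h1, pow_right_comm t j p, pow_add, pow_mul (t ^ p) e p, ← he]
  -- the order of `t ^ p`
  obtain ⟨n, hn⟩ := (IsPGroup.iff_orderOf.1 hP) (t ^ p)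
  have hn0 : n ≠ 0 := by
    intro h0
    rw [h0, pow_zero, orderOf_eq_one_iff] at hn
    exact k2.t_not_mem ((k2.one.base.memΩ t).2 hn)
  have h3 : k ≡ j + e * p [MOD p ^ n] := by
    rw [← hn]; exact pow_eq_pow_iff_modEq.1 h2
  have h4 : k % p = j % p := by
    have h5 : k ≡ j + e * p [MOD p] := h3.of_dvd (dvd_pow_self p hn0)
    have h6 : (j + e * p) % p = j % p := Nat.add_mul_mod_self_right j e p
    exact h5.trans h6
  intro z hz
  have hzC : z ∈ centralizer (Ω : Set P) := ((k2.one.base.mem_centralizer_pow_iff z).2 hz).1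
  have hzp : z ^ p = 1 := k2.one.base.pow_eq_one (k2.one.base.ZleΩ hz)
  obtain ⟨f, hf⟩ := k2.exists_pow_tp hP hp2 z hzC
  have e1 : a z = z ^ k := by
    rw [hf, map_pow, hk, pow_right_comm]
  rw [e1, pow_eq_pow_mod k hzp, pow_eq_pow_mod j hzp, h4]

/-- The action on `S / Z`. -/
theorem key_s1 (a : MulAut P) {i j : ℕ} {s s' c' : P} (hs : s ∈ S) (hs' : s' ∈ S)
    (hc' : c' ∈ centralizer (Ω : Set P)) (haw : a w = w ^ i * s)
    (hat : a t = t ^ j * s' * c') :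
    ∃ z' ∈ Z, a ⁅t, w⁆ = ⁅t, w⁆ ^ (i * j) * z' := by
  haveI := k2.one.base.normalZ
  have hcen : ∀ x ∈ S, ∀ q : P ⧸ Z, Commute (QuotientGroup.mk' Z x) q := by
    intro x hx q
    obtain ⟨g, rfl⟩ := QuotientGroup.mk'_surjective Z q
    have := k2.one.Scent x hx g
    rw [← mk'_eq_one_iff Z, map_commutatorElement, xc_comm_eq_one_iff] at this
    exact this.symm
  have hcomm1 : ∀ x ∈ S, ∀ q : P ⧸ Z, ⁅q, QuotientGroup.mk' Z x⁆ = 1 :=
    fun x hx q => (xc_comm_eq_one_iff _ _).2 (hcen x hx q).symm.eq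
  have hcomm2 : ∀ x ∈ S, ∀ q : P ⧸ Z, ⁅QuotientGroup.mk' Z x, q⁆ = 1 :=
    fun x hx q => (xc_comm_eq_one_iff _ _).2 (hcen x hx q).eq
  obtain ⟨π, hπ⟩ : ∃ π : P →* P ⧸ Z, π = QuotientGroup.mk' Z := ⟨_, rfl⟩
  rw [← hπ] at hcen hcomm1 hcomm2
  have hwi : w ^ i ∈ Ω := Subgroup.pow_mem _ k2.hw i
  have hc1 : ⁅π c', π (w ^ i)⁆ = 1 := by
    rw [← map_commutatorElement,
      (xc_comm_eq_one_iff c' (w ^ i)).2 (k2.commute_of_mem_centralizer hc' hwi).eq, map_one]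
  have key : π (a ⁅t, w⁆) = (π ⁅t, w⁆) ^ (i * j) := by
    have eA : ⁅π (t ^ j) * π s' * π c', π (w ^ i) * π s⁆ =
        ⁅π (t ^ j) * π s' * π c', π (w ^ i)⁆ := by
      rw [xc_comm_mul_right _ _ _ (by rw [hcomm1 s hs]; exact Commute.one_left _), hcomm1 s hs,
        mul_one]
    have eB : ⁅π (t ^ j) * π s' * π c', π (w ^ i)⁆ = ⁅π (t ^ j) * π s', π (w ^ i)⁆ := by
      rw [xc_comm_mul_left _ _ _ (by rw [hc1]; exact Commute.one_left _), hc1, one_mul]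
    have eC : ⁅π (t ^ j) * π s', π (w ^ i)⁆ = ⁅π (t ^ j), π (w ^ i)⁆ := by
      rw [xc_comm_mul_left _ _ _ (by rw [hcomm2 s' hs']; exact Commute.one_left _),
        hcomm2 s' hs', one_mul]
    have eD : ⁅π (t ^ j), π (w ^ i)⁆ = ⁅π t, π w⁆ ^ (i * j) := by
      rw [map_pow, map_pow]
      have hc2 : Commute ⁅π t, (π w) ^ i⁆ (π t) := by
        rw [← map_pow, ← map_commutatorElement]
        exact hcen _ (k2.one.commS t _ hwi) _
      have hc3 : Commute ⁅π t, π w⁆ (π w) := by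
        rw [← map_commutatorElement]
        exact hcen _ k2.s1_mem _
      rw [Cfsg.Agent.Lib.Helper2.commutator_pow_left _ _ hc2 j,
        Cfsg.Agent.Lib.Helper2.commutator_pow_right _ _ hc3 i, ← pow_mul]
    rw [map_commutatorElement, map_commutatorElement, haw, hat, map_mul, map_mul, map_mul, eA, eB,
      eC, eD, map_commutatorElement]
  refine ⟨(⁅t, w⁆ ^ (i * j))⁻¹ * a ⁅t, w⁆, ?_, by group⟩
  rw [← mk'_eq_one_iff Z, ← hπ, map_mul, map_inv, map_pow, key, inv_mul_cancel]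

/-- The action on `Z` computed through commutators. -/
theorem key_z1 (a : MulAut P) {i j : ℕ} {s z' : P} (hs : s ∈ S) (hz' : z' ∈ Z)
    (haw : a w = w ^ i * s) (has : a ⁅t, w⁆ = ⁅t, w⁆ ^ (i * j) * z') :
    a ⁅w, ⁅t, w⁆⁆ = ⁅w, ⁅t, w⁆⁆ ^ (i * (i * j)) := by
  have hs₁' := k2.s1_mem
  obtain ⟨s₁, hs₁def⟩ : ∃ s₁ : P, s₁ = ⁅t, w⁆ := ⟨_, rfl⟩
  rw [← hs₁def] at has hs₁' ⊢
  have hΩ := k2.one.SleΩ
  have hw := k2.hw
  have hcZ : ∀ u ∈ Ω, ∀ v ∈ Ω, ∀ g : P, Commute ⁅u, v⁆ g :=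
    fun u hu v hv g => k2.one.base.commuteZ (k2.one.base.comm u hu v hv) g
  have hY : s₁ ^ (i * j) * z' ∈ S :=
    Subgroup.mul_mem _ (Subgroup.pow_mem _ hs₁' _) (k2.one.ZleS hz')
  have hwi : w ^ i ∈ Ω := Subgroup.pow_mem _ hw i
  have e1 : ⁅w ^ i * s, s₁ ^ (i * j) * z'⁆ = ⁅w ^ i, s₁ ^ (i * j) * z'⁆ := by
    rw [xc_comm_mul_left _ _ _ (hcZ s (hΩ hs) _ (hΩ hY) _),
      (xc_comm_eq_one_iff s _).2 (k2.one.S_comm s hs _ hY), one_mul]
  have e2 : ⁅w ^ i, s₁ ^ (i * j) * z'⁆ = ⁅w ^ i, s₁ ^ (i * j)⁆ := by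
    have hz1 : ⁅w ^ i, z'⁆ = 1 := (xc_comm_eq_one_iff _ _).2 (k2.one.base.Zcent z' hz' (w ^ i))
    rw [xc_comm_mul_right _ _ _ (by rw [hz1]; exact Commute.one_left _), hz1, mul_one]
  have e3 : ⁅w ^ i, s₁ ^ (i * j)⁆ = ⁅w, s₁⁆ ^ (i * (i * j)) := by
    rw [Cfsg.Agent.Lib.Helper2.commutator_pow_left w (s₁ ^ (i * j))
        (hcZ w hw _ (hΩ (Subgroup.pow_mem _ hs₁' _)) w) i,
      Cfsg.Agent.Lib.Helper2.commutator_pow_right w s₁ (hcZ w hw s₁ (hΩ hs₁') s₁) (i * j),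
      ← pow_mul, mul_comm (i * j) i]
  rw [map_commutatorElement, haw, has, e1, e2, e3]

/-- The exponent `i` of the action on `Ω / S` is `±1`. -/
theorem i_cases (hP : IsPGroup p P) (hp2 : p ≠ 2) (a : MulAut P) {i j : ℕ} {s s' c' : P}
    (hs : s ∈ S) (hs' : s' ∈ S) (hc' : c' ∈ centralizer (Ω : Set P)) (haw : a w = w ^ i * s)
    (hat : a t = t ^ j * s' * c') :
    (p : ℤ) ∣ (i : ℤ) - 1 ∨ (p : ℤ) ∣ (i : ℤ) + 1 := by
  obtain ⟨z', hz', has⟩ := k2.key_s1 a hs hs' hc' haw hat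
  have h1 := k2.key_z1 a hs hz' haw has
  have hz₁ : ⁅w, ⁅t, w⁆⁆ ∈ Z := k2.one.base.comm w k2.hw _ (k2.one.SleΩ k2.s1_mem)
  have hz₁1 : ⁅w, ⁅t, w⁆⁆ ≠ 1 := k2.one.comm_ne_one k2.hw k2.hwS k2.s1_mem k2.htw
  have h2 := k2.key_Z hP hp2 a hs' hc' hat _ hz₁
  have hord := k2.one.base.orderOf_Z hz₁ hz₁1
  have hj : ¬ p ∣ j := by
    intro hd
    have h3 : ⁅w, ⁅t, w⁆⁆ ^ j = 1 := by
      rw [← hord] at hd; exact orderOf_dvd_iff_pow_eq_one.1 hd
    rw [h3] at h2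
    exact hz₁1 ((map_eq_one_iff a a.injective).1 h2)
  rw [h1] at h2
  have h3 : i * (i * j) ≡ j [MOD p] := by
    rw [← hord]; exact pow_eq_pow_iff_modEq.1 h2
  have h5 : (p : ℤ) ∣ (j : ℤ) - ((i : ℤ) * (i * j)) := by
    have := (Nat.modEq_iff_dvd.1 h3)
    push_cast at this
    exact this
  have h6 : (j : ℤ) - i * (i * j) = -(j * (((i : ℤ) - 1) * (i + 1))) := by ring
  rw [h6, dvd_neg] at h5
  have hpi : Prime (p : ℤ) := Nat.prime_iff_prime_int.1 hpf.out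
  rcases hpi.dvd_or_dvd h5 with h7 | h7
  · exact absurd (Int.natCast_dvd_natCast.1 h7) hj
  · exact hpi.dvd_or_dvd h7

/-- Inversion on `Ω / S` is impossible for an automorphism of odd order. -/
theorem minus_case (hp2 : p ≠ 2) (a : MulAut P) (hodd : Odd (orderOf a)) {s : P} (hs : s ∈ S)
    (haw : a w = w⁻¹ * s) : False := by
  haveI := k2.one.Snormal
  have hSa : ∀ (b : MulAut P) (x : P), x ∈ S → b x ∈ S := fun b x hx => (k2.one.Saut b x).2 hx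
  have h2 : ∃ s₂ ∈ S, (a ^ 2) w = w * s₂ := by
    refine ⟨(w⁻¹ * s⁻¹ * w) * a s, ?_, ?_⟩
    · apply Subgroup.mul_mem _ _ (hSa a s hs)
      have := (inferInstance : S.Normal).conj_mem s⁻¹ (Subgroup.inv_mem _ hs) w⁻¹
      simpa using this
    · rw [pow_two, MulAut.mul_apply, haw, map_mul, map_inv, haw]; group
  obtain ⟨s₂, hs₂, h2'⟩ := h2
  have hpow : ∀ m : ℕ, ∃ s₃ ∈ S, ((a ^ 2) ^ m) w = w * s₃ := by
    intro m
    induction m with
    | zero => exact ⟨1, Subgroup.one_mem _, by simp⟩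
    | succ m ih =>
      obtain ⟨s₃, hs₃, h3⟩ := ih
      refine ⟨s₂ * (a ^ 2) s₃, Subgroup.mul_mem _ hs₂ (hSa _ _ hs₃), ?_⟩
      rw [pow_succ', MulAut.mul_apply, h3, map_mul, h2', mul_assoc]
  obtain ⟨m, hm⟩ := hodd
  obtain ⟨s₃, hs₃, h3⟩ := hpow m
  have h4 : a (((a ^ 2) ^ m) w) = w := by
    rw [← MulAut.mul_apply, ← pow_mul, ← pow_succ', ← hm, pow_orderOf_eq_one]
    rfl
  rw [h3, map_mul, haw] at h4
  have h5 : w ^ 2 = s * a s₃ := by
    rw [pow_two]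
    calc w * w = w * (w⁻¹ * s * a s₃) := by rw [h4]
      _ = s * a s₃ := by group
  have h6 : w ^ 2 ∈ S := by
    rw [h5]; exact Subgroup.mul_mem _ hs (hSa a s₃ hs₃)
  obtain ⟨r, hr⟩ : ∃ r, p + 1 = 2 * r := by
    rcases hpf.out.eq_two_or_odd with h | h
    · exact absurd h hp2
    · exact ⟨(p + 1) / 2, by omega⟩
  have h7 : w = (w ^ 2) ^ r := by
    rw [← pow_mul, ← hr, pow_succ, k2.one.base.pow_eq_one k2.hw, one_mul]
  apply k2.hwS
  rw [h7]
  exact Subgroup.pow_mem _ h6 r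

/-- All `α y y⁻¹` lie in `C_P(S)`. -/
theorem final (hP : IsPGroup p P) (hp2 : p ≠ 2) (𝒜 : Subgroup (MulAut P))
    (hodd : Odd (Nat.card 𝒜)) :
    Subgroup.closure {x : P | ∃ α ∈ 𝒜, ∃ y : P, x = α y * y⁻¹} ≤ centralizer (S : Set P) := by
  haveI := k2.one.Snormal
  rw [Subgroup.closure_le]
  rintro _ ⟨α, hα, y, rfl⟩
  have hoddα : Odd (orderOf α) := by
    have h1 : orderOf (⟨α, hα⟩ : 𝒜) ∣ Nat.card 𝒜 := orderOf_dvd_natCard _
    have h2 : orderOf (⟨α, hα⟩ : 𝒜) = orderOf α := by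
      rw [← Subgroup.orderOf_coe]
    rw [h2] at h1
    exact Odd.of_dvd_nat hodd h1
  obtain ⟨i, s, hs, haw⟩ := k2.one.exists_pow_mul_S k2.hw k2.hwS (α w)
    ((k2.one.base.aut_memΩ α w).2 k2.hw)
  obtain ⟨j, s', hs', c', hc', hat⟩ := k2.exists_decomp hP (α t) (k2.aut_commS α k2.ht)
  have hwp : w ^ p = 1 := k2.one.base.pow_eq_one k2.hw
  have haw' : α w = w * s := by
    rcases k2.i_cases hP hp2 α hs hs' hc' haw hat with h | h
    · rw [haw, xc_pow_of_dvd_sub_one hwp i h]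
    · exfalso
      rw [xc_pow_of_dvd_add_one hwp i h] at haw
      exact k2.minus_case hp2 α hoddα hs haw
  obtain ⟨m, hm⟩ := k2.one.exists_pow_mul k2.hw k2.hwS y
  obtain ⟨u, hu⟩ : ∃ u : P, u = (w ^ m)⁻¹ * y := ⟨_, rfl⟩
  rw [← hu] at hm
  have hy : y = w ^ m * u := by rw [hu]; group
  have hmemT : ∀ x : P, (∀ s ∈ S, x * s = s * x) → x ∈ centralizer (S : Set P) := by
    intro x hx
    rw [Subgroup.mem_centralizer_iff]
    intro s hs
    exact (hx s hs).symm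
  have hsT : s ∈ centralizer (S : Set P) := hmemT s (fun s' hs' => k2.one.S_comm s hs s' hs')
  have huT : u ∈ centralizer (S : Set P) := hmemT u hm
  have hαuT : α u ∈ centralizer (S : Set P) := hmemT _ (k2.aut_commS α hm)
  rw [SetLike.mem_coe, ← mk'_eq_one_iff (centralizer (S : Set P)), hy]
  simp only [map_mul, map_pow, map_inv, mul_inv_rev]
  rw [haw', map_mul, (mk'_eq_one_iff (centralizer (S : Set P)) s).2 hsT,
    (mk'_eq_one_iff (centralizer (S : Set P)) u).2 huT,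
    (mk'_eq_one_iff (centralizer (S : Set P)) (α u)).2 hαuT]
  group

end XCfg2

/-- **Main theorem** (type level). -/
theorem xc_main (hP : IsPGroup p P) (hp2 : p ≠ 2) (Ω : Subgroup P)
    (hΩ : ∀ x : P, x ∈ Ω ↔ x ^ p = 1) (hcard : Nat.card Ω = p ^ 3)
    (hna : ∃ x ∈ Ω, ∃ y ∈ Ω, x * y ≠ y * x) (𝒜 : Subgroup (MulAut P))
    (hodd : Odd (Nat.card 𝒜))
    (hgen : Subgroup.closure {x : P | ∃ α ∈ 𝒜, ∃ y : P, x = α y * y⁻¹} = ⊤) :
    Ω ⊔ centralizer (Ω : Set P) = ⊤ ∧ IsCyclic ↥(centralizer (Ω : Set P)) ∧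
      (∀ x : P, (x ∈ centralizer (Ω : Set P) ∧ x ^ p = 1) ↔ x ∈ ⁅Ω, Ω⁆) := by
  have h := xcfg_of_nonabelian hP Ω hΩ hcard hna
  by_cases hc : ∀ g : P, ∀ w ∈ Ω, ⁅g, w⁆ ∈ Ω ⊓ centralizer (Ω : Set P)
  · exact h.structure_of_central hP hp2 hc
  · exfalso
    have hcase : ∃ g : P, ∃ ω ∈ Ω, ⁅g, ω⁆ ∉ Ω ⊓ centralizer (Ω : Set P) := by
      by_contra hcon
      apply hc
      intro g w hw
      by_contra hgw
      exact hcon ⟨g, w, hw, hgw⟩
    have k1 := h.xcfg1_of_noncentral hP hcase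
    obtain ⟨w, hw, hwS⟩ := k1.exists_Ω_not_S
    obtain ⟨t, ht, htw⟩ := k1.exists_t hcase hw hwS
    have k2 : XCfg2 p Ω _ _ w t := ⟨k1, hw, hwS, ht, htw⟩
    have hfin := k2.final hP hp2 𝒜 hodd
    rw [hgen] at hfin
    have hwT : w ∈ centralizer ((h.sOne : Subgroup P) : Set P) := hfin (Subgroup.mem_top w)
    rw [Subgroup.mem_centralizer_iff] at hwT
    exact hwS (k1.mem_S_of_commute hw (fun s hs => (hwT s hs).symm))

end Cfsg.Agent.Lib.Helper53
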