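import Mathlib
import Cfsg.Agent.Lib.Helper53.XCc
import Cfsg.Agent.Lib.Helper53.MetaAb3
import Cfsg.Agent.Lib.Helper32.Rank2Solv
import Cfsg.Agent.S0128
import Cfsg.Agent.S3771
import Cfsg.Agent.S0639

set_option autoImplicit false
set_option linter.unusedSectionVars false
set_option linter.style.haveILetI false
set_option maxHeartbeats 1000000

/-!
A `p`-group of rank at most two, `p > 3`, equal to its commutator with a `p'`-group of
automorphisms of odd order, is commutative or the central product of `Ω₁` (non-abelian of order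
`p ^ 3` and exponent `p`) with the cyclic group `C(Ω₁)`.
-/

namespace Cfsg.Agent.Lib.Helper53

open scoped commutatorElement
open Subgroup

universe u

theorem xc_rank_two_action {P : Type u} [Group P] [Finite P] {p : ℕ} [hpf : Fact p.Prime]
    (hp3 : 3 < p) (hP : IsPGroup p P) (hr : Cfsg.PRankLE p 2 P) (𝒜 : Subgroup (MulAut P))
    (hcop : (Nat.card 𝒜).Coprime p) (hodd : Odd (Nat.card 𝒜))
    (hgen : Subgroup.closure {x : P | ∃ α ∈ 𝒜, ∃ y : P, x = α y * y⁻¹} = ⊤) :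
    (∀ a b : P, a * b = b * a) ∨ ∃ Ω : Subgroup P, (∀ x : P, x ∈ Ω ↔ x ^ p = 1) ∧
      Nat.card Ω = p ^ 3 ∧ (∃ x ∈ Ω, ∃ y ∈ Ω, x * y ≠ y * x) ∧
      Ω ⊔ centralizer (Ω : Set P) = ⊤ ∧ IsCyclic ↥(centralizer (Ω : Set P)) ∧
      (∀ x : P, (x ∈ centralizer (Ω : Set P) ∧ x ^ p = 1) ↔ x ∈ ⁅Ω, Ω⁆) := by
  have hp2 : p ≠ 2 := by omega
  have hpp := hpf.out
  obtain ⟨Ω, hΩdef⟩ : ∃ Ω : Subgroup P, Ω = Subgroup.closure {x : P | x ^ p = 1} := ⟨_, rfl⟩
  have hrk' : ∀ E : Subgroup P, Cfsg.IsElementaryAbelian p E → Nat.card E ≤ p ^ 2 :=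
    fun E hE => hr E hE.1 hE.2
  have hΩ : ∀ x : P, x ∈ Ω ↔ x ^ p = 1 := by
    intro x
    constructor
    · intro hx
      rw [hΩdef] at hx
      exact Cfsg.Agent.S0128.result hp3 hP hrk' x hx
    · intro hx
      rw [hΩdef]
      exact Subgroup.subset_closure hx
  have hΩomega : Cfsg.omegaOne p (⊤ : Subgroup P) = Ω := by
    rw [hΩdef, Cfsg.omegaOne]
    congr 1
    ext x
    simp
  have hΩp : IsPGroup p Ω := hP.to_subgroup Ω
  have hcard3 : Nat.card Ω ≤ p ^ 3 := by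
    apply Cfsg.Agent.S3771.result hΩp
      (Cfsg.Agent.Lib.Helper32.Rank2.pRankLE_of_injective Ω.subtype Ω.subtype_injective hr)
    intro x
    apply Subtype.ext
    rw [Subgroup.coe_pow, Subgroup.coe_one]
    exact (hΩ x).1 x.2
  obtain ⟨k, hk⟩ := IsPGroup.iff_card.1 hΩp
  have hk3 : k ≤ 3 := by
    rw [hk] at hcard3
    exact (Nat.pow_le_pow_iff_right hpp.one_lt).1 hcard3
  rcases Nat.lt_or_ge k 3 with hlt | hge
  · left
    have hO : Nat.card ↥(Cfsg.omegaOne p (⊤ : Subgroup P)) ≤ p ^ 2 := by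
      rw [hΩomega, hk]
      exact Nat.pow_le_pow_right hpp.pos (by omega)
    have hm := Cfsg.Agent.S0639.result hp3 hP hO
    exact comm_of_metacyclic_action hp2 hP hm 𝒜 hcop hgen
  · right
    have hk3' : k = 3 := le_antisymm hk3 hge
    rw [hk3'] at hk
    have hna : ∃ x ∈ Ω, ∃ y ∈ Ω, x * y ≠ y * x := by
      by_contra hcon
      have hcomm : ∀ x ∈ Ω, ∀ y ∈ Ω, x * y = y * x := by
        intro x hx y hy
        by_contra hxy
        exact hcon ⟨x, hx, y, hy, hxy⟩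
      have hmc : IsMulCommutative Ω :=
        ⟨⟨fun a b => Subtype.ext (hcomm a a.2 b b.2)⟩⟩
      have := hr Ω hmc (fun a ha => (hΩ a).1 ha)
      rw [hk] at this
      have h2 : p ^ 2 < p ^ 3 := Nat.pow_lt_pow_right hpp.one_lt (by norm_num)
      omega
    obtain ⟨h1, h2, h3⟩ := xc_main hP hp2 Ω hΩ hk hna 𝒜 hodd hgen
    exact ⟨Ω, hΩ, hk, hna, h1, h2, h3⟩

end Cfsg.Agent.Lib.Helper53
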