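import Mathlib
import Cfsg.Agent.Lib.Helper53.UniqInv
import Cfsg.Agent.Lib.Helper53.NormalAbelian

/-!
A nonabelian finite 2-group with a unique involution has a cyclic subgroup of index two, every
element outside of which inverts it and squares to the involution (generalized quaternion).
-/

set_option autoImplicit false

namespace Cfsg.Agent.Lib.Helper53

section
variable {G : Type*} [Group G]

theorem exists_pow_sq_not_mem_fourth_mem [Finite G] (hG : IsPGroup 2 G) (H : Subgroup G) {g : G}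
    (hg : g * g ∉ H) : ∃ e : G, e * e ∉ H ∧ (e * e) * (e * e) ∈ H := by
  obtain ⟨i, hi1, hi2⟩ := exists_pow_not_mem_sq_mem hG H hg
  have : (g * g) ^ i = g ^ i * g ^ i := (Commute.refl g).mul_pow i
  rw [this] at hi1 hi2
  exact ⟨g ^ i, hi1, hi2⟩

/-- A nonabelian finite 2-group with a unique involution has a cyclic subgroup of index two. -/
theorem ui_exists_cyclic_index_two [Finite G] (hG : IsPGroup 2 G) {z : G} (hz : orderOf z = 2)
    (hu : ∀ t : G, orderOf t = 2 → t = z) (hna : ∃ x y : G, x * y ≠ y * x) :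
    ∃ a : G, (Subgroup.zpowers a).index = 2 := by
  classical
  have : Fact (Nat.Prime 2) := ⟨Nat.prime_two⟩
  have hzz : z * z = 1 := ui_z_sq hz
  have hz1 : z ≠ 1 := ui_z_ne_one hz
  have hzc : ∀ g : G, g * z = z * g := ui_central hz hu
  -- maximal normal abelian subgroup containing z
  have hA₀n : (Subgroup.zpowers z).Normal := by
    refine ⟨fun y hy g => ?_⟩
    obtain ⟨i, rfl⟩ := Subgroup.mem_zpowers_iff.1 hy
    have : g * z ^ i * g⁻¹ = z ^ i := by
      have hc : Commute g (z ^ i) := Commute.zpow_right (hzc g) i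
      rw [hc.eq]; group
    rw [this]
    exact Subgroup.zpow_mem _ (Subgroup.mem_zpowers z) i
  obtain ⟨A, hzA, hAn, hAc, hAmax⟩ := exists_max_normal_abelian (Subgroup.zpowers z) hA₀n
    (fun x hx y hy => zpowers_comm hx hy)
  have hCA : Subgroup.centralizer (A : Set G) = A :=
    centralizer_eq_of_max_normal_abelian hG A hAc hAmax
  have hzmemA : z ∈ A := hzA (Subgroup.mem_zpowers z)
  -- A is cyclic
  have hAcyc : IsCyclic ↥A := by
    apply ui_isCyclic_of_comm (hG.to_subgroup A) (z := ⟨z, hzmemA⟩)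
    · intro t ht
      apply Subtype.ext
      apply hu
      rw [← Subgroup.orderOf_coe] at ht
      exact ht
    · intro x y
      apply Subtype.ext
      exact hAc x x.2 y y.2
  obtain ⟨g₀, hg₀⟩ := hAcyc.exists_generator
  set a : G := (g₀ : G) with ha_def
  have hAeq : A = Subgroup.zpowers a := by
    apply le_antisymm
    · intro x hx
      obtain ⟨k, hk⟩ := Subgroup.mem_zpowers_iff.1 (hg₀ ⟨x, hx⟩)
      rw [Subgroup.mem_zpowers_iff]
      refine ⟨k, ?_⟩
      have := congrArg Subtype.val hk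
      simpa using this
    · rw [Subgroup.zpowers_le]; exact g₀.2
  -- everything commuting with a is in M
  have hMn : (Subgroup.zpowers a).Normal := hAeq ▸ hAn
  have hcentM : ∀ g : G, g * a = a * g → g ∈ Subgroup.zpowers a := by
    intro g hg
    rw [← hAeq, ← hCA, Subgroup.mem_centralizer_iff]
    intro y hy
    rw [SetLike.mem_coe, hAeq] at hy
    obtain ⟨i, rfl⟩ := Subgroup.mem_zpowers_iff.1 hy
    exact ((Commute.zpow_right (show Commute g a from hg) i).eq).symm
  have hzM : z ∈ Subgroup.zpowers a := hAeq ▸ hzmemA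
  have haM : a ∈ Subgroup.zpowers a := Subgroup.mem_zpowers a
  -- M ≠ ⊤
  obtain ⟨x₀, y₀, hxy⟩ := hna
  have hMtop : ∃ g : G, g ∉ Subgroup.zpowers a := by
    by_contra hcon
    simp only [not_exists, not_not] at hcon
    exact hxy (zpowers_comm (hcon x₀) (hcon y₀))
  -- elements outside M with square in M invert a
  have hinv : ∀ h : G, h ∉ Subgroup.zpowers a → h * h ∈ Subgroup.zpowers a →
      h * a * h⁻¹ = a⁻¹ := by
    intro h hh hhh
    have hnc : a * h ≠ h * a := fun hc => hh (hcentM h hc.symm)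
    exact (ui_invert hG hz hu hh hhh (hMn.conj_mem a haM h) hnc).2
  have hinv' : ∀ h : G, h * a * h⁻¹ = a⁻¹ → ∀ x ∈ Subgroup.zpowers a, h * x * h⁻¹ = x⁻¹ := by
    intro h hh x hx
    obtain ⟨i, rfl⟩ := Subgroup.mem_zpowers_iff.1 hx
    have : h * a ^ i * h⁻¹ = (h * a * h⁻¹) ^ i := (conj_zpow (a := h) (b := a) (i := i)).symm
    rw [this, hh, inv_zpow]
  -- no element with g*g ∉ M
  have hsqM : ∀ g : G, g * g ∈ Subgroup.zpowers a := by
    intro g
    by_contra hgg
    obtain ⟨e, he1, he2⟩ := exists_pow_sq_not_mem_fourth_mem hG (Subgroup.zpowers a) hgg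
    have hf := hinv' (e * e) (hinv (e * e) he1 he2)
    -- a is not 1 or z
    have ha1 : a ≠ 1 := by
      intro h1
      rw [h1] at hzM
      have : z = 1 := by
        obtain ⟨i, hi⟩ := Subgroup.mem_zpowers_iff.1 hzM
        rw [one_zpow] at hi
        exact hi.symm
      exact hz1 this
    have haz : a ≠ z := by
      intro h1
      apply he1
      apply hcentM
      rw [h1]
      exact hzc (e * e)
    -- a₄ with a₄ * a₄ = z
    obtain ⟨n, hn⟩ := exists_npow_eq_of_mem_zpowers hzM
    have hneven : Even n := by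
      rcases Nat.even_or_odd n with h | h
      · exact h
      · exfalso
        have h1 := mem_zpowers_pow_of_odd hG a h
        rw [hn] at h1
        obtain ⟨m, hm⟩ := exists_npow_eq_of_mem_zpowers h1
        rcases Nat.even_or_odd m with ⟨m', hm'⟩ | ⟨m', hm'⟩
        · apply ha1
          rw [← hm, hm', ← two_mul, pow_mul, pow_two, hzz, one_pow]
        · apply haz
          rw [← hm, hm', pow_succ, pow_mul, pow_two, hzz, one_pow, one_mul]
    obtain ⟨n', hn'⟩ := hneven
    set a₄ := a ^ n' with ha₄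
    have ha₄M : a₄ ∈ Subgroup.zpowers a := Subgroup.pow_mem _ haM _
    have ha₄sq : a₄ * a₄ = z := by rw [ha₄, ← pow_add, ← hn', hn]
    set w := e * a₄ * e⁻¹ with hw
    have hwM : w ∈ Subgroup.zpowers a := hMn.conj_mem a₄ ha₄M e
    have hwsq : w * w = z := by
      calc w * w = e * (a₄ * a₄) * e⁻¹ := by rw [hw]; group
        _ = z := by rw [ha₄sq, hzc e]; group
    have hwa : Commute w a₄⁻¹ := zpowers_comm hwM (Subgroup.inv_mem _ ha₄M)
    have hsq1 : (w * a₄⁻¹) * (w * a₄⁻¹) = 1 := by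
      rw [hwa.symm.mul_mul_mul_comm w a₄⁻¹, hwsq, ← mul_inv_rev, ha₄sq, mul_inv_cancel]
    -- conjugating a₄ by e * e gives a₄ in both cases
    have hff : (e * e) * a₄ * (e * e)⁻¹ = a₄ := by
      rcases ui_sq_eq_one hu hsq1 with h | h
      · have hw1 : w = a₄ := by rw [mul_inv_eq_one] at h; exact h
        have hea : e * a₄ * e⁻¹ = a₄ := hw.symm.trans hw1
        calc (e * e) * a₄ * (e * e)⁻¹ = e * (e * a₄ * e⁻¹) * e⁻¹ := by group
          _ = a₄ := by rw [hea, hea]
      · have hw1 : w = a₄⁻¹ := by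
          have h2 : w = z * a₄ := by rw [← h]; group
          apply eq_inv_of_mul_eq_one_left
          rw [h2, mul_assoc, ha₄sq, hzz]
        have hea : e * a₄ * e⁻¹ = a₄⁻¹ := hw.symm.trans hw1
        calc (e * e) * a₄ * (e * e)⁻¹ = e * (e * a₄ * e⁻¹) * e⁻¹ := by group
          _ = e * a₄⁻¹ * e⁻¹ := by rw [hea]
          _ = (e * a₄ * e⁻¹)⁻¹ := by group
          _ = a₄ := by rw [hea, inv_inv]
    have h3 := hf a₄ ha₄M
    rw [hff] at h3
    -- a₄ = a₄⁻¹ so a₄ * a₄ = 1
    have : a₄ * a₄ = 1 := by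
      nth_rewrite 2 [h3]
      exact mul_inv_cancel a₄
    rw [ha₄sq] at this
    exact hz1 this
  obtain ⟨h, hh⟩ := hMtop
  have hhinv := hinv h hh (hsqM h)
  refine ⟨a, Subgroup.index_eq_two_iff.2 ⟨h⁻¹, fun b => ?_⟩⟩
  by_cases hb : b ∈ Subgroup.zpowers a
  · refine Or.inr ⟨hb, ?_⟩
    intro hbh
    apply hh
    have : h = (b * h⁻¹)⁻¹ * b := by group
    rw [this]
    exact Subgroup.mul_mem _ (Subgroup.inv_mem _ hbh) hb
  · refine Or.inl ⟨?_, hb⟩
    apply hcentM
    have hbinv := hinv b hb (hsqM b)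
    -- b h⁻¹ commutes with a
    have h1 : h⁻¹ * a * h = a⁻¹ := by
      have : a = h⁻¹ * (h * a * h⁻¹) * h := by group
      rw [hhinv] at this
      calc h⁻¹ * a * h = (h⁻¹ * a⁻¹ * h)⁻¹ := by group
        _ = a⁻¹ := by rw [← this]
    calc b * h⁻¹ * a = b * (h⁻¹ * a * h) * h⁻¹ := by group
      _ = b * a⁻¹ * h⁻¹ := by rw [h1]
      _ = (b * a * b⁻¹)⁻¹ * b * h⁻¹ := by group
      _ = a * (b * h⁻¹) := by rw [hbinv, inv_inv]; group

/-- Structure relative to any cyclic subgroup of index two. -/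
theorem ui_struct [Finite G] (hG : IsPGroup 2 G) {z : G} (hz : orderOf z = 2)
    (hu : ∀ t : G, orderOf t = 2 → t = z) (hna : ∃ x y : G, x * y ≠ y * x) {a b : G}
    (hidx : (Subgroup.zpowers a).index = 2) (hb : b ∉ Subgroup.zpowers a) :
    b * b = z ∧ b * a * b⁻¹ = a⁻¹ := by
  have hMn : (Subgroup.zpowers a).Normal := Subgroup.normal_of_index_eq_two hidx
  have haM : a ∈ Subgroup.zpowers a := Subgroup.mem_zpowers a
  refine ui_invert hG hz hu hb (Subgroup.mul_self_mem_of_index_two hidx b)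
    (hMn.conj_mem a haM b) ?_
  intro hab
  obtain ⟨x, y, hxy⟩ := hna
  apply hxy
  -- every element is m or m * b with m ∈ M; all commute
  have hform : ∀ g : G, ∃ m ∈ Subgroup.zpowers a, g = m ∨ g = m * b := by
    intro g
    by_cases hg : g ∈ Subgroup.zpowers a
    · exact ⟨g, hg, Or.inl rfl⟩
    · refine ⟨g * b⁻¹, ?_, Or.inr (by group)⟩
      have := (Subgroup.mul_mem_iff_of_index_two hidx (a := g) (b := b⁻¹)).2
        ⟨fun h => absurd h hg, fun h => absurd (by simpa using Subgroup.inv_mem _ h) hb⟩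
      exact this
  have hmb : ∀ m ∈ Subgroup.zpowers a, Commute m b := by
    intro m hm
    obtain ⟨i, rfl⟩ := Subgroup.mem_zpowers_iff.1 hm
    exact Commute.zpow_left (show Commute a b from hab) i
  obtain ⟨m₁, hm₁, h₁⟩ := hform x
  obtain ⟨m₂, hm₂, h₂⟩ := hform y
  have c12 : Commute m₁ m₂ := zpowers_comm hm₁ hm₂
  have c1 := hmb m₁ hm₁
  have c2 := hmb m₂ hm₂
  rcases h₁ with rfl | rfl <;> rcases h₂ with rfl | rfl
  · exact c12.eq
  · exact (c12.mul_right c1).eq
  · exact (c12.mul_left c2.symm).eq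
  · exact ((c12.mul_left c2.symm).mul_right (c1.mul_left (Commute.refl b))).eq

end

end Cfsg.Agent.Lib.Helper53
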