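import Mathlib
import Cfsg.Prelude.Def_Local
import Cfsg.Agent.Lib.Helper76.PSolvable
import Cfsg.Agent.Lib.Helper1.Hall

set_option autoImplicit false
set_option linter.style.haveILetI false

/-!
# Finite solvable groups are `p`-solvable (`Cfsg.IsPSolvable`)

* `isPSolvable_of_normal_quotient` : extension of the chain through a normal `p`- or `p'`-subgroup.
* `isPSolvable_of_isSolvable`.
-/

namespace Cfsg.Agent.Lib.Helper53

open Cfsg Cfsg.Agent.Lib.Helper76

universe u

theorem isPSolvable_of_normal_quotient {G : Type*} [Group G] {p : ℕ}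
    (M : Subgroup G) [M.Normal] (hM : PFactor p (Nat.card M))
    (hQ : IsPSolvable p (G ⧸ M)) : IsPSolvable p G := by
  obtain ⟨n, K, h0, hl, hmono, hnorm, hfac⟩ := isPSolvable_iff.1 hQ
  have hsurj := QuotientGroup.mk'_surjective M
  let H : Fin (n + 2) → Subgroup G :=
    fun i => Fin.cases ⊥ (fun i => (K i).comap (QuotientGroup.mk' M)) i
  have hH0 : H 0 = ⊥ := rfl
  have hHs : ∀ i : Fin (n + 1), H i.succ = (K i).comap (QuotientGroup.mk' M) := fun i => rfl
  refine isPSolvable_iff.2 ⟨n + 1, H, hH0, ?_, ?_, ?_, ?_⟩
  · have : Fin.last (n + 1) = (Fin.last n).succ := rfl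
    rw [this, hHs, hl, Subgroup.comap_top]
  · intro i j hij
    induction i using Fin.cases with
    | zero => rw [hH0]; exact bot_le
    | succ i =>
      induction j using Fin.cases with
      | zero => exact absurd hij (by simp)
      | succ j =>
        rw [hHs, hHs]
        exact Subgroup.comap_mono (hmono (Fin.succ_le_succ_iff.1 hij))
  · intro i
    induction i using Fin.cases with
    | zero => rw [hH0]; infer_instance
    | succ i =>
      rw [hHs]
      have := hnorm i
      infer_instance
  · intro i
    induction i using Fin.cases with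
    | zero =>
      have h1 : (Fin.castSucc (0 : Fin (n + 1))) = 0 := rfl
      have h2 : (⊥ : Subgroup (G ⧸ M)).comap (QuotientGroup.mk' M) = M := by
        rw [MonoidHom.comap_bot, QuotientGroup.ker_mk']
      rw [h1, hH0, hHs, h0, h2, Subgroup.relIndex_bot_left]
      exact hM
    | succ i =>
      have h1 : (Fin.castSucc i.succ) = (Fin.castSucc i).succ := rfl
      rw [h1, hHs, hHs, Subgroup.relIndex_comap,
        Subgroup.map_comap_eq_self_of_surjective hsurj]
      exact hfac i

theorem isPSolvable_of_isSolvable_aux (p : ℕ) [Fact p.Prime] :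
    ∀ (n : ℕ) (G : Type u) [Group G] [Finite G], Nat.card G = n → Group.IsSolvable G →
      IsPSolvable p G := by
  intro n
  induction n using Nat.strong_induction_on with
  | _ n ih =>
  intro G _ _ hn hs
  by_cases h1 : Nat.card G = 1
  · refine isPSolvable_iff.2 ⟨0, fun _ => ⊥, rfl, ?_, fun _ _ _ => le_rfl, fun _ => inferInstance,
      fun i => i.elim0⟩
    haveI : Subsingleton G := (Nat.card_eq_one_iff_unique.1 h1).1
    exact Subsingleton.elim _ _
  · obtain ⟨q, M, hq, hMn, hMne, -, hMq⟩ := Cfsg.Agent.Lib.Helper1.exists_normal_pgroup hs h1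
    haveI := hMn
    haveI : Fact q.Prime := ⟨hq⟩
    have hcardM : 1 < Nat.card M := by
      rw [Subgroup.one_lt_card_iff_ne_bot]; exact hMne
    have hlt : Nat.card (G ⧸ M) < n := by
      have h2 : Nat.card (G ⧸ M) * Nat.card M = Nat.card G := by
        rw [← Subgroup.index_eq_card, mul_comm]; exact M.card_mul_index
      have hpos : 0 < Nat.card (G ⧸ M) := Nat.card_pos
      rw [← hn, ← h2]
      nlinarith
    have hQ : IsPSolvable p (G ⧸ M) := ih _ hlt (G ⧸ M) rfl inferInstance
    refine isPSolvable_of_normal_quotient M ?_ hQ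
    obtain ⟨a, ha⟩ := IsPGroup.iff_card.1 hMq
    rw [ha]
    by_cases hqp : q = p
    · left; exact ⟨a, by rw [hqp]⟩
    · right
      apply Nat.Coprime.pow_left
      exact (Nat.coprime_primes hq (Fact.out : p.Prime)).2 hqp

/-- A finite solvable group is `p`-solvable. -/
theorem isPSolvable_of_isSolvable (p : ℕ) [Fact p.Prime] {G : Type u} [Group G] [Finite G]
    (hs : Group.IsSolvable G) : IsPSolvable p G :=
  isPSolvable_of_isSolvable_aux p _ G rfl hs

end Cfsg.Agent.Lib.Helper53
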