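import Mathlib

/-!
Elements of square `1` and `-1` in `SL₂(F)` for a finite field `F` of odd cardinality.
-/

set_option autoImplicit false

namespace Cfsg.Agent.Lib.Helper53

open Matrix

section
variable {F : Type*} [Field F] [Fintype F]

/-- In a finite field of odd cardinality, `2 ≠ 0`. -/
theorem two_ne_zero_of_odd_card_field (hF : Odd (Fintype.card F)) : (2 : F) ≠ 0 := by
  intro h2
  obtain ⟨p, hp⟩ := CharP.exists F
  have : Fact p.Prime := ⟨CharP.char_is_prime F p⟩
  have hp2 : p = 2 := by
    have : ((2 : ℕ) : F) = 0 := by exact_mod_cast h2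
    have hd := (CharP.cast_eq_zero_iff F p 2).1 this
    exact (Nat.prime_dvd_prime_iff_eq (Fact.out) Nat.prime_two).1 hd
  subst hp2
  obtain ⟨n, -, hn⟩ := FiniteField.card F 2
  rw [hn] at hF
  have : Even (2 ^ (n : ℕ)) := by
    apply Nat.even_pow.2
    exact ⟨even_two, n.ne_zero⟩
  exact (Nat.not_even_iff_odd.2 hF) this

/-- sums of two squares represent everything in a finite field of odd cardinality. -/
theorem exists_sq_add_sq_of_odd_card (hF : Odd (Fintype.card F)) (x : F) :
    ∃ a b : F, a ^ 2 + b ^ 2 = x := by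
  classical
  let f : Polynomial F := Polynomial.X ^ 2
  let g : Polynomial F := Polynomial.X ^ 2 - Polynomial.C x
  obtain ⟨a, b, hab⟩ : ∃ a b, f.eval a + g.eval b = 0 :=
    FiniteField.exists_root_sum_quadratic (f := f) (g := g) (Polynomial.degree_X_pow 2)
      (Polynomial.degree_X_pow_sub_C (by decide) _) (Nat.odd_iff.1 hF)
  refine ⟨a, b, ?_⟩
  rw [← sub_eq_zero]
  simpa only [f, g, Polynomial.eval_C, Polynomial.eval_X, Polynomial.eval_pow,
    Polynomial.eval_sub, ← add_sub_assoc] using hab

/-- The standard element of order four of `SL₂`. -/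
def sl2w (F : Type*) [Field F] : SpecialLinearGroup (Fin 2) F :=
  ⟨!![0, -1; 1, 0], by simp [Matrix.det_fin_two]⟩

theorem sl2w_sq (F : Type*) [Field F] : sl2w F * sl2w F = -1 := by
  ext i j
  rw [Matrix.SpecialLinearGroup.coe_mul]
  fin_cases i <;> fin_cases j <;> simp [sl2w, Matrix.mul_apply, Fin.sum_univ_two]

/-- `A ∈ SL₂(F)`, `A² = 1` implies `A = ± 1`. -/
theorem sl2_sq_eq_one (hF : Odd (Fintype.card F)) (A : SpecialLinearGroup (Fin 2) F)
    (hA : A * A = 1) : A = 1 ∨ A = -1 := by
  have h2 : (2 : F) ≠ 0 := two_ne_zero_of_odd_card_field hF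
  have hM : A.1.det = 1 := A.2
  have hmul : A.1 * A.1 = 1 := by
    have := congrArg Subtype.val hA
    rw [Matrix.SpecialLinearGroup.coe_mul] at this
    simpa using this
  set M := A.1 with hMdef
  have hdet : M 0 0 * M 1 1 - M 0 1 * M 1 0 = 1 := by
    rw [← Matrix.det_fin_two]; exact hM
  have e00 : M 0 0 * M 0 0 + M 0 1 * M 1 0 = 1 := by
    have := congrFun (congrFun hmul 0) 0
    simpa [Matrix.mul_apply, Fin.sum_univ_two] using this
  have e01 : M 0 0 * M 0 1 + M 0 1 * M 1 1 = 0 := by
    have := congrFun (congrFun hmul 0) 1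
    simpa [Matrix.mul_apply, Fin.sum_univ_two] using this
  have e10 : M 1 0 * M 0 0 + M 1 1 * M 1 0 = 0 := by
    have := congrFun (congrFun hmul 1) 0
    simpa [Matrix.mul_apply, Fin.sum_univ_two] using this
  have e11 : M 1 0 * M 0 1 + M 1 1 * M 1 1 = 1 := by
    have := congrFun (congrFun hmul 1) 1
    simpa [Matrix.mul_apply, Fin.sum_univ_two] using this
  -- a(a - d) = ... ; we get a^2 + bc = 1 and ad - bc = 1 so a(a+d) = 2
  have hs : M 0 0 + M 1 1 ≠ 0 := by
    intro h0
    have : M 1 1 = - M 0 0 := by linear_combination h0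
    rw [this] at hdet
    have : (2 : F) = 0 := by linear_combination -e00 - hdet
    exact h2 this
  have hb : M 0 1 = 0 := by
    have : M 0 1 * (M 0 0 + M 1 1) = 0 := by linear_combination e01
    rcases mul_eq_zero.1 this with h | h
    · exact h
    · exact absurd h hs
  have hc : M 1 0 = 0 := by
    have : M 1 0 * (M 0 0 + M 1 1) = 0 := by linear_combination e10
    rcases mul_eq_zero.1 this with h | h
    · exact h
    · exact absurd h hs
  rw [hb] at e00 hdet
  rw [hc] at e11
  have haa : (M 0 0 - 1) * (M 0 0 + 1) = 0 := by linear_combination e00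
  have hdd : M 1 1 = M 0 0 := by
    have h1 : M 0 0 * (M 1 1 - M 0 0) = 0 := by linear_combination hdet - e00
    rcases mul_eq_zero.1 h1 with h | h
    · rw [h] at e00; simp at e00
    · linear_combination h
  rcases mul_eq_zero.1 haa with h | h
  · left
    ext i j
    have ha : M 0 0 = 1 := by linear_combination h
    fin_cases i <;> fin_cases j <;> simp [← hMdef, hb, hc, ha, hdd]
  · right
    ext i j
    have ha : M 0 0 = -1 := by linear_combination h
    fin_cases i <;> fin_cases j <;> simp [← hMdef, hb, hc, ha, hdd]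

/-- `A ∈ SL₂(F)`, `A² = -1` implies `A` is conjugate to the standard element `w`. -/
theorem sl2_sq_eq_neg_one (hF : Odd (Fintype.card F)) (A : SpecialLinearGroup (Fin 2) F)
    (hA : A * A = -1) : ∃ g : SpecialLinearGroup (Fin 2) F, g * sl2w F * g⁻¹ = A := by
  have h2 : (2 : F) ≠ 0 := two_ne_zero_of_odd_card_field hF
  have hM : A.1.det = 1 := A.2
  have hmul : A.1 * A.1 = -1 := by
    have := congrArg Subtype.val hA
    rw [Matrix.SpecialLinearGroup.coe_mul] at this
    simpa using this
  set M := A.1 with hMdef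
  have hdet : M 0 0 * M 1 1 - M 0 1 * M 1 0 = 1 := by
    rw [← Matrix.det_fin_two]; exact hM
  have e00 : M 0 0 * M 0 0 + M 0 1 * M 1 0 = -1 := by
    have := congrFun (congrFun hmul 0) 0
    simpa [Matrix.mul_apply, Fin.sum_univ_two] using this
  have e01 : M 0 0 * M 0 1 + M 0 1 * M 1 1 = 0 := by
    have := congrFun (congrFun hmul 0) 1
    simpa [Matrix.mul_apply, Fin.sum_univ_two] using this
  have e10 : M 1 0 * M 0 0 + M 1 1 * M 1 0 = 0 := by
    have := congrFun (congrFun hmul 1) 0
    simpa [Matrix.mul_apply, Fin.sum_univ_two] using this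
  have e11 : M 1 0 * M 0 1 + M 1 1 * M 1 1 = -1 := by
    have := congrFun (congrFun hmul 1) 1
    simpa [Matrix.mul_apply, Fin.sum_univ_two] using this
  -- trace zero
  have htr : M 1 1 = - M 0 0 := by
    by_contra hne
    have hs : M 0 0 + M 1 1 ≠ 0 := by
      intro h0; apply hne; linear_combination h0
    have ha : M 0 0 = 0 := by
      have : M 0 0 * (M 0 0 + M 1 1) = 0 := by linear_combination e00 + hdet
      rcases mul_eq_zero.1 this with h | h
      · exact h
      · exact absurd h hs
    have hb : M 0 1 = 0 := by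
      have : M 0 1 * (M 0 0 + M 1 1) = 0 := by linear_combination e01
      rcases mul_eq_zero.1 this with h | h
      · exact h
      · exact absurd h hs
    rw [ha, hb] at hdet
    simp at hdet
  set a := M 0 0 with ha
  set b := M 0 1 with hb
  set c := M 1 0 with hc
  have hq : a * a + b * c = -1 := e00
  -- find v with c v₁² - 2 a v₁ v₂ - b v₂² = 1
  have hv : ∃ v₁ v₂ : F, c * v₁ ^ 2 - 2 * a * v₁ * v₂ - b * v₂ ^ 2 = 1 := by
    by_cases hc0 : c = 0
    · have ha0 : a ≠ 0 := by
        intro h
        rw [h, hc0] at hq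
        simp at hq
      refine ⟨-(1 + b) / (2 * a), 1, ?_⟩
      rw [hc0]
      field_simp
      ring
    · obtain ⟨X, Y, hXY⟩ := exists_sq_add_sq_of_odd_card hF c
      refine ⟨(X + a * Y) / c, Y, ?_⟩
      field_simp
      linear_combination hXY - Y ^ 2 * hq
  obtain ⟨v₁, v₂, hv⟩ := hv
  have hgdet : (!![v₁, a * v₁ + b * v₂; v₂, c * v₁ - a * v₂] : Matrix (Fin 2) (Fin 2) F).det = 1 := by
    rw [Matrix.det_fin_two]
    simp only [Matrix.of_apply, Matrix.cons_val', Matrix.cons_val_zero, Matrix.cons_val_one,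
      Matrix.empty_val', Matrix.cons_val_fin_one]
    linear_combination hv
  obtain ⟨g, hg⟩ : ∃ g : SpecialLinearGroup (Fin 2) F,
      g.1 = !![v₁, a * v₁ + b * v₂; v₂, c * v₁ - a * v₂] := ⟨⟨_, hgdet⟩, rfl⟩
  refine ⟨g, ?_⟩
  rw [mul_inv_eq_iff_eq_mul]
  ext i j
  rw [Matrix.SpecialLinearGroup.coe_mul, Matrix.SpecialLinearGroup.coe_mul, hg, ← hMdef]
  fin_cases i <;> fin_cases j
  · simp [sl2w, Matrix.mul_apply, Fin.sum_univ_two, ← ha, ← hb]
  · simp [sl2w, Matrix.mul_apply, Fin.sum_univ_two, ← ha, ← hb]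
    linear_combination (-v₁) * hq
  · simp [sl2w, Matrix.mul_apply, Fin.sum_univ_two, ← hc, htr]
    ring
  · simp [sl2w, Matrix.mul_apply, Fin.sum_univ_two, ← hc, htr]
    linear_combination (-v₂) * hq

end

end Cfsg.Agent.Lib.Helper53
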