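import Mathlib
import Cfsg.Agent.Lib.Helper14.P4Defs
import Cfsg.Agent.Lib.Helper43.InvolMatrix

set_option autoImplicit false
set_option linter.unusedSectionVars false

/-! Leaf P4-I2A of the S6000 hive (owner helper14): non-scalar involutions of `GL 4 F` are conjugate,
up to a scalar, to `Z1` or `CZ`. -/

namespace Cfsg.Agent.Lib.Helper14.P4

open Matrix Cfsg.Agent.Lib.Helper43

variable {F : Type*} [Field F] [Fintype F]

theorem i2a_mZ1_eq : (mZ1 : Matrix (Fin 4) (Fin 4) F) = Matrix.diagonal ![1, 1, -1, -1] := by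
  ext a b
  fin_cases a <;> fin_cases b <;> simp [mZ1]

theorem i2a_mCZ_eq : (mCZ : Matrix (Fin 4) (Fin 4) F) = Matrix.diagonal ![1, 1, 1, -1] := by
  ext a b
  fin_cases a <;> fin_cases b <;> simp [mCZ]

theorem i2a_rank_diag [DecidableEq F] (d : Fin 4 → F) (ν : F) :
    (Matrix.diagonal d - ν • (1 : Matrix (Fin 4) (Fin 4) F)).rank =
      Fintype.card {i : Fin 4 // d i - ν ≠ 0} := by
  have h : Matrix.diagonal d - ν • (1 : Matrix (Fin 4) (Fin 4) F) =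
      Matrix.diagonal (fun i => d i - ν) := by
    ext i j
    by_cases hij : i = j
    · subst hij
      simp
    · simp [hij]
  rw [h, Matrix.rank_diagonal]

theorem i2a_card_eq [DecidableEq F] (w : Fin 4 → F) :
    Fintype.card {i : Fin 4 // w i ≠ 0} =
      (if w 0 ≠ 0 then 1 else 0) + (if w 1 ≠ 0 then 1 else 0) + (if w 2 ≠ 0 then 1 else 0) +
        (if w 3 ≠ 0 then 1 else 0) := by
  rw [Fintype.card_subtype, Finset.card_filter, Fin.sum_univ_four]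

theorem i2a_mZ1_ne (h2 : (2 : F) ≠ 0) (a : F) :
    (mZ1 : Matrix (Fin 4) (Fin 4) F) ≠ a • (1 : Matrix (Fin 4) (Fin 4) F) := by
  intro h
  have h0 := congrFun (congrFun h 0) 0
  have h3 := congrFun (congrFun h 3) 3
  simp [mZ1] at h0 h3
  apply h2
  have : (1 : F) = -1 := h0.trans h3.symm
  calc (2 : F) = 1 + 1 := by norm_num
    _ = 1 + -1 := by rw [← this]
    _ = 0 := by ring

theorem i2a_mCZ_ne (h2 : (2 : F) ≠ 0) (a : F) :
    (mCZ : Matrix (Fin 4) (Fin 4) F) ≠ a • (1 : Matrix (Fin 4) (Fin 4) F) := by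
  intro h
  have h0 := congrFun (congrFun h 0) 0
  have h3 := congrFun (congrFun h 3) 3
  simp [mCZ] at h0 h3
  apply h2
  have : (1 : F) = -1 := h0.trans h3.symm
  calc (2 : F) = 1 + 1 := by norm_num
    _ = 1 + -1 := by rw [← this]
    _ = 0 := by ring

theorem i2a_neg_one_sub_one (h2 : (2 : F) ≠ 0) : (-1 : F) - 1 ≠ 0 := by
  intro h
  apply h2
  have : (2 : F) = -((-1 : F) - 1) := by ring
  rw [this, h, neg_zero]

theorem i2a_rmin_mCZ (h2 : (2 : F) ≠ 0) : rmin (mCZ : Matrix (Fin 4) (Fin 4) F) = 1 := by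
  classical
  have hsq : (mCZ : Matrix (Fin 4) (Fin 4) F) * mCZ = (1 : F) • (1 : Matrix (Fin 4) (Fin 4) F) := by
    rw [mCZ_mul_self, one_smul]
  have hle : rmin (mCZ : Matrix (Fin 4) (Fin 4) F) ≤ 1 := by
    refine le_trans (rmin_le _ 1) ?_
    rw [i2a_mCZ_eq, i2a_rank_diag, i2a_card_eq]
    have hh := i2a_neg_one_sub_one h2
    simp [hh]
  rcases rmin_mem_of_sq h2 one_ne_zero hsq (i2a_mCZ_ne h2) with ⟨h1, _⟩ | ⟨h1, _⟩
  · omega
  · omega

theorem i2a_rmin_mZ1 (h2 : (2 : F) ≠ 0) : rmin (mZ1 : Matrix (Fin 4) (Fin 4) F) = 2 := by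
  classical
  have hsq : (mZ1 : Matrix (Fin 4) (Fin 4) F) * mZ1 = (1 : F) • (1 : Matrix (Fin 4) (Fin 4) F) := by
    rw [mZ1_mul_self, one_smul]
  have hge : 2 ≤ rmin (mZ1 : Matrix (Fin 4) (Fin 4) F) := by
    rw [le_rmin_iff]
    intro ν
    rw [i2a_mZ1_eq, i2a_rank_diag, i2a_card_eq]
    by_cases hν : (1 : F) - ν = 0
    · have hν1 : ν = 1 := (sub_eq_zero.1 hν).symm
      subst hν1
      have := i2a_neg_one_sub_one h2
      simp [this]
    · simp [hν]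
      omega
  rcases rmin_mem_of_sq h2 one_ne_zero hsq (i2a_mZ1_ne h2) with ⟨_, h1⟩ | ⟨h1, _⟩
  · omega
  · exfalso
    -- rmin ≤ rank (mZ1 - 1) = 2
    have hle : rmin (mZ1 : Matrix (Fin 4) (Fin 4) F) ≤ 2 := by
      refine le_trans (rmin_le _ 1) ?_
      rw [i2a_mZ1_eq, i2a_rank_diag, i2a_card_eq]
      have hh := i2a_neg_one_sub_one h2
      simp [hh]
    omega

/-- P4-I2A.  Non-scalar involutions of `GL 4 F` are conjugate, up to a scalar, to `Z1` or `CZ`. -/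
theorem conj_of_sq_eq_one (h2 : (2 : F) ≠ 0) (x : GL (Fin 4) F)
    (hx : (x : Matrix (Fin 4) (Fin 4) F) * (x : Matrix (Fin 4) (Fin 4) F) = 1)
    (hns : ∀ c : F, (x : Matrix (Fin 4) (Fin 4) F) ≠ c • 1) :
    ∃ (g : GL (Fin 4) F) (s : F), s ≠ 0 ∧
      ((((g⁻¹ * x * g : GL (Fin 4) F)) : Matrix (Fin 4) (Fin 4) F) = s • mZ1 ∨
        (((g⁻¹ * x * g : GL (Fin 4) F)) : Matrix (Fin 4) (Fin 4) F) = s • mCZ) := by
  classical
  have hsq : (x : Matrix (Fin 4) (Fin 4) F) * (x : Matrix (Fin 4) (Fin 4) F) =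
      (1 : F) • (1 : Matrix (Fin 4) (Fin 4) F) := by rw [hx, one_smul]
  have hsq' : (x : Matrix (Fin 4) (Fin 4) F) * (x : Matrix (Fin 4) (Fin 4) F) =
      ((1 : F) * 1) • (1 : Matrix (Fin 4) (Fin 4) F) := by rw [hx, one_mul, one_smul]
  have hZ : (mZ1 : Matrix (Fin 4) (Fin 4) F) * mZ1 = (1 : F) • (1 : Matrix (Fin 4) (Fin 4) F) := by
    rw [mZ1_mul_self, one_smul]
  have hC : (mCZ : Matrix (Fin 4) (Fin 4) F) * mCZ = (1 : F) • (1 : Matrix (Fin 4) (Fin 4) F) := by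
    rw [mCZ_mul_self, one_smul]
  -- rmin x ∈ {1, 2}
  have hr : rmin (x : Matrix (Fin 4) (Fin 4) F) = 1 ∨ rmin (x : Matrix (Fin 4) (Fin 4) F) = 2 := by
    have hsplit := rmin_split h2 (one_ne_zero : (1 : F) ≠ 0) hsq'
    have hsum := edim_add_edim h2 (one_ne_zero : (1 : F) ≠ 0) hsq'
    have h1 : edim (x : Matrix (Fin 4) (Fin 4) F) 1 ≠ 4 := fun h => hns 1 (eq_smul_one_of_edim_eq h)
    have h3 : edim (x : Matrix (Fin 4) (Fin 4) F) (-1) ≠ 4 :=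
      fun h => hns (-1) (eq_smul_one_of_edim_eq h)
    rw [hsplit]
    rcases le_total (edim (x : Matrix (Fin 4) (Fin 4) F) 1)
      (edim (x : Matrix (Fin 4) (Fin 4) F) (-1)) with h | h
    · rw [min_eq_left h]
      omega
    · rw [min_eq_right h]
      omega
  have key : ∀ M' : Matrix (Fin 4) (Fin 4) F, M' * M' = (1 : F) • (1 : Matrix (Fin 4) (Fin 4) F) →
      (∀ a : F, M' ≠ a • (1 : Matrix (Fin 4) (Fin 4) F)) →
      rmin (x : Matrix (Fin 4) (Fin 4) F) = rmin M' →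
      ∃ (g : GL (Fin 4) F) (s : F), s ≠ 0 ∧
        (((g⁻¹ * x * g : GL (Fin 4) F)) : Matrix (Fin 4) (Fin 4) F) = s • M' := by
    intro M' hM' hns' hrr
    obtain ⟨Q, Q', hQQ', s, hs, hconj⟩ := exists_conj_smul h2 (by norm_num : 1 ≤ 4)
      (one_ne_zero : (1 : F) ≠ 0) (one_ne_zero : (1 : F) ≠ 0) hsq hM' hns hns' hrr
    have hQ'Q : Q' * Q = 1 := mul_eq_one_comm.mp hQQ'
    refine ⟨⟨Q', Q, hQ'Q, hQQ'⟩, s, hs, ?_⟩
    rw [Units.val_mul, Units.val_mul]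
    show Q * (x : Matrix (Fin 4) (Fin 4) F) * Q' = _
    exact hconj
  rcases hr with hr1 | hr2
  · obtain ⟨g, s, hs, hg⟩ := key mCZ hC (i2a_mCZ_ne h2) (by rw [hr1, i2a_rmin_mCZ h2])
    exact ⟨g, s, hs, Or.inr hg⟩
  · obtain ⟨g, s, hs, hg⟩ := key mZ1 hZ (i2a_mZ1_ne h2) (by rw [hr2, i2a_rmin_mZ1 h2])
    exact ⟨g, s, hs, Or.inl hg⟩

end Cfsg.Agent.Lib.Helper14.P4
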