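import Mathlib
import Cfsg.Prelude.Def_GeometricClasses
import Cfsg.Agent.Lib.Helper44.OcDefs
import Cfsg.Agent.Lib.Helper37.ParabolicBridge

/-! # Oc hive (helper44, S5977 / S5978), leaf OC-AJ, part (a) (helper53): an isometry `x` with `x² = -1` splits the
space into pairwise orthogonal planes `⟨v_j, x v_j⟩` with `Q v_j ≠ 0`. -/

set_option autoImplicit false
open scoped MatrixGroups
open Matrix Polynomial

namespace Cfsg.Agent.Lib.Helper44.Oc

universe v u

/-- abstract version: induction over the type -/
theorem aj_abs {F : Type v} [Field F] (h2 : (2 : F) ≠ 0) :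
    ∀ (n : ℕ) (V : Type u) [AddCommGroup V] [Module F V] [FiniteDimensional F V]
      (B : LinearMap.BilinForm F V) (_ : B.Nondegenerate) (_ : ∀ a b, B a b = B b a)
      (f : V →ₗ[F] V) (_ : ∀ a b, B (f a) (f b) = B a b) (_ : ∀ a, f (f a) = -a),
      Module.finrank F V = n →
      ∃ (m : ℕ) (w : Fin m → V), 2 * m = n ∧ (∀ j, B (w j) (w j) ≠ 0) ∧
        (∀ j k, j ≠ k → B (w j) (w k) = 0) ∧ (∀ j k, B (w j) (f (w k)) = 0) := by
  intro n
  induction n using Nat.strong_induction_on with
  | _ n ih =>
  intro V _ _ _ B hB hs f hf hff hn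
  by_cases hn0 : n = 0
  · subst hn0
    exact ⟨0, Fin.elim0, rfl, fun j => j.elim0, fun j => j.elim0, fun j => j.elim0⟩
  -- a vector of nonzero norm
  obtain ⟨v, hv⟩ : ∃ v : V, B v v ≠ 0 := by
    by_contra hcon
    push Not at hcon
    have hall : ∀ a b : V, B a b = 0 := by
      intro a b
      have h1 := hcon (a + b)
      simp only [map_add, LinearMap.add_apply, hcon a, hcon b, zero_add, add_zero] at h1
      rw [hs b a] at h1
      have h3 : (2 : F) * B a b = 0 := by linear_combination h1
      rcases mul_eq_zero.1 h3 with h | h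
      · exact absurd h h2
      · exact h
    have hzero : ∀ a : V, a = 0 := fun a => hB.1 a (fun b => hall a b)
    have : Module.finrank F V = 0 := by
      have hsub : Subsingleton V := ⟨fun a b => by rw [hzero a, hzero b]⟩
      exact Module.finrank_zero_of_subsingleton
    omega
  have hvf : B v (f v) = 0 := by
    have h1 := hf v (f v)
    rw [hff, map_neg, hs (f v) v] at h1
    have h3 : (2 : F) * B v (f v) = 0 := by linear_combination -h1
    rcases mul_eq_zero.1 h3 with h | h
    · exact absurd h h2
    · exact h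
  have hfv : B (f v) (f v) ≠ 0 := by rw [hf]; exact hv
  have hfvv : B (f v) v = 0 := by rw [hs]; exact hvf
  have hrefl : B.IsRefl := fun a b h => by rw [hs]; exact h
  -- the plane
  set p : Fin 2 → V := ![v, f v] with hp
  have hportho : B.iIsOrtho p := by
    rw [LinearMap.BilinForm.iIsOrtho_def]
    intro i j hij
    fin_cases i <;> fin_cases j
    · exact absurd rfl hij
    · exact hvf
    · exact hfvv
    · exact absurd rfl hij
  have hpnorm : ∀ i, B (p i) (p i) ≠ 0 := by
    intro i
    fin_cases i
    · exact hv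
    · exact hfv
  have hpli : LinearIndependent F p := LinearMap.BilinForm.linearIndependent_of_iIsOrtho hportho hpnorm
  set P : Submodule F V := Submodule.span F (Set.range p) with hP
  have hPfin : Module.finrank F P = 2 := by
    rw [hP, finrank_span_eq_card hpli, Fintype.card_fin]
  set V' : Submodule F V := B.orthogonal P with hV'
  have hmem : ∀ a : V, a ∈ V' ↔ B v a = 0 ∧ B (f v) a = 0 := by
    intro a
    rw [hV', LinearMap.BilinForm.mem_orthogonal_iff]
    constructor
    · intro h
      exact ⟨h v (Submodule.subset_span ⟨0, rfl⟩), h (f v) (Submodule.subset_span ⟨1, rfl⟩)⟩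
    · rintro ⟨h1, h3⟩ c hc
      induction hc using Submodule.span_induction with
      | mem c hc =>
        obtain ⟨i, rfl⟩ := hc
        fin_cases i
        · exact h1
        · exact h3
      | zero => simp
      | add c d _ _ hc hd => rw [map_add, LinearMap.add_apply, hc, hd, add_zero]
      | smul t c _ hc => rw [map_smul, LinearMap.smul_apply, hc, smul_zero]
  have hV'fin : Module.finrank F V' = n - 2 := by
    rw [hV', LinearMap.BilinForm.finrank_orthogonal hB, hPfin, hn]
  have hn2 : 2 ≤ n := by
    have := Submodule.finrank_le P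
    omega
  -- nondegeneracy of the restriction
  have hdisj : Disjoint P (B.orthogonal P) := by
    rw [Submodule.disjoint_def]
    intro a haP haP'
    have ha' := (hmem a).1 haP'
    rw [hP] at haP
    obtain ⟨c, rfl⟩ := (Submodule.mem_span_range_iff_exists_fun F).1 haP
    rw [Fin.sum_univ_two] at ha' ⊢
    have e0 : p 0 = v := rfl
    have e1 : p 1 = f v := rfl
    rw [e0, e1] at ha' ⊢
    obtain ⟨h1, h3⟩ := ha'
    simp only [map_add, map_smul, smul_eq_mul, hvf, hfvv, mul_zero, add_zero, zero_add] at h1 h3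
    have hc0 : c 0 = 0 := by
      rcases mul_eq_zero.1 h1 with h | h
      · exact h
      · exact absurd h hv
    have hc1 : c 1 = 0 := by
      rcases mul_eq_zero.1 h3 with h | h
      · exact h
      · exact absurd h hfv
    rw [hc0, hc1, zero_smul, zero_smul, add_zero]
  have hcompl : IsCompl P (B.orthogonal P) :=
    (LinearMap.BilinForm.isCompl_orthogonal_iff_disjoint hrefl).2 hdisj
  have hB' : (B.restrict V').Nondegenerate := by
    rw [LinearMap.BilinForm.restrict_nondegenerate_iff_isCompl_orthogonal hrefl, hV',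
      LinearMap.BilinForm.orthogonal_orthogonal hB hrefl]
    exact hcompl.symm
  -- invariance
  have hinv : ∀ a ∈ V', f a ∈ V' := by
    intro a ha
    obtain ⟨h1, h3⟩ := (hmem a).1 ha
    rw [hmem]
    constructor
    · have h4 := hf (f v) a
      rw [hff, map_neg, LinearMap.neg_apply, h3] at h4
      exact neg_eq_zero.1 h4
    · rw [hf]
      exact h1
  set f' : V' →ₗ[F] V' := f.restrict hinv with hf'
  obtain ⟨m', w', hm', hw1, hw2, hw3⟩ := ih (n - 2) (by omega) V' (B.restrict V') hB'
    (fun a b => hs a b) f' (fun a b => hf a b)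
    (fun a => Subtype.ext (by
      show f (f (a : V)) = -(a : V)
      exact hff a)) hV'fin
  refine ⟨m' + 1, Fin.cons v (fun j => (w' j : V)), by omega, ?_, ?_, ?_⟩
  · intro j
    refine Fin.cases ?_ (fun j => ?_) j
    · exact hv
    · exact hw1 j
  · intro j k
    refine Fin.cases ?_ (fun j => ?_) j <;> refine Fin.cases ?_ (fun k => ?_) k
    · intro h
      exact absurd rfl h
    · intro _
      exact ((hmem _).1 (w' k).2).1
    · intro _
      show B (w' j : V) v = 0
      rw [hs]
      exact ((hmem _).1 (w' j).2).1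
    · intro h
      exact hw2 j k (fun e => h (by rw [e]))
  · intro j k
    refine Fin.cases ?_ (fun j => ?_) j <;> refine Fin.cases ?_ (fun k => ?_) k
    · exact hvf
    · exact ((hmem _).1 (hinv _ (w' k).2)).1
    · show B (w' j : V) (f v) = 0
      rw [hs]
      exact ((hmem _).1 (w' j).2).2
    · exact hw3 j k

variable {F : Type v} [Field F] {ι : Type} [Fintype ι] [DecidableEq ι]

/-- OC-AJ (a): the planes -/
theorem aj_planes (h2 : (2 : F) ≠ 0) (Q : (ι → F) → F) (hQ : Cfsg.Geo.IsNondegenerateQuadraticForm Q)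
    (x : GL ι F) (hx : x ∈ Cfsg.isometryGroup F Q)
    (hxx : (x : Matrix ι ι F) * (x : Matrix ι ι F) = -1) :
    ∃ (m : ℕ) (b : Module.Basis (Fin m ⊕ Fin m) F (ι → F)),
      (∀ j, (x : Matrix ι ι F) *ᵥ b (Sum.inl j) = b (Sum.inr j)) ∧
      (∀ j, Q (b (Sum.inl j)) ≠ 0) ∧
      (∀ a c, a ≠ c → QuadraticMap.polar Q (b a) (b c) = 0) := by
  set Q' : QuadraticForm F (ι → F) := Cfsg.Agent.Lib.Helper37.toQF Q hQ with hQ'def
  have hQ' : (QuadraticMap.polarBilin Q').Nondegenerate := Cfsg.Agent.Lib.Helper37.toQF_nondeg Q hQ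
  set B : LinearMap.BilinForm F (ι → F) := QuadraticMap.polarBilin Q' with hBdef
  have hBap : ∀ a c : ι → F, B a c = QuadraticMap.polar Q a c := fun a c => rfl
  have hpres : ∀ a : ι → F, Q ((x : Matrix ι ι F) *ᵥ a) = Q a := fun a => hx a 0
  set f : (ι → F) →ₗ[F] (ι → F) := Matrix.toLin' (x : Matrix ι ι F) with hfdef
  have hfap : ∀ a : ι → F, f a = (x : Matrix ι ι F) *ᵥ a := fun a => Matrix.toLin'_apply _ _
  have hf : ∀ a c : ι → F, B (f a) (f c) = B a c := by
    intro a c
    rw [hBap, hBap, hfap, hfap]
    unfold QuadraticMap.polar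
    rw [← Matrix.mulVec_add, hpres, hpres, hpres]
  have hff : ∀ a : ι → F, f (f a) = -a := by
    intro a
    rw [hfap, hfap, Matrix.mulVec_mulVec, hxx, Matrix.neg_mulVec, Matrix.one_mulVec]
  have hs : ∀ a c : ι → F, B a c = B c a := by
    intro a c
    rw [hBap, hBap, QuadraticMap.polar_comm]
  obtain ⟨m, w, hm, hw1, hw2, hw3⟩ := aj_abs h2 (Module.finrank F (ι → F)) (ι → F) B hQ' hs f hf hff rfl
  set uu : Fin m ⊕ Fin m → (ι → F) := Sum.elim w (fun j => f (w j)) with huu
  have hortho : B.iIsOrtho uu := by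
    rw [LinearMap.BilinForm.iIsOrtho_def]
    intro a c hac
    rcases a with j | j <;> rcases c with k | k
    · exact hw2 j k (fun e => hac (by rw [e]))
    · exact hw3 j k
    · show B (f (w j)) (w k) = 0
      rw [hs]
      exact hw3 k j
    · show B (f (w j)) (f (w k)) = 0
      rw [hf]
      exact hw2 j k (fun e => hac (by rw [e]))
  have hnorm : ∀ a, B (uu a) (uu a) ≠ 0 := by
    intro a
    rcases a with j | j
    · exact hw1 j
    · show B (f (w j)) (f (w j)) ≠ 0
      rw [hf]
      exact hw1 j
  have hli : LinearIndependent F uu := LinearMap.BilinForm.linearIndependent_of_iIsOrtho hortho hnorm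
  have hcard : Fintype.card (Fin m ⊕ Fin m) = Module.finrank F (ι → F) := by
    rw [Fintype.card_sum, Fintype.card_fin, ← hm]
    ring
  refine ⟨m, basisOfLinearIndependentOfCardEqFinrank' uu hli hcard, ?_, ?_, ?_⟩
  · intro j
    rw [coe_basisOfLinearIndependentOfCardEqFinrank']
    show (x : Matrix ι ι F) *ᵥ w j = f (w j)
    rw [hfap]
  · intro j
    rw [coe_basisOfLinearIndependentOfCardEqFinrank']
    show Q (w j) ≠ 0
    intro h0
    apply hw1 j
    rw [hBap]
    have : QuadraticMap.polar (⇑Q') (w j) (w j) = 2 • Q' (w j) := QuadraticMap.polar_self Q' (w j)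
    have h3 : Q' (w j) = 0 := h0
    rw [h3, smul_zero] at this
    exact this
  · intro a c hac
    rw [coe_basisOfLinearIndependentOfCardEqFinrank']
    exact (LinearMap.BilinForm.iIsOrtho_def.1 hortho) a c hac

end Cfsg.Agent.Lib.Helper44.Oc
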