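import Mathlib
import Cfsg.Agent.Lib.Helper15.HqDefs
import Cfsg.Agent.Lib.Helper53.OcAJplanes

/-! # Hq hive (helper15, S5974), leaf HQ-SQM1 (helper53): `f² = -1` isometry: invariant nondegenerate subspaces
of every even dimension. -/

set_option autoImplicit false

namespace Cfsg.Agent.Lib.Helper15.Hq

open Module
open Cfsg.Agent.Lib.Helper2.BG Cfsg.Agent.Lib.Helper99 Cfsg.Agent.Lib.Helper48.Ti
open Cfsg.Agent.Lib.Helper5.Hy (Plus Fixes)
open Cfsg.Agent.Lib.Helper81.On (plusB VP)
open Cfsg.Agent.Lib.Helper8 (plusForm IsInvIso nilPart)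

section sqm1aux

variable {F V : Type*} [Field F] [AddCommGroup V] [Module F V]

/-- the span of an orthogonal family of non-isotropic vectors is nondegenerate, of the right dimension -/
theorem sqm1_orth_span {ι : Type*} [Fintype ι] [DecidableEq ι] (B : V →ₗ[F] V →ₗ[F] F)
    (e : ι → V) (hne : ∀ i, B (e i) (e i) ≠ 0) (hort : ∀ i j, i ≠ j → B (e i) (e j) = 0) :
    Nd B (Submodule.span F (Set.range e)) ∧
      finrank F (Submodule.span F (Set.range e)) = Fintype.card ι := by
  have hli : LinearIndependent F e := by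
    refine LinearMap.BilinForm.linearIndependent_of_iIsOrtho (B := B) ?_ ?_
    · intro i j hij
      exact hort i j hij
    · intro i
      exact hne i
  refine ⟨?_, finrank_span_eq_card hli⟩
  intro u hu hall
  obtain ⟨c, rfl⟩ := (Submodule.mem_span_range_iff_exists_fun F).1 hu
  have hc : ∀ j, c j = 0 := by
    intro j
    have h1 := hall (e j) (Submodule.subset_span ⟨j, rfl⟩)
    rw [map_sum, LinearMap.sum_apply] at h1
    rw [Finset.sum_eq_single j] at h1
    · simp only [map_smul, LinearMap.smul_apply, smul_eq_mul] at h1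
      rcases mul_eq_zero.1 h1 with h | h
      · exact h
      · exact absurd h (hne j)
    · intro i _ hij
      simp only [map_smul, LinearMap.smul_apply, smul_eq_mul, hort i j hij, mul_zero]
    · intro h
      exact absurd (Finset.mem_univ j) h
  simp [hc]

end sqm1aux

section oddq

variable {F V : Type*} [Field F] [AddCommGroup V] [Module F V] [FiniteDimensional F V]
variable {B : V →ₗ[F] V →ₗ[F] F}

theorem sq_neg_exists (h2 : (2 : F) ≠ 0) (hs : ∀ u v, B u v = B v u) (hV : Nd B ⊤)
    {f : Module.End F V} (hf : Isom B f) (hff : f * f = -1) (m : ℕ) (hme : Even m)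
    (hle : m ≤ finrank F V) : ∃ W : Submodule F V, Inv f W ∧ Nd B W ∧ finrank F W = m := by
  have hnd : LinearMap.BilinForm.Nondegenerate B := by
    have hl : LinearMap.SeparatingLeft B := by
      intro u hu
      exact hV u Submodule.mem_top (fun v _ => hu v)
    have hrefl : LinearMap.IsRefl B := fun a b h => by rw [hs]; exact h
    exact ⟨hl, (hrefl.nondegenerate_iff_separatingLeft.2 hl).2⟩
  have hffa : ∀ a, f (f a) = -a := by
    intro a
    have := congrArg (fun g : Module.End F V => g a) hff
    simpa using this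
  obtain ⟨k, w, hk, hwne, hwort, hwf⟩ :=
    Cfsg.Agent.Lib.Helper44.Oc.aj_abs h2 (finrank F V) V B hnd hs f hf hffa rfl
  obtain ⟨m', rfl⟩ := hme
  have hm'k : m' ≤ k := by omega
  -- the family
  let e : Fin m' ⊕ Fin m' → V := fun i =>
    Sum.elim (fun j => w (Fin.castLE hm'k j)) (fun j => f (w (Fin.castLE hm'k j))) i
  have hcast : ∀ a b : Fin m', a ≠ b → Fin.castLE hm'k a ≠ Fin.castLE hm'k b := by
    intro a b hab h
    exact hab (Fin.castLE_injective hm'k h)
  have hene : ∀ i, B (e i) (e i) ≠ 0 := by
    rintro (j | j)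
    · exact hwne _
    · show B (f (w _)) (f (w _)) ≠ 0
      rw [hf]
      exact hwne _
  have heort : ∀ i j, i ≠ j → B (e i) (e j) = 0 := by
    rintro (a | a) (b | b) hab
    · exact hwort _ _ (hcast a b (fun h => hab (by rw [h])))
    · exact hwf _ _
    · show B (f (w _)) (w _) = 0
      rw [hs]
      exact hwf _ _
    · show B (f (w _)) (f (w _)) = 0
      rw [hf]
      exact hwort _ _ (hcast a b (fun h => hab (by rw [h])))
  obtain ⟨hNd, hfr⟩ := sqm1_orth_span B e hene heort
  refine ⟨Submodule.span F (Set.range e), ?_, hNd, ?_⟩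
  · intro v hv
    induction hv using Submodule.span_induction with
    | mem x hx =>
      obtain ⟨i, rfl⟩ := hx
      rcases i with j | j
      · exact Submodule.subset_span ⟨Sum.inr j, rfl⟩
      · show f (f (w _)) ∈ _
        rw [hffa]
        exact Submodule.neg_mem _ (Submodule.subset_span ⟨Sum.inl j, rfl⟩)
    | zero => simp
    | add x y _ _ hx hy => rw [map_add]; exact Submodule.add_mem _ hx hy
    | smul c x _ hx => rw [map_smul]; exact Submodule.smul_mem _ c hx
  · rw [hfr]
    simp only [Fintype.card_sum, Fintype.card_fin]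

end oddq

end Cfsg.Agent.Lib.Helper15.Hq
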