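import Mathlib
import Cfsg.Agent.Lib.Helper15.HsBasic

/-!
# Hs hive (S2536), leaf HS-NUM : the numerical lemma

If `2 ≤ b ≤ a` and no prime `≤ a` divides `C(a+b, b)` then `(a, b) = (4, 3)`.
-/

set_option autoImplicit false

namespace Cfsg.Agent.Lib.Helper15.Hs

open Cfsg

/-- coprimality from an integer linear combination -/
theorem num_cop (x y : ℕ) (u v : ℤ) (h : u * x + v * y = 1) : Nat.Coprime x y :=
  Nat.isCoprime_iff_coprime.mp ⟨u, v, h⟩

/-- a prime factor of a non-prime is at most half of it -/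
theorem num_half {n p : ℕ} (hn : ¬ n.Prime) (hp : p.Prime) (hpn : p ∣ n) (hn0 : n ≠ 0) :
    2 * p ≤ n := by
  obtain ⟨k, rfl⟩ := hpn
  have hk0 : k ≠ 0 := by
    rintro rfl
    simp at hn0
  have hk1 : k ≠ 1 := by
    rintro rfl
    rw [mul_one] at hn
    exact hn hp
  have h2 : 2 ≤ k := by omega
  calc 2 * p = p * 2 := by ring
    _ ≤ p * k := Nat.mul_le_mul_left p h2

/-- the general identity `C(M+j, c+j) (c+1)…(c+j) = (M+1)…(M+j) C(M, c)` -/
theorem num_id (j M c : ℕ) :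
    Nat.choose (M + j) (c + j) * (c + 1).ascFactorial j
      = (M + 1).ascFactorial j * Nat.choose M c := by
  induction j with
  | zero => simp
  | succ j ih =>
    have e := Nat.add_one_mul_choose_eq (M + j) (c + j)
    have h1 : M + (j + 1) = M + j + 1 := by ring
    have h2 : c + (j + 1) = c + j + 1 := by ring
    rw [h1, h2, Nat.ascFactorial_succ, Nat.ascFactorial_succ]
    calc Nat.choose (M + j + 1) (c + j + 1) * ((c + 1 + j) * (c + 1).ascFactorial j)
        = (Nat.choose (M + j + 1) (c + j + 1) * (c + j + 1)) * (c + 1).ascFactorial j := by ring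
      _ = ((M + j + 1) * Nat.choose (M + j) (c + j)) * (c + 1).ascFactorial j := by rw [← e]
      _ = (M + j + 1) * (Nat.choose (M + j) (c + j) * (c + 1).ascFactorial j) := by ring
      _ = (M + j + 1) * ((M + 1).ascFactorial j * Nat.choose M c) := by rw [ih]
      _ = (M + 1 + j) * (M + 1).ascFactorial j * Nat.choose M c := by ring

theorem num_dvd_asc (n j : ℕ) (hj : 1 ≤ j) : n ∣ n.ascFactorial j := by
  induction j with
  | zero => omega
  | succ j ih =>
    rw [Nat.ascFactorial_succ]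
    rcases Nat.eq_zero_or_pos j with rfl | hpos
    · simp
    · exact Dvd.dvd.mul_left (ih hpos) _

/-- the key divisibility: `(M+1)` coprime to `C(M+j, c+j)` divides `(c+1)…(c+j)` -/
theorem num_key (j M c : ℕ) (hj : 1 ≤ j) (hc : Nat.Coprime (M + 1) (Nat.choose (M + j) (c + j))) :
    (M + 1) ∣ (c + 1).ascFactorial j := by
  have h1 : (M + 1) ∣ Nat.choose (M + j) (c + j) * (c + 1).ascFactorial j := by
    rw [num_id]
    exact Dvd.dvd.mul_right (num_dvd_asc (M + 1) j hj) _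
  exact hc.dvd_of_dvd_mul_left h1

section stages

variable (a b : ℕ) (hb : 2 ≤ b) (hba : b ≤ a)
  (hcop : ∀ p : ℕ, p.Prime → p ≤ a → ¬ p ∣ Nat.choose (a + b) b)

include hcop in
theorem num_T (n : ℕ) (hn : ∀ p : ℕ, p.Prime → p ∣ n → p ≤ a) :
    Nat.Coprime n (Nat.choose (a + b) b) :=
  Nat.coprime_of_dvd (fun p hp hpn hpC => hcop p hp (hn p hp hpn) hpC)

include hcop in
theorem num_T2 (n : ℕ) (hn0 : n ≠ 0) (hnp : ¬ n.Prime) (hle : n ≤ 2 * a + 1) :
    Nat.Coprime n (Nat.choose (a + b) b) := by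
  apply num_T a b hcop
  intro p hp hpn
  have := num_half hnp hp hpn hn0
  omega

include hb hba hcop in
/-- (N1) `a + b` is prime -/
theorem num_N1 : (a + b).Prime := by
  by_contra hnp
  have hc := num_T2 a b hcop (a + b) (by omega) hnp (by omega)
  obtain ⟨c, rfl⟩ : ∃ c, b = c + 1 := ⟨b - 1, by omega⟩
  have h1 : a + (c + 1) = (a + c) + 1 := by ring
  have h2 : c + 1 = c + 1 := rfl
  have key := num_key 1 (a + c) c le_rfl (by rw [← h1]; exact hc)
  rw [← h1] at key
  have h3 : (c + 1).ascFactorial 1 = c + 1 := by simp [Nat.ascFactorial]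
  rw [h3] at key
  have := Nat.le_of_dvd (by omega) key
  omega

include hb hba hcop in
/-- (N2) `a + 1` is prime -/
theorem num_N2a : (a + 1).Prime := by
  by_contra hnp
  have hc := num_T2 a b hcop (a + 1) (by omega) hnp (by omega)
  have e := Nat.add_one_mul_choose_eq (a + b) a
  rw [Nat.choose_symm_add] at e
  have h1 : (a + 1) ∣ (a + b + 1) * Nat.choose (a + b) b := by
    rw [e]
    exact Dvd.intro_left _ rfl
  have h2 : (a + 1) ∣ (a + b + 1) := hc.dvd_of_dvd_mul_right h1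
  have h3 : (a + 1) ∣ b := by
    have : a + b + 1 = b + (a + 1) := by ring
    rw [this] at h2
    exact (Nat.dvd_add_left (dvd_refl _)).mp h2
  have := Nat.le_of_dvd (by omega) h3
  omega

include hb hba hcop in
/-- (N2') `b + 1 ≤ a` and `b + 1 ∣ a` -/
theorem num_N2b : b + 1 ≤ a ∧ (b + 1) ∣ a := by
  have hm := num_N1 a b hb hba hcop
  have hne : b ≠ a := by
    rintro rfl
    have h2 : (2 : ℕ) ∣ b + b := ⟨b, by ring⟩
    have := (Nat.prime_dvd_prime_iff_eq Nat.prime_two hm).mp h2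
    omega
  have hle : b + 1 ≤ a := by omega
  refine ⟨hle, ?_⟩
  have hc : Nat.Coprime (b + 1) (Nat.choose (a + b) b) := by
    apply num_T a b hcop
    intro p hp hpn
    have := Nat.le_of_dvd (by omega) hpn
    omega
  have e := Nat.add_one_mul_choose_eq (a + b) b
  have h1 : (b + 1) ∣ (a + b + 1) * Nat.choose (a + b) b := by
    rw [e]
    exact Dvd.intro_left _ rfl
  have h2 : (b + 1) ∣ (a + b + 1) := hc.dvd_of_dvd_mul_right h1
  have : a + b + 1 = a + (b + 1) := by ring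
  rw [this] at h2
  exact (Nat.dvd_add_left (dvd_refl _)).mp h2

include hb hba hcop in
/-- (N3) `a = b + 1` and `b` is odd -/
theorem num_N3 : ∃ s : ℕ, 1 ≤ s ∧ b = 2 * s + 1 ∧ a = 2 * s + 2 := by
  have hm := num_N1 a b hb hba hcop
  obtain ⟨hle, hdvd⟩ := num_N2b a b hb hba hcop
  obtain ⟨c, rfl⟩ : ∃ c, b = c + 2 := ⟨b - 2, by omega⟩
  -- `a + c + 1 = m - 1` is even, `≥ 4`, not prime
  have hodd : ¬ 2 ∣ a + (c + 2) := by
    intro h2
    have := (Nat.prime_dvd_prime_iff_eq Nat.prime_two hm).mp h2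
    omega
  have hnp : ¬ (a + c + 1).Prime := by
    intro hp
    have h2 : (2 : ℕ) ∣ a + c + 1 := by omega
    have := (Nat.prime_dvd_prime_iff_eq Nat.prime_two hp).mp h2
    omega
  have hc : Nat.Coprime (a + c + 1) (Nat.choose (a + c + 2) (c + 2)) := by
    have := num_T2 a (c + 2) hcop (a + c + 1) (by omega) hnp (by omega)
    have h1 : a + (c + 2) = a + c + 2 := by ring
    rw [h1] at this
    exact this
  have key := num_key 2 (a + c) c (by norm_num) hc
  have h3 : (c + 1).ascFactorial 2 = (c + 2) * (c + 1) := by simp [Nat.ascFactorial]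
  rw [h3] at key
  obtain ⟨t, rfl⟩ := hdvd
  obtain ⟨s, hs⟩ := key
  have ht : 1 ≤ t := by
    rcases Nat.eq_zero_or_pos t with rfl | h
    · omega
    · exact h
  have hs1 : 1 ≤ s := by
    rcases Nat.eq_zero_or_pos s with rfl | h
    · simp at hs
    · exact h
  -- `(c + 3) ∣ 2 (s + 1)`
  have hd : (c + 2 + 1) ∣ 2 * (s + 1) := by
    have hsZ : ((c : ℤ) + 2) * (c + 1) = ((c + 2 + 1) * t + c + 1) * s := by exact_mod_cast hs
    have : ((c + 2 + 1 : ℕ) : ℤ) ∣ ((2 * (s + 1) : ℕ) : ℤ) := by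
      refine ⟨(s : ℤ) * (t + 1) - c, ?_⟩
      push_cast
      linear_combination hsZ
    exact Int.natCast_dvd_natCast.mp this
  -- `2 s ≤ c + 1`
  have hD : 2 * (c + 2) ≤ (c + 2 + 1) * t + c + 1 := by nlinarith
  have h2s : 2 * s ≤ c + 1 := by
    have h4 : (c + 2) * (2 * s) ≤ (c + 2) * (c + 1) := by
      calc (c + 2) * (2 * s) = (2 * (c + 2)) * s := by ring
        _ ≤ ((c + 2 + 1) * t + c + 1) * s := Nat.mul_le_mul_right s hD
        _ = (c + 2) * (c + 1) := hs.symm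
    exact Nat.le_of_mul_le_mul_left h4 (by omega)
  have h5 : c + 2 + 1 ≤ 2 * (s + 1) := Nat.le_of_dvd (by omega) hd
  have h6 : c + 1 = 2 * s := by omega
  -- `D = 2 (c + 2)`
  have h7 : ((c + 2 + 1) * t + c + 1) * s = (2 * (c + 2)) * s := by
    rw [← hs, h6]; ring
  have h8 : (c + 2 + 1) * t + c + 1 = 2 * (c + 2) := Nat.eq_of_mul_eq_mul_right (by omega) h7
  have h9 : (c + 2 + 1) * t = (c + 2 + 1) * 1 := by omega
  have h10 : t = 1 := Nat.eq_of_mul_eq_mul_left (by omega) h9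
  subst h10
  refine ⟨s, hs1, by omega, by omega⟩

end stages

/-- (N4) for `b = 2r+3`, `a = 2r+4`: `4r + 5 = 2b - 1` is prime -/
theorem num_N4 (r : ℕ)
    (hcop : ∀ p : ℕ, p.Prime → p ≤ 2 * r + 4 → ¬ p ∣ Nat.choose (2 * r + 4 + (2 * r + 3)) (2 * r + 3)) :
    (4 * r + 5).Prime := by
  by_contra hnp
  have hc : Nat.Coprime (4 * r + 4 + 1) (Nat.choose (4 * r + 4 + 3) (2 * r + 3)) := by
    have := num_T2 (2 * r + 4) (2 * r + 3) hcop (4 * r + 5) (by omega) hnp (by omega)
    have h1 : 2 * r + 4 + (2 * r + 3) = 4 * r + 4 + 3 := by ring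
    rw [h1] at this
    exact this
  have key := num_key 3 (4 * r + 4) (2 * r) (by norm_num) hc
  have h3 : (2 * r + 1).ascFactorial 3 = (2 * r + 3) * ((2 * r + 2) * (2 * r + 1)) := by
    simp [Nat.ascFactorial]
  rw [h3] at key
  have c1 : Nat.Coprime (4 * r + 4 + 1) (2 * r + 3) :=
    num_cop _ _ (-1) 2 (by push_cast; ring)
  have c2 : Nat.Coprime (4 * r + 4 + 1) (2 * r + 2) :=
    num_cop _ _ 1 (-2) (by push_cast; ring)
  have k1 := c1.dvd_of_dvd_mul_left key
  have k2 := c2.dvd_of_dvd_mul_left k1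
  have := Nat.le_of_dvd (by omega) k2
  omega

/-- (N5) `b = 6k+9`, `a = 6k+10` is impossible -/
theorem num_N5 (k : ℕ)
    (hcop : ∀ p : ℕ, p.Prime → p ≤ 6 * k + 10 →
      ¬ p ∣ Nat.choose (6 * k + 10 + (6 * k + 9)) (6 * k + 9)) : False := by
  have hnp : ¬ (12 * k + 15).Prime := by
    intro hp
    have h3 : (3 : ℕ) ∣ 12 * k + 15 := ⟨4 * k + 5, by ring⟩
    have := (Nat.prime_dvd_prime_iff_eq Nat.prime_three hp).mp h3
    omega
  have hc : Nat.Coprime (12 * k + 14 + 1) (Nat.choose (12 * k + 14 + 5) (6 * k + 4 + 5)) := by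
    have := num_T2 (6 * k + 10) (6 * k + 9) hcop (12 * k + 15) (by omega) hnp (by omega)
    have h1 : 6 * k + 10 + (6 * k + 9) = 12 * k + 14 + 5 := by ring
    rw [h1] at this
    exact this
  have key := num_key 5 (12 * k + 14) (6 * k + 4) (by norm_num) hc
  have h3 : (6 * k + 4 + 1).ascFactorial 5
      = 3 * ((2 * k + 3) * ((6 * k + 8) * ((6 * k + 7) * ((k + 1) * (6 * (6 * k + 5)))))) := by
    simp [Nat.ascFactorial]
    ring
  rw [h3] at key
  have hd : 12 * k + 14 + 1 = 3 * (4 * k + 5) := by ring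
  rw [hd] at key
  have key2 : (4 * k + 5) ∣
      (2 * k + 3) * ((6 * k + 8) * ((6 * k + 7) * ((k + 1) * (6 * (6 * k + 5))))) :=
    Nat.dvd_of_mul_dvd_mul_left (by norm_num) key
  have c1 : Nat.Coprime (4 * k + 5) (2 * k + 3) := num_cop _ _ (-1) 2 (by push_cast; ring)
  have c2 : Nat.Coprime (4 * k + 5) (6 * k + 8) := num_cop _ _ (-3) 2 (by push_cast; ring)
  have c3 : Nat.Coprime (4 * k + 5) (6 * k + 7) := num_cop _ _ 3 (-2) (by push_cast; ring)
  have c4 : Nat.Coprime (4 * k + 5) (k + 1) := num_cop _ _ 1 (-4) (by push_cast; ring)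
  have k1 := c1.dvd_of_dvd_mul_left key2
  have k2 := c2.dvd_of_dvd_mul_left k1
  have k3 := c3.dvd_of_dvd_mul_left k2
  have k4 := c4.dvd_of_dvd_mul_left k3
  -- `4k+5 ∣ 36k+30` and `4k+5 ∣ 9(4k+5) = 36k+45` so `4k+5 ∣ 15`
  have k5 : (4 * k + 5) ∣ 15 := by
    have h9 : (4 * k + 5) ∣ 9 * (4 * k + 5) := Dvd.intro_left _ rfl
    have h10 : 9 * (4 * k + 5) = 6 * (6 * k + 5) + 15 := by ring
    rw [h10] at h9
    exact (Nat.dvd_add_right k4).mp h9
  have hk : k ≤ 2 := by
    have := Nat.le_of_dvd (by norm_num) k5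
    omega
  interval_cases k
  · -- `b = 9, a = 10`: `C(19, 9)` is even
    have := hcop 2 Nat.prime_two (by norm_num)
    apply this
    decide
  · norm_num at k5
  · norm_num at k5

theorem lemmaN (a b : ℕ) (hb : 2 ≤ b) (hba : b ≤ a) (hq : ∃ q : ℕ, q.Prime ∧ a < q ∧ q ≤ a + b)
    (hcop : ∀ p : ℕ, p.Prime → p ≤ a → ¬ p ∣ Nat.choose (a + b) b) : a = 4 ∧ b = 3 := by
  have hm := num_N1 a b hb hba hcop
  have ha1 := num_N2a a b hb hba hcop
  obtain ⟨s, hs1, rfl, rfl⟩ := num_N3 a b hb hba hcop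
  obtain ⟨r, rfl⟩ : ∃ r, s = r + 1 := ⟨s - 1, by omega⟩
  have hcop' : ∀ p : ℕ, p.Prime → p ≤ 2 * r + 4 →
      ¬ p ∣ Nat.choose (2 * r + 4 + (2 * r + 3)) (2 * r + 3) := by
    intro p hp hle
    have := hcop p hp (by omega)
    have h1 : 2 * (r + 1) + 2 + (2 * (r + 1) + 1) = 2 * r + 4 + (2 * r + 3) := by ring
    have h2 : 2 * (r + 1) + 1 = 2 * r + 3 := by ring
    rw [h1, h2] at this
    exact this
  have h4 := num_N4 r hcop'
  rcases Nat.eq_zero_or_pos r with rfl | hr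
  · exact ⟨by norm_num, by norm_num⟩
  · exfalso
    -- the three primes `2r+5`, `4r+7`, `4r+5` are `> 3`, so `3 ∣ r`
    have p1 : (2 * r + 5).Prime := by
      have h1 : 2 * (r + 1) + 2 + 1 = 2 * r + 5 := by ring
      rw [h1] at ha1
      exact ha1
    have h3r : 3 ∣ r := by
      by_contra h3
      have hcases : r % 3 = 1 ∨ r % 3 = 2 := by omega
      rcases hcases with h | h
      · have hd : (3 : ℕ) ∣ 4 * r + 5 := by omega
        have := (Nat.prime_dvd_prime_iff_eq Nat.prime_three h4).mp hd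
        omega
      · have hd : (3 : ℕ) ∣ 2 * r + 5 := by omega
        have := (Nat.prime_dvd_prime_iff_eq Nat.prime_three p1).mp hd
        omega
    obtain ⟨k, rfl⟩ := h3r
    obtain ⟨k', rfl⟩ : ∃ k', k = k' + 1 := ⟨k - 1, by omega⟩
    apply num_N5 k'
    intro p hp hle
    have := hcop' p hp (by omega)
    have h1 : 2 * (3 * (k' + 1)) + 4 + (2 * (3 * (k' + 1)) + 3) = 6 * k' + 10 + (6 * k' + 9) := by
      ring
    have h2 : 2 * (3 * (k' + 1)) + 3 = 6 * k' + 9 := by ring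
    rw [h1, h2] at this
    exact this

end Cfsg.Agent.Lib.Helper15.Hs
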