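import Cfsg.Agent.Lib.Helper16.GagDefs

/-! Gag hive (S4561), leaf GAG-T4a : partner of an element with `a ≠ 0`. -/

set_option autoImplicit false
universe u v

namespace Cfsg.Agent.Lib.Helper16.Gag
open scoped IsMulCommutative

/-- the commutator of `h` with `k = (1,0,1,0)` is `(1,0,0,h.a)` -/
theorem gagT4a_comm {H : Type u} [Group H] {p : ℕ} (h : Tw H p) :
    h * (⟨fun _ => 1, 0, 1, 0⟩ : Tw H p) * h⁻¹ * (⟨fun _ => 1, 0, 1, 0⟩ : Tw H p)⁻¹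
      = ⟨fun _ => 1, 0, 0, h.a⟩ := by
  apply Tw.ext
  · funext i
    simp
  · simp
  · simp
  · simp
    ring

/-- `φ (1,0,0,c) = ι c` -/
theorem gagT4a_phi {H : Type u} [Group H] {p : ℕ} [NeZero p]
    (ι : Multiplicative (ZMod p) →* Subgroup.center H) (c : ZMod p)
    (hz : (⟨fun _ => 1, 0, 0, c⟩ : Tw H p) ∈ Tw.Zhat H p) :
    Tw.phi ι ⟨⟨fun _ => 1, 0, 0, c⟩, hz⟩ = ι (Multiplicative.ofAdd c) := by
  have h1 : (∏ i : ZMod p, (⟨(⟨⟨fun _ => 1, 0, 0, c⟩, hz⟩ : Tw.Zhat H p).1.f i,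
      (⟨⟨fun _ => 1, 0, 0, c⟩, hz⟩ : Tw.Zhat H p).2.2.2 i⟩ : Subgroup.center H)) = 1 :=
    Finset.prod_eq_one (fun i _ => rfl)
  exact (congrArg (fun z => z * ι (Multiplicative.ofAdd c)) h1).trans (one_mul _)

/-- T4a -/
theorem Tw.partner_a {H : Type u} [Group H] {p : ℕ} [NeZero p]
    (ι : Multiplicative (ZMod p) →* Subgroup.center H) (hι : Function.Injective ι)
    (h : Tw H p) (ha : h.a ≠ 0) :
    ∃ k : Tw H p, h * k * h⁻¹ * k⁻¹ ∈ Tw.Zhat H p ∧ h * k * h⁻¹ * k⁻¹ ∉ Tw.Mker ι := by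
  refine ⟨⟨fun _ => 1, 0, 1, 0⟩, ?_, ?_⟩
  · rw [gagT4a_comm]
    exact ⟨rfl, rfl, fun _ => Subgroup.one_mem _⟩
  · rw [gagT4a_comm, Tw.mem_Mker]
    rintro ⟨hz, hphi⟩
    rw [gagT4a_phi] at hphi
    have h2 : Multiplicative.ofAdd h.a = 1 := hι (hphi.trans (map_one ι).symm)
    exact ha (by simpa using h2)

end Cfsg.Agent.Lib.Helper16.Gag
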