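import Mathlib

set_option autoImplicit false
set_option linter.style.haveILetI false
set_option linter.unnecessarySimpa false

namespace Cfsg.Agent.Lib.Helper53

open MulAction Subgroup

/-- A homomorphism from a subgroup `H` onto a group of order two with prescribed kernel of index two. -/
theorem exists_hom_of_relIndex_two {G : Type*} [Group G] (H M : Subgroup G)
    (hM : M.relIndex H = 2) :
    ∃ ϕ : ↥H →* Multiplicative (ZMod 2), ∀ h : ↥H, ϕ h = 1 ↔ (h : G) ∈ M := by
  classical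
  have hidx : (M.subgroupOf H).index = 2 := hM
  haveI : (M.subgroupOf H).Normal := Subgroup.normal_of_index_eq_two hidx
  have hcard : Nat.card (↥H ⧸ M.subgroupOf H) = 2 := by
    rw [← Subgroup.index_eq_card]; exact hidx
  haveI : Fact (Nat.Prime 2) := ⟨Nat.prime_two⟩
  have hcyc : IsCyclic (↥H ⧸ M.subgroupOf H) := isCyclic_of_prime_card (p := 2) hcard
  have e : (↥H ⧸ M.subgroupOf H) ≃* Multiplicative (ZMod 2) := by
    have e0 := (zmodCyclicMulEquiv hcyc).symm
    rw [hcard] at e0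
    exact e0
  refine ⟨e.toMonoidHom.comp (QuotientGroup.mk' (M.subgroupOf H)), fun h => ?_⟩
  simp only [MonoidHom.coe_comp, MulEquiv.coe_toMonoidHom, Function.comp_apply,
    QuotientGroup.mk'_apply]
  rw [MulEquiv.map_eq_one_iff, QuotientGroup.eq_one_iff, Subgroup.mem_subgroupOf]

theorem mult_zmod_two_dichotomy :
    ∀ a b : Multiplicative (ZMod 2), b ≠ 1 → a = 1 ∨ a = b := by decide

theorem transfer_term {G : Type*} [Group G]
    (H M : Subgroup G) (ϕ : ↥H →* Multiplicative (ZMod 2))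
    (hϕ : ∀ h : ↥H, ϕ h = 1 ↔ (h : G) ∈ M)
    (n : ℕ) (hn : 1 ≤ n) (hord : ∀ y ∈ H, y ∉ M → 2 ^ (n - 1) < orderOf y)
    (x : G) (hxn : orderOf x = 2 ^ n) (hcon : ∀ g : G, g * x * g⁻¹ ∉ M)
    (g : G) (r : ℕ) (hdvd : r ∣ 2 ^ n) (hmemH : g⁻¹ * x ^ r * g ∈ H) :
    ϕ ⟨g⁻¹ * x ^ r * g, hmemH⟩ = Multiplicative.ofAdd ((r : ℕ) : ZMod 2) := by
  obtain ⟨j, hj, hrj⟩ := (Nat.dvd_prime_pow Nat.prime_two).1 hdvd
  rcases Nat.eq_zero_or_pos j with hj0 | hjpos
  · -- r = 1
    have hr1 : r = 1 := by rw [hrj, hj0, pow_zero]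
    subst hr1
    have hnot : (g⁻¹ * x ^ 1 * g) ∉ M := by
      have := hcon g⁻¹
      rw [pow_one]
      simpa using this
    have hne : ϕ ⟨g⁻¹ * x ^ 1 * g, hmemH⟩ ≠ 1 := by
      intro h
      exact hnot ((hϕ ⟨g⁻¹ * x ^ 1 * g, hmemH⟩).1 h)
    have : ∀ a : Multiplicative (ZMod 2), a ≠ 1 → a = Multiplicative.ofAdd ((1 : ℕ) : ZMod 2) := by
      decide
    exact this _ hne
  · -- r even
    have h2r : 2 ∣ r := by
      rw [hrj]; exact dvd_pow_self 2 hjpos.ne'
    have hmem : (g⁻¹ * x ^ r * g) ∈ M := by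
      by_contra hnot
      have hlt := hord _ hmemH hnot
      have hoc : orderOf (g⁻¹ * x ^ r * g) = orderOf (x ^ r) := by
        have hsc : SemiconjBy g⁻¹ (x ^ r) (g⁻¹ * x ^ r * g) := by
          unfold SemiconjBy; group
        exact (hsc.orderOf_eq).symm
      rw [hoc, hrj, orderOf_pow' _ (by positivity), hxn] at hlt
      have hgcd : Nat.gcd (2 ^ n) (2 ^ j) = 2 ^ j := by
        rw [Nat.gcd_comm]
        exact Nat.gcd_eq_left (pow_dvd_pow 2 hj)
      rw [hgcd, Nat.pow_div hj (by norm_num)] at hlt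
      have h3 : n - j ≤ n - 1 := by omega
      have := Nat.pow_le_pow_right (show 0 < 2 by norm_num) h3
      omega
    have h1 : ϕ ⟨g⁻¹ * x ^ r * g, hmemH⟩ = 1 := (hϕ _).2 hmem
    rw [h1]
    have : ((r : ℕ) : ZMod 2) = 0 := (ZMod.natCast_eq_zero_iff r 2).2 h2r
    rw [this]; rfl

/-- Generalized Thompson transfer lemma. -/
theorem thompson_transfer {G : Type*} [Group G] [Finite G]
    (S : Sylow 2 G) (M : Subgroup G)
    (hM : M.relIndex (S : Subgroup G) = 2)
    (n : ℕ) (hn : 1 ≤ n) (hord : ∀ y ∈ (S : Subgroup G), y ∉ M → 2 ^ (n - 1) < orderOf y)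
    (x : G) (hxn : orderOf x = 2 ^ n) (hcon : ∀ g : G, g * x * g⁻¹ ∉ M) :
    ∃ N : Subgroup G, N.Normal ∧ N.index = 2 ∧ x ∉ N := by
  classical
  haveI : Fact (Nat.Prime 2) := ⟨Nat.prime_two⟩
  obtain ⟨ϕ, hϕ⟩ := exists_hom_of_relIndex_two (S : Subgroup G) M hM
  let τ : G →* Multiplicative (ZMod 2) := MonoidHom.transfer ϕ
  have key : τ x ≠ 1 := by
    haveI : Fintype (Quotient (orbitRel (zpowers x) (G ⧸ (S : Subgroup G)))) := Fintype.ofFinite _
    have hform := MonoidHom.transfer_eq_prod_quotient_orbitRel_zpowers_quot ϕ x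
    have hterm : ∀ q : Quotient (orbitRel (zpowers x) (G ⧸ (S : Subgroup G))),
        ϕ ⟨q.out.out⁻¹ * x ^ Function.minimalPeriod (x • ·) q.out * q.out.out,
            QuotientGroup.out_conj_pow_minimalPeriod_mem (S : Subgroup G) x q.out⟩ =
          Multiplicative.ofAdd ((Function.minimalPeriod (x • ·) q.out : ℕ) : ZMod 2) := by
      intro q
      have hper : Function.IsPeriodicPt (x • ·) (2 ^ n) q.out := by
        show (fun y : G ⧸ (S : Subgroup G) => x • y)^[2 ^ n] q.out = q.out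
        rw [smul_iterate_apply, ← hxn, pow_orderOf_eq_one, one_smul]
      exact transfer_term (S : Subgroup G) M ϕ hϕ n hn hord x hxn hcon q.out.out _
        hper.minimalPeriod_dvd _
    have hsum : (S : Subgroup G).index = ∑ q : Quotient (orbitRel (zpowers x) (G ⧸ (S : Subgroup G))),
        Function.minimalPeriod (x • ·) q.out := Subgroup.index_eq_sum_minimalPeriod (S : Subgroup G) x
    have hodd : ¬ 2 ∣ (S : Subgroup G).index := S.not_dvd_index
    show MonoidHom.transfer ϕ x ≠ 1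
    rw [hform]
    simp_rw [hterm]
    rw [← ofAdd_sum, ← Nat.cast_sum, ← hsum]
    intro h
    have h0 : (((S : Subgroup G).index : ℕ) : ZMod 2) = 0 := by
      simpa using h
    exact hodd ((ZMod.natCast_eq_zero_iff _ 2).1 h0)
  refine ⟨τ.ker, inferInstance, ?_, fun hx => key (MonoidHom.mem_ker.1 hx)⟩
  rw [Subgroup.index_ker]
  have hr : τ.range = ⊤ := by
    rw [eq_top_iff]
    intro a _
    rcases mult_zmod_two_dichotomy a (τ x) key with h | h
    · rw [h]; exact one_mem _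
    · rw [h]; exact ⟨x, rfl⟩
  rw [hr]
  simp

end Cfsg.Agent.Lib.Helper53
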