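import Cfsg.Agent.Lib.Helper37.B2O5Defs

/-! # Bo hive (S1083, owner helper37), leaf BO-HDIAG: the image of `h_r(t)` is diagonal. -/

set_option autoImplicit false
set_option linter.unusedSectionVars false
set_option linter.unusedVariables false

namespace Cfsg.Agent.Lib.Helper37.B2O5

open Matrix Module QuadraticMap
open Cfsg.Agent.Lib.Helper8 Cfsg.Agent.Lib.Helper13 Cfsg.Agent.Lib.Helper37 Cfsg.Agent.Lib.Helper43

variable {F : Type*} [Field F]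

/-- the word `h_r(t)` as a product of six root elements -/
theorem hdiag_wprod (r : Fin 8) (t : F) :
    wprod (Cfsg.Lie.chevB2.hWord (r : ℕ) t) =
      X r t * X (Fin.rev r) (-t⁻¹) * X r t * X r (-1) * X (Fin.rev r) (-(-1 : F)⁻¹) * X r (-1) := by
  have hneg : Cfsg.Lie.chevB2.neg (r : ℕ) = ((Fin.rev r : Fin 8) : ℕ) := by
    fin_cases r <;> decide
  unfold wprod Cfsg.Lie.ChevalleyDatum.hWord Cfsg.Lie.ChevalleyDatum.nWord
  rw [hneg]
  simp only [List.cons_append, List.nil_append, List.map_cons, List.map_nil, List.prod_cons,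
    List.prod_nil, mul_one]
  simp only [Xn_of_lt r.2, Xn_of_lt (Fin.rev r).2, Fin.eta, mul_assoc]

/-- BO-HDIAG. The image of `h_r(t) = n_r(t) n_r(-1)` is diagonal (`fin_cases r`; unfold `wprod`,
`hWord`, `nWord`, `chevB2.neg` (`decide`); compose the six explicit maps; `field_simp; ring`). -/
theorem act_H (r : Fin 8) (t : F) (ht : t ≠ 0) (x : I5 → F) :
    act (Q5 F) (wprod (Cfsg.Lie.chevB2.hWord (r : ℕ) t)) x =
      mk5 (cz x) (ha1 r t * ca1 x) (ha2 r t * ca2 x) ((ha1 r t)⁻¹ * cb1 x) ((ha2 r t)⁻¹ * cb2 x) := by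
  rw [hdiag_wprod]
  simp only [act_mul]
  fin_cases r
  · show act (Q5 F) (X 0 t) (act (Q5 F) (X 7 (-t⁻¹)) (act (Q5 F) (X 0 t) (act (Q5 F) (X 0 (-1))
      (act (Q5 F) (X 7 (-(-1 : F)⁻¹)) (act (Q5 F) (X 0 (-1)) x))))) = _
    simp only [act_X0, act_X7]
    apply ext5 <;> simp [ha1, ha2] <;> (try field_simp) <;> (try ring)
  · show act (Q5 F) (X 1 t) (act (Q5 F) (X 6 (-t⁻¹)) (act (Q5 F) (X 1 t) (act (Q5 F) (X 1 (-1))
      (act (Q5 F) (X 6 (-(-1 : F)⁻¹)) (act (Q5 F) (X 1 (-1)) x))))) = _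
    simp only [act_X1, act_X6]
    apply ext5 <;> simp [ha1, ha2] <;> (try field_simp) <;> (try ring)
  · show act (Q5 F) (X 2 t) (act (Q5 F) (X 5 (-t⁻¹)) (act (Q5 F) (X 2 t) (act (Q5 F) (X 2 (-1))
      (act (Q5 F) (X 5 (-(-1 : F)⁻¹)) (act (Q5 F) (X 2 (-1)) x))))) = _
    simp only [act_X2, act_X5]
    apply ext5 <;> simp [ha1, ha2] <;> (try field_simp) <;> (try ring)
  · show act (Q5 F) (X 3 t) (act (Q5 F) (X 4 (-t⁻¹)) (act (Q5 F) (X 3 t) (act (Q5 F) (X 3 (-1))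
      (act (Q5 F) (X 4 (-(-1 : F)⁻¹)) (act (Q5 F) (X 3 (-1)) x))))) = _
    simp only [act_X3, act_X4]
    apply ext5 <;> simp [ha1, ha2] <;> (try field_simp) <;> (try ring)
  · show act (Q5 F) (X 4 t) (act (Q5 F) (X 3 (-t⁻¹)) (act (Q5 F) (X 4 t) (act (Q5 F) (X 4 (-1))
      (act (Q5 F) (X 3 (-(-1 : F)⁻¹)) (act (Q5 F) (X 4 (-1)) x))))) = _
    simp only [act_X4, act_X3]
    apply ext5 <;> simp [ha1, ha2] <;> (try field_simp) <;> (try ring)
  · show act (Q5 F) (X 5 t) (act (Q5 F) (X 2 (-t⁻¹)) (act (Q5 F) (X 5 t) (act (Q5 F) (X 5 (-1))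
      (act (Q5 F) (X 2 (-(-1 : F)⁻¹)) (act (Q5 F) (X 5 (-1)) x))))) = _
    simp only [act_X5, act_X2]
    apply ext5 <;> simp [ha1, ha2] <;> (try field_simp) <;> (try ring)
  · show act (Q5 F) (X 6 t) (act (Q5 F) (X 1 (-t⁻¹)) (act (Q5 F) (X 6 t) (act (Q5 F) (X 6 (-1))
      (act (Q5 F) (X 1 (-(-1 : F)⁻¹)) (act (Q5 F) (X 6 (-1)) x))))) = _
    simp only [act_X6, act_X1]
    apply ext5 <;> simp [ha1, ha2] <;> (try field_simp) <;> (try ring)
  · show act (Q5 F) (X 7 t) (act (Q5 F) (X 0 (-t⁻¹)) (act (Q5 F) (X 7 t) (act (Q5 F) (X 7 (-1))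
      (act (Q5 F) (X 0 (-(-1 : F)⁻¹)) (act (Q5 F) (X 7 (-1)) x))))) = _
    simp only [act_X7, act_X0]
    apply ext5 <;> simp [ha1, ha2] <;> (try field_simp) <;> (try ring)

end Cfsg.Agent.Lib.Helper37.B2O5
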