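import Cfsg.Agent.Lib.Helper37.B2O5Defs
import Cfsg.Agent.Lib.Helper53.Bo_HDIAG

/-! # Bo hive (S1083, owner helper37), leaf BO-REL3: the relation (R3) `h_r(t₁) h_r(t₂) = h_r(t₁ t₂)`. -/

set_option autoImplicit false
set_option linter.unusedSectionVars false
set_option linter.unusedVariables false

namespace Cfsg.Agent.Lib.Helper37.B2O5

open Matrix Module QuadraticMap
open Cfsg.Agent.Lib.Helper8 Cfsg.Agent.Lib.Helper13 Cfsg.Agent.Lib.Helper37 Cfsg.Agent.Lib.Helper43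

variable {F : Type*} [Field F]

theorem rel3_ha1_mul (r : Fin 8) (t₁ t₂ : F) : ha1 r (t₁ * t₂) = ha1 r t₁ * ha1 r t₂ := by
  fin_cases r <;> simp [ha1, mul_pow, mul_comm]

theorem rel3_ha2_mul (r : Fin 8) (t₁ t₂ : F) : ha2 r (t₁ * t₂) = ha2 r t₁ * ha2 r t₂ := by
  fin_cases r <;> simp [ha2, mul_pow, mul_comm]

/-- BO-REL3 (from `act_H`, `reflElt_ext`, `ha1`/`ha2` multiplicative in `t`). -/
theorem rel3 (r : ℕ) (hr : r < 8) (t₁ t₂ : F) (h₁ : t₁ ≠ 0) (h₂ : t₂ ≠ 0) :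
    wprod (Cfsg.Lie.chevB2.hWord r t₁) * wprod (Cfsg.Lie.chevB2.hWord r t₂)
      = wprod (Cfsg.Lie.chevB2.hWord r (t₁ * t₂)) := by
  apply reflElt_ext
  intro x
  rw [act_mul]
  have e1 := fun (t : F) (ht : t ≠ 0) (y : I5 → F) => act_H (⟨r, hr⟩ : Fin 8) t ht y
  simp only [] at e1
  rw [e1 t₂ h₂, e1 t₁ h₁, e1 (t₁ * t₂) (mul_ne_zero h₁ h₂), rel3_ha1_mul, rel3_ha2_mul]
  apply ext5 <;> simp <;> ring

end Cfsg.Agent.Lib.Helper37.B2O5
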