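import Cfsg.Agent.Lib.Helper37.D4O8Defs

/-! # Do hive (S1082, owner helper37), leaf DO-HDIAG-a: the image of `h_r(t)` is diagonal (roots 0..7). -/

set_option autoImplicit false
set_option linter.unusedSectionVars false
set_option linter.unusedVariables false

namespace Cfsg.Agent.Lib.Helper37.D4O8

open Matrix Module QuadraticMap
open Cfsg.Agent.Lib.Helper8 Cfsg.Agent.Lib.Helper13 Cfsg.Agent.Lib.Helper37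

variable {F : Type*} [Field F]

/-- the word `h_r(t)` as a product of six root elements -/
theorem hdiaga_wprod (r : Fin 24) (t : F) :
    wprod (Cfsg.Lie.chevD4.hWord (r : ℕ) t) =
      X r t * X (Fin.rev r) (-t⁻¹) * X r t * X r (-1) * X (Fin.rev r) (-(-1 : F)⁻¹) * X r (-1) := by
  have hneg : Cfsg.Lie.chevD4.neg (r : ℕ) = ((Fin.rev r : Fin 24) : ℕ) := by
    fin_cases r <;> decide
  unfold wprod Cfsg.Lie.ChevalleyDatum.hWord Cfsg.Lie.ChevalleyDatum.nWord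
  rw [hneg]
  simp only [List.cons_append, List.nil_append, List.map_cons, List.map_nil, List.prod_cons,
    List.prod_nil, mul_one]
  simp only [Xn_of_lt r.2, Xn_of_lt (Fin.rev r).2, Fin.eta, mul_assoc]

/-- DO-HDIAG-a. -/
theorem act_H_a (r : Fin 24) (hr : r.val < 8) (t : F) (ht : t ≠ 0) (x : I8 → F) :
    act (Q8 F) (wprod (Cfsg.Lie.chevD4.hWord (r : ℕ) t)) x =
      mk8 (ha1 r t * ca1 x) (ha2 r t * ca2 x) (ha3 r t * ca3 x) (ha4 r t * ca4 x)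
        ((ha1 r t)⁻¹ * cb1 x) ((ha2 r t)⁻¹ * cb2 x) ((ha3 r t)⁻¹ * cb3 x) ((ha4 r t)⁻¹ * cb4 x) := by
  rw [hdiaga_wprod]
  simp only [act_mul]
  obtain ⟨r, hr24⟩ := r
  simp only at hr
  interval_cases r
  · show act (Q8 F) (X 0 t) (act (Q8 F) (X 23 (-t⁻¹)) (act (Q8 F) (X 0 t) (act (Q8 F) (X 0 (-1))
      (act (Q8 F) (X 23 (-(-1 : F)⁻¹)) (act (Q8 F) (X 0 (-1)) x))))) =
      mk8 (ha1 0 t * ca1 x) (ha2 0 t * ca2 x) (ha3 0 t * ca3 x) (ha4 0 t * ca4 x)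
        ((ha1 0 t)⁻¹ * cb1 x) ((ha2 0 t)⁻¹ * cb2 x) ((ha3 0 t)⁻¹ * cb3 x) ((ha4 0 t)⁻¹ * cb4 x)
    simp only [act_X0, act_X23]
    apply ext8 <;> simp [ha1, ha2, ha3, ha4] <;> (try field_simp) <;> (try ring)
  · show act (Q8 F) (X 1 t) (act (Q8 F) (X 22 (-t⁻¹)) (act (Q8 F) (X 1 t) (act (Q8 F) (X 1 (-1))
      (act (Q8 F) (X 22 (-(-1 : F)⁻¹)) (act (Q8 F) (X 1 (-1)) x))))) =
      mk8 (ha1 1 t * ca1 x) (ha2 1 t * ca2 x) (ha3 1 t * ca3 x) (ha4 1 t * ca4 x)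
        ((ha1 1 t)⁻¹ * cb1 x) ((ha2 1 t)⁻¹ * cb2 x) ((ha3 1 t)⁻¹ * cb3 x) ((ha4 1 t)⁻¹ * cb4 x)
    simp only [act_X1, act_X22]
    apply ext8 <;> simp [ha1, ha2, ha3, ha4] <;> (try field_simp) <;> (try ring)
  · show act (Q8 F) (X 2 t) (act (Q8 F) (X 21 (-t⁻¹)) (act (Q8 F) (X 2 t) (act (Q8 F) (X 2 (-1))
      (act (Q8 F) (X 21 (-(-1 : F)⁻¹)) (act (Q8 F) (X 2 (-1)) x))))) =
      mk8 (ha1 2 t * ca1 x) (ha2 2 t * ca2 x) (ha3 2 t * ca3 x) (ha4 2 t * ca4 x)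
        ((ha1 2 t)⁻¹ * cb1 x) ((ha2 2 t)⁻¹ * cb2 x) ((ha3 2 t)⁻¹ * cb3 x) ((ha4 2 t)⁻¹ * cb4 x)
    simp only [act_X2, act_X21]
    apply ext8 <;> simp [ha1, ha2, ha3, ha4] <;> (try field_simp) <;> (try ring)
  · show act (Q8 F) (X 3 t) (act (Q8 F) (X 20 (-t⁻¹)) (act (Q8 F) (X 3 t) (act (Q8 F) (X 3 (-1))
      (act (Q8 F) (X 20 (-(-1 : F)⁻¹)) (act (Q8 F) (X 3 (-1)) x))))) =
      mk8 (ha1 3 t * ca1 x) (ha2 3 t * ca2 x) (ha3 3 t * ca3 x) (ha4 3 t * ca4 x)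
        ((ha1 3 t)⁻¹ * cb1 x) ((ha2 3 t)⁻¹ * cb2 x) ((ha3 3 t)⁻¹ * cb3 x) ((ha4 3 t)⁻¹ * cb4 x)
    simp only [act_X3, act_X20]
    apply ext8 <;> simp [ha1, ha2, ha3, ha4] <;> (try field_simp) <;> (try ring)
  · show act (Q8 F) (X 4 t) (act (Q8 F) (X 19 (-t⁻¹)) (act (Q8 F) (X 4 t) (act (Q8 F) (X 4 (-1))
      (act (Q8 F) (X 19 (-(-1 : F)⁻¹)) (act (Q8 F) (X 4 (-1)) x))))) =
      mk8 (ha1 4 t * ca1 x) (ha2 4 t * ca2 x) (ha3 4 t * ca3 x) (ha4 4 t * ca4 x)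
        ((ha1 4 t)⁻¹ * cb1 x) ((ha2 4 t)⁻¹ * cb2 x) ((ha3 4 t)⁻¹ * cb3 x) ((ha4 4 t)⁻¹ * cb4 x)
    simp only [act_X4, act_X19]
    apply ext8 <;> simp [ha1, ha2, ha3, ha4] <;> (try field_simp) <;> (try ring)
  · show act (Q8 F) (X 5 t) (act (Q8 F) (X 18 (-t⁻¹)) (act (Q8 F) (X 5 t) (act (Q8 F) (X 5 (-1))
      (act (Q8 F) (X 18 (-(-1 : F)⁻¹)) (act (Q8 F) (X 5 (-1)) x))))) =
      mk8 (ha1 5 t * ca1 x) (ha2 5 t * ca2 x) (ha3 5 t * ca3 x) (ha4 5 t * ca4 x)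
        ((ha1 5 t)⁻¹ * cb1 x) ((ha2 5 t)⁻¹ * cb2 x) ((ha3 5 t)⁻¹ * cb3 x) ((ha4 5 t)⁻¹ * cb4 x)
    simp only [act_X5, act_X18]
    apply ext8 <;> simp [ha1, ha2, ha3, ha4] <;> (try field_simp) <;> (try ring)
  · show act (Q8 F) (X 6 t) (act (Q8 F) (X 17 (-t⁻¹)) (act (Q8 F) (X 6 t) (act (Q8 F) (X 6 (-1))
      (act (Q8 F) (X 17 (-(-1 : F)⁻¹)) (act (Q8 F) (X 6 (-1)) x))))) =
      mk8 (ha1 6 t * ca1 x) (ha2 6 t * ca2 x) (ha3 6 t * ca3 x) (ha4 6 t * ca4 x)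
        ((ha1 6 t)⁻¹ * cb1 x) ((ha2 6 t)⁻¹ * cb2 x) ((ha3 6 t)⁻¹ * cb3 x) ((ha4 6 t)⁻¹ * cb4 x)
    simp only [act_X6, act_X17]
    apply ext8 <;> simp [ha1, ha2, ha3, ha4] <;> (try field_simp) <;> (try ring)
  · show act (Q8 F) (X 7 t) (act (Q8 F) (X 16 (-t⁻¹)) (act (Q8 F) (X 7 t) (act (Q8 F) (X 7 (-1))
      (act (Q8 F) (X 16 (-(-1 : F)⁻¹)) (act (Q8 F) (X 7 (-1)) x))))) =
      mk8 (ha1 7 t * ca1 x) (ha2 7 t * ca2 x) (ha3 7 t * ca3 x) (ha4 7 t * ca4 x)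
        ((ha1 7 t)⁻¹ * cb1 x) ((ha2 7 t)⁻¹ * cb2 x) ((ha3 7 t)⁻¹ * cb3 x) ((ha4 7 t)⁻¹ * cb4 x)
    simp only [act_X7, act_X16]
    apply ext8 <;> simp [ha1, ha2, ha3, ha4] <;> (try field_simp) <;> (try ring)

end Cfsg.Agent.Lib.Helper37.D4O8
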