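import Cfsg.Agent.Lib.Helper37.D4O8Defs
import Cfsg.Agent.Lib.Helper53.Do_HDIAGa
import Cfsg.Agent.Lib.Helper27.Do_HDIAGb

/-! # Do hive (S1082, owner helper37), leaf DO-REL3: the relation (R3) `h_r(t₁) h_r(t₂) = h_r(t₁ t₂)`.
(Self-contained for the roots 16..23: `rel3_act_H_c` is a private copy of the statement of DO-HDIAG-c.) -/

set_option autoImplicit false
set_option linter.unusedSectionVars false
set_option linter.unusedVariables false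

namespace Cfsg.Agent.Lib.Helper37.D4O8

open Matrix Module QuadraticMap
open Cfsg.Agent.Lib.Helper8 Cfsg.Agent.Lib.Helper13 Cfsg.Agent.Lib.Helper37

variable {F : Type*} [Field F]

theorem rel3_ha1_mul (r : Fin 24) (t₁ t₂ : F) : ha1 r (t₁ * t₂) = ha1 r t₁ * ha1 r t₂ := by
  fin_cases r <;> simp [ha1, mul_comm]

theorem rel3_ha2_mul (r : Fin 24) (t₁ t₂ : F) : ha2 r (t₁ * t₂) = ha2 r t₁ * ha2 r t₂ := by
  fin_cases r <;> simp [ha2, mul_comm]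

theorem rel3_ha3_mul (r : Fin 24) (t₁ t₂ : F) : ha3 r (t₁ * t₂) = ha3 r t₁ * ha3 r t₂ := by
  fin_cases r <;> simp [ha3, mul_comm]

theorem rel3_ha4_mul (r : Fin 24) (t₁ t₂ : F) : ha4 r (t₁ * t₂) = ha4 r t₁ * ha4 r t₂ := by
  fin_cases r <;> simp [ha4, mul_comm]

/-- the roots 16..23 (same statement as DO-HDIAG-c) -/
theorem rel3_act_H_c (r : Fin 24) (hr : 16 ≤ r.val) (t : F) (ht : t ≠ 0) (x : I8 → F) :
    act (Q8 F) (wprod (Cfsg.Lie.chevD4.hWord (r : ℕ) t)) x =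
      mk8 (ha1 r t * ca1 x) (ha2 r t * ca2 x) (ha3 r t * ca3 x) (ha4 r t * ca4 x)
        ((ha1 r t)⁻¹ * cb1 x) ((ha2 r t)⁻¹ * cb2 x) ((ha3 r t)⁻¹ * cb3 x) ((ha4 r t)⁻¹ * cb4 x) := by
  rw [hdiaga_wprod]
  simp only [act_mul]
  obtain ⟨r, hr24⟩ := r
  simp only at hr
  interval_cases r
  · show act (Q8 F) (X 16 t) (act (Q8 F) (X 7 (-t⁻¹)) (act (Q8 F) (X 16 t) (act (Q8 F) (X 16 (-1))
      (act (Q8 F) (X 7 (-(-1 : F)⁻¹)) (act (Q8 F) (X 16 (-1)) x))))) =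
      mk8 (ha1 16 t * ca1 x) (ha2 16 t * ca2 x) (ha3 16 t * ca3 x) (ha4 16 t * ca4 x)
        ((ha1 16 t)⁻¹ * cb1 x) ((ha2 16 t)⁻¹ * cb2 x) ((ha3 16 t)⁻¹ * cb3 x) ((ha4 16 t)⁻¹ * cb4 x)
    simp only [act_X16, act_X7]
    apply ext8 <;> simp [ha1, ha2, ha3, ha4] <;> (try field_simp) <;> (try ring)
  · show act (Q8 F) (X 17 t) (act (Q8 F) (X 6 (-t⁻¹)) (act (Q8 F) (X 17 t) (act (Q8 F) (X 17 (-1))
      (act (Q8 F) (X 6 (-(-1 : F)⁻¹)) (act (Q8 F) (X 17 (-1)) x))))) =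
      mk8 (ha1 17 t * ca1 x) (ha2 17 t * ca2 x) (ha3 17 t * ca3 x) (ha4 17 t * ca4 x)
        ((ha1 17 t)⁻¹ * cb1 x) ((ha2 17 t)⁻¹ * cb2 x) ((ha3 17 t)⁻¹ * cb3 x) ((ha4 17 t)⁻¹ * cb4 x)
    simp only [act_X17, act_X6]
    apply ext8 <;> simp [ha1, ha2, ha3, ha4] <;> (try field_simp) <;> (try ring)
  · show act (Q8 F) (X 18 t) (act (Q8 F) (X 5 (-t⁻¹)) (act (Q8 F) (X 18 t) (act (Q8 F) (X 18 (-1))
      (act (Q8 F) (X 5 (-(-1 : F)⁻¹)) (act (Q8 F) (X 18 (-1)) x))))) =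
      mk8 (ha1 18 t * ca1 x) (ha2 18 t * ca2 x) (ha3 18 t * ca3 x) (ha4 18 t * ca4 x)
        ((ha1 18 t)⁻¹ * cb1 x) ((ha2 18 t)⁻¹ * cb2 x) ((ha3 18 t)⁻¹ * cb3 x) ((ha4 18 t)⁻¹ * cb4 x)
    simp only [act_X18, act_X5]
    apply ext8 <;> simp [ha1, ha2, ha3, ha4] <;> (try field_simp) <;> (try ring)
  · show act (Q8 F) (X 19 t) (act (Q8 F) (X 4 (-t⁻¹)) (act (Q8 F) (X 19 t) (act (Q8 F) (X 19 (-1))
      (act (Q8 F) (X 4 (-(-1 : F)⁻¹)) (act (Q8 F) (X 19 (-1)) x))))) =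
      mk8 (ha1 19 t * ca1 x) (ha2 19 t * ca2 x) (ha3 19 t * ca3 x) (ha4 19 t * ca4 x)
        ((ha1 19 t)⁻¹ * cb1 x) ((ha2 19 t)⁻¹ * cb2 x) ((ha3 19 t)⁻¹ * cb3 x) ((ha4 19 t)⁻¹ * cb4 x)
    simp only [act_X19, act_X4]
    apply ext8 <;> simp [ha1, ha2, ha3, ha4] <;> (try field_simp) <;> (try ring)
  · show act (Q8 F) (X 20 t) (act (Q8 F) (X 3 (-t⁻¹)) (act (Q8 F) (X 20 t) (act (Q8 F) (X 20 (-1))
      (act (Q8 F) (X 3 (-(-1 : F)⁻¹)) (act (Q8 F) (X 20 (-1)) x))))) =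
      mk8 (ha1 20 t * ca1 x) (ha2 20 t * ca2 x) (ha3 20 t * ca3 x) (ha4 20 t * ca4 x)
        ((ha1 20 t)⁻¹ * cb1 x) ((ha2 20 t)⁻¹ * cb2 x) ((ha3 20 t)⁻¹ * cb3 x) ((ha4 20 t)⁻¹ * cb4 x)
    simp only [act_X20, act_X3]
    apply ext8 <;> simp [ha1, ha2, ha3, ha4] <;> (try field_simp) <;> (try ring)
  · show act (Q8 F) (X 21 t) (act (Q8 F) (X 2 (-t⁻¹)) (act (Q8 F) (X 21 t) (act (Q8 F) (X 21 (-1))
      (act (Q8 F) (X 2 (-(-1 : F)⁻¹)) (act (Q8 F) (X 21 (-1)) x))))) =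
      mk8 (ha1 21 t * ca1 x) (ha2 21 t * ca2 x) (ha3 21 t * ca3 x) (ha4 21 t * ca4 x)
        ((ha1 21 t)⁻¹ * cb1 x) ((ha2 21 t)⁻¹ * cb2 x) ((ha3 21 t)⁻¹ * cb3 x) ((ha4 21 t)⁻¹ * cb4 x)
    simp only [act_X21, act_X2]
    apply ext8 <;> simp [ha1, ha2, ha3, ha4] <;> (try field_simp) <;> (try ring)
  · show act (Q8 F) (X 22 t) (act (Q8 F) (X 1 (-t⁻¹)) (act (Q8 F) (X 22 t) (act (Q8 F) (X 22 (-1))
      (act (Q8 F) (X 1 (-(-1 : F)⁻¹)) (act (Q8 F) (X 22 (-1)) x))))) =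
      mk8 (ha1 22 t * ca1 x) (ha2 22 t * ca2 x) (ha3 22 t * ca3 x) (ha4 22 t * ca4 x)
        ((ha1 22 t)⁻¹ * cb1 x) ((ha2 22 t)⁻¹ * cb2 x) ((ha3 22 t)⁻¹ * cb3 x) ((ha4 22 t)⁻¹ * cb4 x)
    simp only [act_X22, act_X1]
    apply ext8 <;> simp [ha1, ha2, ha3, ha4] <;> (try field_simp) <;> (try ring)
  · show act (Q8 F) (X 23 t) (act (Q8 F) (X 0 (-t⁻¹)) (act (Q8 F) (X 23 t) (act (Q8 F) (X 23 (-1))
      (act (Q8 F) (X 0 (-(-1 : F)⁻¹)) (act (Q8 F) (X 23 (-1)) x))))) =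
      mk8 (ha1 23 t * ca1 x) (ha2 23 t * ca2 x) (ha3 23 t * ca3 x) (ha4 23 t * ca4 x)
        ((ha1 23 t)⁻¹ * cb1 x) ((ha2 23 t)⁻¹ * cb2 x) ((ha3 23 t)⁻¹ * cb3 x) ((ha4 23 t)⁻¹ * cb4 x)
    simp only [act_X23, act_X0]
    apply ext8 <;> simp [ha1, ha2, ha3, ha4] <;> (try field_simp) <;> (try ring)

/-- the three HDIAG ranges glued -/
theorem rel3_act_H (r : Fin 24) (t : F) (ht : t ≠ 0) (x : I8 → F) :
    act (Q8 F) (wprod (Cfsg.Lie.chevD4.hWord (r : ℕ) t)) x =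
      mk8 (ha1 r t * ca1 x) (ha2 r t * ca2 x) (ha3 r t * ca3 x) (ha4 r t * ca4 x)
        ((ha1 r t)⁻¹ * cb1 x) ((ha2 r t)⁻¹ * cb2 x) ((ha3 r t)⁻¹ * cb3 x) ((ha4 r t)⁻¹ * cb4 x) := by
  by_cases h1 : r.val < 8
  · exact act_H_a r h1 t ht x
  · by_cases h2 : r.val < 16
    · exact act_H_b r (by omega) h2 t ht x
    · exact rel3_act_H_c r (by omega) t ht x

/-- DO-REL3 (from `act_H`, `reflElt_ext`, `ha1..ha4` multiplicative in `t`). Model: helper53's Bo_REL3. -/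
theorem rel3 (r : ℕ) (hr : r < 24) (t₁ t₂ : F) (h₁ : t₁ ≠ 0) (h₂ : t₂ ≠ 0) :
    wprod (Cfsg.Lie.chevD4.hWord r t₁) * wprod (Cfsg.Lie.chevD4.hWord r t₂)
      = wprod (Cfsg.Lie.chevD4.hWord r (t₁ * t₂)) := by
  apply reflElt_ext
  intro x
  rw [act_mul]
  have e1 := fun (t : F) (ht : t ≠ 0) (y : I8 → F) => rel3_act_H (⟨r, hr⟩ : Fin 24) t ht y
  simp only [] at e1
  rw [e1 t₂ h₂, e1 t₁ h₁, e1 (t₁ * t₂) (mul_ne_zero h₁ h₂), rel3_ha1_mul, rel3_ha2_mul,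
    rel3_ha3_mul, rel3_ha4_mul]
  apply ext8 <;> simp <;> ring

end Cfsg.Agent.Lib.Helper37.D4O8
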