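import Mathlib
import Cfsg.Agent.Lib.Helper67.OgDefs
import Cfsg.Agent.Lib.Helper67.OgFam
import Cfsg.Agent.Lib.Helper37.OrthMinus
import Cfsg.Agent.Lib.Helper43.OrthCardMinus
import Cfsg.Agent.Lib.Helper39.SLPerfect

/-!
# Og hive, leaf OG-P-RHO3 : the extra element of order 4 for the plus type

`ρ = E₁ E₂ E₁` with `E₁ = E(e₂, e₃)`, `E₂ = E(f₃, -f₂)` acts as
`e₂ ↦ f₃, f₃ ↦ -e₂, f₂ ↦ e₃, e₃ ↦ -f₂` and fixes all other basis vectors.
-/

set_option autoImplicit false
set_option linter.unusedSectionVars false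
set_option linter.unusedVariables false
set_option linter.unusedSimpArgs false

namespace Cfsg.Agent.Lib.Helper67.Og

open Matrix Module QuadraticMap
open Cfsg.Agent.Lib.Helper37 Cfsg.Agent.Lib.Helper8 Cfsg.Agent.Lib.Helper43
open Cfsg.Agent.Lib.Helper37.OrthField
open scoped commutatorElement

section concrete

variable (F : Type*) [Field F]

/-- the explicit action of `ρ` on coordinates -/
def prho3_T (m : ℕ) (i2 i3 : Fin m) (x : Fin m ⊕ Fin m → F) : Fin m ⊕ Fin m → F :=
  fun j => match j with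
  | Sum.inl i =>
      if i = i2 then - x (Sum.inr i3) else if i = i3 then x (Sum.inr i2) else x (Sum.inl i)
  | Sum.inr i =>
      if i = i2 then - x (Sum.inl i3) else if i = i3 then x (Sum.inl i2) else x (Sum.inr i)

theorem prho3_polar_e (m : ℕ) (i : Fin m) (x : Fin m ⊕ Fin m → F) :
    polar ⇑(plusForm m F) (eP F m i) x = x (Sum.inr i) := by
  rw [polar_plusForm]
  simp [Pi.single_apply]

theorem prho3_polar_f (m : ℕ) (i : Fin m) (x : Fin m ⊕ Fin m → F) :
    polar ⇑(plusForm m F) (fP F m i) x = x (Sum.inl i) := by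
  rw [polar_plusForm]
  simp [Pi.single_apply]

theorem prho3_qe (m : ℕ) (i : Fin m) : plusForm m F (eP F m i) = 0 :=
  (plus_hypFam37 m F).qe i

theorem prho3_qf (m : ℕ) (i : Fin m) : plusForm m F (fP F m i) = 0 :=
  (plus_hypFam37 m F).qf i

theorem prho3_h1 (m : ℕ) (i2 i3 : Fin m) :
    polar ⇑(plusForm m F) (eP F m i2) (eP F m i3) = 0 :=
  (plus_hypFam37 m F).ee i2 i3

theorem prho3_h2 (m : ℕ) (i2 i3 : Fin m) :
    polar ⇑(plusForm m F) (fP F m i3) (-(fP F m i2)) = 0 := by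
  rw [polar_neg_right, (plus_hypFam37 m F).ff i3 i2, neg_zero]

/-- `E₁ = E(e₂, e₃)` -/
noncomputable def prho3_E1 (m : ℕ) (i2 i3 : Fin m) :
    ↥(Cfsg.isometryGroup F ⇑(plusForm m F)) :=
  eichlerElt (plusForm m F) (plusForm_nondegenerate m F) (eP F m i2) (eP F m i3)
    (prho3_qe F m i2) (prho3_h1 F m i2 i3)

/-- `E₂ = E(f₃, -f₂)` -/
noncomputable def prho3_E2 (m : ℕ) (i2 i3 : Fin m) :
    ↥(Cfsg.isometryGroup F ⇑(plusForm m F)) :=
  eichlerElt (plusForm m F) (plusForm_nondegenerate m F) (fP F m i3) (-(fP F m i2))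
    (prho3_qf F m i3) (prho3_h2 F m i2 i3)

theorem prho3_act_E1 (m : ℕ) (i2 i3 : Fin m) (x : Fin m ⊕ Fin m → F) :
    act (plusForm m F) (prho3_E1 F m i2 i3) x
      = x + x (Sum.inr i2) • eP F m i3 - x (Sum.inr i3) • eP F m i2 := by
  unfold prho3_E1
  rw [act_eichlerElt, prho3_polar_e, prho3_polar_e, prho3_qe, zero_mul, zero_smul, sub_zero]

theorem prho3_act_E2 (m : ℕ) (i2 i3 : Fin m) (x : Fin m ⊕ Fin m → F) :
    act (plusForm m F) (prho3_E2 F m i2 i3) x
      = x - x (Sum.inl i3) • fP F m i2 + x (Sum.inl i2) • fP F m i3 := by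
  unfold prho3_E2
  rw [act_eichlerElt, polar_neg_left, prho3_polar_f, prho3_polar_f, QuadraticMap.map_neg,
    prho3_qf, zero_mul, zero_smul, sub_zero, smul_neg, neg_smul, sub_neg_eq_add]
  abel

/-- `ρ = E₁ E₂ E₁` -/
noncomputable def prho3_rho (m : ℕ) (i2 i3 : Fin m) :
    ↥(Cfsg.isometryGroup F ⇑(plusForm m F)) :=
  prho3_E1 F m i2 i3 * prho3_E2 F m i2 i3 * prho3_E1 F m i2 i3

theorem prho3_act_rho (m : ℕ) (i2 i3 : Fin m) (h23 : i2 ≠ i3) (x : Fin m ⊕ Fin m → F) :
    act (plusForm m F) (prho3_rho F m i2 i3) x = prho3_T F m i2 i3 x := by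
  unfold prho3_rho
  rw [act_mul, act_mul, prho3_act_E1, prho3_act_E2, prho3_act_E1]
  have h32 : i3 ≠ i2 := Ne.symm h23
  funext j
  rcases j with i | i
  · by_cases hi2 : i = i2
    · subst hi2
      simp [prho3_T, Pi.single_apply, h23, h32]
    · by_cases hi3 : i = i3
      · subst hi3
        simp [prho3_T, Pi.single_apply, h23, h32]
      · simp [prho3_T, Pi.single_apply, h23, h32, hi2, hi3]
  · by_cases hi2 : i = i2
    · subst hi2
      simp [prho3_T, Pi.single_apply, h23, h32]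
    · by_cases hi3 : i = i3
      · subst hi3
        simp [prho3_T, Pi.single_apply, h23, h32]
      · simp [prho3_T, Pi.single_apply, h23, h32, hi2, hi3]

theorem prho3_T4 (m : ℕ) (i2 i3 : Fin m) (h23 : i2 ≠ i3) (x : Fin m ⊕ Fin m → F) :
    prho3_T F m i2 i3 (prho3_T F m i2 i3 (prho3_T F m i2 i3 (prho3_T F m i2 i3 x))) = x := by
  have h32 : i3 ≠ i2 := Ne.symm h23
  funext j
  rcases j with i | i
  · by_cases hi2 : i = i2
    · subst hi2
      simp [prho3_T, h23, h32]
    · by_cases hi3 : i = i3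
      · subst hi3
        simp [prho3_T, h23, h32]
      · simp [prho3_T, h23, h32, hi2, hi3]
  · by_cases hi2 : i = i2
    · subst hi2
      simp [prho3_T, h23, h32]
    · by_cases hi3 : i = i3
      · subst hi3
        simp [prho3_T, h23, h32]
      · simp [prho3_T, h23, h32, hi2, hi3]

theorem prho3_pow_four (m : ℕ) (i2 i3 : Fin m) (h23 : i2 ≠ i3) :
    prho3_rho F m i2 i3 ^ 4 = 1 := by
  apply iso_ext
  intro x
  have h4 : prho3_rho F m i2 i3 ^ 4
      = prho3_rho F m i2 i3 * (prho3_rho F m i2 i3 * (prho3_rho F m i2 i3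
        * prho3_rho F m i2 i3)) := by
    simp only [pow_succ, pow_zero, one_mul, mul_assoc]
  have key : act (plusForm m F) (prho3_rho F m i2 i3 ^ 4) x = act (plusForm m F) 1 x := by
    rw [h4, act_mul, act_mul, act_mul, prho3_act_rho F m i2 i3 h23, prho3_act_rho F m i2 i3 h23,
      prho3_act_rho F m i2 i3 h23, prho3_act_rho F m i2 i3 h23, prho3_T4 F m i2 i3 h23, act_one]
  exact key

theorem prho3_mem [Fintype F] (m : ℕ) (hm : 4 ≤ m) (i2 i3 : Fin m) :
    prho3_rho F m i2 i3 ∈ commutator ↥(Cfsg.isometryGroup F ⇑(plusForm m F)) := by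
  have hV : finrank F (Fin m ⊕ Fin m → F) = 2 * m := plus_hV
  have hn : 5 ≤ finrank F (Fin m ⊕ Fin m → F) := by omega
  have hn2 : (2 : F) = 0 → 7 ≤ finrank F (Fin m ⊕ Fin m → F) := fun _ => by omega
  have h1 : prho3_E1 F m i2 i3 ∈ commutator ↥(Cfsg.isometryGroup F ⇑(plusForm m F)) :=
    eichlerElt_mem_omega _ _ hn hn2 _ _ _ _
  have h2 : prho3_E2 F m i2 i3 ∈ commutator ↥(Cfsg.isometryGroup F ⇑(plusForm m F)) :=
    eichlerElt_mem_omega _ _ hn hn2 _ _ _ _
  exact Subgroup.mul_mem _ (Subgroup.mul_mem _ h1 h2) h1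

theorem exists_rho_plus_three [Fintype F] (hF : Fintype.card F = 3) (m : ℕ) (hm : 4 ≤ m)
    (i2 i3 : Fin m) (h23 : i2 ≠ i3) :
    ∃ ρ : ↥(Cfsg.isometryGroup F ⇑(plusForm m F)),
      ρ ∈ commutator ↥(Cfsg.isometryGroup F ⇑(plusForm m F)) ∧ ρ ^ 4 = 1 ∧
      (∀ i, i ≠ i2 → i ≠ i3 → act (plusForm m F) ρ (eP F m i) = eP F m i ∧
        act (plusForm m F) ρ (fP F m i) = fP F m i) ∧
      (∃ j, polar ⇑(plusForm m F) (fP F m j) (act (plusForm m F) ρ (fP F m i2)) ≠ 0) ∧
      (∃ j, polar ⇑(plusForm m F) (eP F m j) (act (plusForm m F) ρ (eP F m i2)) ≠ 0) := by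
  have h32 : i3 ≠ i2 := Ne.symm h23
  refine ⟨prho3_rho F m i2 i3, prho3_mem F m hm i2 i3, prho3_pow_four F m i2 i3 h23, ?_, ?_, ?_⟩
  · intro i hi2 hi3
    constructor
    · rw [prho3_act_rho F m i2 i3 h23]
      funext j
      rcases j with l | l
      · by_cases hl2 : l = i2
        · subst hl2
          simp [prho3_T, Pi.single_apply, hi2, Ne.symm hi2]
        · by_cases hl3 : l = i3
          · subst hl3
            simp [prho3_T, Pi.single_apply, hi3, Ne.symm hi3, h32]
          · simp [prho3_T, Pi.single_apply, hl2, hl3]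
      · by_cases hl2 : l = i2
        · subst hl2
          simp [prho3_T, Pi.single_apply, hi2, Ne.symm hi2, hi3, Ne.symm hi3]
        · by_cases hl3 : l = i3
          · subst hl3
            simp [prho3_T, Pi.single_apply, hi2, Ne.symm hi2, hi3, Ne.symm hi3, h32]
          · simp [prho3_T, Pi.single_apply, hl2, hl3]
    · rw [prho3_act_rho F m i2 i3 h23]
      funext j
      rcases j with l | l
      · by_cases hl2 : l = i2
        · subst hl2
          simp [prho3_T, Pi.single_apply, hi2, Ne.symm hi2, hi3, Ne.symm hi3]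
        · by_cases hl3 : l = i3
          · subst hl3
            simp [prho3_T, Pi.single_apply, hi2, Ne.symm hi2, hi3, Ne.symm hi3, h32]
          · simp [prho3_T, Pi.single_apply, hl2, hl3]
      · by_cases hl2 : l = i2
        · subst hl2
          simp [prho3_T, Pi.single_apply, hi2, Ne.symm hi2, hi3, Ne.symm hi3]
        · by_cases hl3 : l = i3
          · subst hl3
            simp [prho3_T, Pi.single_apply, hi2, Ne.symm hi2, hi3, Ne.symm hi3, h32]
          · simp [prho3_T, Pi.single_apply, hl2, hl3]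
  · refine ⟨i3, ?_⟩
    rw [prho3_act_rho F m i2 i3 h23, prho3_polar_f]
    simp [prho3_T, Pi.single_apply, h32]
  · refine ⟨i3, ?_⟩
    rw [prho3_act_rho F m i2 i3 h23, prho3_polar_e]
    simp [prho3_T, Pi.single_apply, h32]

end concrete

end Cfsg.Agent.Lib.Helper67.Og
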