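import Mathlib
import Cfsg.Agent.Lib.Helper94.Iso8Defs

/-!
# Iso8 hive (helper94, S3589), leaf ISO8-BLKPM: orthogonal sum (plus) ⊥ (minus) = (minus)

The general block-sum lemma `blkpm_general` is reused by ISO8-BLKPP.
-/

set_option autoImplicit false

namespace Cfsg.Agent.Lib.Helper94.Iso8

open Matrix

/-- the block-diagonal embedding as a monoid hom -/
def blkpm_hom {F : Type*} [Field F] {ι₁ ι₂ ι : Type} [Fintype ι₁] [DecidableEq ι₁]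
    [Fintype ι₂] [DecidableEq ι₂] [Fintype ι] [DecidableEq ι] (e : ι₁ ⊕ ι₂ ≃ ι) :
    Matrix ι₁ ι₁ F × Matrix ι₂ ι₂ F →* Matrix ι ι F where
  toFun p := Matrix.reindex e e (Matrix.fromBlocks p.1 0 0 p.2)
  map_one' := by
    simp only [Prod.fst_one, Prod.snd_one, Matrix.fromBlocks_one, Matrix.reindex_apply,
      Matrix.submatrix_one_equiv]
  map_mul' p q := by
    simp only [Prod.fst_mul, Prod.snd_mul, Matrix.reindex_apply, Matrix.submatrix_mul_equiv,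
      Matrix.fromBlocks_multiply, Matrix.mul_zero, Matrix.zero_mul, add_zero, zero_add]

theorem blkpm_hom_injective {F : Type*} [Field F] {ι₁ ι₂ ι : Type} [Fintype ι₁] [DecidableEq ι₁]
    [Fintype ι₂] [DecidableEq ι₂] [Fintype ι] [DecidableEq ι] (e : ι₁ ⊕ ι₂ ≃ ι) :
    Function.Injective (blkpm_hom (F := F) e) := by
  intro p q h
  have h1 : Matrix.fromBlocks p.1 0 0 p.2 = Matrix.fromBlocks q.1 (0 : Matrix ι₁ ι₂ F)
      (0 : Matrix ι₂ ι₁ F) q.2 := (Matrix.reindex e e).injective h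
  rw [Matrix.fromBlocks_inj] at h1
  exact Prod.ext h1.1 h1.2.2.2

theorem blkpm_hom_mulVec_inl {F : Type*} [Field F] {ι₁ ι₂ ι : Type} [Fintype ι₁] [DecidableEq ι₁]
    [Fintype ι₂] [DecidableEq ι₂] [Fintype ι] [DecidableEq ι] (e : ι₁ ⊕ ι₂ ≃ ι)
    (p : Matrix ι₁ ι₁ F × Matrix ι₂ ι₂ F) (v : ι → F) :
    (fun i => (blkpm_hom e p *ᵥ v) (e (Sum.inl i))) = p.1 *ᵥ (fun i => v (e (Sum.inl i))) := by
  funext i
  show (Matrix.reindex e e (Matrix.fromBlocks p.1 0 0 p.2) *ᵥ v) (e (Sum.inl i)) = _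
  rw [Matrix.reindex_apply, Matrix.submatrix_mulVec_equiv]
  simp only [Function.comp_apply, Equiv.symm_symm, Equiv.symm_apply_apply,
    Matrix.fromBlocks_mulVec, Sum.elim_inl, Matrix.zero_mulVec, add_zero]
  rfl

theorem blkpm_hom_mulVec_inr {F : Type*} [Field F] {ι₁ ι₂ ι : Type} [Fintype ι₁] [DecidableEq ι₁]
    [Fintype ι₂] [DecidableEq ι₂] [Fintype ι] [DecidableEq ι] (e : ι₁ ⊕ ι₂ ≃ ι)
    (p : Matrix ι₁ ι₁ F × Matrix ι₂ ι₂ F) (v : ι → F) :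
    (fun j => (blkpm_hom e p *ᵥ v) (e (Sum.inr j))) = p.2 *ᵥ (fun j => v (e (Sum.inr j))) := by
  funext j
  show (Matrix.reindex e e (Matrix.fromBlocks p.1 0 0 p.2) *ᵥ v) (e (Sum.inr j)) = _
  rw [Matrix.reindex_apply, Matrix.submatrix_mulVec_equiv]
  simp only [Function.comp_apply, Equiv.symm_symm, Equiv.symm_apply_apply,
    Matrix.fromBlocks_mulVec, Sum.elim_inr, Matrix.zero_mulVec, zero_add]
  rfl

/-- general block sum: isometries of `Q₁` and `Q₂` give an isometry of `Q₁ ⊥ Q₂` whose order is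
the lcm -/
theorem blkpm_general {F : Type*} [Field F] {ι₁ ι₂ ι : Type} [Fintype ι₁] [DecidableEq ι₁]
    [Fintype ι₂] [DecidableEq ι₂] [Fintype ι] [DecidableEq ι] (e : ι₁ ⊕ ι₂ ≃ ι)
    (Q₁ : (ι₁ → F) → F) (Q₂ : (ι₂ → F) → F) (Q : (ι → F) → F)
    (hQ : ∀ v, Q v = Q₁ (fun i => v (e (Sum.inl i))) + Q₂ (fun j => v (e (Sum.inr j))))
    (g₁ : ↥(Cfsg.isometryGroup F Q₁)) (g₂ : ↥(Cfsg.isometryGroup F Q₂)) :
    ∃ g : ↥(Cfsg.isometryGroup F Q), orderOf g = Nat.lcm (orderOf g₁) (orderOf g₂) := by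
  let Φ : GL ι₁ F × GL ι₂ F →* GL ι F :=
    (Units.map (blkpm_hom (F := F) e)).comp (MulEquiv.prodUnits.symm.toMonoidHom)
  have hΦinj : Function.Injective Φ := by
    intro x y h
    have h1 := Units.map_injective (blkpm_hom_injective (F := F) e) h
    exact MulEquiv.prodUnits.symm.injective h1
  have hΦval : ∀ x : GL ι₁ F × GL ι₂ F,
      ((Φ x : GL ι F) : Matrix ι ι F) = blkpm_hom e ((x.1 : Matrix ι₁ ι₁ F), (x.2 : Matrix ι₂ ι₂ F)) :=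
    fun x => rfl
  have hmem : Φ ((g₁ : GL ι₁ F), (g₂ : GL ι₂ F)) ∈ Cfsg.isometryGroup F Q := by
    intro u _
    show Q (((Φ ((g₁ : GL ι₁ F), (g₂ : GL ι₂ F)) : GL ι F) : Matrix ι ι F) *ᵥ u) = Q u
    rw [hΦval, hQ, hQ u, blkpm_hom_mulVec_inl, blkpm_hom_mulVec_inr]
    congr 1
    · exact g₁.2 _ 0
    · exact g₂.2 _ 0
  refine ⟨⟨Φ ((g₁ : GL ι₁ F), (g₂ : GL ι₂ F)), hmem⟩, ?_⟩
  rw [Subgroup.orderOf_mk, orderOf_injective Φ hΦinj, Prod.orderOf, Subgroup.orderOf_coe,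
    Subgroup.orderOf_coe]

/-- the index equivalence for (plus) ⊥ (minus) -/
def blkpm_equiv (k m : ℕ) :
    (Fin k ⊕ Fin k) ⊕ ((Fin m ⊕ Fin m) ⊕ Fin 2) ≃ (Fin (k + m) ⊕ Fin (k + m)) ⊕ Fin 2 :=
  ((Equiv.sumAssoc (Fin k ⊕ Fin k) (Fin m ⊕ Fin m) (Fin 2)).symm.trans
    (Equiv.sumCongr (Equiv.sumSumSumComm (Fin k) (Fin k) (Fin m) (Fin m)) (Equiv.refl (Fin 2)))).trans
    (Equiv.sumCongr (Equiv.sumCongr finSumFinEquiv finSumFinEquiv) (Equiv.refl (Fin 2)))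

theorem blkpm_equiv_ll (k m : ℕ) (i : Fin k) :
    blkpm_equiv k m (Sum.inl (Sum.inl i)) = Sum.inl (Sum.inl (Fin.castAdd m i)) := rfl

theorem blkpm_equiv_lr (k m : ℕ) (i : Fin k) :
    blkpm_equiv k m (Sum.inl (Sum.inr i)) = Sum.inl (Sum.inr (Fin.castAdd m i)) := rfl

theorem blkpm_equiv_rll (k m : ℕ) (j : Fin m) :
    blkpm_equiv k m (Sum.inr (Sum.inl (Sum.inl j))) = Sum.inl (Sum.inl (Fin.natAdd k j)) := rfl

theorem blkpm_equiv_rlr (k m : ℕ) (j : Fin m) :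
    blkpm_equiv k m (Sum.inr (Sum.inl (Sum.inr j))) = Sum.inl (Sum.inr (Fin.natAdd k j)) := rfl

theorem blkpm_equiv_rr (k m : ℕ) (t : Fin 2) :
    blkpm_equiv k m (Sum.inr (Sum.inr t)) = Sum.inr t := rfl

/-- ISO8-BLKPM: block sum (plus) ⊥ (minus) = (minus); the order of a block-diagonal element is the lcm -/
theorem blk_pm {F : Type*} [Field F] (a b : F) (k m N₁ N₂ : ℕ)
    (h₁ : HasPlus F k N₁) (h₂ : HasMinus F a b m N₂) :
    HasMinus F a b (k + m) (Nat.lcm N₁ N₂) := by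
  obtain ⟨g₁, rfl⟩ := h₁
  obtain ⟨g₂, rfl⟩ := h₂
  refine blkpm_general (blkpm_equiv k m) (Cfsg.quadFormPlus k F) (Cfsg.quadFormMinus m F a b)
    (Cfsg.quadFormMinus (k + m) F a b) ?_ g₁ g₂
  intro v
  unfold Cfsg.quadFormPlus Cfsg.quadFormMinus
  rw [Fin.sum_univ_add]
  simp only [blkpm_equiv_ll, blkpm_equiv_lr, blkpm_equiv_rll, blkpm_equiv_rlr, blkpm_equiv_rr]
  ring

end Cfsg.Agent.Lib.Helper94.Iso8
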