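import Mathlib
import Cfsg.Agent.Lib.Helper20.SuBNDefs

/-!
# S2546 hive (helper20), leaf SuBN-MON: monomial matrices
-/

set_option autoImplicit false

namespace Cfsg.Agent.Lib.Helper20.SuBN

open Matrix Subgroup Cfsg.Agent.Lib.Helper20.PslF Cfsg.Agent.Lib.Helper20.SuF

variable {n : ℕ} {K : Type*} [Field K] [Fintype K]

/-- SuBN-MON (1/4): the distinguished entry of a monomial matrix is nonzero (else a column of `mt g` vanishes
and `det = 0`). -/
theorem isMon_entry_ne_zero {g : SLn n K} {π : Equiv.Perm (Fin n)} (h : IsMon g π) (j : Fin n) :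
    mt g (π j) j ≠ 0 := by
  intro h0
  have hcol : ∀ i, mt g i j = 0 := by
    intro i
    by_cases hi : i = π j
    · rw [hi]; exact h0
    · exact h i j hi
  have hdet : (mt g).det = 0 := Matrix.det_eq_zero_of_column_eq_zero j hcol
  rw [mt_det] at hdet
  exact one_ne_zero hdet

/-- SuBN-MON (2/4) -/
theorem isMon_unique {g : SLn n K} {π ρ : Equiv.Perm (Fin n)} (h : IsMon g π) (h' : IsMon g ρ) :
    π = ρ := by
  ext j
  congr 1
  by_contra hne
  exact isMon_entry_ne_zero h j (h' (π j) j hne)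

/-- SuBN-MON (3/4): (`g⁻¹ ∈ Mon` since `Mon` is a subgroup; then compare with `isMon_one` by uniqueness) -/
theorem isMon_inv {g : SLn n K} {π : Equiv.Perm (Fin n)} (h : IsMon g π) : IsMon g⁻¹ π⁻¹ := by
  have hg : g ∈ (Mon : Subgroup (SLn n K)) := (mem_Mon g).mpr ⟨π, h⟩
  obtain ⟨ρ, hρ⟩ := (mem_Mon g⁻¹).mp (inv_mem hg)
  have h1 : IsMon (g * g⁻¹) (π * ρ) := h.mul hρ
  rw [mul_inv_cancel] at h1
  have h2 : π * ρ = 1 := isMon_unique h1 isMon_one
  have h3 : ρ = π⁻¹ := eq_inv_of_mul_eq_one_right h2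
  rw [← h3]
  exact hρ

/-- a permutation of `Fin n` with `π j ≤ j` for all `j` is trivial -/
theorem mon_perm_eq_one_of_le (π : Equiv.Perm (Fin n)) (h : ∀ j, π j ≤ j) : π = 1 := by
  ext j
  congr 1
  by_contra hne
  have hlt : ((π j : Fin n) : ℕ) < (j : ℕ) := lt_of_le_of_ne (h j) (fun e => hne (Fin.ext e))
  have hsum : ∑ i : Fin n, ((π i : Fin n) : ℕ) < ∑ i : Fin n, (i : ℕ) := by
    apply Finset.sum_lt_sum
    · intro i _
      exact h i
    · exact ⟨j, Finset.mem_univ j, hlt⟩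
  have heq : ∑ i : Fin n, ((π i : Fin n) : ℕ) = ∑ i : Fin n, (i : ℕ) :=
    Equiv.sum_comp π (fun i : Fin n => (i : ℕ))
  omega

/-- SuBN-MON (4/4): an upper triangular monomial matrix is diagonal (`π j ≤ j` for all `j`). -/
theorem isMon_UT {g : SLn n K} {π : Equiv.Perm (Fin n)} (h : IsMon g π)
    (hg : g ∈ (UT : Subgroup (SLn n K))) : π = 1 := by
  apply mon_perm_eq_one_of_le
  intro j
  by_contra hlt
  rw [not_le] at hlt
  exact isMon_entry_ne_zero h j ((mem_UT g).mp hg (π j) j hlt)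

end Cfsg.Agent.Lib.Helper20.SuBN
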