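import Mathlib
import Cfsg.Agent.Lib.Helper20.SuBNDefs

/-!
# S2546 hive (helper20), leaf SuBN-W1: the centraliser of `rev` in `S_n` is generated by the `rr i`
-/

set_option autoImplicit false

namespace Cfsg.Agent.Lib.Helper20.SuBN

open Equiv

variable {n : ℕ}

theorem w1_fa_val (i : Fin (n / 2)) : ((fa i : Fin n) : ℕ) = i := rfl

theorem w1_fb_val_short (i : Fin (n / 2)) (h : (i : ℕ) + 1 < n / 2) :
    ((fb i : Fin n) : ℕ) = i + 1 := by
  unfold fb
  rw [dif_pos h]

theorem w1_rr_short (i : Fin (n / 2)) (h : (i : ℕ) + 1 < n / 2) :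
    (rr i : Perm (Fin n)) =
      swap (fa i) (fb i) * swap (Fin.rev (fb i)) (Fin.rev (fa i)) := by
  unfold rr
  rw [if_pos h]

theorem w1_rr_last (i : Fin (n / 2)) (h : ¬ (i : ℕ) + 1 < n / 2) :
    (rr i : Perm (Fin n)) = swap (fa i) (Fin.rev (fa i)) := by
  unfold rr
  rw [if_neg h]

/-- the four points moved by a short reflection are distinct -/
theorem w1_nodup (i : Fin (n / 2)) (h : (i : ℕ) + 1 < n / 2) :
    [fa i, fb i, Fin.rev (fb i), Fin.rev (fa i)].Nodup := by
  have hi := i.2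
  simp only [List.nodup_cons, List.mem_cons, List.not_mem_nil, or_false, not_or, List.nodup_nil,
    and_true, Fin.ext_iff, Fin.val_rev, w1_fa_val, w1_fb_val_short i h]
  refine ⟨⟨?_, ?_, ?_⟩, ⟨?_, ?_⟩, ?_, not_false⟩ <;> omega

theorem w1_rr_comm_rev (i : Fin (n / 2)) :
    (rr i : Perm (Fin n)) * Fin.revPerm = Fin.revPerm * rr i := by
  by_cases h : (i : ℕ) + 1 < n / 2
  · rw [w1_rr_short i h]
    have hc : Commute (swap (fa i) (fb i)) (swap (Fin.rev (fb i)) (Fin.rev (fa i))) :=
      (Equiv.Perm.disjoint_swap_swap (w1_nodup i h)).commute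
    have e1 : (Fin.revPerm : Perm (Fin n)) * swap (fa i) (fb i) =
        swap (Fin.rev (fa i)) (Fin.rev (fb i)) * Fin.revPerm := by
      rw [Equiv.mul_swap_eq_swap_mul]
      rfl
    have e2 : (Fin.revPerm : Perm (Fin n)) * swap (Fin.rev (fb i)) (Fin.rev (fa i)) =
        swap (fb i) (fa i) * Fin.revPerm := by
      rw [Equiv.mul_swap_eq_swap_mul]
      simp only [Fin.revPerm_apply, Fin.rev_rev]
    have h1 : (Fin.revPerm : Perm (Fin n)) *
        (swap (fa i) (fb i) * swap (Fin.rev (fb i)) (Fin.rev (fa i))) =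
        swap (Fin.rev (fa i)) (Fin.rev (fb i)) * swap (fb i) (fa i) * Fin.revPerm := by
      rw [← mul_assoc, e1, mul_assoc, e2, ← mul_assoc]
    rw [h1, hc.eq, Equiv.swap_comm (Fin.rev (fb i)) (Fin.rev (fa i)),
      Equiv.swap_comm (fa i) (fb i)]
  · rw [w1_rr_last i h, Equiv.mul_swap_eq_swap_mul]
    simp only [Fin.revPerm_apply, Fin.rev_rev]
    rw [Equiv.swap_comm]

theorem w1_rr_rev (i : Fin (n / 2)) (x : Fin n) : rr i (Fin.rev x) = Fin.rev (rr i x) := by
  have := congrArg (fun σ : Perm (Fin n) => σ x) (w1_rr_comm_rev i)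
  simpa [Equiv.Perm.mul_apply] using this

/-- a reflection fixes the points below its index -/
theorem w1_rr_fix_lt (j : Fin (n / 2)) (y : Fin n) (hy : (y : ℕ) < j) : rr j y = y := by
  have hj := j.2
  have n1 : y ≠ fa j := by
    intro e
    have := congrArg Fin.val e
    rw [w1_fa_val] at this
    omega
  have n2 : y ≠ Fin.rev (fa j) := by
    intro e
    have := congrArg Fin.val e
    rw [Fin.val_rev, w1_fa_val] at this
    omega
  by_cases h : (j : ℕ) + 1 < n / 2
  · have n3 : y ≠ fb j := by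
      intro e
      have := congrArg Fin.val e
      rw [w1_fb_val_short j h] at this
      omega
    have n4 : y ≠ Fin.rev (fb j) := by
      intro e
      have := congrArg Fin.val e
      rw [Fin.val_rev, w1_fb_val_short j h] at this
      omega
    rw [w1_rr_short j h, Equiv.Perm.mul_apply, Equiv.swap_apply_of_ne_of_ne n4 n2,
      Equiv.swap_apply_of_ne_of_ne n1 n3]
  · rw [w1_rr_last j h, Equiv.swap_apply_of_ne_of_ne n1 n2]

/-- a short reflection exchanges `fa` and `fb` -/
theorem w1_rr_fa (j : Fin (n / 2)) (h : (j : ℕ) + 1 < n / 2) : rr j (fa j) = fb j := by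
  have hnd := w1_nodup j h
  simp only [List.nodup_cons, List.mem_cons, List.not_mem_nil, or_false, not_or, List.nodup_nil,
    and_true] at hnd
  rw [w1_rr_short j h, Equiv.Perm.mul_apply, Equiv.swap_apply_of_ne_of_ne hnd.1.2.1 hnd.1.2.2,
    Equiv.swap_apply_left]

theorem w1_rr_fb (j : Fin (n / 2)) (h : (j : ℕ) + 1 < n / 2) : rr j (fb j) = fa j := by
  have hnd := w1_nodup j h
  simp only [List.nodup_cons, List.mem_cons, List.not_mem_nil, or_false, not_or, List.nodup_nil,
    and_true] at hnd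
  rw [w1_rr_short j h, Equiv.Perm.mul_apply, Equiv.swap_apply_of_ne_of_ne hnd.2.1.1 hnd.2.1.2,
    Equiv.swap_apply_right]

theorem w1_rr_last_apply (j : Fin (n / 2)) (h : ¬ (j : ℕ) + 1 < n / 2) :
    rr j (Fin.rev (fa j)) = fa j := by
  rw [w1_rr_last j h, Equiv.swap_apply_right]

/-- the subgroup generated by the reflections of index at least `k` -/
def w1_Hk (n k : ℕ) : Subgroup (Perm (Fin n)) :=
  Subgroup.closure {σ | ∃ j : Fin (n / 2), k ≤ (j : ℕ) ∧ σ = rr j}

theorem w1_Hk_le (k : ℕ) :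
    w1_Hk n k ≤ Subgroup.closure (Set.range (rr : Fin (n / 2) → Perm (Fin n))) := by
  apply Subgroup.closure_mono
  rintro σ ⟨j, -, rfl⟩
  exact ⟨j, rfl⟩

theorem w1_rr_mem_Hk (k : ℕ) (j : Fin (n / 2)) (hj : k ≤ (j : ℕ)) : rr j ∈ w1_Hk n k :=
  Subgroup.subset_closure ⟨j, hj, rfl⟩

theorem w1_Hk_fix (k : ℕ) (h : Perm (Fin n)) (hh : h ∈ w1_Hk n k) (y : Fin n)
    (hy : (y : ℕ) < k) : h y = y := by
  induction hh using Subgroup.closure_induction with
  | mem σ hσ =>
    obtain ⟨j, hj, rfl⟩ := hσ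
    exact w1_rr_fix_lt j y (by omega)
  | one => rfl
  | mul a b _ _ ha hb => rw [Equiv.Perm.mul_apply, hb, ha]
  | inv a _ ha =>
    rw [Equiv.Perm.inv_eq_iff_eq]
    exact ha.symm

theorem w1_closure_rev (h : Perm (Fin n))
    (hh : h ∈ Subgroup.closure (Set.range (rr : Fin (n / 2) → Perm (Fin n)))) (x : Fin n) :
    h (Fin.rev x) = Fin.rev (h x) := by
  induction hh using Subgroup.closure_induction generalizing x with
  | mem σ hσ =>
    obtain ⟨j, rfl⟩ := hσ
    exact w1_rr_rev j x
  | one => rfl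
  | mul a b _ _ ha hb => rw [Equiv.Perm.mul_apply, Equiv.Perm.mul_apply, hb, ha]
  | inv a _ ha =>
    rw [Equiv.Perm.inv_eq_iff_eq, ha]
    simp

/-- moving a point of the first half down to `k` -/
theorem w1_move_down (k : ℕ) : ∀ d a : ℕ, ∀ (ha : a < n / 2) (hka : k ≤ a), a - k = d →
    ∃ h ∈ w1_Hk n k, h (⟨a, by omega⟩ : Fin n) = (⟨k, by omega⟩ : Fin n) := by
  intro d
  induction d with
  | zero =>
    intro a ha hka hd
    have : a = k := by omega
    subst this
    exact ⟨1, Subgroup.one_mem _, rfl⟩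
  | succ d ih =>
    intro a ha hka hd
    obtain ⟨h', hh', he⟩ := ih (a - 1) (by omega) (by omega) (by omega)
    let j : Fin (n / 2) := ⟨a - 1, by omega⟩
    have hjs : (j : ℕ) + 1 < n / 2 := by
      show a - 1 + 1 < n / 2
      omega
    have h1 : (⟨a, by omega⟩ : Fin n) = fb j := by
      apply Fin.ext
      rw [w1_fb_val_short j hjs]
      show a = a - 1 + 1
      omega
    have h2 : (⟨a - 1, by omega⟩ : Fin n) = fa j := by
      apply Fin.ext
      rfl
    refine ⟨h' * rr j, Subgroup.mul_mem _ hh' (w1_rr_mem_Hk k j (by show k ≤ a - 1; omega)), ?_⟩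
    rw [Equiv.Perm.mul_apply, h1, w1_rr_fb j hjs, ← h2]
    exact he

/-- moving a point of the first half up to the last index of the first half -/
theorem w1_move_up (k : ℕ) : ∀ d a : ℕ, ∀ (ha : a < n / 2) (_hka : k ≤ a), n / 2 - 1 - a = d →
    ∃ h ∈ w1_Hk n k, h (⟨a, by omega⟩ : Fin n) = (⟨n / 2 - 1, by omega⟩ : Fin n) := by
  intro d
  induction d with
  | zero =>
    intro a ha hka hd
    have : a = n / 2 - 1 := by omega
    subst this
    exact ⟨1, Subgroup.one_mem _, rfl⟩
  | succ d ih =>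
    intro a ha hka hd
    obtain ⟨h', hh', he⟩ := ih (a + 1) (by omega) (by omega) (by omega)
    let j : Fin (n / 2) := ⟨a, ha⟩
    have hjs : (j : ℕ) + 1 < n / 2 := by
      show a + 1 < n / 2
      omega
    have h1 : (⟨a, by omega⟩ : Fin n) = fa j := by
      apply Fin.ext
      rfl
    have h2 : (⟨a + 1, by omega⟩ : Fin n) = fb j := by
      apply Fin.ext
      rw [w1_fb_val_short j hjs]
    refine ⟨h' * rr j, Subgroup.mul_mem _ hh' (w1_rr_mem_Hk k j hka), ?_⟩
    rw [Equiv.Perm.mul_apply, h1, w1_rr_fa j hjs, ← h2]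
    exact he

/-- moving an admissible point to `k` by an element fixing everything below `k` -/
theorem w1_exists_move (k : ℕ) (hk : k < n / 2) (z : Fin n) (hz1 : k ≤ (z : ℕ))
    (hz2 : (z : ℕ) ≤ n - 1 - k) (hz3 : z ≠ Fin.rev z) :
    ∃ h ∈ w1_Hk n k, h z = (⟨k, by omega⟩ : Fin n) := by
  have hz3' : (z : ℕ) ≠ n - ((z : ℕ) + 1) := by
    intro e
    apply hz3
    apply Fin.ext
    rw [Fin.val_rev]
    exact e
  have hzn := z.2
  by_cases hlt : (z : ℕ) < n / 2
  · obtain ⟨h, hh, he⟩ := w1_move_down (n := n) k ((z : ℕ) - k) (z : ℕ) hlt hz1 rfl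
    exact ⟨h, hh, he⟩
  · -- `z` is in the second half
    have hr : n - ((z : ℕ) + 1) < n / 2 := by omega
    have hkr : k ≤ n - ((z : ℕ) + 1) := by omega
    obtain ⟨h1, hh1, he1⟩ := w1_move_up (n := n) k (n / 2 - 1 - (n - ((z : ℕ) + 1)))
      (n - ((z : ℕ) + 1)) hr hkr rfl
    obtain ⟨h2, hh2, he2⟩ := w1_move_down (n := n) k (n / 2 - 1 - k) (n / 2 - 1) (by omega)
      (by omega) rfl
    let j : Fin (n / 2) := ⟨n / 2 - 1, by omega⟩
    have hjl : ¬ (j : ℕ) + 1 < n / 2 := by
      show ¬ n / 2 - 1 + 1 < n / 2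
      omega
    have hzr : (⟨n - ((z : ℕ) + 1), by omega⟩ : Fin n) = Fin.rev z := by
      apply Fin.ext
      rw [Fin.val_rev]
    have hfa : (⟨n / 2 - 1, by omega⟩ : Fin n) = fa j := by
      apply Fin.ext
      rfl
    have h1z : h1 z = Fin.rev (fa j) := by
      have := w1_closure_rev h1 (w1_Hk_le k hh1) (Fin.rev z)
      rw [Fin.rev_rev] at this
      rw [this, ← hzr, he1, hfa]
    refine ⟨h2 * rr j * h1, Subgroup.mul_mem _ (Subgroup.mul_mem _ hh2
      (w1_rr_mem_Hk k j (by show k ≤ n / 2 - 1; omega))) hh1, ?_⟩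
    rw [Equiv.Perm.mul_apply, Equiv.Perm.mul_apply, h1z, w1_rr_last_apply j hjl, ← hfa]
    exact he2

/-- a permutation commuting with `rev` which fixes the first half is trivial -/
theorem w1_eq_one (π : Perm (Fin n)) (hπ : ∀ x, π (Fin.rev x) = Fin.rev (π x))
    (hfix : ∀ y : Fin n, (y : ℕ) < n / 2 → π y = y) : π = 1 := by
  have hfix2 : ∀ y : Fin n, n - n / 2 ≤ (y : ℕ) → π y = y := by
    intro y hy
    have hyn := y.2
    have h1 : π (Fin.rev y) = Fin.rev y := by
      apply hfix
      rw [Fin.val_rev]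
      omega
    have h2 := hπ (Fin.rev y)
    rw [Fin.rev_rev, h1, Fin.rev_rev] at h2
    exact h2
  ext x
  rw [Equiv.Perm.one_apply]
  congr 1
  by_cases h1 : (x : ℕ) < n / 2
  · exact hfix x h1
  by_cases h2 : n - n / 2 ≤ (x : ℕ)
  · exact hfix2 x h2
  by_contra hne
  have hy : ¬ ((π x : Fin n) : ℕ) < n / 2 := by
    intro h
    exact hne (π.injective (hfix _ h))
  have hy2 : ¬ n - n / 2 ≤ ((π x : Fin n) : ℕ) := by
    intro h
    exact hne (π.injective (hfix2 _ h))
  apply hne
  apply Fin.ext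
  omega

/-- the downward induction -/
theorem w1_main : ∀ d k : ℕ, k ≤ n / 2 → n / 2 - k = d → ∀ π : Perm (Fin n),
    (∀ x, π (Fin.rev x) = Fin.rev (π x)) → (∀ y : Fin n, (y : ℕ) < k → π y = y) →
    π ∈ Subgroup.closure (Set.range (rr : Fin (n / 2) → Perm (Fin n))) := by
  intro d
  induction d with
  | zero =>
    intro k hk hd π hπ hfix
    have : k = n / 2 := by omega
    subst this
    rw [w1_eq_one π hπ hfix]
    exact Subgroup.one_mem _
  | succ d ih =>
    intro k hk hd π hπ hfix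
    have hkm : k < n / 2 := by omega
    have hkn : k < n := by omega
    set z : Fin n := π ⟨k, hkn⟩ with hz
    have hfixr : ∀ y : Fin n, n - 1 - k < (y : ℕ) → π y = y := by
      intro y hy
      have hyn := y.2
      have h1 : π (Fin.rev y) = Fin.rev y := by
        apply hfix
        rw [Fin.val_rev]
        omega
      have h2 := hπ (Fin.rev y)
      rw [Fin.rev_rev, h1, Fin.rev_rev] at h2
      exact h2
    have hz1 : k ≤ (z : ℕ) := by
      by_contra hlt
      have h1 : π z = z := hfix z (by omega)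
      have h2 : z = ⟨k, hkn⟩ := π.injective h1
      have := congrArg Fin.val h2
      simp only at this
      omega
    have hz2 : (z : ℕ) ≤ n - 1 - k := by
      by_contra hlt
      have h1 : π z = z := hfixr z (by omega)
      have h2 : z = ⟨k, hkn⟩ := π.injective h1
      have := congrArg Fin.val h2
      simp only at this
      omega
    have hz3 : z ≠ Fin.rev z := by
      intro e
      have h1 : π (Fin.rev ⟨k, hkn⟩) = π ⟨k, hkn⟩ := by
        rw [hπ, ← hz, ← e]
      have h2 := π.injective h1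
      have := congrArg Fin.val h2
      rw [Fin.val_rev] at this
      simp only at this
      omega
    obtain ⟨h, hh, he⟩ := w1_exists_move k hkm z hz1 hz2 hz3
    have hH := w1_Hk_le k hh
    have hmem : h * π ∈ Subgroup.closure (Set.range (rr : Fin (n / 2) → Perm (Fin n))) := by
      apply ih (k + 1) (by omega) (by omega)
      · intro x
        rw [Equiv.Perm.mul_apply, Equiv.Perm.mul_apply, hπ, w1_closure_rev h hH]
      · intro y hy
        rw [Equiv.Perm.mul_apply]
        by_cases hyk : (y : ℕ) < k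
        · rw [hfix y hyk, w1_Hk_fix k h hh y hyk]
        · have : y = ⟨k, hkn⟩ := by
            apply Fin.ext
            show (y : ℕ) = k
            omega
          rw [this, ← hz, he]
    have : π = h⁻¹ * (h * π) := by group
    rw [this]
    exact Subgroup.mul_mem _ (Subgroup.inv_mem _ hH) hmem

/-- SuBN-W1: the centraliser of `rev` in `S_n` is generated by the `rr i` (type `B_m` Coxeter group,
bubble sort of signed permutations). -/
theorem rr_generate (π : Equiv.Perm (Fin n)) (hπ : ∀ x, π (Fin.rev x) = Fin.rev (π x)) :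
    π ∈ Subgroup.closure (Set.range (rr : Fin (n / 2) → Equiv.Perm (Fin n))) :=
  w1_main (n / 2) 0 (Nat.zero_le _) rfl π hπ (fun _ hy => absurd hy (Nat.not_lt_zero _))

end Cfsg.Agent.Lib.Helper20.SuBN
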