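import Mathlib
import Cfsg.Agent.Lib.Helper21.Lq.Defs
import Cfsg.Agent.Lib.Helper13.SpParabolic

/-!
# LQ-F-CW (Lq hive S2333 of helper21): a ternary quadratic form over a finite field has a non-trivial zero.
-/

set_option autoImplicit false

namespace Cfsg.Agent.Lib.Helper21.Lq

open Module Cfsg.Agent.Lib.Helper6.Ls Cfsg.Agent.Lib.Helper13

section concrete

variable {F : Type*} [Field F] [Fintype F]

/-- the ternary quadratic form as a polynomial -/
noncomputable def fcw_poly (α1 α2 α3 β12 β13 β23 : F) : MvPolynomial (Fin 3) F :=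
  MvPolynomial.C α1 * MvPolynomial.X 0 ^ 2 + MvPolynomial.C α2 * MvPolynomial.X 1 ^ 2
    + MvPolynomial.C α3 * MvPolynomial.X 2 ^ 2
    + MvPolynomial.C β12 * (MvPolynomial.X 0 * MvPolynomial.X 1)
    + MvPolynomial.C β13 * (MvPolynomial.X 0 * MvPolynomial.X 2)
    + MvPolynomial.C β23 * (MvPolynomial.X 1 * MvPolynomial.X 2)

omit [Fintype F] in
theorem fcw_eval (α1 α2 α3 β12 β13 β23 : F) (x : Fin 3 → F) :
    MvPolynomial.eval x (fcw_poly α1 α2 α3 β12 β13 β23) =
      α1 * x 0 ^ 2 + α2 * x 1 ^ 2 + α3 * x 2 ^ 2 + β12 * (x 0 * x 1) + β13 * (x 0 * x 2)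
        + β23 * (x 1 * x 2) := by
  simp [fcw_poly]

omit [Fintype F] in
theorem fcw_deg_sq (a : F) (i : Fin 3) :
    (MvPolynomial.C a * MvPolynomial.X i ^ 2 : MvPolynomial (Fin 3) F).totalDegree ≤ 2 := by
  refine (MvPolynomial.totalDegree_mul _ _).trans ?_
  rw [MvPolynomial.totalDegree_C, zero_add]
  exact (MvPolynomial.totalDegree_pow _ _).trans (by rw [MvPolynomial.totalDegree_X])

omit [Fintype F] in
theorem fcw_deg_mix (a : F) (i j : Fin 3) :
    (MvPolynomial.C a * (MvPolynomial.X i * MvPolynomial.X j) : MvPolynomial (Fin 3) F).totalDegree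
      ≤ 2 := by
  refine (MvPolynomial.totalDegree_mul _ _).trans ?_
  rw [MvPolynomial.totalDegree_C, zero_add]
  refine (MvPolynomial.totalDegree_mul _ _).trans ?_
  rw [MvPolynomial.totalDegree_X, MvPolynomial.totalDegree_X]

omit [Fintype F] in
theorem fcw_deg (α1 α2 α3 β12 β13 β23 : F) :
    (fcw_poly α1 α2 α3 β12 β13 β23).totalDegree ≤ 2 := by
  unfold fcw_poly
  refine (MvPolynomial.totalDegree_add _ _).trans (max_le ?_ (fcw_deg_mix _ _ _))
  refine (MvPolynomial.totalDegree_add _ _).trans (max_le ?_ (fcw_deg_mix _ _ _))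
  refine (MvPolynomial.totalDegree_add _ _).trans (max_le ?_ (fcw_deg_mix _ _ _))
  refine (MvPolynomial.totalDegree_add _ _).trans (max_le ?_ (fcw_deg_sq _ _))
  exact (MvPolynomial.totalDegree_add _ _).trans (max_le (fcw_deg_sq _ _) (fcw_deg_sq _ _))

/-- F-CW: a ternary quadratic form over a finite field has a non-trivial zero (Chevalley–Warning). -/
theorem exists_ternary_zero (α1 α2 α3 β12 β13 β23 : F) :
    ∃ v : PlanePt F, α1 * v.1.1 ^ 2 + α2 * v.1.2.1 ^ 2 + α3 * v.1.2.2 ^ 2 + β12 * (v.1.1 * v.1.2.1)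
      + β13 * (v.1.1 * v.1.2.2) + β23 * (v.1.2.1 * v.1.2.2) = 0 := by
  classical
  set f := fcw_poly α1 α2 α3 β12 β13 β23 with hf
  have hdeg : f.totalDegree < Fintype.card (Fin 3) := by
    rw [Fintype.card_fin]
    exact lt_of_le_of_lt (fcw_deg _ _ _ _ _ _) (by norm_num)
  obtain ⟨p, hp⟩ := CharP.exists F
  have hpp : p.Prime := by
    rcases CharP.char_is_prime_or_zero F p with h | h
    · exact h
    · exfalso
      subst h
      have : CharZero F := CharP.charP_to_charZero F
      exact not_injective_infinite_finite (fun n : ℕ => (n : F)) Nat.cast_injective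
  have hdvd := char_dvd_card_solutions p hdeg
  -- the zero vector is a solution
  have h0 : MvPolynomial.eval (0 : Fin 3 → F) f = 0 := by
    rw [hf, fcw_eval]; simp
  -- so there are at least two solutions
  have hpos : 0 < Fintype.card {x : Fin 3 → F // MvPolynomial.eval x f = 0} :=
    Fintype.card_pos_iff.mpr ⟨⟨0, h0⟩⟩
  have h2 : 1 < Fintype.card {x : Fin 3 → F // MvPolynomial.eval x f = 0} :=
    lt_of_lt_of_le hpp.one_lt (Nat.le_of_dvd hpos hdvd)
  obtain ⟨⟨x, hx⟩, hne⟩ := Fintype.exists_ne_of_one_lt_card h2 ⟨0, h0⟩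
  have hx0 : x ≠ 0 := fun h => hne (Subtype.ext h)
  refine ⟨⟨(x 0, x 1, x 2), ?_⟩, ?_⟩
  · intro h
    apply hx0
    have h1 := (Prod.mk.inj h).1
    have h2 := (Prod.mk.inj (Prod.mk.inj h).2).1
    have h3 := (Prod.mk.inj (Prod.mk.inj h).2).2
    funext i
    fin_cases i
    · exact h1
    · exact h2
    · exact h3
  · rw [hf, fcw_eval] at hx
    exact hx

end concrete

end Cfsg.Agent.Lib.Helper21.Lq
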