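import Mathlib
import Cfsg.Agent.Lib.Helper21.Lq.Defs
import Cfsg.Agent.Lib.Helper13.SpParabolic
import Cfsg.Agent.Lib.Helper95.LqCZG
import Cfsg.Agent.Lib.Helper53.LqFCW

/-!
# LQ-C-FIXI (Lq hive S2333 of helper21): a character of the plane group is trivial on some root group.

`μ` multiplicative on `A = planeGrp e1 e2 e3`; `t_{p(a,b,d),c}` is a product of 12 transvections with centres
`e_i`, `e_i + e_j`, each factor an additive character `ψ(α ·)` of its parameter, so
`μ (t_{p(v),c}) = ψ (c * Q v)` with `Q` a ternary quadratic form; `Q` has a non-trivial zero (F-CW).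
-/

set_option autoImplicit false

namespace Cfsg.Agent.Lib.Helper21.Lq

open Module Cfsg.Agent.Lib.Helper6.Ls Cfsg.Agent.Lib.Helper13

section concrete

variable {F : Type*} [Field F] [Fintype F]

/-! ## Part A: additive characters of a finite field -/

/-- a finite field has a non-trivial additive character -/
theorem cfixi_exists_psi : ∃ ψ : AddChar F ℂ, ψ ≠ 1 := by
  classical
  have hcard : Fintype.card (AddChar F ℂ) = Fintype.card F := AddChar.card_eq
  have h1 : 1 < Fintype.card (AddChar F ℂ) := by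
    rw [hcard]; exact Fintype.one_lt_card
  exact Fintype.exists_ne_of_one_lt_card h1 1

/-- every additive character of a finite field is `ψ (α * ·)` for a fixed non-trivial `ψ` -/
theorem cfixi_dual (ψ : AddChar F ℂ) (hψ : ψ ≠ 1) (χ : F → ℂ) (h0 : χ 0 = 1)
    (hadd : ∀ x y, χ (x + y) = χ x * χ y) : ∃ α : F, ∀ x, χ x = ψ (α * x) := by
  classical
  have hprim : ψ.IsPrimitive := AddChar.IsPrimitive.of_ne_one hψ
  have hinj : Function.Injective (fun s : F => ψ.mulShift s) :=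
    AddChar.to_mulShift_inj_of_isPrimitive hprim
  have hcard : Fintype.card (AddChar F ℂ) = Fintype.card F := AddChar.card_eq
  have hsurj : Function.Surjective (fun s : F => ψ.mulShift s) :=
    ((Fintype.bijective_iff_injective_and_card _).mpr ⟨hinj, hcard.symm⟩).2
  let χA : AddChar F ℂ := ⟨χ, h0, hadd⟩
  obtain ⟨α, hα⟩ := hsurj χA
  refine ⟨α, fun x => ?_⟩
  have := DFunLike.congr_fun hα x
  rw [AddChar.mulShift_apply] at this
  exact this.symm

/-! ## Part B: the plane group -/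

/-- the point of the plane with coordinates `w` -/
def cfixi_p {m : ℕ} (e1 e2 e3 : Vec F m) (w : F × F × F) : Vec F m :=
  w.1 • e1 + w.2.1 • e2 + w.2.2 • e3

omit [Fintype F] in
/-- the plane is totally isotropic -/
theorem cfixi_iso {m : ℕ} (e1 e2 e3 : Vec F m) (h12 : Cfsg.sympForm m F e1 e2 = 0)
    (h13 : Cfsg.sympForm m F e1 e3 = 0) (h23 : Cfsg.sympForm m F e2 e3 = 0) (w w' : F × F × F) :
    Cfsg.sympForm m F (cfixi_p e1 e2 e3 w) (cfixi_p e1 e2 e3 w') = 0 := by
  have h21 : Cfsg.sympForm m F e2 e1 = 0 := by rw [sympForm_swap, h12, neg_zero]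
  have h31 : Cfsg.sympForm m F e3 e1 = 0 := by rw [sympForm_swap, h13, neg_zero]
  have h32 : Cfsg.sympForm m F e3 e2 = 0 := by rw [sympForm_swap, h23, neg_zero]
  unfold cfixi_p
  simp only [sympForm_add_left, sympForm_add_right, sympForm_smul_left, sympForm_smul_right,
    sympForm_self, h12, h13, h23, h21, h31, h32, mul_zero, add_zero]

omit [Fintype F] in
theorem cfixi_sum_iso {m : ℕ} (e1 e2 e3 : Vec F m) (h12 : Cfsg.sympForm m F e1 e2 = 0)
    (h13 : Cfsg.sympForm m F e1 e3 = 0) (h23 : Cfsg.sympForm m F e2 e3 = 0)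
    (l : List ((F × F × F) × F)) (g : (F × F × F) × F → F) (w : F × F × F) :
    Cfsg.sympForm m F ((l.map (fun vc => g vc • cfixi_p e1 e2 e3 vc.1)).sum)
      (cfixi_p e1 e2 e3 w) = 0 := by
  induction l with
  | nil => simp [sympForm_zero_left]
  | cons a l ih =>
    rw [List.map_cons, List.sum_cons, sympForm_add_left, ih, sympForm_smul_left,
      cfixi_iso e1 e2 e3 h12 h13 h23, mul_zero, add_zero]

/-- the action of a product of transvections with centres in the plane -/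
theorem cfixi_prod_mulVec {m : ℕ} (e1 e2 e3 : Vec F m) (h12 : Cfsg.sympForm m F e1 e2 = 0)
    (h13 : Cfsg.sympForm m F e1 e3 = 0) (h23 : Cfsg.sympForm m F e2 e3 = 0)
    (l : List ((F × F × F) × F)) (x : Vec F m) :
    Matrix.mulVec (((l.map (fun vc => sympTransvElt m (cfixi_p e1 e2 e3 vc.1) vc.2)).prod : Spg F m) :
        Matrix (Fin m ⊕ Fin m) (Fin m ⊕ Fin m) F) x
      = x + (l.map (fun vc => (vc.2 * Cfsg.sympForm m F x (cfixi_p e1 e2 e3 vc.1)) •
          cfixi_p e1 e2 e3 vc.1)).sum := by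
  induction l with
  | nil => simp
  | cons a l ih =>
    have hz := cfixi_sum_iso e1 e2 e3 h12 h13 h23 l
      (fun vc => vc.2 * Cfsg.sympForm m F x (cfixi_p e1 e2 e3 vc.1)) a.1
    rw [List.map_cons, List.prod_cons, lqczg_mul_mulVec, ih, lqczg_mulVec, List.map_cons,
      List.sum_cons, sympForm_add_left, hz, add_zero]
    abel

/-- the 12 factors of `t_{p(a,b,d),c}` -/
def cfixi_list (a b d c : F) : List ((F × F × F) × F) :=
  [((1, 0, 0), a ^ 2 * c), ((0, 1, 0), b ^ 2 * c), ((0, 0, 1), d ^ 2 * c),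
   ((1, 1, 0), a * b * c), ((1, 0, 0), -(a * b * c)), ((0, 1, 0), -(a * b * c)),
   ((1, 0, 1), a * d * c), ((1, 0, 0), -(a * d * c)), ((0, 0, 1), -(a * d * c)),
   ((0, 1, 1), b * d * c), ((0, 1, 0), -(b * d * c)), ((0, 0, 1), -(b * d * c))]

/-- the decomposition of a transvection with centre in the plane -/
theorem cfixi_decomp {m : ℕ} (e1 e2 e3 : Vec F m) (h12 : Cfsg.sympForm m F e1 e2 = 0)
    (h13 : Cfsg.sympForm m F e1 e3 = 0) (h23 : Cfsg.sympForm m F e2 e3 = 0) (a b d c : F) :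
    sympTransvElt m (cfixi_p e1 e2 e3 (a, b, d)) c =
      ((cfixi_list a b d c).map
        (fun vc => sympTransvElt m (cfixi_p e1 e2 e3 vc.1) vc.2)).prod := by
  apply lqczg_ext
  intro x
  rw [lqczg_mulVec, cfixi_prod_mulVec e1 e2 e3 h12 h13 h23]
  simp only [cfixi_list, List.map_cons, List.map_nil, List.sum_cons, List.sum_nil, cfixi_p]
  simp only [sympForm_add_right, sympForm_smul_right]
  generalize Cfsg.sympForm m F x e1 = f1
  generalize Cfsg.sympForm m F x e2 = f2
  generalize Cfsg.sympForm m F x e3 = f3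
  congr 1
  module

omit [Fintype F] in
/-- `μ` of a product of elements of `A` -/
theorem cfixi_mu_prod {m : ℕ} (A : Subgroup (Spg F m)) (μ : Spg F m → ℂ) (h1 : μ 1 = 1)
    (hmul : ∀ a ∈ A, ∀ b ∈ A, μ (a * b) = μ a * μ b) (l : List (Spg F m))
    (hl : ∀ g ∈ l, g ∈ A) : l.prod ∈ A ∧ μ l.prod = (l.map μ).prod := by
  induction l with
  | nil => exact ⟨A.one_mem, by simpa using h1⟩
  | cons g l ih =>
    have hg : g ∈ A := hl g List.mem_cons_self
    obtain ⟨h2, h3⟩ := ih (fun g' hg' => hl g' (List.mem_cons_of_mem _ hg'))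
    refine ⟨by rw [List.prod_cons]; exact A.mul_mem hg h2, ?_⟩
    rw [List.prod_cons, hmul g hg _ h2, h3, List.map_cons, List.prod_cons]

/-- C-FIXI -/
theorem exists_isotropic_pt [CharP F 2] {m : ℕ} (e1 e2 e3 : Vec F m) (h12 : Cfsg.sympForm m F e1 e2 = 0)
    (h13 : Cfsg.sympForm m F e1 e3 = 0) (h23 : Cfsg.sympForm m F e2 e3 = 0)
    (μ : Spg F m → ℂ) (h1 : μ 1 = 1)
    (hmul : ∀ a ∈ planeGrp e1 e2 e3, ∀ b ∈ planeGrp e1 e2 e3, μ (a * b) = μ a * μ b) :
    ∃ v : PlanePt F, ∀ z ∈ Zgrp (v.1.1 • e1 + v.1.2.1 • e2 + v.1.2.2 • e3), μ z = 1 := by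
  obtain ⟨ψ, hψ⟩ := cfixi_exists_psi (F := F)
  -- all transvections with centre in the plane lie in the plane group
  have hmem : ∀ (w : F × F × F) (c : F),
      sympTransvElt m (cfixi_p e1 e2 e3 w) c ∈ planeGrp e1 e2 e3 := by
    intro w c
    exact Subgroup.mem_iSup_of_mem w (Subgroup.subset_closure ⟨c, rfl⟩)
  -- each root group carries an additive character `ψ (α w * ·)`
  have hchar : ∀ w : F × F × F, ∃ α : F, ∀ c,
      μ (sympTransvElt m (cfixi_p e1 e2 e3 w) c) = ψ (α * c) := by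
    intro w
    apply cfixi_dual ψ hψ (fun c => μ (sympTransvElt m (cfixi_p e1 e2 e3 w) c))
    · show μ (sympTransvElt m _ 0) = 1
      rw [lqczg_zero, h1]
    · intro x y
      show μ (sympTransvElt m _ (x + y)) = _
      rw [← lqczg_add, hmul _ (hmem w x) _ (hmem w y)]
  choose α hα using hchar
  obtain ⟨v, hv⟩ := exists_ternary_zero (α (1, 0, 0)) (α (0, 1, 0)) (α (0, 0, 1))
    (α (1, 1, 0) - α (1, 0, 0) - α (0, 1, 0)) (α (1, 0, 1) - α (1, 0, 0) - α (0, 0, 1))
    (α (0, 1, 1) - α (0, 1, 0) - α (0, 0, 1))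
  refine ⟨v, fun z hz => ?_⟩
  obtain ⟨c, rfl⟩ := (mem_Zgrp_iff _ z).mp hz
  show μ (sympTransvElt m (cfixi_p e1 e2 e3 (v.1.1, v.1.2.1, v.1.2.2)) c) = 1
  rw [cfixi_decomp e1 e2 e3 h12 h13 h23]
  have hl : ∀ g ∈ (cfixi_list v.1.1 v.1.2.1 v.1.2.2 c).map
      (fun vc => sympTransvElt m (cfixi_p e1 e2 e3 vc.1) vc.2), g ∈ planeGrp e1 e2 e3 := by
    intro g hg
    obtain ⟨vc, -, rfl⟩ := List.mem_map.mp hg
    exact hmem vc.1 vc.2
  rw [(cfixi_mu_prod (planeGrp e1 e2 e3) μ h1 hmul _ hl).2]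
  simp only [cfixi_list, List.map_cons, List.map_nil, List.prod_cons, List.prod_nil, hα, mul_one,
    ← AddChar.map_add_eq_mul]
  convert AddChar.map_zero_eq_one ψ using 2
  linear_combination c * hv

end concrete

end Cfsg.Agent.Lib.Helper21.Lq
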