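import Mathlib
import Cfsg.Agent.Lib.Helper21.Lq.Defs
import Cfsg.Agent.Lib.Helper13.SpParabolic

/-!
# LQ-C-FIXR (Lq hive S2333 of helper21): two points of the plane have a common independent third.
-/

set_option autoImplicit false

namespace Cfsg.Agent.Lib.Helper21.Lq

open Module Cfsg.Agent.Lib.Helper6.Ls Cfsg.Agent.Lib.Helper13

section concrete

variable {F : Type*} [Field F] [Fintype F]

omit [Fintype F] in
/-- every point has an independent one -/
theorem cfixr_exists_indep (v : PlanePt F) : ∃ v'' : PlanePt F, Indep v v'' := by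
  obtain ⟨⟨a, b, c⟩, hv⟩ := v
  by_cases ha : a = 0
  · refine ⟨⟨(1, 0, 0), by simp⟩, ?_⟩
    intro x y h
    simp only [Prod.smul_mk, Prod.mk_add_mk, smul_eq_mul, mul_one, mul_zero, add_zero,
      Prod.mk_eq_zero] at h
    obtain ⟨h1, h2, h3⟩ := h
    subst ha
    have hy : y = 0 := by simpa using h1
    have hbc : b ≠ 0 ∨ c ≠ 0 := by
      by_contra hcon
      push Not at hcon
      exact hv (by rw [hcon.1, hcon.2]; rfl)
    refine ⟨?_, hy⟩
    rcases hbc with hb | hc
    · exact (mul_eq_zero.mp h2).resolve_right hb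
    · exact (mul_eq_zero.mp h3).resolve_right hc
  · refine ⟨⟨(0, 1, 0), by simp⟩, ?_⟩
    intro x y h
    simp only [Prod.smul_mk, Prod.mk_add_mk, smul_eq_mul, mul_one, mul_zero, add_zero,
      Prod.mk_eq_zero] at h
    obtain ⟨h1, h2, h3⟩ := h
    have hx : x = 0 := (mul_eq_zero.mp h1).resolve_right ha
    subst hx
    refine ⟨rfl, ?_⟩
    simpa using h2

set_option linter.unusedSectionVars false in
/-- C-FIXR -/
theorem exists_planePt_indep (v v' : PlanePt F) : ∃ v'' : PlanePt F, Indep v v'' ∧ Indep v'' v' := by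
  by_cases hind : Indep v v'
  · -- `v + v'`
    have hne : v.1 + v'.1 ≠ 0 := by
      intro h
      have := hind 1 1 (by rw [one_smul, one_smul]; exact h)
      exact one_ne_zero this.1
    refine ⟨⟨v.1 + v'.1, hne⟩, ?_, ?_⟩
    · intro a b h
      have h' : (a + b) • v.1 + b • v'.1 = 0 :=
        calc (a + b) • v.1 + b • v'.1 = a • v.1 + b • (v.1 + v'.1) := by module
          _ = 0 := h
      obtain ⟨h1, h2⟩ := hind _ _ h'
      subst h2
      exact ⟨by simpa using h1, rfl⟩
    · intro a b h
      have h' : a • v.1 + (a + b) • v'.1 = 0 :=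
        calc a • v.1 + (a + b) • v'.1 = a • (v.1 + v'.1) + b • v'.1 := by module
          _ = 0 := h
      obtain ⟨h1, h2⟩ := hind _ _ h'
      subst h1
      exact ⟨rfl, by simpa using h2⟩
  · -- `v' = s • v`, `s ≠ 0`
    unfold Indep at hind
    push Not at hind
    obtain ⟨a, b, hab, hne⟩ := hind
    have hb : b ≠ 0 := by
      intro hb
      subst hb
      rw [zero_smul, add_zero] at hab
      have ha : a = 0 := by
        rcases smul_eq_zero.mp hab with h | h
        · exact h
        · exact absurd h v.2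
      exact hne ha rfl
    have ha : a ≠ 0 := by
      intro ha
      subst ha
      rw [zero_smul, zero_add] at hab
      rcases smul_eq_zero.mp hab with h | h
      · exact hb h
      · exact absurd h v'.2
    -- `v' = -(a / b) • v`
    have hv' : v'.1 = (-(a / b)) • v.1 := by
      have h1 : b • v'.1 = -(a • v.1) := eq_neg_of_add_eq_zero_right hab
      have h2 : v'.1 = b⁻¹ • (b • v'.1) := by rw [smul_smul, inv_mul_cancel₀ hb, one_smul]
      rw [h2, h1, smul_neg, smul_smul, neg_smul, div_eq_inv_mul]
    obtain ⟨v'', hv''⟩ := cfixr_exists_indep v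
    refine ⟨v'', hv'', ?_⟩
    intro x y h
    rw [hv', smul_smul] at h
    have h' : (y * -(a / b)) • v.1 + x • v''.1 = 0 := (add_comm _ _).trans h
    obtain ⟨h1, h2⟩ := hv'' _ _ h'
    refine ⟨h2, ?_⟩
    have hs : -(a / b) ≠ 0 := neg_ne_zero.mpr (div_ne_zero ha hb)
    exact (mul_eq_zero.mp h1).resolve_right hs

end concrete

end Cfsg.Agent.Lib.Helper21.Lq
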