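import Cfsg.Agent.Lib.Helper53.U3CjGRAM

/-! U3-CONJ sub-hive (helper60) of the U3 hive (helper23, S2283), sub-leaf CJ-ADJ: move `G01`, `G00` to
prescribed values by `y = x + α N x + α' N² x`. -/

set_option autoImplicit false

namespace Cfsg.Agent.Lib.Helper23.U3

open Matrix Cfsg.Agent.Lib.Helper99 Cfsg.Agent.Lib.Helper13 Cfsg.Agent.Lib.Helper90.Psu

variable {F : Type*} [Field F] [Fintype F] {q : ℕ}

local notation "hh" => Cfsg.hermForm 3 F q

/-- additive Hilbert 90 (own copy, so that this file does not wait for CJ-H90) -/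
theorem cjadj_h90 (hF : Fintype.card F = q ^ 2) (z : F) (hz : z + z ^ q = 0) :
    ∃ α : F, α - α ^ q = z := by
  obtain ⟨τ, hτ0, hτ⟩ := Helper99.exists_trace_zero hF
  have hτq : τ ^ q = -τ := by linear_combination hτ
  have hzq : z ^ q = -z := by linear_combination hz
  have hfix : (z / τ) ^ q = z / τ := by
    rw [div_pow, hτq, hzq]
    field_simp
  obtain ⟨c, hc⟩ := Helper99.exists_trace_eq' hF (z / τ) hfix
  refine ⟨c * τ, ?_⟩
  rw [mul_pow, hτq]
  have : z = (z / τ) * τ := by field_simp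
  rw [this, ← hc]
  ring

/-- the determinant is unchanged by the unitriangular row operation -/
theorem cjadj_det (r0 r1 r2 : Fin 3 → F) (α α' : F) :
    (Matrix.of ![r0 + α • r1 + α' • r2, r1 + α • r2, r2]).det = (Matrix.of ![r0, r1, r2]).det := by
  rw [Matrix.det_fin_three, Matrix.det_fin_three]
  simp only [Matrix.of_apply, Matrix.cons_val_zero, Matrix.cons_val_one, Matrix.cons_val,
    Pi.add_apply, Pi.smul_apply, smul_eq_mul]
  ring

/-- the three sesquilinear expansions -/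
theorem cjadj_expand (hF : Fintype.card F = q ^ 2) (b0 b1 b2 : Fin 3 → F) (α α' : F)
    (g22 : hh b2 b2 = 0) (g12 : hh b1 b2 = 0) (g21 : hh b2 b1 = 0)
    (g02 : hh b0 b2 = - hh b1 b1) (g20 : hh b2 b0 = - hh b1 b1) :
    hh (b1 + α • b2) (b1 + α • b2) = hh b1 b1 ∧
      hh (b0 + α • b1 + α' • b2) (b1 + α • b2) = hh b0 b1 + hh b1 b1 * (α - α ^ q) ∧
      hh (b0 + α • b1 + α' • b2) (b0 + α • b1 + α' • b2) =
        hh b0 b0 + α ^ q * hh b0 b1 + α * hh b1 b0 + α * α ^ q * hh b1 b1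
          - hh b1 b1 * (α' + α' ^ q) := by
  refine ⟨?_, ?_, ?_⟩
  · simp only [Helper13.hermForm_add_left, Helper13.hermForm_smul_left,
      Helper13.hermForm_add_right hF, Helper13.hermForm_smul_right]
    linear_combination (α ^ q) * g12 + α * g21 + (α * α ^ q) * g22
  · simp only [Helper13.hermForm_add_left, Helper13.hermForm_smul_left,
      Helper13.hermForm_add_right hF, Helper13.hermForm_smul_right]
    linear_combination (α ^ q) * g02 + (α * α ^ q) * g12 + α' * g21 + (α' * α ^ q) * g22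
  · simp only [Helper13.hermForm_add_left, Helper13.hermForm_smul_left,
      Helper13.hermForm_add_right hF, Helper13.hermForm_smul_right]
    linear_combination (α' ^ q) * g02 + (α * α' ^ q) * g12 + α' * g20 + (α' * α ^ q) * g21
      + (α' * α' ^ q) * g22

/-- CJ-ADJ (M): move `G01`, `G00` to prescribed values by `y = x + α N x + α' N² x`. -/
theorem exists_adjust (hF : Fintype.card F = q ^ 2) (u : GL (Fin 3) F) (hu : u ∈ Cfsg.GU 3 F q)
    (x : Fin 3 → F) (h3 : nilp u *ᵥ (nilp u *ᵥ (nilp u *ᵥ x)) = 0)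
    (hρ : hh (tri u x 1) (tri u x 1) ≠ 0) (g01 g00 : F)
    (h01 : g01 + g01 ^ q = - hh (tri u x 1) (tri u x 1)) (h00 : g00 ^ q = g00) :
    ∃ y : Fin 3 → F, nilp u *ᵥ (nilp u *ᵥ (nilp u *ᵥ y)) = 0 ∧
      hh (tri u y 1) (tri u y 1) = hh (tri u x 1) (tri u x 1) ∧
      hh (tri u y 0) (tri u y 1) = g01 ∧ hh (tri u y 0) (tri u y 0) = g00 ∧
      (tri u y).det = (tri u x).det := by
  obtain ⟨g22, g12, g21, g02, g20, g0110⟩ := gram_rel hF u hu x h3
  simp only [cjgram_tri0, cjgram_tri1, cjgram_tri2] at g22 g12 g21 g02 g20 g0110 hρ h01 ⊢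
  set b1 := nilp u *ᵥ x with hb1
  set b2 := nilp u *ᵥ b1 with hb2
  set ρ := hh b1 b1 with hρdef
  have hρq : ρ ^ q = ρ := Helper13.hermForm_conj hF 3 b1 b1
  have hG01q : (hh x b1) ^ q = hh b1 x := Helper13.hermForm_conj hF 3 x b1
  have hG10q : (hh b1 x) ^ q = hh x b1 := Helper13.hermForm_conj hF 3 b1 x
  have hG00q : (hh x x) ^ q = hh x x := Helper13.hermForm_conj hF 3 x x
  -- choose α
  have hz : (g01 - hh x b1) / ρ + ((g01 - hh x b1) / ρ) ^ q = 0 := by
    rw [div_pow, Helper99.frob_sub hF, hG01q, hρq]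
    field_simp
    linear_combination h01 - g0110
  obtain ⟨α, hα⟩ := cjadj_h90 hF _ hz
  -- choose α'
  have hw : ((hh x x + α ^ q * hh x b1 + α * hh b1 x + α * α ^ q * ρ - g00) / ρ) ^ q =
      (hh x x + α ^ q * hh x b1 + α * hh b1 x + α * α ^ q * ρ - g00) / ρ := by
    rw [div_pow, hρq, Helper99.frob_sub hF, Helper99.frob_add hF, Helper99.frob_add hF,
      Helper99.frob_add hF, mul_pow, mul_pow, mul_pow, mul_pow, Helper13.pow_q_pow_q hF,
      hG00q, hG01q, hG10q, hρq, h00]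
    ring
  obtain ⟨α', hα'⟩ := Helper99.exists_trace_eq' hF _ hw
  -- the new vector
  have hy1 : nilp u *ᵥ (x + α • b1 + α' • b2) = b1 + α • b2 := by
    rw [mulVec_add, mulVec_add, mulVec_smul, mulVec_smul, ← hb1, ← hb2, h3, smul_zero, add_zero]
  have hy2 : nilp u *ᵥ (b1 + α • b2) = b2 := by
    rw [mulVec_add, mulVec_smul, ← hb2, h3, smul_zero, add_zero]
  obtain ⟨e1, e2, e3⟩ := cjadj_expand hF x b1 b2 α α' g22 g12 g21 g02 g20
  refine ⟨x + α • b1 + α' • b2, ?_, ?_, ?_, ?_, ?_⟩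
  · rw [hy1, hy2, h3]
  · rw [hy1]
    exact e1
  · rw [hy1, e2, hα]
    field_simp
    ring
  · rw [e3, hα']
    field_simp
    ring
  · have h1 : tri u (x + α • b1 + α' • b2) =
        Matrix.of ![x + α • b1 + α' • b2, b1 + α • b2, b2] := by
      unfold tri
      rw [hy1, hy2]
    have h2 : tri u x = Matrix.of ![x, b1, b2] := rfl
    rw [h1, h2]
    exact cjadj_det x b1 b2 α α'

end Cfsg.Agent.Lib.Helper23.U3
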