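import Cfsg.Agent.Lib.Helper60.U3ConjDefs

/-! U3-CONJ sub-hive (helper60) of the U3 hive (helper23, S2283), sub-leaf CJ-GRAM: the Gram relations of
`x, N x, N² x` for a unitary `u` with `N³ x = 0`. -/

set_option autoImplicit false

namespace Cfsg.Agent.Lib.Helper23.U3

open Matrix Cfsg.Agent.Lib.Helper99 Cfsg.Agent.Lib.Helper13 Cfsg.Agent.Lib.Helper90.Psu

variable {F : Type*} [Field F] [Fintype F] {q : ℕ}

local notation "hh" => Cfsg.hermForm 3 F q

/-- `u x = x + N x` -/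
theorem cjgram_mulVec (u : GL (Fin 3) F) (x : Fin 3 → F) :
    (u : Matrix (Fin 3) (Fin 3) F) *ᵥ x = x + nilp u *ᵥ x := by
  unfold nilp
  rw [sub_mulVec, one_mulVec]
  abel

/-- `(*)`: `h(N x, y) + h(x, N y) + h(N x, N y) = 0` for unitary `u`. -/
theorem cjgram_star (hF : Fintype.card F = q ^ 2) (u : GL (Fin 3) F) (hu : u ∈ Cfsg.GU 3 F q)
    (x y : Fin 3 → F) :
    hh (nilp u *ᵥ x) y + hh x (nilp u *ᵥ y) + hh (nilp u *ᵥ x) (nilp u *ᵥ y) = 0 := by
  have h := Helper99.GU_preserves hu x y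
  rw [cjgram_mulVec u x, cjgram_mulVec u y, Helper13.hermForm_add_left,
    Helper13.hermForm_add_right hF, Helper13.hermForm_add_right hF] at h
  linear_combination h

theorem cjgram_tri0 (u : GL (Fin 3) F) (x : Fin 3 → F) : tri u x 0 = x := rfl

theorem cjgram_tri1 (u : GL (Fin 3) F) (x : Fin 3 → F) : tri u x 1 = nilp u *ᵥ x := rfl

theorem cjgram_tri2 (u : GL (Fin 3) F) (x : Fin 3 → F) :
    tri u x 2 = nilp u *ᵥ (nilp u *ᵥ x) := rfl

/-- CJ-GRAM (E/M): the Gram relations of `x, N x, N² x` for a unitary `u` with `N³ x = 0`. -/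
theorem gram_rel (hF : Fintype.card F = q ^ 2) (u : GL (Fin 3) F) (hu : u ∈ Cfsg.GU 3 F q)
    (x : Fin 3 → F) (h3 : nilp u *ᵥ (nilp u *ᵥ (nilp u *ᵥ x)) = 0) :
    hh (tri u x 2) (tri u x 2) = 0 ∧ hh (tri u x 1) (tri u x 2) = 0 ∧ hh (tri u x 2) (tri u x 1) = 0 ∧
      hh (tri u x 0) (tri u x 2) = - hh (tri u x 1) (tri u x 1) ∧
      hh (tri u x 2) (tri u x 0) = - hh (tri u x 1) (tri u x 1) ∧
      hh (tri u x 0) (tri u x 1) + hh (tri u x 1) (tri u x 0) = - hh (tri u x 1) (tri u x 1) := by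
  rw [cjgram_tri0, cjgram_tri1, cjgram_tri2]
  set b1 := nilp u *ᵥ x with hb1
  set b2 := nilp u *ᵥ b1 with hb2
  have e21 := cjgram_star hF u hu b2 b1
  have e20 := cjgram_star hF u hu b2 x
  have e11 := cjgram_star hF u hu b1 b1
  have e10 := cjgram_star hF u hu b1 x
  have e01 := cjgram_star hF u hu x b1
  have e00 := cjgram_star hF u hu x x
  rw [h3, Helper99.hermForm_zero_left, Helper99.hermForm_zero_left] at e21
  rw [h3, Helper99.hermForm_zero_left, Helper99.hermForm_zero_left] at e20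
  rw [← hb1] at e20 e10 e01 e00
  rw [← hb2] at e21 e11 e10 e01
  have g22 : hh b2 b2 = 0 := by linear_combination e21
  have g21 : hh b2 b1 = 0 := by linear_combination e20
  have g12 : hh b1 b2 = 0 := by linear_combination e11 - g21 - g22
  refine ⟨g22, g12, g21, ?_, ?_, ?_⟩
  · linear_combination e01 - g12
  · linear_combination e10 - g21
  · linear_combination e00

end Cfsg.Agent.Lib.Helper23.U3
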