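import Mathlib
import Cfsg.Prelude.Def_Classical
import Cfsg.Prelude.Def_LieClassical
import Cfsg.Agent.Lib.Helper14.TuDefs
import Cfsg.Agent.Lib.Helper40.HermStep

/-! S5953 Tu hive (helper14), leaf TU-B (helper53). -/

set_option autoImplicit false

namespace Cfsg.Agent.Lib.Helper14.Tu

open Cfsg.Agent.Lib.Helper40.Herm Cfsg.Agent.Lib.Helper2.BG Polynomial Module

section abs
variable {F : Type*} [Field F] [Fintype F] {q : ℕ} {hF : Fintype.card F = q ^ 2}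
  {V : Type*} [AddCommGroup V] [Module F V] [FiniteDimensional F V]
  {H : V →ₗ[F] V →ₛₗ[tauHom hF] F} {g : Module.End F V} {N : ℕ}

omit [Fintype F] [FiniteDimensional F V] in
/-- a minimal invariant subspace is the cyclic submodule of each of its nonzero vectors -/
theorem b_cyc_eq {Y : Submodule F V} (hYi : Inv g Y)
    (hmin : ∀ Y' : Submodule F V, Y' ≤ Y → Inv g Y' → Y' = ⊥ ∨ Y' = Y) (v : V) (hv : v ∈ Y)
    (hv0 : v ≠ 0) : Cfsg.Agent.Lib.Helper40.SemisimpleConj.cyc g v = Y := by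
  have hle : Cfsg.Agent.Lib.Helper40.SemisimpleConj.cyc g v ≤ Y :=
    Cfsg.Agent.Lib.Helper40.Symp.cyc_le v Y hYi hv
  rcases hmin _ hle (Cfsg.Agent.Lib.Helper40.SemisimpleConj.cyc_invt g v) with h | h
  · exfalso
    have := Cfsg.Agent.Lib.Helper40.Symp.self_mem_cyc (g := g) v
    rw [h, Submodule.mem_bot] at this
    exact hv0 this
  · exact h

/-- an element of norm `-1` -/
theorem b_exists_eps (hF : Fintype.card F = q ^ 2) : ∃ ε : F, ε * tauHom hF ε = -1 := by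
  have hq := Cfsg.Agent.Lib.Helper44.two_le_q_of_card hF
  have h1 : ((-1 : F)) ^ q = -1 := by
    have := (tauHom hF).map_neg 1
    rw [map_one, tauHom_apply] at this
    exact this
  obtain ⟨c, hc⟩ := Cfsg.Agent.Lib.Helper44.exists_norm_eq hF (-1 : F) (neg_ne_zero.2 one_ne_zero) h1
  refine ⟨c, ?_⟩
  rw [tauHom_apply, ← pow_succ', hc]

/-- TU-B (Lemma B).  Two orthogonal nondegenerate minimal invariant subspaces with the same irreducible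
annihilator `P` span a space containing a totally isotropic invariant subspace of the same dimension:
`htypeI_iso` (`Lib/Helper40/HermTypeI.lean`; `P ∣ hsig τ N P` because `Y₁` is not isotropic,
`hisotropic_of_not_dvd`) gives an equivariant isometry `ψ : Y₁ ≃ Y₂`; take `{y + ε ψ y}`, `ε ^ (q+1) = -1`. -/
theorem exists_isotropic_of_pair (hc : Ctx hF H g N) {Y₁ Y₂ : Submodule F V} (h₁i : Inv g Y₁)
    (h₂i : Inv g Y₂) (h₁ : HNondegOn H Y₁) (h₂ : HNondegOn H Y₂) (h₁0 : Y₁ ≠ ⊥) (h₂0 : Y₂ ≠ ⊥)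
    (h₁min : ∀ Y' : Submodule F V, Y' ≤ Y₁ → Inv g Y' → Y' = ⊥ ∨ Y' = Y₁)
    (h₂min : ∀ Y' : Submodule F V, Y' ≤ Y₂ → Inv g Y' → Y' = ⊥ ∨ Y' = Y₂)
    (horth : ∀ u ∈ Y₁, ∀ v ∈ Y₂, H u v = 0) (P : F[X]) (hP : Irreducible P)
    (hP₁ : ∀ v ∈ Y₁, aeval g P v = 0) (hP₂ : ∀ v ∈ Y₂, aeval g P v = 0) :
    ∃ Y : Submodule F V, Y ≤ Y₁ ⊔ Y₂ ∧ Inv g Y ∧ HIsotropic H Y ∧ finrank F ↥Y = finrank F ↥Y₁ := by
  classical
  have hτ := tauHom_tauHom hF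
  have hτ1 := tauHom_ne_id hF
  obtain ⟨v₁, hv₁, hv₁0⟩ := (Submodule.ne_bot_iff _).1 h₁0
  obtain ⟨v₂, hv₂, hv₂0⟩ := (Submodule.ne_bot_iff _).1 h₂0
  have hc₁ := b_cyc_eq h₁i h₁min v₁ hv₁ hv₁0
  have hc₂ := b_cyc_eq h₂i h₂min v₂ hv₂ hv₂0
  have hnd₁ : HNondegOn H (Cfsg.Agent.Lib.Helper40.SemisimpleConj.cyc g v₁) := by rw [hc₁]; exact h₁
  have hnd₂ : HNondegOn H (Cfsg.Agent.Lib.Helper40.SemisimpleConj.cyc g v₂) := by rw [hc₂]; exact h₂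
  have hps : P ∣ hsig (tauHom hF) N P :=
    hcaseA_of_nondeg hτ hc.herm hc.inv hc.pos hc.pow P hP v₁ hv₁0 (hP₁ v₁ hv₁) hnd₁
  obtain ⟨ψ, hψ1, hψ2⟩ := htypeI_iso hτ hτ1 H H g g hc.herm hc.herm hc.inv hc.inv hc.pos hc.pow
    hc.pow P hP v₁ v₂ hv₁0 hv₂0 (hP₁ v₁ hv₁) (hP₂ v₂ hv₂) hps hnd₁ hnd₂
  obtain ⟨ε, hε⟩ := b_exists_eps hF
  -- the map `x ↦ x + ε ψ x`
  let φ : ↥(Cfsg.Agent.Lib.Helper40.SemisimpleConj.cyc g v₁) →ₗ[F] V :=
    (Cfsg.Agent.Lib.Helper40.SemisimpleConj.cyc g v₁).subtype +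
      ε • ((Cfsg.Agent.Lib.Helper40.SemisimpleConj.cyc g v₂).subtype.comp ψ.toLinearMap)
  have hφ : ∀ x, φ x = (x : V) + ε • ((ψ x : ↥(Cfsg.Agent.Lib.Helper40.SemisimpleConj.cyc g v₂)) : V) :=
    fun x => rfl
  have hx₁ : ∀ x : ↥(Cfsg.Agent.Lib.Helper40.SemisimpleConj.cyc g v₁), (x : V) ∈ Y₁ :=
    fun x => hc₁ ▸ x.2
  have hx₂ : ∀ x : ↥(Cfsg.Agent.Lib.Helper40.SemisimpleConj.cyc g v₁),
      ((ψ x : ↥(Cfsg.Agent.Lib.Helper40.SemisimpleConj.cyc g v₂)) : V) ∈ Y₂ :=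
    fun x => hc₂ ▸ (ψ x).2
  have hdisj : ∀ z : V, z ∈ Y₁ → z ∈ Y₂ → z = 0 := by
    intro z hz1 hz2
    exact h₂ z hz2 (fun y hy => horth z hz1 y hy)
  have hinj : Function.Injective φ := by
    rw [← LinearMap.ker_eq_bot, LinearMap.ker_eq_bot']
    intro x hx
    rw [hφ] at hx
    have h1 : (x : V) = -(ε • ((ψ x : ↥(Cfsg.Agent.Lib.Helper40.SemisimpleConj.cyc g v₂)) : V)) :=
      eq_neg_of_add_eq_zero_left hx
    have h2 : (x : V) ∈ Y₂ := by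
      rw [h1]
      exact Y₂.neg_mem (Y₂.smul_mem ε (hx₂ x))
    exact Subtype.ext (hdisj _ (hx₁ x) h2)
  refine ⟨LinearMap.range φ, ?_, ?_, ?_, ?_⟩
  · rintro _ ⟨x, rfl⟩
    rw [hφ]
    exact Submodule.add_mem_sup (hx₁ x) (Y₂.smul_mem ε (hx₂ x))
  · rintro _ ⟨x, rfl⟩
    have hgx : g (x : V) ∈ Cfsg.Agent.Lib.Helper40.SemisimpleConj.cyc g v₁ :=
      Cfsg.Agent.Lib.Helper40.SemisimpleConj.cyc_invt g v₁ x x.2
    refine ⟨⟨g (x : V), hgx⟩, ?_⟩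
    rw [hφ, hφ, hψ1 x hgx, map_add, map_smul]
  · rintro _ ⟨x, rfl⟩ _ ⟨y, rfl⟩
    rw [hφ, hφ]
    simp only [map_add, LinearMap.add_apply, map_smul, LinearMap.smul_apply, map_smulₛₗ, smul_eq_mul]
    have e1 : H (x : V) ((ψ y : ↥(Cfsg.Agent.Lib.Helper40.SemisimpleConj.cyc g v₂)) : V) = 0 :=
      horth _ (hx₁ x) _ (hx₂ y)
    have e2 : H ((ψ x : ↥(Cfsg.Agent.Lib.Helper40.SemisimpleConj.cyc g v₂)) : V) (y : V) = 0 :=
      herm_swap hc.herm (horth _ (hx₁ y) _ (hx₂ x))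
    rw [e1, e2, hψ2 x y]
    linear_combination (H (x : V) (y : V)) * hε
  · rw [LinearMap.finrank_range_of_inj hinj, hc₁]

end abs

end Cfsg.Agent.Lib.Helper14.Tu
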