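import Mathlib
import Cfsg.Agent.Lib.Helper53.SL2Invol

/-!
More on elements of order four in `SL₂(F)`, and the order of `SL₂(F)`.
-/

set_option autoImplicit false

namespace Cfsg.Agent.Lib.Helper53

open Matrix

section
variable {F : Type*} [Field F] [Fintype F]

/-- A second element of order four, not commuting with `sl2w`, and such that the
common centralizer of the two is `±1`. -/
theorem exists_sl2u (hF : Odd (Fintype.card F)) :
    ∃ u : SpecialLinearGroup (Fin 2) F, u * u = -1 ∧ sl2w F * u ≠ u * sl2w F ∧
      ∀ a : SpecialLinearGroup (Fin 2) F, a * sl2w F = sl2w F * a → a * u = u * a →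
        a = 1 ∨ a = -1 := by
  have h2 : (2 : F) ≠ 0 := two_ne_zero_of_odd_card_field hF
  obtain ⟨x, y, hxy⟩ := exists_sq_add_sq_of_odd_card hF (-1 : F)
  have hudet : (!![x, y; y, -x] : Matrix (Fin 2) (Fin 2) F).det = 1 := by
    rw [Matrix.det_fin_two]
    simp only [Matrix.of_apply, Matrix.cons_val', Matrix.cons_val_zero, Matrix.cons_val_one,
      Matrix.empty_val', Matrix.cons_val_fin_one]
    linear_combination -hxy
  obtain ⟨u, hu⟩ : ∃ u : SpecialLinearGroup (Fin 2) F, u.1 = !![x, y; y, -x] := ⟨⟨_, hudet⟩, rfl⟩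
  have hne : ¬ (x = 0 ∧ y = 0) := by
    rintro ⟨rfl, rfl⟩
    simp at hxy
  refine ⟨u, ?_, ?_, ?_⟩
  · ext i j
    rw [Matrix.SpecialLinearGroup.coe_mul, hu]
    fin_cases i <;> fin_cases j
    · simp [Matrix.mul_apply, Fin.sum_univ_two]; linear_combination hxy
    · simp [Matrix.mul_apply, Fin.sum_univ_two]; ring
    · simp [Matrix.mul_apply, Fin.sum_univ_two]; ring
    · simp [Matrix.mul_apply, Fin.sum_univ_two]; linear_combination hxy
  · intro h
    have h' := congrArg Subtype.val h
    rw [Matrix.SpecialLinearGroup.coe_mul, Matrix.SpecialLinearGroup.coe_mul, hu] at h'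
    have h00 := congrFun (congrFun h' 0) 0
    have h01 := congrFun (congrFun h' 0) 1
    simp [sl2w, Matrix.mul_apply, Fin.sum_univ_two] at h00 h01
    apply hne
    constructor
    · have : (2 : F) * x = 0 := by linear_combination h01
      rcases mul_eq_zero.1 this with h | h
      · exact absurd h h2
      · exact h
    · have : (2 : F) * y = 0 := by linear_combination -h00
      rcases mul_eq_zero.1 this with h | h
      · exact absurd h h2
      · exact h
  · intro a haw hau
    have hw' := congrArg Subtype.val haw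
    have hu' := congrArg Subtype.val hau
    rw [Matrix.SpecialLinearGroup.coe_mul, Matrix.SpecialLinearGroup.coe_mul] at hw' hu'
    rw [hu] at hu'
    have hadet : a.1 0 0 * a.1 1 1 - a.1 0 1 * a.1 1 0 = 1 := by
      rw [← Matrix.det_fin_two]; exact a.2
    set M := a.1 with hM
    have w00 := congrFun (congrFun hw' 0) 0
    have w01 := congrFun (congrFun hw' 0) 1
    simp [sl2w, Matrix.mul_apply, Fin.sum_univ_two] at w00 w01
    -- w00 : M 0 1 = - M 1 0 ; w01 : - M 0 0 = - M 1 1
    have u00 := congrFun (congrFun hu' 0) 0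
    have u01 := congrFun (congrFun hu' 0) 1
    simp [Matrix.mul_apply, Fin.sum_univ_two] at u00 u01
    have hq : M 0 1 = - M 1 0 := by linear_combination w00
    have hs : M 1 1 = M 0 0 := by linear_combination -w01
    have hr : M 1 0 = 0 := by
      by_contra hr
      apply hne
      constructor
      · have : (2 : F) * M 1 0 * x = 0 := by
          rw [hq, hs] at u01; linear_combination u01
        rcases mul_eq_zero.1 this with h | h
        · rcases mul_eq_zero.1 h with h | h
          · exact absurd h h2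
          · exact absurd h hr
        · exact h
      · have : (2 : F) * M 1 0 * y = 0 := by
          rw [hq] at u00; linear_combination -u00
        rcases mul_eq_zero.1 this with h | h
        · rcases mul_eq_zero.1 h with h | h
          · exact absurd h h2
          · exact absurd h hr
        · exact h
    have hq0 : M 0 1 = 0 := by rw [hq, hr, neg_zero]
    rw [hq0, hs] at hadet
    have haa : (M 0 0 - 1) * (M 0 0 + 1) = 0 := by linear_combination hadet
    rcases mul_eq_zero.1 haa with h | h
    · left
      ext i j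
      have ha : M 0 0 = 1 := by linear_combination h
      fin_cases i <;> fin_cases j <;> simp [← hM, hq0, hr, ha, hs]
    · right
      ext i j
      have ha : M 0 0 = -1 := by linear_combination h
      fin_cases i <;> fin_cases j <;> simp [← hM, hq0, hr, ha, hs]

/-- every element of square `-1` has a non-commuting partner of square `-1`. -/
theorem sl2_exists_not_commute (hF : Odd (Fintype.card F)) (t : SpecialLinearGroup (Fin 2) F)
    (ht : t * t = -1) : ∃ t' : SpecialLinearGroup (Fin 2) F, t' * t' = -1 ∧ t * t' ≠ t' * t := by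
  obtain ⟨u, hu, hwu, -⟩ := exists_sl2u hF
  obtain ⟨g, rfl⟩ := sl2_sq_eq_neg_one hF t ht
  refine ⟨g * u * g⁻¹, ?_, ?_⟩
  · calc g * u * g⁻¹ * (g * u * g⁻¹) = g * (u * u) * g⁻¹ := by group
      _ = -1 := by
        rw [hu, mul_neg, mul_one, neg_mul, mul_inv_cancel]
  · intro h
    apply hwu
    have : g * (sl2w F * u) * g⁻¹ = g * (u * sl2w F) * g⁻¹ := by
      calc g * (sl2w F * u) * g⁻¹ = g * sl2w F * g⁻¹ * (g * u * g⁻¹) := by group
        _ = g * u * g⁻¹ * (g * sl2w F * g⁻¹) := h
        _ = g * (u * sl2w F) * g⁻¹ := by group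
    exact mul_left_cancel (mul_right_cancel this)

/-- an element commuting with all elements of square `-1` is `±1`. -/
theorem sl2_centralizer_sq_neg_one (hF : Odd (Fintype.card F)) (a : SpecialLinearGroup (Fin 2) F)
    (h : ∀ t : SpecialLinearGroup (Fin 2) F, t * t = -1 → a * t = t * a) : a = 1 ∨ a = -1 := by
  obtain ⟨u, hu, -, hcent⟩ := exists_sl2u hF
  exact hcent a (h _ (sl2w_sq F)) (h _ hu)

/-- The order of `SL₂(F)`. -/
theorem card_sl2 : Nat.card (SpecialLinearGroup (Fin 2) F) =
    Fintype.card F * (Fintype.card F ^ 2 - 1) := by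
  classical
  have h1 := Subgroup.card_eq_card_quotient_mul_card_subgroup
    (GeneralLinearGroup.det : GL (Fin 2) F →* Fˣ).ker
  have h2 : Nat.card (GL (Fin 2) F ⧸ (GeneralLinearGroup.det : GL (Fin 2) F →* Fˣ).ker)
      = Nat.card Fˣ :=
    Nat.card_congr (QuotientGroup.quotientKerEquivOfSurjective _
      GeneralLinearGroup.det_surjective).toEquiv
  have e : (GeneralLinearGroup.det : GL (Fin 2) F →* Fˣ).ker ≃ SpecialLinearGroup (Fin 2) F :=
    { toFun := fun g => ⟨g.1.1, by
        have := congrArg Units.val (MonoidHom.mem_ker.1 g.2)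
        simpa using this⟩
      invFun := fun A => ⟨SpecialLinearGroup.toGL A, by
        rw [MonoidHom.mem_ker]; exact SpecialLinearGroup.coeToGL_det A⟩
      left_inv := fun g => by
        apply Subtype.ext; apply Units.ext; rfl
      right_inv := fun A => by
        apply Subtype.ext; rfl }
  have h3 : Nat.card Fˣ = Fintype.card F - 1 := by
    rw [Nat.card_eq_fintype_card, Fintype.card_units]
  rw [h2, Nat.card_congr e, h3, Matrix.card_GL_field] at h1
  simp only [Fin.prod_univ_two, Fin.val_zero, Fin.val_one, pow_zero, pow_one] at h1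
  set q := Fintype.card F with hq
  have hq1 : 1 < q := Fintype.one_lt_card
  have hqq : q ^ 2 - q = q * (q - 1) := by
    rw [pow_two, Nat.mul_sub, mul_one]
  rw [hqq] at h1
  have hpos : 0 < q - 1 := by omega
  have : (q * (q ^ 2 - 1)) * (q - 1) = Nat.card (SpecialLinearGroup (Fin 2) F) * (q - 1) := by
    rw [mul_comm (q - 1) _] at h1
    rw [← h1]; ring
  exact (Nat.eq_of_mul_eq_mul_right hpos this).symm

end

theorem card_eq_of_card_sl2_eq {F₁ F₂ : Type*} [Field F₁] [Fintype F₁] [Field F₂] [Fintype F₂]
    (h : Nat.card (SpecialLinearGroup (Fin 2) F₁) = Nat.card (SpecialLinearGroup (Fin 2) F₂)) :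
    Fintype.card F₁ = Fintype.card F₂ := by
  rw [card_sl2, card_sl2] at h
  have key : ∀ a b : ℕ, 1 < a → a < b → a * (a ^ 2 - 1) < b * (b ^ 2 - 1) := by
    intro a b ha hab
    have h1 : a ^ 2 < b ^ 2 := Nat.pow_lt_pow_left hab (by norm_num)
    have h2 : 1 ≤ a ^ 2 := Nat.one_le_pow _ _ (by omega)
    have h3 : a ^ 2 - 1 < b ^ 2 - 1 := by omega
    have h4 : 0 < a ^ 2 - 1 := by
      have : 1 < a ^ 2 := Nat.one_lt_pow (by norm_num) ha
      omega
    calc a * (a ^ 2 - 1) < b * (a ^ 2 - 1) := Nat.mul_lt_mul_of_pos_right hab h4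
      _ ≤ b * (b ^ 2 - 1) := Nat.mul_le_mul_left _ h3.le
  have h1 : 1 < Fintype.card F₁ := Fintype.one_lt_card
  have h2 : 1 < Fintype.card F₂ := Fintype.one_lt_card
  rcases lt_trichotomy (Fintype.card F₁) (Fintype.card F₂) with hlt | heq | hgt
  · exact absurd h (key _ _ h1 hlt).ne
  · exact heq
  · exact absurd h.symm (key _ _ h2 hgt).ne

end Cfsg.Agent.Lib.Helper53
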