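import Mathlib
import Cfsg.Agent.Lib.Helper53.SL2Extra

/-!
Uniqueness of the decomposition `L = L₁ ∘ L₂` of a central product of two `SL₂`'s
(including the solvable case `SL₂(3)`), via elements of order four.
-/

set_option autoImplicit false

namespace Cfsg.Agent.Lib.Helper53

/-- Every element of the join of two elementwise commuting subgroups is a product. -/
theorem mem_sup_of_commute' {G : Type*} [Group G] (L₁ L₂ : Subgroup G)
    (hc : ∀ x ∈ L₁, ∀ y ∈ L₂, x * y = y * x) {y : G} (hy : y ∈ L₁ ⊔ L₂) :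
    ∃ a ∈ L₁, ∃ b ∈ L₂, y = a * b := by
  let P : Subgroup G :=
    { carrier := {y | ∃ a ∈ L₁, ∃ b ∈ L₂, y = a * b}
      one_mem' := ⟨1, L₁.one_mem, 1, L₂.one_mem, by simp⟩
      mul_mem' := by
        rintro _ _ ⟨a, ha, b, hb, rfl⟩ ⟨a', ha', b', hb', rfl⟩
        refine ⟨a * a', L₁.mul_mem ha ha', b * b', L₂.mul_mem hb hb', ?_⟩
        have := hc a' ha' b hb
        calc a * b * (a' * b') = a * (b * a') * b' := by group
          _ = a * (a' * b) * b' := by rw [this]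
          _ = a * a' * (b * b') := by group
      inv_mem' := by
        rintro _ ⟨a, ha, b, hb, rfl⟩
        refine ⟨a⁻¹, L₁.inv_mem ha, b⁻¹, L₂.inv_mem hb, ?_⟩
        have := hc a ha b hb
        rw [this, mul_inv_rev] }
  have h1 : L₁ ≤ P := fun a ha => ⟨a, ha, 1, L₂.one_mem, by simp⟩
  have h2 : L₂ ≤ P := fun b hb => ⟨1, L₁.one_mem, b, hb, by simp⟩
  exact (sup_le h1 h2) hy

/-- The properties of a subgroup `L ≅ SL₂(F)` with central involution `j` that we use. -/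
structure SLSide {G : Type*} [Group G] (j : G) (L : Subgroup G) : Prop where
  jmem : j ∈ L
  sq_one : ∀ z ∈ L, z * z = 1 → z = 1 ∨ z = j
  cent : ∀ a ∈ L, (∀ t ∈ L, t * t = j → a * t = t * a) → a = 1 ∨ a = j
  ex : ∃ t ∈ L, t * t = j

theorem SLSide.of_iso {G : Type*} [Group G] {F : Type*} [Field F] [Fintype F]
    (hF : Odd (Fintype.card F))
    (L : Subgroup G) (e : ↥L ≃* Matrix.SpecialLinearGroup (Fin 2) F) (j : G) (hjL : j ∈ L)
    (hj_sq : j * j = 1) (hj_ne : j ≠ 1) : SLSide j L := by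
  have hej : e ⟨j, hjL⟩ = -1 := by
    have h1 : e ⟨j, hjL⟩ * e ⟨j, hjL⟩ = 1 := by
      rw [← map_mul]
      have : (⟨j, hjL⟩ : ↥L) * ⟨j, hjL⟩ = 1 := Subtype.ext hj_sq
      rw [this, map_one]
    rcases sl2_sq_eq_one hF _ h1 with h | h
    · exfalso
      have : (⟨j, hjL⟩ : ↥L) = 1 := e.injective (by rw [h, map_one])
      exact hj_ne (congrArg Subtype.val this)
    · exact h
  have hone : ∀ z (hz : z ∈ L), (e ⟨z, hz⟩ = 1 ∨ e ⟨z, hz⟩ = -1) → z = 1 ∨ z = j := by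
    intro z hz h
    rcases h with h | h
    · left
      have : (⟨z, hz⟩ : ↥L) = 1 := e.injective (by rw [h, map_one])
      exact congrArg Subtype.val this
    · right
      have : (⟨z, hz⟩ : ↥L) = ⟨j, hjL⟩ := e.injective (by rw [h, hej])
      exact congrArg Subtype.val this
  refine ⟨hjL, ?_, ?_, ?_⟩
  · intro z hz hzz
    have h1 : e ⟨z, hz⟩ * e ⟨z, hz⟩ = 1 := by
      rw [← map_mul]
      have : (⟨z, hz⟩ : ↥L) * ⟨z, hz⟩ = 1 := Subtype.ext hzz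
      rw [this, map_one]
    exact hone z hz (sl2_sq_eq_one hF _ h1)
  · intro a ha hcomm
    apply hone a ha
    apply sl2_centralizer_sq_neg_one hF
    intro T hT
    have ht : (e.symm T : ↥L) * e.symm T = ⟨j, hjL⟩ := by
      rw [← map_mul, hT, ← hej, MulEquiv.symm_apply_apply]
    have h1 := hcomm (e.symm T : ↥L) (e.symm T).2 (congrArg Subtype.val ht)
    have h2 : (⟨a, ha⟩ : ↥L) * e.symm T = e.symm T * ⟨a, ha⟩ := Subtype.ext h1
    have h3 := congrArg e h2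
    rwa [map_mul, map_mul, MulEquiv.apply_symm_apply] at h3
  · refine ⟨(e.symm (sl2w F) : ↥L), (e.symm (sl2w F)).2, ?_⟩
    have : e.symm (sl2w F) * e.symm (sl2w F) = ⟨j, hjL⟩ := by
      rw [← map_mul, sl2w_sq, ← hej, MulEquiv.symm_apply_apply]
    exact congrArg Subtype.val this

theorem SLSide.map {G : Type*} [Group G] {j : G} {L : Subgroup G} (h : SLSide j L)
    (c : G ≃* G) (hcj : c j = j) : SLSide j (L.map c.toMonoidHom) := by
  refine ⟨⟨j, h.jmem, hcj⟩, ?_, ?_, ?_⟩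
  · rintro _ ⟨y, hy, rfl⟩ hzz
    have : y * y = 1 := by
      apply c.injective
      rw [map_mul, map_one]; exact hzz
    rcases h.sq_one y hy this with h1 | h1
    · left; rw [h1]; exact map_one c
    · right; rw [h1]; exact hcj
  · rintro _ ⟨a, ha, rfl⟩ hcomm
    have : a = 1 ∨ a = j := by
      apply h.cent a ha
      intro t ht htt
      apply c.injective
      rw [map_mul, map_mul]
      apply hcomm (c t) ⟨t, ht, rfl⟩
      change c t * c t = j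
      rw [← map_mul, htt, hcj]
    rcases this with h1 | h1
    · left; rw [h1]; exact map_one c
    · right; rw [h1]; exact hcj
  · obtain ⟨t, ht, htt⟩ := h.ex
    refine ⟨c t, ⟨t, ht, rfl⟩, ?_⟩
    rw [← map_mul, htt, hcj]

section unique
variable {G : Type*} [Group G] {j : G} {L₁ L₂ M₁ M₂ : Subgroup G}

/-- an element of `L₁L₂` of square `j` lies in one of the factors. -/
theorem sq_j_mem_side (hj_sq : j * j = 1)
    (hL₁ : SLSide j L₁) (hL₂ : SLSide j L₂)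
    (hcL : ∀ x ∈ L₁, ∀ y ∈ L₂, x * y = y * x)
    (hmL : ∀ z, z ∈ L₁ → z ∈ L₂ → z = 1 ∨ z = j)
    {y : G} (hy : y ∈ L₁ ⊔ L₂) (hyy : y * y = j) : y ∈ L₁ ∨ y ∈ L₂ := by
  obtain ⟨a, ha, b, hb, rfl⟩ := mem_sup_of_commute' L₁ L₂ hcL hy
  have hab : a * b = b * a := hcL a ha b hb
  have hsq : (a * a) * (b * b) = j := by
    calc (a * a) * (b * b) = a * (a * b) * b := by group
      _ = a * (b * a) * b := by rw [hab]
      _ = (a * b) * (a * b) := by group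
      _ = j := hyy
  have haa2 : a * a ∈ L₂ := by
    have : a * a = j * (b * b)⁻¹ := by rw [← hsq]; group
    rw [this]; exact L₂.mul_mem hL₂.jmem (L₂.inv_mem (L₂.mul_mem hb hb))
  rcases hmL (a * a) (L₁.mul_mem ha ha) haa2 with haa | haa
  · right
    rcases hL₁.sq_one a ha haa with h | h
    · rw [h, one_mul]; exact hb
    · rw [h]; exact L₂.mul_mem hL₂.jmem hb
  · left
    have hbb : b * b = 1 := by
      rw [haa] at hsq
      exact mul_left_cancel (a := j) (by rw [hsq, mul_one])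
    rcases hL₂.sq_one b hb hbb with h | h
    · rw [h, mul_one]; exact ha
    · rw [h]; exact L₁.mul_mem ha hL₁.jmem

/-- the elements of square `j` in a factor `M` of another decomposition all lie in the
same `Lᵢ`. -/
theorem sq_j_side_uniform (hj_sq : j * j = 1) (hj_ne : j ≠ 1)
    (hL₁ : SLSide j L₁) (hL₂ : SLSide j L₂)
    (hcL : ∀ x ∈ L₁, ∀ y ∈ L₂, x * y = y * x)
    (hmL : ∀ z, z ∈ L₁ → z ∈ L₂ → z = 1 ∨ z = j)
    {M : Subgroup G} (hM : SLSide j M) (hML : M ≤ L₁ ⊔ L₂) :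
    (∀ t ∈ M, t * t = j → t ∈ L₁) ∨ (∀ t ∈ M, t * t = j → t ∈ L₂) := by
  by_contra hcon
  rw [not_or] at hcon
  obtain ⟨h1, h2⟩ := hcon
  simp only [not_forall] at h1 h2
  obtain ⟨t, ht, htt, htn⟩ := h1
  obtain ⟨t', ht', htt', htn'⟩ := h2
  have ht2 : t ∈ L₂ := by
    rcases sq_j_mem_side hj_sq hL₁ hL₂ hcL hmL (hML ht) htt with h | h
    · exact absurd h htn
    · exact h
  have ht1' : t' ∈ L₁ := by
    rcases sq_j_mem_side hj_sq hL₁ hL₂ hcL hmL (hML ht') htt' with h | h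
    · exact h
    · exact absurd h htn'
  have hcomm : t' * t = t * t' := hcL t' ht1' t ht2
  -- (t' t⁻¹)² = 1
  have hsq : (t' * t⁻¹) * (t' * t⁻¹) = 1 := by
    have hc' : t⁻¹ * t' = t' * t⁻¹ := by
      rw [inv_mul_eq_iff_eq_mul, ← mul_assoc, ← hcomm, mul_assoc, mul_inv_cancel, mul_one]
    calc (t' * t⁻¹) * (t' * t⁻¹) = t' * (t⁻¹ * t') * t⁻¹ := by group
      _ = t' * (t' * t⁻¹) * t⁻¹ := by rw [hc']
      _ = (t' * t') * (t * t)⁻¹ := by group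
      _ = 1 := by rw [htt, htt', mul_inv_cancel]
  apply htn'
  rcases hM.sq_one _ (M.mul_mem ht' (M.inv_mem ht)) hsq with h | h
  · have : t' = t := by rw [mul_inv_eq_one] at h; exact h
    rw [this]; exact ht2
  · have : t' = j * t := by rw [← h]; group
    rw [this]; exact L₂.mul_mem hL₂.jmem ht2

/-- if the square-`j` elements of `M₁` lie in `A` and `B` centralizes `A`, then `B ≤ M₂`. -/
theorem other_le_of_sq_j_le
    (hM₁ : SLSide j M₁) (hM₂ : SLSide j M₂)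
    (hcM : ∀ x ∈ M₁, ∀ y ∈ M₂, x * y = y * x)
    {A B : Subgroup G} (hcAB : ∀ x ∈ A, ∀ y ∈ B, x * y = y * x)
    (hBM : B ≤ M₁ ⊔ M₂) (hT : ∀ t ∈ M₁, t * t = j → t ∈ A) : B ≤ M₂ := by
  intro b hb
  obtain ⟨m₁, hm₁, m₂, hm₂, rfl⟩ := mem_sup_of_commute' M₁ M₂ hcM (hBM hb)
  have : m₁ = 1 ∨ m₁ = j := by
    apply hM₁.cent m₁ hm₁
    intro t ht htt
    have h1 : t * (m₁ * m₂) = (m₁ * m₂) * t := hcAB t (hT t ht htt) _ hb
    have h2 : t * m₂ = m₂ * t := hcM t ht m₂ hm₂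
    have h3 : m₁ * t * m₂ = t * m₁ * m₂ := by
      calc m₁ * t * m₂ = m₁ * (t * m₂) := by group
        _ = m₁ * (m₂ * t) := by rw [h2]
        _ = (m₁ * m₂) * t := by group
        _ = t * (m₁ * m₂) := h1.symm
        _ = t * m₁ * m₂ := by group
    exact mul_right_cancel h3
  rcases this with h | h
  · rw [h, one_mul]; exact hm₂
  · rw [h]; exact M₂.mul_mem hM₂.jmem hm₂

/-- Uniqueness of the decomposition. -/
theorem slpair_unique (hj_sq : j * j = 1) (hj_ne : j ≠ 1)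
    (hL₁ : SLSide j L₁) (hL₂ : SLSide j L₂)
    (hcL : ∀ x ∈ L₁, ∀ y ∈ L₂, x * y = y * x)
    (hmL : ∀ z, z ∈ L₁ → z ∈ L₂ → z = 1 ∨ z = j)
    (hM₁ : SLSide j M₁) (hM₂ : SLSide j M₂)
    (hcM : ∀ x ∈ M₁, ∀ y ∈ M₂, x * y = y * x)
    (hmM : ∀ z, z ∈ M₁ → z ∈ M₂ → z = 1 ∨ z = j)
    (hM₁L : M₁ ≤ L₁ ⊔ L₂) (hM₂L : M₂ ≤ L₁ ⊔ L₂)
    (hL₁M : L₁ ≤ M₁ ⊔ M₂) (hL₂M : L₂ ≤ M₁ ⊔ M₂) :
    (L₁ ≤ M₁ ∧ L₂ ≤ M₂) ∨ (L₂ ≤ M₁ ∧ L₁ ≤ M₂) := by
  have hcL' : ∀ x ∈ L₂, ∀ y ∈ L₁, x * y = y * x := fun x hx y hy => (hcL y hy x hx).symm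
  have hcM' : ∀ x ∈ M₂, ∀ y ∈ M₁, x * y = y * x := fun x hx y hy => (hcM y hy x hx).symm
  have hL₁M' : L₁ ≤ M₂ ⊔ M₁ := by rw [sup_comm]; exact hL₁M
  have hL₂M' : L₂ ≤ M₂ ⊔ M₁ := by rw [sup_comm]; exact hL₂M
  -- contradiction helper: no `Lᵢ` inside `M₁ ⊓ M₂`
  have hno : ∀ {L : Subgroup G}, SLSide j L → L ≤ M₁ → L ≤ M₂ → False := by
    intro L hL h1 h2
    obtain ⟨t, ht, htt⟩ := hL.ex
    rcases hmM t (h1 ht) (h2 ht) with h | h
    · rw [h, one_mul] at htt; exact hj_ne htt.symm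
    · rw [h, hj_sq] at htt; exact hj_ne htt.symm
  rcases sq_j_side_uniform hj_sq hj_ne hL₁ hL₂ hcL hmL hM₁ hM₁L with hk | hk <;>
  rcases sq_j_side_uniform hj_sq hj_ne hL₁ hL₂ hcL hmL hM₂ hM₂L with hl | hl
  · -- T(M₁) ⊆ L₁, T(M₂) ⊆ L₁ : L₂ ≤ M₂ and L₂ ≤ M₁
    exfalso
    exact hno hL₂ (other_le_of_sq_j_le hM₂ hM₁ hcM' hcL hL₂M' hl)
      (other_le_of_sq_j_le hM₁ hM₂ hcM hcL hL₂M hk)
  · left
    exact ⟨other_le_of_sq_j_le hM₂ hM₁ hcM' hcL' hL₁M' hl,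
      other_le_of_sq_j_le hM₁ hM₂ hcM hcL hL₂M hk⟩
  · right
    exact ⟨other_le_of_sq_j_le hM₂ hM₁ hcM' hcL hL₂M' hl,
      other_le_of_sq_j_le hM₁ hM₂ hcM hcL' hL₁M hk⟩
  · exfalso
    exact hno hL₁ (other_le_of_sq_j_le hM₂ hM₁ hcM' hcL' hL₁M' hl)
      (other_le_of_sq_j_le hM₁ hM₂ hcM hcL' hL₁M hk)

end unique

end Cfsg.Agent.Lib.Helper53
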