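import Mathlib

set_option autoImplicit false
set_option linter.style.haveILetI false
set_option linter.unnecessarySimpa false

namespace Cfsg.Agent.Lib.Helper53

open Subgroup

/-- If `T ≤ H` is a `p`-subgroup with `p ∣ [H : T]`, there is a `p`-subgroup `K` of `H` containing
`T` with index `p`, normalizing `T`. -/
theorem exists_pgroup_step {G : Type*} [Group G] [Finite G] {p : ℕ} [hp : Fact p.Prime]
    (T H : Subgroup G) (hTH : T ≤ H) (hT : IsPGroup p ↥T) (hdvd : p ∣ T.relIndex H) :
    ∃ K : Subgroup G, T ≤ K ∧ K ≤ H ∧ IsPGroup p ↥K ∧ T.relIndex K = p ∧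
      K ≤ Subgroup.normalizer (T : Set G) := by
  classical
  obtain ⟨k, hk⟩ := IsPGroup.iff_card.1 hT
  have hcardT' : Nat.card ↥(T.subgroupOf H) = p ^ k := by
    rw [← hk]
    exact Nat.card_congr (Subgroup.subgroupOfEquivOfLe hTH).toEquiv
  have hdvd' : p ^ (k + 1) ∣ Nat.card ↥H := by
    have h1 : Nat.card ↥(T.subgroupOf H) * (T.subgroupOf H).index = Nat.card ↥H :=
      Subgroup.card_mul_index _
    rw [← h1, hcardT', pow_succ]
    exact Nat.mul_dvd_mul_left _ hdvd
  obtain ⟨K', hK'card, hK'le⟩ := Sylow.exists_subgroup_card_pow_succ hdvd' hcardT'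
  refine ⟨K'.map H.subtype, ?_, ?_, ?_, ?_, ?_⟩
  · intro t ht
    exact ⟨⟨t, hTH ht⟩, hK'le (Subgroup.mem_subgroupOf.2 ht), rfl⟩
  · exact Subgroup.map_subtype_le K'
  · have hc : Nat.card ↥(K'.map H.subtype) = p ^ (k + 1) := by
      rw [Subgroup.card_map_of_injective H.subtype_injective, hK'card]
    exact IsPGroup.of_card hc
  · have hTK : T ≤ K'.map H.subtype := by
      intro t ht
      exact ⟨⟨t, hTH ht⟩, hK'le (Subgroup.mem_subgroupOf.2 ht), rfl⟩
    have hc : Nat.card ↥(K'.map H.subtype) = p ^ (k + 1) := by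
      rw [Subgroup.card_map_of_injective H.subtype_injective, hK'card]
    have h1 : (⊥ : Subgroup G).relIndex T * T.relIndex (K'.map H.subtype) =
        (⊥ : Subgroup G).relIndex (K'.map H.subtype) :=
      Subgroup.relIndex_mul_relIndex _ _ _ bot_le hTK
    rw [Subgroup.relIndex_bot_left, Subgroup.relIndex_bot_left, hk, hc, pow_succ] at h1
    exact Nat.eq_of_mul_eq_mul_left (pow_pos hp.1.pos k) h1
  · have hTK : T ≤ K'.map H.subtype := by
      intro t ht
      exact ⟨⟨t, hTH ht⟩, hK'le (Subgroup.mem_subgroupOf.2 ht), rfl⟩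
    have hc : Nat.card ↥(K'.map H.subtype) = p ^ (k + 1) := by
      rw [Subgroup.card_map_of_injective H.subtype_injective, hK'card]
    have hrel : T.relIndex (K'.map H.subtype) = p := by
      have h1 : (⊥ : Subgroup G).relIndex T * T.relIndex (K'.map H.subtype) =
          (⊥ : Subgroup G).relIndex (K'.map H.subtype) :=
        Subgroup.relIndex_mul_relIndex _ _ _ bot_le hTK
      rw [Subgroup.relIndex_bot_left, Subgroup.relIndex_bot_left, hk, hc, pow_succ] at h1
      exact Nat.eq_of_mul_eq_mul_left (pow_pos hp.1.pos k) h1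
    have hnorm : (T.subgroupOf (K'.map H.subtype)).Normal := by
      apply Subgroup.normal_of_index_eq_minFac_card
      show T.relIndex (K'.map H.subtype) = _
      rw [hrel, hc, Nat.Prime.pow_minFac hp.1 (Nat.succ_ne_zero k)]
    exact (Subgroup.normal_subgroupOf_iff_le_normalizer hTK).1 hnorm

/-- Conjugation by an element of the normalizer, as an automorphism of the subgroup. -/
noncomputable def conjNormalizer {G : Type*} [Group G] (T : Subgroup G) (k : G)
    (hk : k ∈ Subgroup.normalizer (T : Set G)) : ↥T ≃* ↥T where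
  toFun t := ⟨k * t * k⁻¹, (Subgroup.mem_normalizer_iff.1 hk t).1 t.2⟩
  invFun t := ⟨k⁻¹ * t * k, by
    have := (Subgroup.mem_normalizer_iff.1 hk (k⁻¹ * t * k)).2
    apply this
    have h2 : k * (k⁻¹ * ↑t * k) * k⁻¹ = t := by group
    rw [h2]; exact t.2⟩
  left_inv t := by
    apply Subtype.ext
    show k⁻¹ * (k * t * k⁻¹) * k = t
    group
  right_inv t := by
    apply Subtype.ext
    show k * (k⁻¹ * t * k) * k⁻¹ = t
    group
  map_mul' a b := by
    apply Subtype.ext
    show k * (a * b) * k⁻¹ = (k * a * k⁻¹) * (k * b * k⁻¹)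
    group

theorem conjNormalizer_apply {G : Type*} [Group G] (T : Subgroup G) (k : G)
    (hk : k ∈ Subgroup.normalizer (T : Set G)) (t : ↥T) :
    ((conjNormalizer T k hk t : ↥T) : G) = k * t * k⁻¹ := rfl

/-- An element of a cyclic group of order two generated by `j` is `1` or `j`. -/
theorem mem_zpowers_of_orderOf_two {G : Type*} [Group G] (j : G) (hj : orderOf j = 2) (x : G)
    (hx : x ∈ Subgroup.zpowers j) : x = 1 ∨ x = j := by
  obtain ⟨i, rfl⟩ := Subgroup.mem_zpowers_iff.1 hx
  have h2 : j ^ (2 : ℤ) = 1 := by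
    have := pow_orderOf_eq_one j
    rw [hj] at this
    exact_mod_cast this
  rcases Int.emod_two_eq_zero_or_one i with h | h
  · left
    have : i = 2 * (i / 2) := by omega
    rw [this, zpow_mul, h2, one_zpow]
  · right
    have : i = 2 * (i / 2) + 1 := by omega
    rw [this, zpow_add, zpow_mul, h2, one_zpow, one_mul, zpow_one]

/-- If `⟨j⟩` (with `j` an involution in `T`) is characteristic in `T`, the normalizer of `T`
centralizes `j`. -/
theorem normalizer_le_centralizer_of_char_involution {G : Type*} [Group G]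
    (j : G) (hj : orderOf j = 2) (T : Subgroup G) (hjT : j ∈ T)
    (hchar : ((Subgroup.zpowers j).subgroupOf T).Characteristic) :
    Subgroup.normalizer (T : Set G) ≤ Subgroup.centralizer ({j} : Set G) := by
  intro k hk
  have hfix := hchar.fixed (conjNormalizer T k hk)
  have hmem : (⟨j, hjT⟩ : ↥T) ∈ (Subgroup.zpowers j).subgroupOf T :=
    Subgroup.mem_subgroupOf.2 (Subgroup.mem_zpowers j)
  rw [← hfix] at hmem
  have h1 : k * j * k⁻¹ ∈ Subgroup.zpowers j := by
    have := Subgroup.mem_subgroupOf.1 (Subgroup.mem_comap.1 hmem)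
    simpa [conjNormalizer_apply] using this
  rw [Subgroup.mem_centralizer_singleton_iff]
  rcases mem_zpowers_of_orderOf_two j hj _ h1 with h | h
  · exfalso
    have : j = 1 := by
      have h3 : j = k⁻¹ * (k * j * k⁻¹) * k := by group
      rw [h3, h]; group
    rw [this, orderOf_one] at hj
    omega
  · calc k * j = (k * j * k⁻¹) * k := by group
      _ = j * k := by rw [h]

end Cfsg.Agent.Lib.Helper53
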