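import Cfsg.Agent.Lib.Helper37.G2zDefs
import Cfsg.Agent.Lib.Helper36.ChevNorm

/-!
# G2z mini-hive (S4279, owner helper37), leaf G2Z-NORM: the torus `H` normalises `LL = ⟨X_6, X_5, X_9, X_2⟩`.
-/

set_option autoImplicit false

namespace Cfsg.Agent.Lib.Helper37.G2z

open Cfsg Cfsg.Lie Cfsg.Agent.Lib.Helper36 Cfsg.Agent.Lib.Helper20.G2c Cfsg.Agent.Lib.Helper18

variable (F : Type*) [Field F]

/-- the generating set of `LL` -/
def g2znorm_S : Set (GL chevG2.Idx F) :=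
  {g | ∃ s : ℕ, (s = 6 ∨ s = 5 ∨ s = 9 ∨ s = 2) ∧ ∃ t : F, (g : Matrix chevG2.Idx chevG2.Idx F) = chevG2.x F s t}

theorem g2znorm_LL_eq : LL F = Subgroup.closure (g2znorm_S F) := by
  unfold LL L1 L2 ChevalleyDatum.rootSubgroup
  rw [← Subgroup.closure_union, ← Subgroup.closure_union, ← Subgroup.closure_union]
  congr 1
  ext g
  simp only [Set.mem_union, Set.mem_ofPred_eq, g2znorm_S]
  constructor
  · rintro ((⟨t, h⟩ | ⟨t, h⟩) | (⟨t, h⟩ | ⟨t, h⟩))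
    · exact ⟨6, Or.inl rfl, t, h⟩
    · exact ⟨5, Or.inr (Or.inl rfl), t, h⟩
    · exact ⟨9, Or.inr (Or.inr (Or.inl rfl)), t, h⟩
    · exact ⟨2, Or.inr (Or.inr (Or.inr rfl)), t, h⟩
  · rintro ⟨s, (rfl | rfl | rfl | rfl), t, h⟩
    · exact Or.inl (Or.inl ⟨t, h⟩)
    · exact Or.inl (Or.inr ⟨t, h⟩)
    · exact Or.inr (Or.inl ⟨t, h⟩)
    · exact Or.inr (Or.inr ⟨t, h⟩)

/-- G2Z-NORM -/
theorem H_le_normalizer_LL : chevG2.diagonalSubgroup F ≤ Subgroup.normalizer (LL F : Set (GL chevG2.Idx F)) := by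
  rw [g2znorm_LL_eq]
  unfold ChevalleyDatum.diagonalSubgroup
  rw [Subgroup.closure_le]
  rintro g ⟨r, c, hr, hc, hg⟩
  have e : g = hGL chevG2 hG2 F r c := Units.ext (by rw [hg, hGL_coe])
  rw [e]
  have hlt : ∀ s : ℕ, (s = 6 ∨ s = 5 ∨ s = 9 ∨ s = 2) → s < chevG2.nroots := by
    rintro s (rfl | rfl | rfl | rfl) <;> decide
  apply Cfsg.Agent.Lib.Helper36.mem_normalizer_closure
  · rintro x ⟨s, hs, t, hx⟩
    have ex : x = xGL chevG2 hG2 F s t := Units.ext (by rw [hx, xGL_coe])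
    rw [ex, hGL_conj_xGL chevG2 hG2 F r s hr (hlt s hs) c hc t]
    exact Subgroup.subset_closure ⟨s, hs, _, xGL_coe chevG2 hG2 F s _⟩
  · rintro x ⟨s, hs, t, hx⟩
    have ex : x = xGL chevG2 hG2 F s t := Units.ext (by rw [hx, xGL_coe])
    have := hGL_conj_xGL chevG2 hG2 F r s hr (hlt s hs) c⁻¹ (inv_ne_zero hc) t
    rw [← hGL_inv chevG2 hG2 F r hr c hc, inv_inv] at this
    rw [ex, this]
    exact Subgroup.subset_closure ⟨s, hs, _, xGL_coe chevG2 hG2 F s _⟩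

end Cfsg.Agent.Lib.Helper37.G2z
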