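import Mathlib
import Cfsg.Agent.Lib.Helper38.StnBruDefs
import Cfsg.Agent.Lib.Helper80.Stn_BASIC

/-!
# BRU-UA (Stn hive S2401 of helper41, sub-hive BRU of helper38): `U = U_a X_a` for a simple root `a`.
-/

set_option autoImplicit false

namespace Cfsg.Agent.Lib.Helper41.Stn

open Matrix

variable {K : Type*} [Field K] {n : ℕ}

theorem Ua_le_UU (i j : Fin n) : Ua K n i j ≤ UU K n := by
  apply Subgroup.closure_mono
  rintro g ⟨k, l, t, hkl, -, rfl⟩
  exact ⟨k, l, t, hkl, rfl⟩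

/-- a generator of `U_a` -/
theorem bruua_xx_mem {i j k l : Fin n} (hkl : k < l) (hne : (k, l) ≠ (i, j)) (v : K) :
    xx k l v ∈ Ua K n i j :=
  Subgroup.subset_closure ⟨k, l, v, hkl, hne, rfl⟩

/-- conjugating a generator of `U_a` by `x_a(t)` -/
theorem bruua_conj_gen {i j : Fin n} (hij : (i : ℕ) + 1 = j) (t : K) {k l : Fin n} (hkl : k < l)
    (hne : (k, l) ≠ (i, j)) (v : K) :
    xx i j t * xx k l v * (xx i j t)⁻¹ ∈ Ua K n i j := by
  have hkl' : (k : ℕ) < l := hkl
  have hij' : i ≠ j := by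
    intro h; rw [h] at hij; omega
  by_cases h1 : j = k
  · -- `k = j`, so `l > j > i`
    subst h1
    have hil : i ≠ l := by
      intro h; rw [h] at hij; omega
    have hjl : j ≠ l := by
      intro h; rw [h] at hkl'; omega
    have h3 := xx_comm3 hij' hjl hil t v
    have h4 : xx i j t * xx j l v * (xx i j t)⁻¹ = xx i l (t * v) * xx j l v := by
      rw [← h3]; group
    rw [h4]
    refine (Ua K n i j).mul_mem (bruua_xx_mem ?_ ?_ _) (bruua_xx_mem hkl hne _)
    · show (i : ℕ) < l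
      omega
    · intro h
      exact hjl (Prod.mk.inj h).2.symm
  · by_cases h2 : i = l
    · -- `l = i`, so `k < i < j`
      subst h2
      have hki : k ≠ i := by
        intro h; rw [h] at hkl'; omega
      have hkj : k ≠ j := by
        intro h; rw [h] at hkl'; omega
      have h3 := xx_comm3 hki hij' hkj v t
      have h4 : xx i j t * xx k i v * (xx i j t)⁻¹ = (xx k j (v * t))⁻¹ * xx k i v := by
        rw [← h3]; group
      rw [h4]
      refine (Ua K n i j).mul_mem ((Ua K n i j).inv_mem (bruua_xx_mem ?_ ?_ _))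
        (bruua_xx_mem hkl hne _)
      · show (k : ℕ) < j
        omega
      · intro h
        exact hki (Prod.mk.inj h).1
    · have h3 := xx_comm h2 h1 t v
      have h4 : xx i j t * xx k l v * (xx i j t)⁻¹ = xx k l v := by
        rw [h3]; group
      rw [h4]
      exact bruua_xx_mem hkl hne _

theorem xx_conj_Ua {i j : Fin n} (hij : (i : ℕ) + 1 = j) (t : K) {y : St K n}
    (hy : y ∈ Ua K n i j) : xx i j t * y * (xx i j t)⁻¹ ∈ Ua K n i j := by
  induction hy using Subgroup.closure_induction with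
  | mem g hg =>
    obtain ⟨k, l, v, hkl, hne, rfl⟩ := hg
    exact bruua_conj_gen hij t hkl hne v
  | one =>
    have : xx i j t * 1 * (xx i j t)⁻¹ = 1 := by group
    rw [this]; exact (Ua K n i j).one_mem
  | mul a b _ _ iha ihb =>
    have : xx i j t * (a * b) * (xx i j t)⁻¹ =
        (xx i j t * a * (xx i j t)⁻¹) * (xx i j t * b * (xx i j t)⁻¹) := by group
    rw [this]; exact (Ua K n i j).mul_mem iha ihb
  | inv a _ iha =>
    have : xx i j t * a⁻¹ * (xx i j t)⁻¹ = (xx i j t * a * (xx i j t)⁻¹)⁻¹ := by group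
    rw [this]; exact (Ua K n i j).inv_mem iha

theorem UU_eq_Ua_mul {i j : Fin n} (hij : (i : ℕ) + 1 = j) {y : St K n} (hy : y ∈ UU K n) :
    ∃ y' ∈ Ua K n i j, ∃ u : K, y = y' * xx i j u := by
  induction hy using Subgroup.closure_induction with
  | mem g hg =>
    obtain ⟨k, l, v, hkl, rfl⟩ := hg
    by_cases h : (k, l) = (i, j)
    · obtain ⟨rfl, rfl⟩ := Prod.mk.inj h
      exact ⟨1, (Ua K n k l).one_mem, v, by rw [one_mul]⟩
    · exact ⟨xx k l v, bruua_xx_mem hkl h v, 0, by rw [xx_zero, mul_one]⟩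
  | one =>
    exact ⟨1, (Ua K n i j).one_mem, 0, by rw [xx_zero, mul_one]⟩
  | mul a b _ _ iha ihb =>
    obtain ⟨y1, hy1, u1, rfl⟩ := iha
    obtain ⟨y2, hy2, u2, rfl⟩ := ihb
    refine ⟨y1 * (xx i j u1 * y2 * (xx i j u1)⁻¹),
      (Ua K n i j).mul_mem hy1 (xx_conj_Ua hij u1 hy2), u1 + u2, ?_⟩
    rw [← xx_add]; group
  | inv a _ iha =>
    obtain ⟨y1, hy1, u1, rfl⟩ := iha
    refine ⟨xx i j (-u1) * y1⁻¹ * (xx i j (-u1))⁻¹,
      xx_conj_Ua hij (-u1) ((Ua K n i j).inv_mem hy1), -u1, ?_⟩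
    rw [← xx_inv]; group

end Cfsg.Agent.Lib.Helper41.Stn
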