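import Mathlib
import Cfsg.Agent.Lib.Helper39.OoDefs
import Cfsg.Agent.Lib.Helper39.OoINVF
import Cfsg.Agent.Lib.Helper55.OoTORP

/-! # S2547 OO hive (helper39), leaf OO-FACA, core (helper53): the long-root factorisation with the root elements as
a hypothesis; shared aux for OO-FACB (conjugation by permutation matrices, diagonal entries of `B`). -/

set_option autoImplicit false

namespace Cfsg.Agent.Lib.Helper39.OoBN

open Matrix Cfsg

variable {F : Type*} [Field F] {m : ℕ}

/-- entries of a conjugate by a permutation matrix -/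
theorem faca_conj_entry {s : OG F m} {σ : Equiv.Perm (Idx m)} (hs : mat s = permMat F σ) (b : OG F m)
    (a c : Idx m) : mat (s * b * s⁻¹) a c = mat b (σ.symm a) (σ.symm c) := by
  have h1 : mat (s * b * s⁻¹) * mat s = mat s * mat b := by
    rw [← mat_mul, ← mat_mul, inv_mul_cancel_right]
  have h2 := congrFun (congrFun h1 a) (σ.symm c)
  rw [hs, Matrix.mul_apply, Matrix.mul_apply, Finset.sum_eq_single c,
    Finset.sum_eq_single (σ.symm a)] at h2
  · rw [permMat_apply, permMat_apply, Equiv.apply_symm_apply, if_pos rfl, Equiv.apply_symm_apply,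
      if_pos rfl, mul_one, one_mul] at h2
    exact h2
  · intro d _ hd
    rw [permMat_apply, if_neg ?_, zero_mul]
    intro h
    apply hd
    rw [h, Equiv.symm_apply_apply]
  · simp
  · intro d _ hd
    rw [permMat_apply, Equiv.apply_symm_apply, if_neg hd, mul_zero]
  · simp

/-- the diagonal entries of an upper triangular isometry are nonzero -/
theorem faca_diag_ne_zero {b : OG F m} (hb : b ∈ Bo F m) (a : Idx m) : mat b a a ≠ 0 := by
  have hbi : b⁻¹ ∈ Bo F m := (Bo F m).inv_mem hb
  have h1 : (mat b⁻¹ * mat b) a a = 1 := by rw [mat_inv_mul, Matrix.one_apply_eq]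
  rw [Matrix.mul_apply, Finset.sum_eq_single a] at h1
  · intro h0
    rw [h0, mul_zero] at h1
    exact zero_ne_one h1
  · intro c _ hc
    have hne : rk c ≠ rk a := fun h => hc (torp_rk_injective h)
    rcases lt_or_gt_of_ne hne with hlt | hgt
    · rw [(mem_Bo_iff _).1 hbi a c hlt, zero_mul]
    · rw [(mem_Bo_iff _).1 hb c a hgt, mul_zero]
  · simp

theorem faca_simpleA_symm (k k' : Fin m) : (simpleA k k').symm = simpleA k k' := by
  have hdis : Equiv.swap (xi k : Idx m) (xi k') * Equiv.swap (yi k) (yi k') =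
      Equiv.swap (yi k) (yi k') * Equiv.swap (xi k : Idx m) (xi k') := by
    ext a
    simp only [Equiv.Perm.mul_apply]
    rcases a with u | i | i
    · rfl
    · have h1 : Equiv.swap (yi k : Idx m) (yi k') (Sum.inr (Sum.inl i)) = Sum.inr (Sum.inl i) :=
        Equiv.swap_apply_of_ne_of_ne (by simp [yi]) (by simp [yi])
      rw [h1]
      have h3 : ∃ j, Equiv.swap (xi k : Idx m) (xi k') (Sum.inr (Sum.inl i)) = Sum.inr (Sum.inl j) := by
        rw [Equiv.swap_apply_def]
        split_ifs
        · exact ⟨k', rfl⟩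
        · exact ⟨k, rfl⟩
        · exact ⟨i, rfl⟩
      obtain ⟨j, hj⟩ := h3
      rw [hj]
      exact (Equiv.swap_apply_of_ne_of_ne (by simp [yi]) (by simp [yi])).symm
    · have h1 : Equiv.swap (xi k : Idx m) (xi k') (Sum.inr (Sum.inr i)) = Sum.inr (Sum.inr i) :=
        Equiv.swap_apply_of_ne_of_ne (by simp [xi]) (by simp [xi])
      rw [h1]
      have h3 : ∃ j, Equiv.swap (yi k : Idx m) (yi k') (Sum.inr (Sum.inr i)) = Sum.inr (Sum.inr j) := by
        rw [Equiv.swap_apply_def]
        split_ifs
        · exact ⟨k', rfl⟩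
        · exact ⟨k, rfl⟩
        · exact ⟨i, rfl⟩
      obtain ⟨j, hj⟩ := h3
      rw [hj]
      exact Equiv.swap_apply_of_ne_of_ne (by simp [xi]) (by simp [xi])
  show (simpleA k k')⁻¹ = simpleA k k'
  unfold simpleA
  rw [_root_.mul_inv_rev, Equiv.swap_inv, Equiv.swap_inv, hdis]

theorem faca_simpleA_e0 (k k' : Fin m) : simpleA k k' (e0 : Idx m) = e0 := by
  have h1 : Equiv.swap (yi k : Idx m) (yi k') e0 = e0 :=
    Equiv.swap_apply_of_ne_of_ne (by simp [e0, xi, yi]) (by simp [e0, xi, yi])
  have h2 : Equiv.swap (xi k : Idx m) (xi k') e0 = e0 :=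
    Equiv.swap_apply_of_ne_of_ne (by simp [e0, xi, yi]) (by simp [e0, xi, yi])
  show Equiv.swap (xi k : Idx m) (xi k') (Equiv.swap (yi k : Idx m) (yi k') e0) = e0
  rw [h1, h2]

theorem faca_simpleA_xi (k k' i : Fin m) : simpleA k k' (xi i : Idx m) = xi (Equiv.swap k k' i) := by
  have hinj : Function.Injective (xi : Fin m → Idx m) := fun a b h => by
    simpa [xi] using h
  have h1 : Equiv.swap (yi k : Idx m) (yi k') (xi i) = xi i :=
    Equiv.swap_apply_of_ne_of_ne (by simp [e0, xi, yi]) (by simp [e0, xi, yi])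
  show Equiv.swap (xi k : Idx m) (xi k') (Equiv.swap (yi k : Idx m) (yi k') (xi i)) = _
  rw [h1]
  exact hinj.swap_apply k k' i

theorem faca_simpleA_yi (k k' i : Fin m) : simpleA k k' (yi i : Idx m) = yi (Equiv.swap k k' i) := by
  have hinj : Function.Injective (yi : Fin m → Idx m) := fun a b h => by
    simpa [yi] using h
  have h1 : Equiv.swap (yi k : Idx m) (yi k') (yi i) = yi (Equiv.swap k k' i) := hinj.swap_apply k k' i
  have h2 : Equiv.swap (xi k : Idx m) (xi k') (yi (Equiv.swap k k' i)) = yi (Equiv.swap k k' i) :=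
    Equiv.swap_apply_of_ne_of_ne (by simp [e0, xi, yi]) (by simp [e0, xi, yi])
  show Equiv.swap (xi k : Idx m) (xi k') (Equiv.swap (yi k : Idx m) (yi k') (yi i)) = _
  rw [h1, h2]

/-- right multiplication by a long root matrix -/
theorem faca_mul_root (M : Matrix (Idx m) (Idx m) F) (p q p' q' : Idx m) (t : F) (a c : Idx m) :
    (M * (1 + t • Matrix.single p q (1 : F) - t • Matrix.single p' q' (1 : F))) a c =
      M a c + t * (if c = q then M a p else 0) - t * (if c = q' then M a p' else 0) := by
  rw [Matrix.mul_sub, Matrix.mul_add, Matrix.mul_one, Matrix.sub_apply, Matrix.add_apply,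
    Matrix.mul_smul, Matrix.mul_smul, Matrix.smul_apply, Matrix.smul_apply, smul_eq_mul, smul_eq_mul]
  congr 2
  · congr 1
    by_cases hc : c = q
    · subst hc
      rw [if_pos rfl, Matrix.mul_single_apply_same, mul_one]
    · rw [if_neg hc, Matrix.mul_single_apply_of_ne _ _ _ _ _ hc]
  · congr 1
    by_cases hc : c = q'
    · subst hc
      rw [if_pos rfl, Matrix.mul_single_apply_same, mul_one]
    · rw [if_neg hc, Matrix.mul_single_apply_of_ne _ _ _ _ _ hc]

/-- the core of FACA: long root elements as a hypothesis -/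
theorem faca_core (h2 : (2 : F) ≠ 0) {k k' : Fin m} (hkk : (k : ℕ) + 1 = (k' : ℕ)) {s : OG F m}
    (hs : mat s = permMat F (simpleA k k'))
    (hroot : ∀ t : F, ∃ g : OG F m, mat g = 1 + t • Matrix.single (xi k) (xi k') (1 : F)
      - t • Matrix.single (yi k') (yi k) (1 : F)) :
    ∀ b ∈ Bo F m, ∃ b' ∈ Bo F m, ∃ x ∈ XA F m k k', b = b' * x ∧ s * b' * s⁻¹ ∈ Bo F m := by
  intro b hb
  have hne : k ≠ k' := by
    intro h
    rw [h] at hkk
    omega
  have hd : mat b (xi k) (xi k) ≠ 0 := faca_diag_ne_zero hb _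
  set t : F := mat b (xi k) (xi k') / mat b (xi k) (xi k) with ht
  obtain ⟨x, hxval⟩ := hroot t
  have hxB : x ∈ Bo F m := by
    rw [mem_Bo_iff]
    intro a c hac
    have hac' : a ≠ c := by
      intro h
      rw [h] at hac
      exact lt_irrefl _ hac
    rw [hxval, Matrix.sub_apply, Matrix.add_apply, Matrix.one_apply_ne hac', Matrix.smul_apply,
      Matrix.smul_apply, Matrix.single_apply, Matrix.single_apply]
    have h1 : ¬ (xi k = a ∧ xi k' = c) := by
      rintro ⟨rfl, rfl⟩
      simp only [rk_xi] at hac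
      omega
    have h2' : ¬ (yi k' = a ∧ yi k = c) := by
      rintro ⟨rfl, rfl⟩
      simp only [rk_yi] at hac
      have := k'.2
      omega
    rw [if_neg h1, if_neg h2']
    simp
  set b' : OG F m := b * x⁻¹ with hb'def
  have hb'B : b' ∈ Bo F m := (Bo F m).mul_mem hb ((Bo F m).inv_mem hxB)
  have hbb' : b = b' * x := by
    rw [hb'def, inv_mul_cancel_right]
  have hform : ∀ a c : Idx m, mat b a c = mat b' a c +
      t * (if c = xi k' then mat b' a (xi k) else 0) -
      t * (if c = yi k then mat b' a (yi k') else 0) := by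
    intro a c
    have h1 : mat b = mat b' * mat x := by rw [← mat_mul, ← hbb']
    rw [h1, hxval, faca_mul_root]
  have h0 : mat b' (xi k) (xi k') = 0 := by
    have h1 := hform (xi k) (xi k')
    have h2' := hform (xi k) (xi k)
    rw [if_pos rfl, if_neg (by simp [xi, yi])] at h1
    rw [if_neg (by simpa [xi] using hne), if_neg (by simp [xi, yi])] at h2'
    have h3 : t * mat b (xi k) (xi k) = mat b (xi k) (xi k') := by
      rw [ht, div_mul_cancel₀ _ hd]
    linear_combination (-1 : F) * h1 - h3 + t * h2'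
  refine ⟨b', hb'B, x, ⟨t, hxval⟩, hbb', ?_⟩
  have hb'' := (mem_Bo_iff _).1 hb'B
  apply mem_Bo_of_flag h2
  intro a j hja
  rw [faca_conj_entry hs, faca_simpleA_symm]
  have hxj : simpleA k k' (xi j : Idx m) = xi (Equiv.swap k k' j) := faca_simpleA_xi k k' j
  rw [hxj]
  rcases a with u | i | i
  · -- row `e₀`
    have : simpleA k k' (Sum.inl u : Idx m) = e0 := faca_simpleA_e0 k k'
    rw [this]
    apply hb''
    rw [rk_e0, rk_xi]
    exact (Equiv.swap k k' j).2
  · -- row `x_i`
    have : simpleA k k' (Sum.inr (Sum.inl i) : Idx m) = xi (Equiv.swap k k' i) := faca_simpleA_xi k k' i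
    rw [this]
    have hji : (j : ℕ) < (i : ℕ) := hja
    rw [Equiv.swap_apply_def, Equiv.swap_apply_def]
    split_ifs with h1 h2' h3 h4 h5 h6 h7
    · subst h1; subst h2'; omega
    · subst h1; subst h3; omega
    · subst h1
      have := Fin.val_ne_of_ne h2'
      have := Fin.val_ne_of_ne h3
      apply hb''
      rw [rk_xi, rk_xi]
      omega
    · subst h4; subst h5
      exact h0
    · subst h4; subst h6; omega
    · subst h4
      have := Fin.val_ne_of_ne h5
      have := Fin.val_ne_of_ne h6
      have := Fin.val_ne_of_ne h1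
      apply hb''
      rw [rk_xi, rk_xi]
      omega
    · subst h7
      have := Fin.val_ne_of_ne h1
      have := Fin.val_ne_of_ne h4
      apply hb''
      rw [rk_xi, rk_xi]
      omega
    · rename_i h8
      subst h8
      have := Fin.val_ne_of_ne h1
      have := Fin.val_ne_of_ne h4
      apply hb''
      rw [rk_xi, rk_xi]
      omega
    · apply hb''
      rw [rk_xi, rk_xi]
      exact hji
  · -- row `y_i`
    have : simpleA k k' (Sum.inr (Sum.inr i) : Idx m) = yi (Equiv.swap k k' i) := faca_simpleA_yi k k' i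
    rw [this]
    apply hb''
    rw [rk_yi, rk_xi]
    have h1 := (Equiv.swap k k' j).2
    have h3 := (Equiv.swap k k' i).2
    omega

end Cfsg.Agent.Lib.Helper39.OoBN
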