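import Mathlib
import Cfsg.Agent.Lib.Helper39.OoDefs
import Cfsg.Agent.Lib.Helper53.OoFACAcore
import Cfsg.Agent.Lib.Helper85.OoROOTA

/-! # S2547 hive, leaf OO-FACA (helper53): `B = (B ∩ sBs⁻¹) X_A` for the long simple roots -/

set_option autoImplicit false

namespace Cfsg.Agent.Lib.Helper39.OoBN

open Matrix Cfsg

variable {F : Type*} [Field F] {m : ℕ}

/-- LEAF FACA. -/
theorem facA (h2 : (2 : F) ≠ 0) {k k' : Fin m} (hkk : (k : ℕ) + 1 = (k' : ℕ)) {s : OG F m}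
    (hs : mat s = permMat F (simpleA k k')) :
    ∀ b ∈ Bo F m, ∃ b' ∈ Bo F m, ∃ x ∈ XA F m k k', b = b' * x ∧ s * b' * s⁻¹ ∈ Bo F m :=
  faca_core h2 hkk hs (fun t => exists_xA k k' (by
    intro h
    rw [h] at hkk
    omega) t)

end Cfsg.Agent.Lib.Helper39.OoBN
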