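import Mathlib
import Cfsg.Agent.Lib.Helper39.OoDefs
import Cfsg.Agent.Lib.Helper39.OoINVF
import Cfsg.Agent.Lib.Helper55.OoTORP
import Cfsg.Agent.Lib.Helper53.OoFACAcore

/-! # S2547 OO hive (helper39), leaf OO-FACB, core (helper53): the short-root factorisation with the root elements
as a hypothesis. -/

set_option autoImplicit false
set_option linter.unusedSimpArgs false

namespace Cfsg.Agent.Lib.Helper39.OoBN

open Matrix Cfsg

variable {F : Type*} [Field F] {m : ℕ}

theorem facb_simpleB_symm (k : Fin m) : (simpleB k).symm = simpleB k := by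
  show (simpleB k)⁻¹ = simpleB k
  unfold simpleB
  rw [Equiv.swap_inv]

theorem facb_simpleB_e0 (k : Fin m) : simpleB k (e0 : Idx m) = e0 :=
  Equiv.swap_apply_of_ne_of_ne (by simp [e0, xi, yi]) (by simp [e0, xi, yi])

theorem facb_simpleB_xk (k : Fin m) : simpleB k (xi k : Idx m) = yi k :=
  Equiv.swap_apply_left _ _

theorem facb_simpleB_yk (k : Fin m) : simpleB k (yi k : Idx m) = xi k :=
  Equiv.swap_apply_right _ _

theorem facb_simpleB_xi {k i : Fin m} (h : i ≠ k) : simpleB k (xi i : Idx m) = xi i :=
  Equiv.swap_apply_of_ne_of_ne (by simpa [xi] using h) (by simp [xi, yi])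

theorem facb_simpleB_yi {k i : Fin m} (h : i ≠ k) : simpleB k (yi i : Idx m) = yi i :=
  Equiv.swap_apply_of_ne_of_ne (by simp [xi, yi]) (by simpa [yi] using h)

/-- right multiplication by a scaled matrix unit -/
theorem facb_mul_single (M : Matrix (Idx m) (Idx m) F) (p q : Idx m) (t : F) (a c : Idx m) :
    (M * (t • Matrix.single p q (1 : F))) a c = t * (if c = q then M a p else 0) := by
  rw [Matrix.mul_smul, Matrix.smul_apply, smul_eq_mul]
  congr 1
  by_cases hc : c = q
  · subst hc
    rw [if_pos rfl, Matrix.mul_single_apply_same, mul_one]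
  · rw [if_neg hc, Matrix.mul_single_apply_of_ne _ _ _ _ _ hc]

/-- right multiplication by a short root matrix -/
theorem facb_mul_root (M : Matrix (Idx m) (Idx m) F) (k : Fin m) (t : F) (a c : Idx m) :
    (M * (1 + (2 * t) • Matrix.single (xi k) (e0 : Idx m) (1 : F)
        - t • Matrix.single (e0 : Idx m) (yi k) (1 : F)
        - (t ^ 2) • Matrix.single (xi k) (yi k) (1 : F))) a c =
      M a c + (2 * t) * (if c = e0 then M a (xi k) else 0) - t * (if c = yi k then M a e0 else 0)
        - t ^ 2 * (if c = yi k then M a (xi k) else 0) := by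
  rw [Matrix.mul_sub, Matrix.mul_sub, Matrix.mul_add, Matrix.mul_one, Matrix.sub_apply, Matrix.sub_apply,
    Matrix.add_apply, facb_mul_single, facb_mul_single, facb_mul_single]

/-- the core of FACB: short root elements as a hypothesis -/
theorem facb_core (h2 : (2 : F) ≠ 0) {k : Fin m} (hk : (k : ℕ) + 1 = m) {s : OG F m}
    (hs : mat s = permMat F (simpleB k))
    (hroot : ∀ t : F, ∃ g : OG F m, mat g = 1 + (2 * t) • Matrix.single (xi k) e0 (1 : F)
      - t • Matrix.single e0 (yi k) (1 : F) - (t ^ 2) • Matrix.single (xi k) (yi k) (1 : F)) :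
    ∀ b ∈ Bo F m, ∃ b' ∈ Bo F m, ∃ x ∈ XB F m k, b = b' * x ∧ s * b' * s⁻¹ ∈ Bo F m := by
  intro b hb
  have hd : mat b (xi k) (xi k) ≠ 0 := faca_diag_ne_zero hb _
  set t : F := mat b (xi k) e0 / (2 * mat b (xi k) (xi k)) with ht
  obtain ⟨x, hxval⟩ := hroot t
  have hxB : x ∈ Bo F m := by
    rw [mem_Bo_iff]
    intro a c hac
    have hac' : a ≠ c := by
      intro h
      rw [h] at hac
      exact lt_irrefl _ hac
    rw [hxval, Matrix.sub_apply, Matrix.sub_apply, Matrix.add_apply, Matrix.one_apply_ne hac',
      Matrix.smul_apply, Matrix.smul_apply, Matrix.smul_apply, Matrix.single_apply, Matrix.single_apply,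
      Matrix.single_apply]
    have h1 : ¬ (xi k = a ∧ e0 = c) := by
      rintro ⟨rfl, rfl⟩
      simp only [rk_xi, rk_e0] at hac
      omega
    have h2' : ¬ (e0 = a ∧ yi k = c) := by
      rintro ⟨rfl, rfl⟩
      simp only [rk_yi, rk_e0] at hac
      omega
    have h3 : ¬ (xi k = a ∧ yi k = c) := by
      rintro ⟨rfl, rfl⟩
      simp only [rk_yi, rk_xi] at hac
      omega
    rw [if_neg h1, if_neg h2', if_neg h3]
    simp
  set b' : OG F m := b * x⁻¹ with hb'def
  have hb'B : b' ∈ Bo F m := (Bo F m).mul_mem hb ((Bo F m).inv_mem hxB)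
  have hbb' : b = b' * x := by
    rw [hb'def, inv_mul_cancel_right]
  have hform : ∀ a c : Idx m, mat b a c = mat b' a c +
      (2 * t) * (if c = e0 then mat b' a (xi k) else 0) -
      t * (if c = yi k then mat b' a e0 else 0) -
      t ^ 2 * (if c = yi k then mat b' a (xi k) else 0) := by
    intro a c
    have h1 : mat b = mat b' * mat x := by rw [← mat_mul, ← hbb']
    rw [h1, hxval, facb_mul_root]
  have hb'' := (mem_Bo_iff _).1 hb'B
  have hb'i := (mem_Bo_iff _).1 ((Bo F m).inv_mem hb'B)
  -- the `(x_k, e₀)` entry of `b'` vanishes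
  have h0 : mat b' (xi k) e0 = 0 := by
    have h1 := hform (xi k) e0
    have h2' := hform (xi k) (xi k)
    rw [if_pos rfl, if_neg (by simp [e0, xi, yi]), if_neg (by simp [e0, xi, yi])] at h1
    rw [if_neg (by simp [e0, xi, yi]), if_neg (by simp [e0, xi, yi]),
      if_neg (by simp [e0, xi, yi])] at h2'
    have h3 : t * (2 * mat b (xi k) (xi k)) = mat b (xi k) e0 := by
      rw [ht, div_mul_cancel₀ _ (mul_ne_zero h2 hd)]
    linear_combination (-1 : F) * h1 - h3 + 2 * t * h2'
  -- the `(x_k, e₀)` entry of `b'⁻¹` vanishes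
  have h0i : mat b'⁻¹ (xi k) e0 = 0 := by
    have h1 : (mat b'⁻¹ * mat b') (xi k) e0 = 0 := by
      rw [mat_inv_mul, Matrix.one_apply_ne (by simp [e0, xi, yi])]
    rw [Matrix.mul_apply, Finset.sum_eq_single e0] at h1
    · rcases mul_eq_zero.1 h1 with h | h
      · exact h
      · exact absurd h (faca_diag_ne_zero hb'B _)
    · intro c _ hc
      rcases lt_trichotomy (rk c) (k : ℕ) with hlt | heq | hgt
      · rw [hb'i (xi k) c (by rw [rk_xi]; exact hlt), zero_mul]
      · have : c = xi k := torp_rk_injective (by rw [rk_xi]; exact heq)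
        rw [this, h0, mul_zero]
      · have hne : rk c ≠ rk (e0 : Idx m) := fun h => hc (torp_rk_injective h)
        rw [rk_e0] at hne
        rw [hb'' c e0 (by rw [rk_e0]; omega), mul_zero]
    · simp
  -- the `(e₀, y_k)` entry of `b'` vanishes
  have h1 : mat b' e0 (yi k) = 0 := by
    have h := mat_inv_apply h2 b' (xi k) e0
    rw [h0i] at h
    have hw1 : wt F (xi k : Idx m) = 1 := rfl
    have hw2 : wt F (e0 : Idx m) = 2 := rfl
    rw [hw1, hw2, bar_e0, bar_xi, inv_one, one_mul] at h
    rcases mul_eq_zero.1 h.symm with h' | h'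
    · exact absurd h' h2
    · exact h'
  -- the `(x_k, y_k)` entry of `b'` vanishes
  have h3 : mat b' (xi k) (yi k) = 0 := by
    have hQ := mat_preserves b' (Pi.single (yi k) 1)
    rw [Matrix.mulVec_single_one] at hQ
    unfold Cfsg.quadFormOdd at hQ
    simp only [Matrix.col_apply] at hQ
    have e1 : mat b' (Sum.inl ()) (yi k) = 0 := h1
    have e2 : (Pi.single (yi k : Idx m) (1 : F) : Idx m → F) (Sum.inl ()) = 0 :=
      Pi.single_eq_of_ne (by simp [yi]) _
    have e3 : ∀ i : Fin m, (Pi.single (yi k : Idx m) (1 : F) : Idx m → F) (Sum.inr (Sum.inl i)) = 0 :=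
      fun i => Pi.single_eq_of_ne (by simp [yi]) _
    rw [e1, e2] at hQ
    simp only [e3, zero_mul, Finset.sum_const_zero] at hQ
    rw [Finset.sum_eq_single k] at hQ
    · have hd' : mat b' (yi k) (yi k) ≠ 0 := faca_diag_ne_zero hb'B _
      have hQ' : mat b' (xi k) (yi k) * mat b' (yi k) (yi k) = 0 := by
        have : mat b' (Sum.inr (Sum.inl k)) (yi k) * mat b' (Sum.inr (Sum.inr k)) (yi k) = 0 := by
          simpa using hQ
        exact this
      rcases mul_eq_zero.1 hQ' with h | h
      · exact h
      · exact absurd h hd'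
    · intro i _ hik
      have hlt : (i : ℕ) < (k : ℕ) := by
        have := i.2
        have := Fin.val_ne_of_ne hik
        omega
      have : mat b' (Sum.inr (Sum.inr i)) (yi k) = 0 := by
        apply hb'' (yi i) (yi k)
        rw [rk_yi, rk_yi]
        have := k.2
        omega
      rw [this, mul_zero]
    · simp
  refine ⟨b', hb'B, x, ⟨t, hxval⟩, hbb', ?_⟩
  apply mem_Bo_of_flag h2
  intro a j hja
  rw [faca_conj_entry hs, facb_simpleB_symm]
  by_cases hjk : j = k
  · subst hjk
    rw [facb_simpleB_xk]
    rcases a with u | i | i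
    · have : simpleB j (Sum.inl u : Idx m) = e0 := facb_simpleB_e0 j
      rw [this]
      exact h1
    · exfalso
      have hji : (j : ℕ) < (i : ℕ) := hja
      have := i.2
      omega
    · by_cases hij : i = j
      · subst hij
        have : simpleB i (Sum.inr (Sum.inr i) : Idx m) = xi i := facb_simpleB_yk i
        rw [this]
        exact h3
      · have : simpleB j (Sum.inr (Sum.inr i) : Idx m) = yi i := facb_simpleB_yi hij
        rw [this]
        apply hb''
        rw [rk_yi, rk_yi]
        have := i.2
        have := Fin.val_ne_of_ne hij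
        have := j.2
        omega
  · rw [facb_simpleB_xi hjk]
    have hjlt : (j : ℕ) < (k : ℕ) := by
      have := j.2
      have := Fin.val_ne_of_ne hjk
      omega
    rcases a with u | i | i
    · have : simpleB k (Sum.inl u : Idx m) = e0 := facb_simpleB_e0 k
      rw [this]
      apply hb''
      rw [rk_e0, rk_xi]
      exact j.2
    · have hji : (j : ℕ) < (i : ℕ) := hja
      by_cases hik : i = k
      · subst hik
        have : simpleB i (Sum.inr (Sum.inl i) : Idx m) = yi i := facb_simpleB_xk i
        rw [this]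
        apply hb''
        rw [rk_yi, rk_xi]
        have := i.2
        omega
      · have : simpleB k (Sum.inr (Sum.inl i) : Idx m) = xi i := facb_simpleB_xi hik
        rw [this]
        apply hb''
        rw [rk_xi, rk_xi]
        exact hji
    · by_cases hik : i = k
      · subst hik
        have : simpleB i (Sum.inr (Sum.inr i) : Idx m) = xi i := facb_simpleB_yk i
        rw [this]
        apply hb''
        rw [rk_xi, rk_xi]
        exact hjlt
      · have : simpleB k (Sum.inr (Sum.inr i) : Idx m) = yi i := facb_simpleB_yi hik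
        rw [this]
        apply hb''
        rw [rk_yi, rk_xi]
        have := i.2
        have := j.2
        omega

end Cfsg.Agent.Lib.Helper39.OoBN
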