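import Mathlib
import Cfsg.Agent.Lib.Helper39.OoDefs
import Cfsg.Agent.Lib.Helper53.OoFACBcore
import Cfsg.Agent.Lib.Helper85.OoROOTB

/-! # S2547 hive, leaf OO-FACB (helper53): `B = (B ∩ sBs⁻¹) X_B` for the short simple root -/

set_option autoImplicit false

namespace Cfsg.Agent.Lib.Helper39.OoBN

open Matrix Cfsg

variable {F : Type*} [Field F] {m : ℕ}

/-- LEAF FACB. -/
theorem facB (h2 : (2 : F) ≠ 0) {k : Fin m} (hk : (k : ℕ) + 1 = m) {s : OG F m}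
    (hs : mat s = permMat F (simpleB k)) :
    ∀ b ∈ Bo F m, ∃ b' ∈ Bo F m, ∃ x ∈ XB F m k, b = b' * x ∧ s * b' * s⁻¹ ∈ Bo F m :=
  facb_core h2 hk hs (fun t => exists_xB k t)

end Cfsg.Agent.Lib.Helper39.OoBN
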