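import Mathlib
import Cfsg.Agent.Lib.Helper39.OoDefs
import Cfsg.Agent.Lib.Helper55.OoTORP

/-! # S2547 OO hive (helper39), leaf OO-OPP (helper53): `B ∩ w₀ B w₀⁻¹ = B ∩ N` -/

set_option autoImplicit false

namespace Cfsg.Agent.Lib.Helper39.OoBN

open Matrix Cfsg

variable {F : Type*} [Field F] {m : ℕ}

/-- `rk (bar a) = 2m - rk a` -/
theorem opp_rk_bar (a : Idx m) : rk (bar a) = 2 * m - rk a := by
  rcases a with u | i | i
  · show m = 2 * m - m
    omega
  · rfl
  · show (i : ℕ) = 2 * m - (2 * m - (i : ℕ))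
    have := i.2
    omega

theorem opp_rk_le (a : Idx m) : rk a ≤ 2 * m := by
  rcases a with u | i | i
  · show m ≤ 2 * m
    omega
  · show (i : ℕ) ≤ 2 * m
    have := i.2
    omega
  · show 2 * m - (i : ℕ) ≤ 2 * m
    omega

/-- entries when `g w₀ = w₀ h` -/
theorem opp_entry {w g h : OG F m} (hw : mat w = permMat F (w0perm m)) (hgh : g * w = w * h)
    (a b : Idx m) : mat g a (bar b) = mat h (bar a) b := by
  have h1 : mat g * mat w = mat w * mat h := by rw [← mat_mul, ← mat_mul, hgh]
  have h2 := congrFun (congrFun h1 a) b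
  rw [hw, Matrix.mul_apply, Matrix.mul_apply, Finset.sum_eq_single (bar b),
    Finset.sum_eq_single (bar a)] at h2
  · rw [permMat_apply, permMat_apply, w0perm_apply, w0perm_apply, if_pos rfl, bar_bar, if_pos rfl,
      mul_one, one_mul] at h2
    exact h2
  · intro c _ hc
    rw [permMat_apply, w0perm_apply, if_neg ?_, zero_mul]
    intro h
    apply hc
    rw [h, bar_bar]
  · simp
  · intro c _ hc
    rw [permMat_apply, w0perm_apply, if_neg hc, mul_zero]
  · simp

/-- a diagonal isometry is monomial -/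
theorem opp_mem_No_of_diag (g : OG F m) (h : ∀ a b : Idx m, a ≠ b → mat g a b = 0) : g ∈ No F m := by
  rw [mem_No_iff]
  refine ⟨1, fun s => mat g s s, ?_⟩
  intro a s
  rw [Equiv.Perm.one_apply]
  by_cases has : a = s
  · rw [if_pos has, has]
  · rw [if_neg has]
    exact h a s has

/-- a diagonal isometry is upper triangular -/
theorem opp_mem_Bo_of_diag (g : OG F m) (h : ∀ a b : Idx m, a ≠ b → mat g a b = 0) : g ∈ Bo F m := by
  rw [mem_Bo_iff]
  intro a b hab
  apply h a b
  intro hab'
  rw [hab'] at hab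
  exact lt_irrefl _ hab

/-- LEAF OPP (M; clone of `Lib/Helper34/SpBN_OPP`): `w₀ B w₀⁻¹` is the lower triangular Borel
(`(w g w⁻¹)_{ab} = g_{bar a, bar b}`, `rk (bar a) = 2m - rk a`); upper ∩ lower triangular = diagonal = `B ∩ N` (TORUS). -/
theorem B_inf_conj_w0 {w : OG F m} (hw : mat w = permMat F (w0perm m)) :
    Bo F m ⊓ (Bo F m).map (MulAut.conj w).toMonoidHom = Bo F m ⊓ No F m := by
  ext g
  rw [Subgroup.mem_inf, Subgroup.mem_inf]
  constructor
  · rintro ⟨hgB, hgmap⟩
    refine ⟨hgB, ?_⟩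
    obtain ⟨h, hhB, hh⟩ := Subgroup.mem_map.1 hgmap
    simp only [MulEquiv.coe_toMonoidHom, MulAut.conj_apply] at hh
    have hgh : g * w = w * h := by
      rw [← hh]
      group
    apply opp_mem_No_of_diag
    intro a c hac
    have hne : rk a ≠ rk c := fun h => hac (torp_rk_injective h)
    rcases lt_or_gt_of_ne hne with hlt | hgt
    · -- `rk a < rk c`: use `h` upper triangular
      have e := opp_entry hw hgh a (bar c)
      rw [bar_bar] at e
      rw [e]
      apply (mem_Bo_iff h).1 hhB
      rw [opp_rk_bar, opp_rk_bar]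
      have := opp_rk_le c
      omega
    · exact (mem_Bo_iff g).1 hgB a c hgt
  · rintro ⟨hgB, hgN⟩
    refine ⟨hgB, ?_⟩
    rw [Subgroup.mem_map]
    have hdiag := torp_diag g (Subgroup.mem_inf.mpr ⟨hgB, hgN⟩)
    refine ⟨w⁻¹ * g * w, ?_, ?_⟩
    · apply opp_mem_Bo_of_diag
      intro a b hab
      have hgh : g * w = w * (w⁻¹ * g * w) := by group
      have e := opp_entry hw hgh (bar a) b
      rw [bar_bar] at e
      rw [← e]
      apply hdiag
      intro h
      apply hab
      have := congrArg bar h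
      rwa [bar_bar, bar_bar] at this
    · simp only [MulEquiv.coe_toMonoidHom, MulAut.conj_apply]
      group

end Cfsg.Agent.Lib.Helper39.OoBN
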