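import Cfsg.Agent.Lib.Helper39.SmDefs
import Cfsg.Agent.Lib.Helper80.Stn_BASIC
import Cfsg.Agent.Lib.Helper24.Sm_GCM

/-! # Sm hive (S2086, owner helper39), leaf SM-T-ADD: `f(t,u) = cm (xx i j t) (xx k l u)` is biadditive
for a commuting pair of roots. -/

set_option autoImplicit false

namespace Cfsg.Agent.Lib.Helper39.Sm

open Cfsg.Agent.Lib.Helper41.Stn
open scoped commutatorElement

variable {K : Type*} [Field K] {n : ℕ} {Y : Type*} [Group Y] (φ : Y →* St K n)
  (hφ : Function.Surjective φ)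

/-- `f(t,u)` is central -/
theorem tadd_mem_center (hc : φ.ker ≤ Subgroup.center Y) {i j k l : Fin n} (hil : i ≠ l)
    (hjk : j ≠ k) (t u : K) : cm φ hφ (xx i j t) (xx k l u) ∈ Subgroup.center Y :=
  cm_mem_center φ hφ hc (xx_comm hil hjk t u)

/-- T-ADD (both; `cm_mul_left/right` + `cm_mem_center` + `xx_add`). Valid for every commuting pair. -/
theorem fcm_add_left (hc : φ.ker ≤ Subgroup.center Y) {i j k l : Fin n} (hil : i ≠ l) (hjk : j ≠ k)
    (t t' u : K) : cm φ hφ (xx i j (t + t')) (xx k l u) =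
      cm φ hφ (xx i j t) (xx k l u) * cm φ hφ (xx i j t') (xx k l u) := by
  have hz := tadd_mem_center φ hφ hc hil hjk t' u
  rw [Subgroup.mem_center_iff] at hz
  rw [← xx_add i j t t',
    cm_mul_left φ hφ hc (xx i j t) (xx i j t') (xx k l u) (map_lft φ hφ (xx i j t)),
    hz (lft φ hφ (xx i j t)), mul_inv_cancel_right, ← hz]

theorem fcm_add_right (hc : φ.ker ≤ Subgroup.center Y) {i j k l : Fin n} (hil : i ≠ l) (hjk : j ≠ k)
    (t u u' : K) : cm φ hφ (xx i j t) (xx k l (u + u')) =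
      cm φ hφ (xx i j t) (xx k l u) * cm φ hφ (xx i j t) (xx k l u') := by
  have hz := tadd_mem_center φ hφ hc hil hjk t u'
  rw [Subgroup.mem_center_iff] at hz
  rw [← xx_add k l u u',
    cm_mul_right φ hφ hc (xx i j t) (xx k l u) (xx k l u') (map_lft φ hφ (xx k l u)),
    hz (lft φ hφ (xx k l u)), mul_inv_cancel_right]

end Cfsg.Agent.Lib.Helper39.Sm
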