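import Cfsg.Agent.Lib.Helper39.SmDefs
import Cfsg.Agent.Lib.Helper80.Stn_BASIC
import Cfsg.Agent.Lib.Helper69.Stn_HXX
import Cfsg.Agent.Lib.Helper24.Sm_GCM

/-! # Sm hive (S2086, owner helper39), leaf SM-T-CONJH: invariance of `f(t,u)` under the torus. -/

set_option autoImplicit false

namespace Cfsg.Agent.Lib.Helper39.Sm

open Cfsg.Agent.Lib.Helper41.Stn
open scoped commutatorElement

variable {K : Type*} [Field K] {n : ℕ} {Y : Type*} [Group Y] (φ : Y →* St K n)
  (hφ : Function.Surjective φ)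

/-- T-CONJH. Conjugation by a lift of `hh p q c` (`cm_conj` + `hh_conj_xx` + centrality): for a COMMUTING pair
of root elements `f(t,u) = f(e₁ t, e₂ u)` with `e₁ = dd p q c i / dd p q c j`, `e₂ = dd p q c k / dd p q c l`. -/
theorem fcm_hh (hn : 3 ≤ n) (hc : φ.ker ≤ Subgroup.center Y) {i j k l : Fin n} (hij : i ≠ j)
    (hkl : k ≠ l) (hil : i ≠ l) (hjk : j ≠ k) {p q : Fin n} (hpq : p ≠ q) {c : K} (hc0 : c ≠ 0)
    (t u : K) :
    cm φ hφ (xx i j (dd p q c i / dd p q c j * t)) (xx k l (dd p q c k / dd p q c l * u)) =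
      cm φ hφ (xx i j t) (xx k l u) := by
  have hz : cm φ hφ (xx i j t) (xx k l u) ∈ Subgroup.center Y :=
    cm_mem_center φ hφ hc (xx_comm hil hjk t u)
  rw [Subgroup.mem_center_iff] at hz
  have hconj := cm_conj φ hφ hc (hh p q c) (xx i j t) (xx k l u) (map_lft φ hφ (hh p q c))
  rw [hh_conj_xx hn hpq hc0 hij, hh_conj_xx hn hpq hc0 hkl] at hconj
  rw [hconj, hz (lft φ hφ (hh p q c)), mul_inv_cancel_right]

end Cfsg.Agent.Lib.Helper39.Sm
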