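import Cfsg.Agent.Lib.Helper39.SmDefs
import Cfsg.Agent.Lib.Helper80.Stn_BASIC
import Cfsg.Agent.Lib.Helper24.Sm_GCM

/-! # Sm hive (S2086, owner helper39), leaf SM-M-ADD: `sm` is additive in `t`. -/

set_option autoImplicit false

namespace Cfsg.Agent.Lib.Helper39.Sm

open Cfsg.Agent.Lib.Helper41.Stn
open scoped commutatorElement

variable {K : Type*} [Field K] {n : ℕ} {Y : Type*} [Group Y] (φ : Y →* St K n)
  (hφ : Function.Surjective φ)

/-- `cm (xx i h s) (xx h j t)` lifts `xx i j (s * t)` -/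
theorem madd_map_cm {i j h : Fin n} (hij : i ≠ j) (hhi : h ≠ i) (hhj : h ≠ j) (s t : K) :
    φ (cm φ hφ (xx i h s) (xx h j t)) = xx i j (s * t) := by
  rw [map_cm, commutatorElement_def, xx_comm3 hhi.symm hhj hij]

/-- M-ADD. `[u, v v'] = [u,v] (v [u,v'] v⁻¹)` (`cm_mul_right`, `xx_add`), `v` (lift of `x_hj(t)`) commutes with
`[u,v']` (lift of `x_ij(u)`) by `LA`. Any `n ≥ 3`. -/
theorem sm_add (hc : φ.ker ≤ Subgroup.center Y) (hLA : LA φ) {i j h : Fin n} (hij : i ≠ j)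
    (hhi : h ≠ i) (hhj : h ≠ j) (t u : K) :
    sm φ hφ i j h t * sm φ hφ i j h u = sm φ hφ i j h (t + u) := by
  unfold sm
  rw [← xx_add h j t u,
    cm_mul_right φ hφ hc (xx i h 1) (xx h j t) (xx h j u) (map_lft φ hφ (xx h j t))]
  have h1 : φ (cm φ hφ (xx i h 1) (xx h j u)) = xx i j u := by
    rw [madd_map_cm φ hφ hij hhi hhj, one_mul]
  have h2 : Commute (lft φ hφ (xx h j t)) (cm φ hφ (xx i h 1) (xx h j u)) :=
    hLA hhj hij hhj hij.symm t u (map_lft φ hφ (xx h j t)) h1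
  rw [h2.eq, mul_inv_cancel_right]

end Cfsg.Agent.Lib.Helper39.Sm
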