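import Mathlib
import Cfsg.Agent.Lib.Helper40.OpBNDefs
import Cfsg.Agent.Lib.Helper34.SpBN_Aux

/-! # S2548 OpBN hive (helper40), leaf FACS, core (helper53): the factorisation `B = (B ∩ sBs⁻¹) X_S` with the
description of `B` (leaf BOREL) and the root elements (leaf ROOT) as hypotheses; shared aux for FACD / OPP
(conjugation by permutation matrices, diagonal entries of `B`). -/

set_option autoImplicit false
set_option linter.unusedSimpArgs false

namespace Cfsg.Agent.Lib.Helper40.OpBN

open Matrix Cfsg Cfsg.Agent.Lib.Helper13 Cfsg.Agent.Lib.Helper41.SpBN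

variable {F : Type*} [Field F] {m : ℕ}

theorem facs_permMat_apply (σ : Equiv.Perm (Idx m)) (a s : Idx m) :
    permMat F σ a s = if a = σ s then 1 else 0 := rfl

/-- entries of a conjugate by a permutation matrix -/
theorem facs_pconj {s : OG F m} {σ : Equiv.Perm (Idx m)} (hs : mt s = permMat F σ) (b : OG F m)
    (a c : Idx m) : mt (s * b * s⁻¹) a c = mt b (σ.symm a) (σ.symm c) := by
  have h1 : mt (s * b * s⁻¹) * mt s = mt s * mt b := by
    rw [← mt_mul, ← mt_mul, inv_mul_cancel_right]
  have h2 := congrFun (congrFun h1 a) (σ.symm c)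
  rw [hs, Matrix.mul_apply, Matrix.mul_apply, Finset.sum_eq_single c,
    Finset.sum_eq_single (σ.symm a)] at h2
  · rw [facs_permMat_apply, facs_permMat_apply, Equiv.apply_symm_apply, if_pos rfl,
      Equiv.apply_symm_apply, if_pos rfl, mul_one, one_mul] at h2
    exact h2
  · intro d _ hd
    rw [facs_permMat_apply, if_neg ?_, zero_mul]
    intro h
    apply hd
    rw [h, Equiv.symm_apply_apply]
  · simp
  · intro d _ hd
    rw [facs_permMat_apply, Equiv.apply_symm_apply, if_neg hd, mul_zero]
  · simp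

/-- the description of `B` (statement of the leaf BOREL `mem_Bo_iff`) -/
def facs_BorelShape (F : Type*) [Field F] (m : ℕ) : Prop :=
  ∀ g : OG F m, g ∈ Bo F m ↔
    (∀ i j : Fin m, (j : ℕ) < (i : ℕ) → mt g (Sum.inl i) (Sum.inl j) = 0) ∧
    (∀ i j : Fin m, mt g (Sum.inr i) (Sum.inl j) = 0)

/-- the diagonal entries of the `(inl,inl)` block of an element of `B` do not vanish -/
theorem facs_dinl (hBo : facs_BorelShape F m) {b : OG F m} (hb : b ∈ Bo F m) (k : Fin m) :
    mt b (Sum.inl k) (Sum.inl k) ≠ 0 := by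
  intro h0
  have hb' := (Bo F m).inv_mem hb
  rw [hBo] at hb hb'
  have h1 : (mt b⁻¹ * mt b) (Sum.inl k) (Sum.inl k) = 1 := by
    rw [mt_inv_mul]
    simp
  rw [Matrix.mul_apply, Fintype.sum_sum_type] at h1
  have e1 : ∀ j : Fin m, mt b⁻¹ (Sum.inl k) (Sum.inl j) * mt b (Sum.inl j) (Sum.inl k) = 0 := by
    intro j
    rcases lt_trichotomy (j : ℕ) (k : ℕ) with h | h | h
    · rw [hb'.1 k j h, zero_mul]
    · have : j = k := Fin.ext h
      subst this
      rw [h0, mul_zero]
    · rw [hb.1 j k h, mul_zero]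
  have e2 : ∀ j : Fin m, mt b⁻¹ (Sum.inl k) (Sum.inr j) * mt b (Sum.inr j) (Sum.inl k) = 0 := by
    intro j
    rw [hb.2 j k, mul_zero]
  simp [e1, e2] at h1

/-- the core of FACS -/
theorem facs_core (hBo : facs_BorelShape F m) {k k' : Fin m} (hkk : (k : ℕ) + 1 = (k' : ℕ))
    {s : OG F m} (hs : mt s = permMat F (simpleShort k k'))
    (hroot : ∀ t : F, ∃ g : OG F m, mt g = 1 + t • Matrix.single (Sum.inl k) (Sum.inl k') (1 : F)
      - t • Matrix.single (Sum.inr k') (Sum.inr k) (1 : F)) :
    ∀ b ∈ Bo F m, ∃ b' ∈ Bo F m, ∃ x ∈ XS F m k k', b = b' * x ∧ s * b' * s⁻¹ ∈ Bo F m := by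
  intro b hb
  have hne : k ≠ k' := by
    intro h
    rw [h] at hkk
    omega
  have hd : mt b (Sum.inl k) (Sum.inl k) ≠ 0 := facs_dinl hBo hb k
  set t : F := mt b (Sum.inl k) (Sum.inl k') / mt b (Sum.inl k) (Sum.inl k) with ht
  obtain ⟨x, hxval⟩ := hroot t
  have hxB : x ∈ Bo F m := by
    rw [hBo]
    constructor
    · intro i j hij
      have hij' : i ≠ j := by
        intro h
        rw [h] at hij
        omega
      have h2 : ¬ (k = i ∧ k' = j) := by
        rintro ⟨rfl, rfl⟩
        omega
      rw [hxval]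
      simp [hij', h2]
    · intro i j
      rw [hxval]
      simp
  set b' : OG F m := b * x⁻¹ with hb'def
  have hb'B : b' ∈ Bo F m := (Bo F m).mul_mem hb ((Bo F m).inv_mem hxB)
  have hbb' : b = b' * x := by
    rw [hb'def, inv_mul_cancel_right]
  have hform : ∀ a c : Idx m, mt b a c = mt b' a c +
      t * (if c = Sum.inl k' then mt b' a (Sum.inl k) else 0) -
      t * (if c = Sum.inr k then mt b' a (Sum.inr k') else 0) := by
    intro a c
    have h1 : mt b = mt b' * mt x := by rw [← mt_mul, ← hbb']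
    rw [h1, hxval, facs_mul_root2]
  have h0 : mt b' (Sum.inl k) (Sum.inl k') = 0 := by
    have h1 := hform (Sum.inl k) (Sum.inl k')
    have h2 := hform (Sum.inl k) (Sum.inl k)
    rw [if_pos rfl, if_neg (by simp)] at h1
    rw [if_neg (by simpa using hne), if_neg (by simp)] at h2
    have h3 : t * mt b (Sum.inl k) (Sum.inl k) = mt b (Sum.inl k) (Sum.inl k') := by
      rw [ht, div_mul_cancel₀ _ hd]
    linear_combination (-1 : F) * h1 - h3 + t * h2
  refine ⟨b', hb'B, x, ⟨t, hxval⟩, hbb', ?_⟩
  have hb'' := (hBo _).1 hb'B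
  rw [hBo]
  constructor
  · intro i j hij
    rw [facs_pconj hs, facs_simpleShort_symm_inl, facs_simpleShort_symm_inl]
    rw [Equiv.swap_apply_def, Equiv.swap_apply_def]
    split_ifs with h1 h2 h3 h4 h5 h6 h7
    · subst h1; subst h2; omega
    · subst h1; subst h3; omega
    · subst h1
      have := Fin.val_ne_of_ne h2
      have := Fin.val_ne_of_ne h3
      exact hb''.1 _ _ (by omega)
    · subst h4; subst h5
      exact h0
    · subst h4; subst h6; omega
    · subst h4
      have := Fin.val_ne_of_ne h5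
      have := Fin.val_ne_of_ne h6
      have := Fin.val_ne_of_ne h1
      exact hb''.1 _ _ (by omega)
    · subst h7
      have := Fin.val_ne_of_ne h1
      have := Fin.val_ne_of_ne h4
      exact hb''.1 _ _ (by omega)
    · rename_i h8
      subst h8
      have := Fin.val_ne_of_ne h1
      have := Fin.val_ne_of_ne h4
      exact hb''.1 _ _ (by omega)
    · exact hb''.1 _ _ hij
  · intro i j
    rw [facs_pconj hs, facs_simpleShort_symm_inr, facs_simpleShort_symm_inl, hb''.2]

end Cfsg.Agent.Lib.Helper40.OpBN
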