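import Mathlib
import Cfsg.Agent.Lib.Helper40.OpBNDefs
import Cfsg.Agent.Lib.Helper53.OpBN_FACScore
import Cfsg.Agent.Lib.Helper87.OpBN_BOREL
import Cfsg.Agent.Lib.Helper40.OpBN_ROOT

/-! # S2548 OpBN hive, leaf FACS (helper53): `B = (B ∩ sBs⁻¹) X_S` for the simple roots `e_k - e_{k+1}` -/

set_option autoImplicit false

namespace Cfsg.Agent.Lib.Helper40.OpBN

open Matrix Cfsg Cfsg.Agent.Lib.Helper13 Cfsg.Agent.Lib.Helper41.SpBN

variable {F : Type*} [Field F] {m : ℕ}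

/-- LEAF FACS. -/
theorem facS {k k' : Fin m} (hkk : (k : ℕ) + 1 = (k' : ℕ)) {s : OG F m}
    (hs : mt s = permMat F (simpleShort k k')) :
    ∀ b ∈ Bo F m, ∃ b' ∈ Bo F m, ∃ x ∈ XS F m k k', b = b' * x ∧ s * b' * s⁻¹ ∈ Bo F m :=
  facs_core (fun g => mem_Bo_iff g) hkk hs (fun t => exists_xS k k' (by
    intro h
    rw [h] at hkk
    omega) t)

end Cfsg.Agent.Lib.Helper40.OpBN
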