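import Mathlib
import Cfsg.Agent.Lib.Helper40.OpBNDefs
import Cfsg.Agent.Lib.Helper53.OpBN_FACScore
import Cfsg.Agent.Lib.Helper2.OpBN_TORUS

/-! # S2548 OpBN hive (helper40), leaf OPP, core (helper53): `B ∩ n₀ B n₀⁻¹ = B ∩ N` for the even "longest"
element `n₀` (flip all hyperbolic pairs, except the last one if `m` is odd); the leaves PERM / LOWER / LAST are
hypotheses. -/

set_option autoImplicit false
set_option linter.unusedSimpArgs false

namespace Cfsg.Agent.Lib.Helper40.OpBN

open Matrix Cfsg Cfsg.Agent.Lib.Helper13 Cfsg.Agent.Lib.Helper41.SpBN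

variable {F : Type*} [Field F] {m : ℕ}

/-- the index of the hyperbolic pair containing `a` -/
def opp_idx : Idx m → Fin m := Sum.elim id id

@[simp] theorem opp_idx_inl (i : Fin m) : opp_idx (Sum.inl i : Idx m) = i := rfl
@[simp] theorem opp_idx_inr (i : Fin m) : opp_idx (Sum.inr i : Idx m) = i := rfl

theorem opp_idx_swap (a : Idx m) : opp_idx a.swap = opp_idx a := by
  rcases a with i | i <;> rfl

/-- flip the hyperbolic pairs with index in `S` -/
def opp_flip (S : Finset (Fin m)) : Equiv.Perm (Idx m) where
  toFun a := if opp_idx a ∈ S then a.swap else a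
  invFun a := if opp_idx a ∈ S then a.swap else a
  left_inv a := by
    by_cases h : opp_idx a ∈ S
    · simp only [if_pos h, opp_idx_swap, Sum.swap_swap]
    · simp only [if_neg h]
  right_inv a := by
    by_cases h : opp_idx a ∈ S
    · simp only [if_pos h, opp_idx_swap, Sum.swap_swap]
    · simp only [if_neg h]

theorem opp_flip_apply (S : Finset (Fin m)) (a : Idx m) :
    opp_flip S a = if opp_idx a ∈ S then a.swap else a := rfl

theorem opp_flip_symm (S : Finset (Fin m)) : (opp_flip S).symm = opp_flip S := rfl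

theorem opp_flip_swap (S : Finset (Fin m)) (a : Idx m) :
    opp_flip S a.swap = (opp_flip S a).swap := by
  rw [opp_flip_apply, opp_flip_apply, opp_idx_swap]
  by_cases h : opp_idx a ∈ S
  · rw [if_pos h, if_pos h]
  · rw [if_neg h, if_neg h]

theorem opp_flip_insert {S : Finset (Fin m)} {i : Fin m} (hi : i ∉ S) :
    opp_flip (insert i S) = Equiv.swap (Sum.inl i) (Sum.inr i) * opp_flip S := by
  ext a
  rw [Equiv.Perm.mul_apply, opp_flip_apply, opp_flip_apply]
  rcases a with j | j
  · by_cases hji : j = i
    · subst hji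
      simp [hi]
    · by_cases hjS : j ∈ S
      · have h1 : Equiv.swap (Sum.inl i : Idx m) (Sum.inr i) (Sum.inr j) = Sum.inr j :=
          Equiv.swap_apply_of_ne_of_ne (by simp) (by simpa using hji)
        simp [hjS, h1]
      · have h1 : Equiv.swap (Sum.inl i : Idx m) (Sum.inr i) (Sum.inl j) = Sum.inl j :=
          Equiv.swap_apply_of_ne_of_ne (by simpa using hji) (by simp)
        simp [hjS, hji, h1]
  · by_cases hji : j = i
    · subst hji
      simp [hi]
    · by_cases hjS : j ∈ S
      · have h1 : Equiv.swap (Sum.inl i : Idx m) (Sum.inr i) (Sum.inl j) = Sum.inl j :=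
          Equiv.swap_apply_of_ne_of_ne (by simpa using hji) (by simp)
        simp [hjS, h1]
      · have h1 : Equiv.swap (Sum.inl i : Idx m) (Sum.inr i) (Sum.inr j) = Sum.inr j :=
          Equiv.swap_apply_of_ne_of_ne (by simp) (by simpa using hji)
        simp [hjS, hji, h1]

theorem opp_sign_flip (S : Finset (Fin m)) :
    Equiv.Perm.sign (opp_flip S) = (-1) ^ S.card := by
  induction S using Finset.induction_on with
  | empty =>
    have : opp_flip (∅ : Finset (Fin m)) = 1 := by
      ext a
      simp [opp_flip_apply]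
    rw [this, Equiv.Perm.sign_one, Finset.card_empty, pow_zero]
  | insert i S hi ih =>
    rw [opp_flip_insert hi, Equiv.Perm.sign_mul, ih, Equiv.Perm.sign_swap (by simp),
      Finset.card_insert_of_notMem hi, pow_succ, mul_comm]

/-- entries of the other conjugate by a permutation matrix -/
theorem opp_pconj {s : OG F m} {σ : Equiv.Perm (Idx m)} (hs : mt s = permMat F σ) (b : OG F m)
    (a c : Idx m) : mt (s⁻¹ * b * s) a c = mt b (σ a) (σ c) := by
  have h1 : mt s * mt (s⁻¹ * b * s) = mt b * mt s := by
    rw [← mt_mul, ← mt_mul, mul_assoc, mul_inv_cancel_left]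
  have h2 := congrFun (congrFun h1 (σ a)) c
  rw [hs, Matrix.mul_apply, Matrix.mul_apply, Finset.sum_eq_single a,
    Finset.sum_eq_single (σ c)] at h2
  · rw [facs_permMat_apply, facs_permMat_apply, if_pos rfl, if_pos rfl, mul_one, one_mul] at h2
    exact h2
  · intro d _ hd
    rw [facs_permMat_apply, if_neg hd, mul_zero]
  · simp
  · intro d _ hd
    rw [facs_permMat_apply, if_neg ?_, zero_mul]
    intro h
    exact hd (σ.injective h).symm
  · simp

/-- the core of OPP -/
theorem opp_core
    (hperm : ∀ π : Equiv.Perm (Idx m), (∀ a, π a.swap = (π a).swap) → ∃ g : OG F m, mt g = permMat F π)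
    (hlower : ∀ g : OG F m, g ∈ Bo F m → ∀ i j : Fin m, (i : ℕ) < (j : ℕ) → mt g (Sum.inr i) (Sum.inr j) = 0)
    (hlast : ∀ g : OG F m, g ∈ Bo F m → ∀ k : Fin m, (k : ℕ) + 1 = m → mt g (Sum.inl k) (Sum.inr k) = 0)
    (S : Finset (Fin m)) (hS : ∀ i : Fin m, i ∉ S → (i : ℕ) + 1 = m) (hcard : Even S.card) :
    ∃ n0 ∈ No F m,
      Bo F m ⊓ (Bo F m).map (MulAut.conj n0).toMonoidHom = Bo F m ⊓ No F m := by
  obtain ⟨n0, hn0⟩ := hperm (opp_flip S) (opp_flip_swap S)
  have hn0N : n0 ∈ No F m := by
    refine ⟨opp_flip S, fun _ => 1, ?_, ?_⟩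
    · rw [hn0]
      exact permMat_isMono _
    · rw [opp_sign_flip, hcard.neg_one_pow]
  refine ⟨n0, hn0N, ?_⟩
  ext g
  constructor
  · rintro ⟨hgB, h, hhB, hhg⟩
    have hhB' : h ∈ Bo F m := hhB
    have hhg' : n0 * h * n0⁻¹ = g := hhg
    rw [mem_Bo_inf_No_iff]
    have hgU := (torus1_shape hgB).1
    have hgC := (torus1_shape hgB).2
    have hgL := hlower g hgB
    have hhU := (torus1_shape hhB').1
    have hhC := (torus1_shape hhB').2
    have hhL := hlower h hhB'
    have hent : ∀ a c : Idx m, mt g a c = mt h (opp_flip S a) (opp_flip S c) := by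
      intro a c
      rw [← hhg', facs_pconj hn0, opp_flip_symm]
    intro a s has
    rcases a with i | i <;> rcases s with j | j
    · -- `(e_i, e_j)`
      have hij : i ≠ j := fun h => has (by rw [h])
      rcases lt_or_gt_of_ne (Fin.val_ne_of_ne hij) with hlt | hgt
      · have hiS : i ∈ S := by
          by_contra hc
          have := hS i hc
          have := j.2
          omega
        rw [hent, opp_flip_apply, opp_flip_apply, opp_idx_inl, opp_idx_inl, if_pos hiS]
        by_cases hjS : j ∈ S
        · rw [if_pos hjS]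
          exact hhL i j hlt
        · rw [if_neg hjS]
          exact hhC i j
      · exact hgU i j hgt
    · -- `(e_i, f_j)`
      by_cases hiS : i ∈ S
      · by_cases hjS : j ∈ S
        · rw [hent, opp_flip_apply, opp_flip_apply, opp_idx_inl, opp_idx_inr, if_pos hiS, if_pos hjS]
          exact hhC i j
        · rw [hent, opp_flip_apply, opp_flip_apply, opp_idx_inl, opp_idx_inr, if_pos hiS, if_neg hjS]
          have hne : i ≠ j := fun h => hjS (h ▸ hiS)
          have := hS j hjS
          have := i.2
          have := Fin.val_ne_of_ne hne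
          exact hhL i j (by omega)
      · by_cases hjS : j ∈ S
        · rw [hent, opp_flip_apply, opp_flip_apply, opp_idx_inl, opp_idx_inr, if_neg hiS, if_pos hjS]
          have hne : i ≠ j := fun h => hiS (h ▸ hjS)
          have := hS i hiS
          have := j.2
          have := Fin.val_ne_of_ne hne
          exact hhU i j (by omega)
        · have hi := hS i hiS
          have hj := hS j hjS
          have hij : i = j := Fin.ext (by omega)
          subst hij
          exact hlast g hgB i hi
    · -- `(f_i, e_j)`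
      exact hgC i j
    · -- `(f_i, f_j)`
      have hij : i ≠ j := fun h => has (by rw [h])
      rcases lt_or_gt_of_ne (Fin.val_ne_of_ne hij) with hlt | hgt
      · exact hgL i j hlt
      · have hjS : j ∈ S := by
          by_contra hc
          have := hS j hc
          have := i.2
          omega
        rw [hent, opp_flip_apply, opp_flip_apply, opp_idx_inr, opp_idx_inr, if_pos hjS]
        by_cases hiS : i ∈ S
        · rw [if_pos hiS]
          exact hhU i j hgt
        · rw [if_neg hiS]
          exact hhC i j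
  · intro hg
    have hgd := (mem_Bo_inf_No_iff g).1 hg
    refine ⟨hg.1, n0⁻¹ * g * n0, ?_, ?_⟩
    · have : n0⁻¹ * g * n0 ∈ Bo F m ⊓ No F m := by
        rw [mem_Bo_inf_No_iff]
        intro a s has
        rw [opp_pconj hn0]
        exact hgd _ _ (fun h => has ((opp_flip S).injective h))
      exact this.1
    · show n0 * (n0⁻¹ * g * n0) * n0⁻¹ = g
      group

/-- the final step: choice of `S` by the parity of `m` -/
theorem opp_final
    (hperm : ∀ π : Equiv.Perm (Idx m), (∀ a, π a.swap = (π a).swap) → ∃ g : OG F m, mt g = permMat F π)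
    (hlower : ∀ g : OG F m, g ∈ Bo F m → ∀ i j : Fin m, (i : ℕ) < (j : ℕ) → mt g (Sum.inr i) (Sum.inr j) = 0)
    (hlast : ∀ g : OG F m, g ∈ Bo F m → ∀ k : Fin m, (k : ℕ) + 1 = m → mt g (Sum.inl k) (Sum.inr k) = 0) :
    ∃ n0 ∈ No F m,
      Bo F m ⊓ (Bo F m).map (MulAut.conj n0).toMonoidHom = Bo F m ⊓ No F m := by
  rcases Nat.even_or_odd m with hm | hm
  · refine opp_core hperm hlower hlast Finset.univ (fun i hi => absurd (Finset.mem_univ i) hi) ?_
    rw [Finset.card_univ, Fintype.card_fin]
    exact hm
  · have hm1 : m - 1 < m := by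
      rcases hm with ⟨r, hr⟩
      omega
    refine opp_core hperm hlower hlast (Finset.univ.erase ⟨m - 1, hm1⟩) ?_ ?_
    · intro i hi
      rw [Finset.mem_erase] at hi
      have h1 : i = ⟨m - 1, hm1⟩ := by
        by_contra hne
        exact hi ⟨hne, Finset.mem_univ i⟩
      have h2 : (i : ℕ) = m - 1 := by rw [h1]
      omega
    · rw [Finset.card_erase_of_mem (Finset.mem_univ _), Finset.card_univ, Fintype.card_fin]
      rcases hm with ⟨r, hr⟩
      exact ⟨r, by omega⟩

end Cfsg.Agent.Lib.Helper40.OpBN
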