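import Mathlib
import Cfsg.Agent.Lib.Helper40.OpBNDefs
import Cfsg.Agent.Lib.Helper53.OpBN_OPPcore
import Cfsg.Agent.Lib.Helper87.OpBN_LOWER
import Cfsg.Agent.Lib.Helper40.OpBN_PERM

/-! # S2548 OpBN hive, leaf OPP (helper53): an element `n₀ ∈ N` with `B ∩ n₀ B n₀⁻¹ = B ∩ N` -/

set_option autoImplicit false

namespace Cfsg.Agent.Lib.Helper40.OpBN

open Matrix Cfsg Cfsg.Agent.Lib.Helper13 Cfsg.Agent.Lib.Helper41.SpBN

variable {F : Type*} [Field F] {m : ℕ}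

/-- LEAF OPP. -/
theorem exists_opp : ∃ n0 ∈ No F m,
    Bo F m ⊓ (Bo F m).map (MulAut.conj n0).toMonoidHom = Bo F m ⊓ No F m :=
  opp_final (fun π hπ => exists_perm π hπ) (fun _ hg => Bo_lower hg) (fun _ hg _ hk => Bo_last hg hk)

end Cfsg.Agent.Lib.Helper40.OpBN
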