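import Cfsg.Agent.Lib.Helper76.SlDefs
import Cfsg.Agent.Lib.Helper43.SlK2Defs
import Cfsg.Agent.Lib.Helper3.CharOps
import Cfsg.Agent.Lib.Helper3.Degree

/-!
# SL-K2-CNT (Sl hive S2332 of helper76, sub-hive SL-K2 of helper43): the number of pairs `(v, f)`.
-/

set_option autoImplicit false

namespace Cfsg.Agent.Lib.Helper76.Sl

open Matrix Cfsg

variable {F : Type*} [Field F] [Fintype F] [DecidableEq F]

/-- the functional `f ↦ f ⬝ᵥ v` -/
def k2cnt_phi {n : ℕ} (v : Fin n → F) : (Fin n → F) →ₗ[F] F where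
  toFun := fun f => f ⬝ᵥ v
  map_add' := fun f g => add_dotProduct f g v
  map_smul' := fun c f => by
    simp only [smul_dotProduct, RingHom.id_apply]

omit [Fintype F] [DecidableEq F] in
theorem k2cnt_phi_surj {n : ℕ} (v : Fin n → F) (hv : v ≠ 0) : Function.Surjective (k2cnt_phi v) := by
  classical
  obtain ⟨i, hi⟩ : ∃ i, v i ≠ 0 := by
    by_contra hcon
    push Not at hcon
    exact hv (funext hcon)
  intro c
  refine ⟨Pi.single i (c / v i), ?_⟩
  show Pi.single i (c / v i) ⬝ᵥ v = c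
  rw [single_dotProduct]
  field_simp

omit [DecidableEq F] in
/-- the kernel of a non-zero functional on `F^(k+1)` has `q^k` elements -/
theorem k2cnt_card_ker {k : ℕ} (v : Fin (k + 1) → F) (hv : v ≠ 0) :
    Nat.card (LinearMap.ker (k2cnt_phi v)) = Fintype.card F ^ k := by
  have h1 := LinearMap.finrank_range_add_finrank_ker (k2cnt_phi v)
  rw [LinearMap.range_eq_top.mpr (k2cnt_phi_surj v hv), finrank_top, Module.finrank_self,
    Module.finrank_fin_fun] at h1
  have h2 : Module.finrank F (LinearMap.ker (k2cnt_phi v)) = k := by omega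
  rw [Module.natCard_eq_pow_finrank (K := F), h2, Nat.card_eq_fintype_card]

omit [DecidableEq F] in
/-- the number of non-zero `f` with `f ⬝ᵥ v = 0` -/
theorem k2cnt_card_fiber {k : ℕ} (v : Fin (k + 1) → F) (hv : v ≠ 0) :
    Nat.card {f : Fin (k + 1) → F // f ≠ 0 ∧ f ⬝ᵥ v = 0} = Fintype.card F ^ k - 1 := by
  classical
  rw [← k2cnt_card_ker v hv]
  -- `ker = fiber ⊔ {0}`
  have e : LinearMap.ker (k2cnt_phi v) ≃ Option {f : Fin (k + 1) → F // f ≠ 0 ∧ f ⬝ᵥ v = 0} :=
    { toFun := fun x => if h : x.1 = 0 then none else some ⟨x.1, h, x.2⟩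
      invFun := fun o => match o with
        | none => 0
        | some y => ⟨y.1, y.2.2⟩
      left_inv := fun x => by
        by_cases h : x.1 = 0
        · simp only [h, dif_pos]
          exact Subtype.ext h.symm
        · simp only [h, dif_neg, not_false_eq_true]
      right_inv := fun o => by
        match o with
        | none => simp
        | some y =>
          have hy : y.1 ≠ 0 := y.2.1
          simp [hy] }
  rw [Nat.card_congr e]
  simp only [Nat.card_eq_fintype_card, Fintype.card_option]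
  omega

set_option linter.unusedSectionVars false in
/-- SL-K2-CNT -/
theorem k2_card_pairs (m : ℕ) :
    Nat.card (TvPair F m) = (Fintype.card F ^ (m + 2) - 1) * (Fintype.card F ^ (m + 1) - 1) := by
  classical
  -- `TvPair ≃ Σ v ≠ 0, {f ≠ 0 | f ⬝ᵥ v = 0}`
  have e : TvPair F m ≃ Σ v : {v : Fin (m + 2) → F // v ≠ 0},
      {f : Fin (m + 2) → F // f ≠ 0 ∧ f ⬝ᵥ v.1 = 0} :=
    { toFun := fun p => ⟨⟨p.1.1, p.2.1⟩, ⟨p.1.2, p.2.2.1, p.2.2.2⟩⟩
      invFun := fun s => ⟨(s.1.1, s.2.1), s.1.2, s.2.2.1, s.2.2.2⟩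
      left_inv := fun p => rfl
      right_inv := fun s => rfl }
  rw [Nat.card_congr e, Nat.card_sigma]
  have h1 : ∀ v : {v : Fin (m + 2) → F // v ≠ 0},
      Nat.card {f : Fin (m + 2) → F // f ≠ 0 ∧ f ⬝ᵥ v.1 = 0} = Fintype.card F ^ (m + 1) - 1 :=
    fun v => k2cnt_card_fiber v.1 v.2
  rw [Finset.sum_congr rfl (fun v _ => h1 v), Finset.sum_const, Finset.card_univ, smul_eq_mul]
  congr 1
  rw [Fintype.card_subtype_compl, Fintype.card_pi_const, Fintype.card_subtype_eq]

end Cfsg.Agent.Lib.Helper76.Sl
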