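import Cfsg.Agent.Lib.Helper76.SlDefs
import Cfsg.Agent.Lib.Helper43.SlK2Defs
import Cfsg.Agent.Lib.Helper3.CharOps
import Cfsg.Agent.Lib.Helper3.Degree

/-!
# SL-K2-FIB (Sl hive S2332 of helper76, sub-hive SL-K2 of helper43): the fibres of `(v, f) ↦ 1 + v fᵀ`.
-/

set_option autoImplicit false

namespace Cfsg.Agent.Lib.Helper76.Sl

open Matrix Cfsg

variable {F : Type*} [Field F] [Fintype F] [DecidableEq F]

set_option linter.unusedSectionVars false in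
/-- SL-K2-FIB -/
theorem k2_fiber (m : ℕ) (p p' : TvPair F m) (h : tvMat p = tvMat p') :
    ∃ c : Fˣ, p'.1.1 = (c : F) • p.1.1 ∧ p'.1.2 = ((c⁻¹ : Fˣ) : F) • p.1.2 := by
  obtain ⟨⟨v, f⟩, hv, hf, hfv⟩ := p
  obtain ⟨⟨v', f'⟩, hv', hf', hfv'⟩ := p'
  simp only [tvMat] at h
  have h1 : Matrix.vecMulVec v f = Matrix.vecMulVec v' f' := add_left_cancel h
  have h2 : ∀ i j, v i * f j = v' i * f' j := by
    intro i j
    have := congrFun (congrFun h1 i) j
    simpa [Matrix.vecMulVec_apply] using this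
  -- non-zero entries
  obtain ⟨i₀, hi₀⟩ : ∃ i, v i ≠ 0 := by
    by_contra hcon
    push Not at hcon
    exact hv (funext hcon)
  obtain ⟨j₀, hj₀⟩ : ∃ j, f j ≠ 0 := by
    by_contra hcon
    push Not at hcon
    exact hf (funext hcon)
  have h00 : v' i₀ * f' j₀ ≠ 0 := by
    rw [← h2]; exact mul_ne_zero hi₀ hj₀
  have hv'0 : v' i₀ ≠ 0 := left_ne_zero_of_mul h00
  have hf'0 : f' j₀ ≠ 0 := right_ne_zero_of_mul h00
  refine ⟨Units.mk0 (v' i₀ / v i₀) (div_ne_zero hv'0 hi₀), ?_, ?_⟩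
  · show v' = (v' i₀ / v i₀) • v
    funext i
    rw [Pi.smul_apply, smul_eq_mul]
    -- `v' i * v i₀ = v' i₀ * v i`
    have h3 : v' i * v i₀ * f j₀ = v' i₀ * v i * f j₀ := by
      calc v' i * v i₀ * f j₀ = v' i * (v i₀ * f j₀) := by ring
        _ = v' i * (v' i₀ * f' j₀) := by rw [h2 i₀ j₀]
        _ = v' i₀ * (v' i * f' j₀) := by ring
        _ = v' i₀ * (v i * f j₀) := by rw [h2 i j₀]
        _ = v' i₀ * v i * f j₀ := by ring
    have h4 : v' i * v i₀ = v' i₀ * v i := mul_right_cancel₀ hj₀ h3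
    field_simp
    exact h4
  · show f' = ((Units.mk0 (v' i₀ / v i₀) (div_ne_zero hv'0 hi₀))⁻¹ : Fˣ).1 • f
    funext j
    rw [Pi.smul_apply, smul_eq_mul, Units.val_inv_eq_inv_val, Units.val_mk0]
    have h3 := h2 i₀ j
    field_simp
    rw [mul_comm (f' j), ← h3, mul_comm]

end Cfsg.Agent.Lib.Helper76.Sl
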