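import Mathlib
import Cfsg.Prelude.Def_GeometricClasses
import Cfsg.Agent.Lib.Helper44.OcDefs
import Cfsg.Agent.Lib.Helper37.ParabolicBridge
import Cfsg.Agent.Lib.Helper37.SpinorNorm
import Cfsg.Agent.Lib.Helper9.TsOMEGAODD

/-! # Oc hive (helper44, S5977 / S5978), leaves OC-ODDO and OC-DET (helper53) -/

set_option autoImplicit false
open scoped MatrixGroups
open Matrix Polynomial

namespace Cfsg.Agent.Lib.Helper44.Oc

universe v

variable {F : Type v} [Field F] {ι : Type} [Fintype ι] [DecidableEq ι]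

/-- the Gram matrix of a nondegenerate quadratic form (Prelude axioms), with nonzero determinant -/
theorem oddo_exists_gram (h2 : (2 : F) ≠ 0) (Q : (ι → F) → F)
    (hQ : Cfsg.Geo.IsNondegenerateQuadraticForm Q) :
    ∃ G : Matrix ι ι F, Cfsg.Agent.Lib.Helper37.IsGram Q G ∧ G.det ≠ 0 := by
  have hG := Cfsg.Agent.Lib.Helper37.isGram_of_quadraticForm h2 (Cfsg.Agent.Lib.Helper37.toQF Q hQ)
  rw [Cfsg.Agent.Lib.Helper37.toQF_coe] at hG
  refine ⟨_, hG, ?_⟩
  intro hdet
  obtain ⟨w, hw0, hw⟩ := Matrix.exists_mulVec_eq_zero_iff.2 hdet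
  obtain ⟨⟨x, hx⟩, -⟩ := hQ.nondegenerate w hw0
  apply hx
  rw [hG.polar_eq, Matrix.toBilin'_apply', hw, dotProduct_zero]

/-- OC-ODDO : isometries of odd order lie in `Ω` -/
theorem mem_omega_of_odd_order [Fintype F] (h2 : (2 : F) ≠ 0) (Q : (ι → F) → F)
    (hQ : Cfsg.Geo.IsNondegenerateQuadraticForm Q) (hn : 2 ≤ Fintype.card ι) (g : GL ι F)
    (hg : g ∈ Cfsg.isometryGroup F Q) (n : ℕ) (hodd : Odd n) (hgn : g ^ n = 1) : g ∈ Cfsg.Geo.omegaGL Q := by
  classical
  have _ := hn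
  obtain ⟨G, hG, hdet⟩ := oddo_exists_gram h2 Q hQ
  have h1 : (⟨g, hg⟩ : ↥(Cfsg.isometryGroup F Q)) ^ n = 1 := by
    apply Subtype.ext
    rw [Subgroup.coe_pow, Subgroup.coe_one]
    exact hgn
  have h3 := Cfsg.Agent.Lib.Helper79.TsSwap.omegaodd_mem_omega hG hdet ⟨g, hg⟩ n hodd h1
  exact ⟨⟨g, hg⟩, h3, rfl⟩

/-- OC-DET : determinants of isometries -/
theorem det_isometry (h2 : (2 : F) ≠ 0) (Q : (ι → F) → F) (hQ : Cfsg.Geo.IsNondegenerateQuadraticForm Q)
    (g : GL ι F) (hg : g ∈ Cfsg.isometryGroup F Q) :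
    (g : Matrix ι ι F).det = 1 ∨ (g : Matrix ι ι F).det = -1 := by
  obtain ⟨G, hG, hdet⟩ := oddo_exists_gram h2 Q hQ
  have hpres : ∀ v : ι → F, Q ((g : Matrix ι ι F) *ᵥ v) = Q v := fun v => hg v 0
  have hpol : ∀ x y : ι → F, QuadraticMap.polar Q ((g : Matrix ι ι F) *ᵥ x) ((g : Matrix ι ι F) *ᵥ y) =
      QuadraticMap.polar Q x y := by
    intro x y
    unfold QuadraticMap.polar
    rw [← Matrix.mulVec_add, hpres, hpres, hpres]
  have hmat : (g : Matrix ι ι F)ᵀ * G * (g : Matrix ι ι F) = G := by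
    apply Matrix.toBilin'.injective
    rw [← Matrix.toBilin'_comp]
    refine LinearMap.ext₂ fun x y => ?_
    rw [LinearMap.BilinForm.comp_apply, Matrix.toLin'_apply, Matrix.toLin'_apply, ← hG.polar_eq,
      ← hG.polar_eq, hpol]
  have hd := congrArg Matrix.det hmat
  rw [Matrix.det_mul, Matrix.det_mul, Matrix.det_transpose] at hd
  have h3 : ((g : Matrix ι ι F).det * (g : Matrix ι ι F).det - 1) * G.det = 0 := by
    linear_combination hd
  rcases mul_eq_zero.1 h3 with h | h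
  · have h4 : ((g : Matrix ι ι F).det - 1) * ((g : Matrix ι ι F).det + 1) = 0 := by
      linear_combination h
    rcases mul_eq_zero.1 h4 with h5 | h5
    · left
      exact sub_eq_zero.1 h5
    · right
      exact eq_neg_of_add_eq_zero_left h5
  · exact absurd h hdet

theorem det_eq_one_of_mem_omegaGL (Q : (ι → F) → F) (g : GL ι F) (hg : g ∈ Cfsg.Geo.omegaGL Q) :
    (g : Matrix ι ι F).det = 1 := by
  obtain ⟨y, hy, rfl⟩ := hg
  -- the determinant hom on the isometry group kills the commutator subgroup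
  let φ : ↥(Cfsg.isometryGroup F Q) →* Fˣ :=
    (Matrix.GeneralLinearGroup.det).comp (Cfsg.isometryGroup F Q).subtype
  have hker : commutator ↥(Cfsg.isometryGroup F Q) ≤ φ.ker := by
    rw [commutator_def, Subgroup.commutator_le]
    intro a _ b _
    rw [MonoidHom.mem_ker, map_commutatorElement]
    exact commutatorElement_eq_one_iff_commute.2 (Commute.all _ _)
  have h1 : φ y = 1 := hker hy
  have h2 : ((φ y : Fˣ) : F) = 1 := by rw [h1]; rfl
  exact h2

end Cfsg.Agent.Lib.Helper44.Oc
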