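import Mathlib
import Cfsg.Prelude.Def_GeometricClasses
import Cfsg.Agent.Lib.Helper44.OcDefs
import Cfsg.Agent.Lib.Helper44.OcIdbDefs
import Cfsg.Agent.Lib.Helper37.ParabolicBridge

/-! # Oc hive (helper44, S5977 / S5978), backup route "Idb", leaf IDB-FR (helper53): frames for `(Q, J)`,
`J` self-adjoint with `J² = δ` a nonsquare. -/

set_option autoImplicit false
open Matrix

namespace Cfsg.Agent.Lib.Helper44.Oc

universe v u

/-- abstract version: induction over the type -/
theorem idbfr_abs {F : Type v} [Field F] (h2 : (2 : F) ≠ 0) (δ : F) (hδ : ¬ IsSquare δ) :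
    ∀ (n : ℕ) (V : Type u) [AddCommGroup V] [Module F V] [FiniteDimensional F V]
      (B : LinearMap.BilinForm F V) (_ : B.Nondegenerate) (_ : ∀ a b, B a b = B b a)
      (f : V →ₗ[F] V) (_ : ∀ a b, B (f a) b = B a (f b)) (_ : ∀ a, f (f a) = δ • a),
      Module.finrank F V = n →
      ∃ (m : ℕ) (w : Fin m → V), 2 * m = n ∧ (∀ j, B (w j) (w j) ≠ 0) ∧
        (∀ j k, j ≠ k → B (w j) (w k) = 0) ∧ (∀ j k, j ≠ k → B (f (w j)) (w k) = 0) := by
  intro n
  induction n using Nat.strong_induction_on with
  | _ n ih =>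
  intro V _ _ _ B hB hs f hf hff hn
  by_cases hn0 : n = 0
  · subst hn0
    exact ⟨0, Fin.elim0, rfl, fun j => j.elim0, fun j => j.elim0, fun j => j.elim0⟩
  -- a vector of nonzero norm
  obtain ⟨v, hv⟩ : ∃ v : V, B v v ≠ 0 := by
    by_contra hcon
    push Not at hcon
    have hall : ∀ a b : V, B a b = 0 := by
      intro a b
      have h1 := hcon (a + b)
      simp only [map_add, LinearMap.add_apply, hcon a, hcon b, zero_add, add_zero] at h1
      rw [hs b a] at h1
      have h3 : (2 : F) * B a b = 0 := by linear_combination h1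
      rcases mul_eq_zero.1 h3 with h | h
      · exact absurd h h2
      · exact h
    have hzero : ∀ a : V, a = 0 := fun a => hB.1 a (fun b => hall a b)
    have : Module.finrank F V = 0 := by
      have hsub : Subsingleton V := ⟨fun a b => by rw [hzero a, hzero b]⟩
      exact Module.finrank_zero_of_subsingleton
    omega
  -- the Gram matrix of the plane
  obtain ⟨a, ha⟩ : ∃ a, a = B v v := ⟨_, rfl⟩
  obtain ⟨b, hb⟩ : ∃ b, b = B v (f v) := ⟨_, rfl⟩
  have ha0 : a ≠ 0 := by rw [ha]; exact hv
  have hfvv : B (f v) v = b := by rw [hb, hs]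
  have hfvfv : B (f v) (f v) = δ * a := by
    rw [hf, hff, map_smul, smul_eq_mul, ha]
  have hdet : δ * a * a - b * b ≠ 0 := by
    intro h
    apply hδ
    refine ⟨b / a, ?_⟩
    field_simp
    linear_combination h
  have hrefl : B.IsRefl := fun x y h => by rw [hs]; exact h
  -- the two linear equations
  have hsolve : ∀ s t : F, s * a + t * b = 0 → s * b + t * (δ * a) = 0 → s = 0 ∧ t = 0 := by
    intro s t h1 h3
    constructor
    · have : s * (δ * a * a - b * b) = 0 := by linear_combination (δ * a) * h1 - b * h3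
      rcases mul_eq_zero.1 this with h | h
      · exact h
      · exact absurd h hdet
    · have : t * (δ * a * a - b * b) = 0 := by linear_combination a * h3 - b * h1
      rcases mul_eq_zero.1 this with h | h
      · exact h
      · exact absurd h hdet
  -- the plane
  set p : Fin 2 → V := ![v, f v] with hp
  have hpli : LinearIndependent F p := by
    rw [hp, LinearIndependent.pair_iff]
    intro s t hst
    have h1 := congrArg (fun z => B v z) hst
    have h3 := congrArg (fun z => B (f v) z) hst
    simp only [map_add, map_smul, smul_eq_mul, map_zero, ← ha, ← hb, hfvv, hfvfv] at h1 h3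
    exact hsolve s t h1 h3
  set P : Submodule F V := Submodule.span F (Set.range p) with hP
  have hPfin : Module.finrank F P = 2 := by
    rw [hP, finrank_span_eq_card hpli, Fintype.card_fin]
  set V' : Submodule F V := B.orthogonal P with hV'
  have hmem : ∀ c : V, c ∈ V' ↔ B v c = 0 ∧ B (f v) c = 0 := by
    intro c
    rw [hV', LinearMap.BilinForm.mem_orthogonal_iff]
    constructor
    · intro h
      exact ⟨h v (Submodule.subset_span ⟨0, rfl⟩), h (f v) (Submodule.subset_span ⟨1, rfl⟩)⟩
    · rintro ⟨h1, h3⟩ c' hc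
      induction hc using Submodule.span_induction with
      | mem c' hc =>
        obtain ⟨i, rfl⟩ := hc
        fin_cases i
        · exact h1
        · exact h3
      | zero => simp
      | add c' d _ _ hc hd => rw [map_add, LinearMap.add_apply, hc, hd, add_zero]
      | smul t c' _ hc => rw [map_smul, LinearMap.smul_apply, hc, smul_zero]
  have hV'fin : Module.finrank F V' = n - 2 := by
    rw [hV', LinearMap.BilinForm.finrank_orthogonal hB, hPfin, hn]
  have hn2 : 2 ≤ n := by
    have := Submodule.finrank_le P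
    omega
  -- nondegeneracy of the restriction
  have hdisj : Disjoint P (B.orthogonal P) := by
    rw [Submodule.disjoint_def]
    intro c hcP hcP'
    have hc' := (hmem c).1 hcP'
    rw [hP] at hcP
    obtain ⟨t, rfl⟩ := (Submodule.mem_span_range_iff_exists_fun F).1 hcP
    rw [Fin.sum_univ_two] at hc' ⊢
    have e0 : p 0 = v := rfl
    have e1 : p 1 = f v := rfl
    rw [e0, e1] at hc' ⊢
    obtain ⟨h1, h3⟩ := hc'
    simp only [map_add, map_smul, smul_eq_mul, ← ha, ← hb, hfvv, hfvfv] at h1 h3
    obtain ⟨ht0, ht1⟩ := hsolve (t 0) (t 1) h1 h3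
    rw [ht0, ht1, zero_smul, zero_smul, add_zero]
  have hcompl : IsCompl P (B.orthogonal P) :=
    (LinearMap.BilinForm.isCompl_orthogonal_iff_disjoint hrefl).2 hdisj
  have hB' : (B.restrict V').Nondegenerate := by
    rw [LinearMap.BilinForm.restrict_nondegenerate_iff_isCompl_orthogonal hrefl, hV',
      LinearMap.BilinForm.orthogonal_orthogonal hB hrefl]
    exact hcompl.symm
  -- invariance
  have hinv : ∀ c ∈ V', f c ∈ V' := by
    intro c hc
    obtain ⟨h1, h3⟩ := (hmem c).1 hc
    rw [hmem]
    constructor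
    · rw [← hf]
      exact h3
    · rw [← hf, hff, map_smul, LinearMap.smul_apply, h1, smul_zero]
  set f' : V' →ₗ[F] V' := f.restrict hinv with hf'
  obtain ⟨m', w', hm', hw1, hw2, hw3⟩ := ih (n - 2) (by omega) V' (B.restrict V') hB'
    (fun x y => hs x y) f' (fun x y => hf x y)
    (fun x => Subtype.ext (by
      show f (f (x : V)) = δ • (x : V)
      exact hff x)) hV'fin
  refine ⟨m' + 1, Fin.cons v (fun j => (w' j : V)), by omega, ?_, ?_, ?_⟩
  · intro j
    refine Fin.cases ?_ (fun j => ?_) j
    · exact hv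
    · exact hw1 j
  · intro j k
    refine Fin.cases ?_ (fun j => ?_) j <;> refine Fin.cases ?_ (fun k => ?_) k
    · intro h
      exact absurd rfl h
    · intro _
      exact ((hmem _).1 (w' k).2).1
    · intro _
      show B (w' j : V) v = 0
      rw [hs]
      exact ((hmem _).1 (w' j).2).1
    · intro h
      exact hw2 j k (fun e => h (by rw [e]))
  · intro j k
    refine Fin.cases ?_ (fun j => ?_) j <;> refine Fin.cases ?_ (fun k => ?_) k
    · intro h
      exact absurd rfl h
    · intro _
      exact ((hmem _).1 (w' k).2).2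
    · intro _
      show B (f (w' j : V)) v = 0
      rw [hf, hs]
      exact ((hmem _).1 (w' j).2).2
    · intro h
      exact hw3 j k (fun e => h (by rw [e]))

variable {F : Type v} [Field F] {ι : Type} [Fintype ι] [DecidableEq ι]

/-- IDB-FR : frames -/
theorem idb_frame (h2 : (2 : F) ≠ 0) (Q : (ι → F) → F) (hQ : Cfsg.Geo.IsNondegenerateQuadraticForm Q)
    (δ : F) (hδ : ¬ IsSquare δ) (J : Matrix ι ι F) (hJ : IsJ Q δ J) (d : ℕ) (hcard : Fintype.card ι = 2 * d) :
    ∃ v : Fin d → (ι → F),
      (∀ j k, j ≠ k → QuadraticMap.polar Q (v j) (v k) = 0) ∧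
      (∀ j k, j ≠ k → QuadraticMap.polar Q (J *ᵥ v j) (v k) = 0) ∧
      (∀ j, Q (v j) ≠ 0 ∨ QuadraticMap.polar Q (J *ᵥ v j) (v j) ≠ 0) := by
  set Q' : QuadraticForm F (ι → F) := Cfsg.Agent.Lib.Helper37.toQF Q hQ with hQ'def
  have hQ' : (QuadraticMap.polarBilin Q').Nondegenerate := Cfsg.Agent.Lib.Helper37.toQF_nondeg Q hQ
  set B : LinearMap.BilinForm F (ι → F) := QuadraticMap.polarBilin Q' with hBdef
  have hBap : ∀ a c : ι → F, B a c = QuadraticMap.polar Q a c := fun a c => rfl
  set f : (ι → F) →ₗ[F] (ι → F) := Matrix.toLin' J with hfdef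
  have hfap : ∀ a : ι → F, f a = J *ᵥ a := fun a => Matrix.toLin'_apply _ _
  have hf : ∀ a c : ι → F, B (f a) c = B a (f c) := by
    intro a c
    rw [hBap, hBap, hfap, hfap]
    exact hJ.2 a c
  have hff : ∀ a : ι → F, f (f a) = δ • a := by
    intro a
    rw [hfap, hfap, Matrix.mulVec_mulVec, hJ.1, Matrix.smul_mulVec, Matrix.one_mulVec]
  have hs : ∀ a c : ι → F, B a c = B c a := by
    intro a c
    rw [hBap, hBap, QuadraticMap.polar_comm]
  have hfin : Module.finrank F (ι → F) = 2 * d := by
    rw [Module.finrank_fintype_fun_eq_card, hcard]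
  obtain ⟨m, w, hm, hw1, hw2, hw3⟩ := idbfr_abs h2 δ hδ (2 * d) (ι → F) B hQ' hs f hf hff hfin
  obtain rfl : m = d := by omega
  refine ⟨w, ?_, ?_, ?_⟩
  · intro j k hjk
    rw [← hBap]
    exact hw2 j k hjk
  · intro j k hjk
    rw [← hBap, ← hfap]
    exact hw3 j k hjk
  · intro j
    left
    intro h0
    apply hw1 j
    rw [hBap]
    have : QuadraticMap.polar (⇑Q') (w j) (w j) = 2 • Q' (w j) := QuadraticMap.polar_self Q' (w j)
    have h3 : Q' (w j) = 0 := h0
    rw [h3, smul_zero] at this
    exact this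

end Cfsg.Agent.Lib.Helper44.Oc
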