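import Mathlib
import Cfsg.Prelude.Def_GeometricClasses
import Cfsg.Agent.Lib.Helper44.OcDefs
import Cfsg.Agent.Lib.Helper8.Eichler2
import Cfsg.Agent.Lib.Helper37.ParabolicBridge
import Cfsg.Agent.Lib.Helper43.QForm

/-! # Oc hive (helper44, S5977 / S5978), leaf OC-TESTP (helper53): a unipotent element `x ∈ Ω(Q)` of order `p`
with `rank (x - 1)² = 1` (an Eichler / Siegel transformation `E(e, w)`, `e` singular, `w ⊥ e` nonsingular). -/

set_option autoImplicit false
open scoped MatrixGroups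
open Matrix Polynomial

namespace Cfsg.Agent.Lib.Helper44.Oc

universe v

variable {F : Type v} [Field F] {ι : Type} [Fintype ι] [DecidableEq ι]

open Cfsg.Agent.Lib.Helper8 in
/-- powers of an Eichler transformation -/
theorem testp_pow (Q : QuadraticForm F (ι → F)) (hQ : (QuadraticMap.polarBilin Q).Nondegenerate)
    (u w : ι → F) (hu : Q u = 0) (huw : QuadraticMap.polar (⇑Q) u w = 0) (n : ℕ) :
    ∃ h : QuadraticMap.polar (⇑Q) u (n • w) = 0,
      (eichlerElt Q hQ u w hu huw) ^ n = eichlerElt Q hQ u (n • w) hu h := by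
  induction n with
  | zero =>
    refine ⟨by simp, ?_⟩
    rw [pow_zero, eichlerElt_congr Q hQ u (0 • w) u 0 hu _ hu (by simp) rfl (zero_smul _ _),
      eichlerElt_zero]
  | succ n ih =>
    obtain ⟨h, ih⟩ := ih
    have h' : QuadraticMap.polar (⇑Q) u ((n + 1) • w) = 0 := by
      rw [succ_nsmul, QuadraticMap.polar_add_right, h, huw, add_zero]
    refine ⟨h', ?_⟩
    rw [pow_succ, ih, eichlerElt_mul]
    exact eichlerElt_congr Q hQ _ _ _ _ _ _ _ _ rfl (succ_nsmul w n).symm

open Cfsg.Agent.Lib.Helper8 in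
/-- OC-TESTP -/
theorem exists_test_p [Fintype F] {p : ℕ} [Fact p.Prime] [CharP F p] (h2 : (2 : F) ≠ 0) (d : ℕ) (hd : 4 ≤ d)
    (hcard : Fintype.card ι = 2 * d) (Q : (ι → F) → F) (hQ : Cfsg.Geo.IsNondegenerateQuadraticForm Q) :
    ∃ x : GL ι F, x ∈ Cfsg.Geo.omegaGL Q ∧ x ^ p = 1 ∧
      (∀ z : F, (x : Matrix ι ι F) ≠ z • (1 : Matrix ι ι F)) ∧
      (((x : Matrix ι ι F) - 1) * ((x : Matrix ι ι F) - 1)).rank = 1 := by
  set Q' : QuadraticForm F (ι → F) := Cfsg.Agent.Lib.Helper37.toQF Q hQ with hQ'def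
  have hQ' : (QuadraticMap.polarBilin Q').Nondegenerate := Cfsg.Agent.Lib.Helper37.toQF_nondeg Q hQ
  have hfr : Module.finrank F (ι → F) = 2 * d := by
    rw [Module.finrank_fintype_fun_eq_card, hcard]
  obtain ⟨e, he0, he⟩ := Cfsg.Agent.Lib.Helper43.exists_singular_odd h2 Q' hQ' (by omega)
  obtain ⟨w, hw, hwe⟩ := exists_nonsingular_orth_family Q' hQ' (k := 1) (fun _ => e) (by omega)
  have hwe' : QuadraticMap.polar (⇑Q') w e = 0 := hwe 0
  have hew : QuadraticMap.polar (⇑Q') e w = 0 := by rw [QuadraticMap.polar_comm]; exact hwe'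
  have hee : QuadraticMap.polar (⇑Q') e e = 0 := by rw [QuadraticMap.polar_self, he, smul_zero]
  have hww : QuadraticMap.polar (⇑Q') w w = 2 * Q' w := by
    rw [QuadraticMap.polar_self, two_smul, two_mul]
  set x : ↥(Cfsg.isometryGroup F (⇑Q')) := eichlerElt Q' hQ' e w he hew with hxdef
  have hxΩ : x ∈ commutator ↥(Cfsg.isometryGroup F (⇑Q')) := by
    rw [omega_eq_closure_longRoot Q' hQ' (by omega) (fun h => absurd h h2)]
    exact eichlerElt_mem_closure_longRoot Q' hQ' (by omega) (fun h => absurd h h2) e w he hew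
  have hxp : x ^ p = 1 := by
    obtain ⟨h, hp⟩ := testp_pow Q' hQ' e w he hew p
    have hpw : p • w = 0 := by
      rw [← Nat.cast_smul_eq_nsmul F, CharP.cast_eq_zero, zero_smul]
    rw [hp, eichlerElt_congr Q' hQ' e (p • w) e 0 he h he (by simp) rfl hpw, eichlerElt_zero]
  -- the matrix `x - 1`
  have hM : ∀ v : ι → F, ((((x : ↥(Cfsg.isometryGroup F (⇑Q'))) : GL ι F) : Matrix ι ι F) - 1) *ᵥ v =
      QuadraticMap.polar (⇑Q') e v • w - QuadraticMap.polar (⇑Q') w v • e
        - (Q' w * QuadraticMap.polar (⇑Q') e v) • e := by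
    intro v
    rw [Matrix.sub_mulVec, Matrix.one_mulVec, hxdef, eichlerElt_mulVec]
    abel
  have hMM : ∀ v : ι → F,
      (((((x : ↥(Cfsg.isometryGroup F (⇑Q'))) : GL ι F) : Matrix ι ι F) - 1) *
        ((((x : ↥(Cfsg.isometryGroup F (⇑Q'))) : GL ι F) : Matrix ι ι F) - 1)) *ᵥ v =
      (-(2 * Q' w * QuadraticMap.polar (⇑Q') e v)) • e := by
    intro v
    rw [← Matrix.mulVec_mulVec, hM v, hM]
    simp only [QuadraticMap.polar_sub_right, QuadraticMap.polar_smul_right, hew, hee, hwe', hww,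
      smul_eq_mul, mul_zero, sub_zero, zero_smul, zero_sub]
    module
  -- a vector not orthogonal to `e`
  obtain ⟨f, hf⟩ : ∃ f : ι → F, QuadraticMap.polar (⇑Q') e f ≠ 0 := by
    by_contra hcon
    push Not at hcon
    exact he0 (hQ'.1 e (fun y => by
      rw [QuadraticMap.polarBilin_apply_apply]
      exact hcon y))
  have hQw : Q' w ≠ 0 := hw
  refine ⟨((x : ↥(Cfsg.isometryGroup F (⇑Q'))) : GL ι F), ⟨x, hxΩ, rfl⟩, ?_, ?_, ?_⟩
  · rw [← Subgroup.coe_pow, hxp, Subgroup.coe_one]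
  · intro z hz
    have h1 := hMM e
    rw [hz, hee, mul_zero, neg_zero, zero_smul] at h1
    have h3 : ((z • (1 : Matrix ι ι F) - 1) * (z • (1 : Matrix ι ι F) - 1)) =
        ((z - 1) * (z - 1)) • (1 : Matrix ι ι F) := by
      rw [show z • (1 : Matrix ι ι F) - 1 = (z - 1) • (1 : Matrix ι ι F) by
        rw [sub_smul, one_smul], Matrix.smul_mul, Matrix.one_mul, smul_smul]
    rw [h3, Matrix.smul_mulVec, Matrix.one_mulVec] at h1
    have hz0 : (z - 1) * (z - 1) = 0 := by
      rcases smul_eq_zero.1 h1 with h | h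
      · exact h
      · exact absurd h he0
    have h4 := hMM f
    rw [hz, h3, hz0, zero_smul, Matrix.zero_mulVec] at h4
    rcases smul_eq_zero.1 h4.symm with h | h
    · rw [neg_eq_zero] at h
      rcases mul_eq_zero.1 h with h | h
      · rcases mul_eq_zero.1 h with h | h
        · exact h2 h
        · exact hQw h
      · exact hf h
    · exact he0 h
  · have hrange : LinearMap.range
        (((((x : ↥(Cfsg.isometryGroup F (⇑Q'))) : GL ι F) : Matrix ι ι F) - 1) *
          ((((x : ↥(Cfsg.isometryGroup F (⇑Q'))) : GL ι F) : Matrix ι ι F) - 1)).mulVecLin =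
        Submodule.span F {e} := by
      apply le_antisymm
      · rintro y ⟨v, rfl⟩
        rw [Matrix.mulVecLin_apply, hMM]
        exact Submodule.smul_mem _ _ (Submodule.mem_span_singleton_self e)
      · rw [Submodule.span_singleton_le_iff_mem]
        have hc : -(2 * Q' w * QuadraticMap.polar (⇑Q') e f) ≠ 0 :=
          neg_ne_zero.2 (mul_ne_zero (mul_ne_zero h2 hQw) hf)
        refine ⟨(-(2 * Q' w * QuadraticMap.polar (⇑Q') e f))⁻¹ • f, ?_⟩
        rw [Matrix.mulVecLin_apply, Matrix.mulVec_smul, hMM, smul_smul, inv_mul_cancel₀ hc, one_smul]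
    unfold Matrix.rank
    rw [hrange, finrank_span_singleton he0]

end Cfsg.Agent.Lib.Helper44.Oc
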