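import Mathlib
import Cfsg.Prelude.Def_GeometricClasses
import Cfsg.Agent.Lib.Helper44.UfDefs

set_option autoImplicit false
open scoped MatrixGroups
open Matrix Polynomial

/-! S5981 Of hive (helper44), leaf OF-CARDSL (helper53). -/

namespace Cfsg.Agent.Lib.Helper44.Of

universe v

variable {F : Type v} [Field F]

open Cfsg.Agent.Lib.Helper44.Uf

/-- the determinant `GL_n(F) → Fˣ` is onto for `n ≥ 1` -/
theorem cardsl_det_surjective {n : ℕ} (hn : 1 ≤ n) :
    Function.Surjective (Matrix.GeneralLinearGroup.det : GL (Fin n) F →* Fˣ) := by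
  classical
  intro u
  let D : Matrix (Fin n) (Fin n) F := Matrix.diagonal (fun i => if (i : ℕ) = 0 then (u : F) else 1)
  have hD : D.det = (u : F) := by
    rw [Matrix.det_diagonal]
    rw [Finset.prod_eq_single (⟨0, hn⟩ : Fin n)]
    · simp
    · intro b _ hb
      have : (b : ℕ) ≠ 0 := fun h => hb (Fin.ext h)
      simp [this]
    · intro h; exact absurd (Finset.mem_univ _) h
  refine ⟨Matrix.GeneralLinearGroup.mkOfDetNeZero D (by rw [hD]; exact u.ne_zero), ?_⟩
  apply Units.ext
  simp [hD]

/-- OF-CARDSL : (`Matrix.card_GL_field`, `Cfsg.Agent.Lib.Helper38.card_SL_mul`) -/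
theorem card_specialLinear_mul [Fintype F] {n : ℕ} (hn : 1 ≤ n) :
    Nat.card (Cfsg.Geo.specialLinear (Fin n) F) * (Fintype.card F - 1)
      = ∏ i ∈ Finset.range n, (Fintype.card F ^ n - Fintype.card F ^ i) := by
  classical
  have h1 : Nat.card (Cfsg.Geo.specialLinear (Fin n) F)
      * (Cfsg.Geo.specialLinear (Fin n) F).index = Nat.card (GL (Fin n) F) :=
    Subgroup.card_mul_index _
  have h2 : (Cfsg.Geo.specialLinear (Fin n) F).index = Fintype.card F - 1 := by
    unfold Cfsg.Geo.specialLinear
    rw [Subgroup.index_ker, MonoidHom.range_eq_top.2 (cardsl_det_surjective hn),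
      Subgroup.card_top, Nat.card_eq_fintype_card, Fintype.card_units]
  rw [h2] at h1
  rw [h1, Matrix.card_GL_field,
    Fin.prod_univ_eq_prod_range (fun i => Fintype.card F ^ n - Fintype.card F ^ i) n]

end Cfsg.Agent.Lib.Helper44.Of
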