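import Mathlib
import Cfsg.Prelude.Def_GeometricClasses
import Cfsg.Agent.Lib.Helper44.UfDefs

set_option autoImplicit false
open scoped MatrixGroups
open Matrix Polynomial

/-! S5981 Of hive (helper44), leaf OF-DUAL (helper53).  Reusable aux: `dual_exists_gram` (an invertible Gram matrix of the
polar form) and `dual_gram_conj` (`gᵀ G g = c G` for a similitude with multiplier `c`). -/

namespace Cfsg.Agent.Lib.Helper44.Of

universe v

variable {F : Type v} [Field F]

open Cfsg.Agent.Lib.Helper44.Uf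

/-- an invertible Gram matrix of the polar form of a nondegenerate quadratic form -/
theorem dual_exists_gram {n : ℕ} (Q : (Fin n → F) → F) (hQ : Cfsg.Geo.IsNondegenerateQuadraticForm Q) :
    ∃ G : Matrix (Fin n) (Fin n) F, IsUnit G.det ∧
      ∀ x y : Fin n → F, QuadraticMap.polar Q x y = x ⬝ᵥ (G *ᵥ y) := by
  classical
  let B : LinearMap.BilinForm F (Fin n → F) :=
    LinearMap.mk₂ F (QuadraticMap.polar Q) hQ.polar_bilinear.add_left
      (fun c m k => by rw [smul_eq_mul]; exact hQ.polar_bilinear.smul_left c m k)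
      hQ.polar_bilinear.add_right
      (fun c m k => by rw [smul_eq_mul]; exact hQ.polar_bilinear.smul_right c m k)
  have hB : ∀ x y, B x y = QuadraticMap.polar Q x y := fun x y => rfl
  have hG : ∀ x y : Fin n → F,
      QuadraticMap.polar Q x y = x ⬝ᵥ (LinearMap.BilinForm.toMatrix' B *ᵥ y) := by
    intro x y
    rw [← hB, ← Matrix.toBilin'_apply', Matrix.toBilin'_toMatrix']
  refine ⟨LinearMap.BilinForm.toMatrix' B, ?_, hG⟩
  rw [isUnit_iff_ne_zero]
  intro hdet
  obtain ⟨w, hw0, hw⟩ := Matrix.exists_mulVec_eq_zero_iff.2 hdet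
  obtain ⟨⟨x, hx⟩, -⟩ := hQ.nondegenerate w hw0
  apply hx
  rw [hG, hw, dotProduct_zero]

/-- a similitude with multiplier `c` satisfies `gᵀ G g = c G` -/
theorem dual_gram_conj {n : ℕ} (Q : (Fin n → F) → F) (G : Matrix (Fin n) (Fin n) F)
    (hG : ∀ x y : Fin n → F, QuadraticMap.polar Q x y = x ⬝ᵥ (G *ᵥ y))
    (g : Matrix (Fin n) (Fin n) F) (c : F) (hg : ∀ v, Q (g *ᵥ v) = c * Q v) :
    gᵀ * G * g = c • G := by
  classical
  have hpol : ∀ x y, QuadraticMap.polar Q (g *ᵥ x) (g *ᵥ y) = c * QuadraticMap.polar Q x y := by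
    intro x y
    unfold QuadraticMap.polar
    rw [← Matrix.mulVec_add, hg, hg, hg]
    ring
  ext i j
  have h := hpol (Pi.single i 1) (Pi.single j 1)
  rw [hG, hG] at h
  have e1 : (g *ᵥ Pi.single i 1) ⬝ᵥ (G *ᵥ (g *ᵥ Pi.single j 1))
      = Pi.single i 1 ⬝ᵥ ((gᵀ * G * g) *ᵥ Pi.single j 1) := by
    rw [← Matrix.mulVec_mulVec, ← Matrix.mulVec_mulVec,
      Matrix.dotProduct_mulVec (Pi.single i 1) gᵀ, Matrix.vecMul_transpose]
  rw [e1, single_one_dotProduct, single_one_dotProduct, Matrix.mulVec_single_one,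
    Matrix.mulVec_single_one] at h
  simpa using h

/-- `reverse g` evaluated at `u` is `u ^ natDegree g * g(u⁻¹)` -/
theorem dual_aeval_reverse {n : ℕ} (u ui : Matrix (Fin n) (Fin n) F) (hu : u * ui = 1) (g : F[X]) :
    aeval u g.reverse = u ^ g.natDegree * aeval ui g := by
  classical
  set N := g.natDegree with hN
  have hcomm : Commute u ui := by
    have : ui * u = 1 := mul_eq_one_comm.1 hu
    rw [Commute, SemiconjBy, hu, this]
  rw [Polynomial.aeval_eq_sum_range' (lt_of_le_of_lt g.reverse_natDegree_le (Nat.lt_succ_self _)),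
    Polynomial.aeval_eq_sum_range, Finset.mul_sum, ← Finset.sum_range_reflect]
  apply Finset.sum_congr rfl
  intro j hj
  rw [Finset.mem_range] at hj
  have hjN : N + 1 - 1 - j ≤ N := by omega
  rw [Polynomial.coeff_reverse, Polynomial.revAt_le hjN, Matrix.mul_smul]
  have e : N - (N + 1 - 1 - j) = j := by omega
  rw [e]
  congr 1
  have e2 : N = (N + 1 - 1 - j) + j := by omega
  conv_rhs => rw [e2, pow_add, mul_assoc, ← hcomm.mul_pow j]
  rw [hu, one_pow, mul_one]

/-- OF-DUAL : for an isometry `u` (so `u⁻¹ = G⁻¹ uᵀ G`), `g(u⁻¹)` has the rank of `g(u)`, and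
`g(u⁻¹) u^(natDegree g) = (reverse g)(u) u^(natTrailingDegree g)` -/
theorem rank_aeval_reverse {n : ℕ} (Q : (Fin n → F) → F) (hQ : Cfsg.Geo.IsNondegenerateQuadraticForm Q)
    (u : GL (Fin n) F) (hu : ∀ v, Q ((u : Matrix (Fin n) (Fin n) F) *ᵥ v) = Q v) (g : F[X]) :
    (aeval (u : Matrix (Fin n) (Fin n) F) g).rank = (aeval (u : Matrix (Fin n) (Fin n) F) g.reverse).rank := by
  classical
  obtain ⟨G, hGu, hG⟩ := dual_exists_gram Q hQ
  set U : Matrix (Fin n) (Fin n) F := (u : Matrix (Fin n) (Fin n) F) with hU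
  set Ui : Matrix (Fin n) (Fin n) F := ((u⁻¹ : GL (Fin n) F) : Matrix (Fin n) (Fin n) F) with hUi
  have hUUi : U * Ui = 1 := by
    rw [hU, hUi, ← Units.val_mul, mul_inv_cancel, Units.val_one]
  have hconj : Uᵀ * G * U = G := by
    have := dual_gram_conj Q G hG U 1 (fun v => by rw [one_mul]; exact hu v)
    rwa [one_smul] at this
  -- `Uᵀ G = G U⁻¹`
  have hsemi : SemiconjBy G Ui Uᵀ := by
    unfold SemiconjBy
    calc G * Ui = (Uᵀ * G * U) * Ui := by rw [hconj]
      _ = Uᵀ * G * (U * Ui) := by simp only [Matrix.mul_assoc]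
      _ = Uᵀ * G := by rw [hUUi, Matrix.mul_one]
  have hsemi2 : G * aeval Ui g = aeval Uᵀ g * G := by
    rw [Polynomial.aeval_eq_sum_range, Polynomial.aeval_eq_sum_range, Finset.mul_sum, Finset.sum_mul]
    apply Finset.sum_congr rfl
    intro i _
    rw [Matrix.mul_smul, Matrix.smul_mul]
    congr 1
    exact (hsemi.pow_right i)
  have htr : aeval Uᵀ g = (aeval U g)ᵀ := by
    rw [Polynomial.aeval_eq_sum_range, Polynomial.aeval_eq_sum_range, Matrix.transpose_sum]
    apply Finset.sum_congr rfl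
    intro i _
    rw [Matrix.transpose_smul, Matrix.transpose_pow]
  have hUdet : IsUnit (U ^ g.natDegree).det := by
    rw [Matrix.det_pow]
    have : IsUnit U.det := by
      rw [isUnit_iff_ne_zero]
      intro h0
      have := congrArg Matrix.det hUUi
      rw [Matrix.det_mul, h0, zero_mul, Matrix.det_one] at this
      exact zero_ne_one this
    exact this.pow _
  rw [dual_aeval_reverse U Ui hUUi g, Matrix.rank_mul_eq_right_of_isUnit_det _ _ hUdet,
    ← Matrix.rank_mul_eq_right_of_isUnit_det G (aeval Ui g) hGu, hsemi2,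
    Matrix.rank_mul_eq_left_of_isUnit_det G _ hGu, htr, Matrix.rank_transpose]

end Cfsg.Agent.Lib.Helper44.Of
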