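import Mathlib
import Cfsg.Prelude.Def_GeometricClasses
import Cfsg.Agent.Lib.Helper44.UfDefs
import Cfsg.Agent.Lib.Helper53.OfDUAL

set_option autoImplicit false
open scoped MatrixGroups
open Matrix Polynomial

/-! S5981 Of hive (helper44), leaf OF-IDX0 (helper53). -/

namespace Cfsg.Agent.Lib.Helper44.Of

universe v

variable {F : Type v} [Field F]

open Cfsg.Agent.Lib.Helper44.Uf

/-- the determinant of an isometry of a nondegenerate quadratic form squares to `1` -/
theorem idx0_det_sq {n : ℕ} (Q : (Fin n → F) → F) (hQ : Cfsg.Geo.IsNondegenerateQuadraticForm Q)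
    (g : GL (Fin n) F) (hg : g ∈ Cfsg.isometryGroup F Q) :
    (Matrix.GeneralLinearGroup.det g) ^ 2 = 1 := by
  classical
  obtain ⟨G, hGu, hG⟩ := dual_exists_gram Q hQ
  have hiso : ∀ v, Q ((g : Matrix (Fin n) (Fin n) F) *ᵥ v) = 1 * Q v := by
    intro v
    rw [one_mul]
    exact hg v v
  have h := dual_gram_conj Q G hG (g : Matrix (Fin n) (Fin n) F) 1 hiso
  rw [one_smul] at h
  have hd := congrArg Matrix.det h
  rw [Matrix.det_mul, Matrix.det_mul, Matrix.det_transpose] at hd
  have hG0 : G.det ≠ 0 := hGu.ne_zero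
  have h2 : (g : Matrix (Fin n) (Fin n) F).det ^ 2 = 1 := by
    have : (g : Matrix (Fin n) (Fin n) F).det ^ 2 * G.det = 1 * G.det := by
      rw [one_mul]
      calc (g : Matrix (Fin n) (Fin n) F).det ^ 2 * G.det
          = (g : Matrix (Fin n) (Fin n) F).det * G.det * (g : Matrix (Fin n) (Fin n) F).det := by ring
        _ = G.det := hd
    exact mul_right_cancel₀ hG0 this
  apply Units.ext
  rw [Units.val_pow_eq_pow_val, Units.val_one]
  simpa using h2

/-- the index of the determinant-one isometries in the isometry group divides `2` -/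
theorem idx0_relIndex_dvd_two {n : ℕ} (Q : (Fin n → F) → F)
    (hQ : Cfsg.Geo.IsNondegenerateQuadraticForm Q) :
    (Cfsg.Geo.specialLinear (Fin n) F).relIndex (Cfsg.isometryGroup F Q) ∣ 2 := by
  classical
  have hker : (Cfsg.Geo.specialLinear (Fin n) F).subgroupOf (Cfsg.isometryGroup F Q)
      = ((Matrix.GeneralLinearGroup.det : GL (Fin n) F →* Fˣ).comp
          (Cfsg.isometryGroup F Q).subtype).ker := rfl
  unfold Subgroup.relIndex
  rw [hker, Subgroup.index_ker]
  have hle : ((Matrix.GeneralLinearGroup.det : GL (Fin n) F →* Fˣ).comp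
      (Cfsg.isometryGroup F Q).subtype).range ≤ Subgroup.zpowers (-1 : Fˣ) := by
    rintro _ ⟨⟨g, hg⟩, rfl⟩
    have hsq := idx0_det_sq Q hQ g hg
    have h1 : Matrix.GeneralLinearGroup.det g = 1 ∨ Matrix.GeneralLinearGroup.det g = -1 := by
      have h2 : ((Matrix.GeneralLinearGroup.det g : Fˣ) : F) ^ 2 = 1 := by
        rw [← Units.val_pow_eq_pow_val, hsq, Units.val_one]
      rcases sq_eq_one_iff.mp h2 with h | h
      · left; exact Units.ext h
      · right; apply Units.ext; rw [h]; simp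
    change Matrix.GeneralLinearGroup.det g ∈ Subgroup.zpowers (-1 : Fˣ)
    rcases h1 with h | h
    · rw [h]; exact one_mem _
    · rw [h]; exact Subgroup.mem_zpowers _
  refine dvd_trans (Subgroup.card_dvd_of_le hle) ?_
  rw [Nat.card_zpowers]
  exact orderOf_dvd_of_pow_eq_one (by simp)

/-- OF-IDX0 : `SO(Q) = O(Q) ⊓ SL ≤ H ⊓ SL` and `[O(Q) : SO(Q)] ≤ 2` (the determinant of an isometry is `± 1`) -/
theorem relIndex_mul_card_dvd [Fintype F] {n : ℕ} (Q : (Fin n → F) → F)
    (hQ : Cfsg.Geo.IsNondegenerateQuadraticForm Q) :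
    (Cfsg.Geo.quadSimilarityGroup Q).relIndex (Cfsg.Geo.specialLinear (Fin n) F)
        * Nat.card (Cfsg.isometryGroup F Q)
      ∣ 2 * Nat.card (Cfsg.Geo.specialLinear (Fin n) F) := by
  classical
  set H := Cfsg.Geo.quadSimilarityGroup Q with hH
  set SL := Cfsg.Geo.specialLinear (Fin n) F with hSL
  set O := Cfsg.isometryGroup F Q with hO
  have hOH : O ≤ H := by
    intro g hg
    refine ⟨1, fun v => ?_⟩
    rw [Units.val_one, one_mul]
    exact hg v v
  -- `|H ⊓ SL| * [SL : H ⊓ SL] = |SL|`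
  have h1 : Nat.card (H ⊓ SL : Subgroup (GL (Fin n) F)) * H.relIndex SL = Nat.card SL := by
    have := Subgroup.relIndex_mul_relIndex ⊥ (H ⊓ SL) SL bot_le inf_le_right
    rwa [Subgroup.relIndex_bot_left, Subgroup.relIndex_bot_left, Subgroup.inf_relIndex_right] at this
  -- `|O ⊓ SL| * [O : O ⊓ SL] = |O|`
  have h2 : Nat.card (O ⊓ SL : Subgroup (GL (Fin n) F)) * SL.relIndex O = Nat.card O := by
    have := Subgroup.relIndex_mul_relIndex ⊥ (O ⊓ SL) O bot_le inf_le_left
    rwa [Subgroup.relIndex_bot_left, Subgroup.relIndex_bot_left, Subgroup.inf_relIndex_left] at this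
  have h3 : Nat.card (O ⊓ SL : Subgroup (GL (Fin n) F)) ∣ Nat.card (H ⊓ SL : Subgroup (GL (Fin n) F)) :=
    Subgroup.card_dvd_of_le (inf_le_inf_right _ hOH)
  have h4 : SL.relIndex O ∣ 2 := idx0_relIndex_dvd_two Q hQ
  rw [← h2, ← h1]
  calc H.relIndex SL * (Nat.card (O ⊓ SL : Subgroup (GL (Fin n) F)) * SL.relIndex O)
      = SL.relIndex O * (Nat.card (O ⊓ SL : Subgroup (GL (Fin n) F)) * H.relIndex SL) := by ring
    _ ∣ 2 * (Nat.card (H ⊓ SL : Subgroup (GL (Fin n) F)) * H.relIndex SL) :=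
        mul_dvd_mul h4 (mul_dvd_mul_right h3 _)

end Cfsg.Agent.Lib.Helper44.Of
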