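import Mathlib
import Cfsg.Prelude.Def_GeometricClasses
import Cfsg.Agent.Lib.Helper44.UfDefs

set_option autoImplicit false
open scoped MatrixGroups
open Matrix Polynomial

/-! S5981 Of hive (helper44), leaf OF-TRANSV (helper53). -/

namespace Cfsg.Agent.Lib.Helper44.Of

universe v

variable {F : Type v} [Field F]

open Cfsg.Agent.Lib.Helper44.Uf

/-- a map `v ↦ v + φ(v) a` with `a ≠ 0`, `φ a = 0`, `φ z = 1` is not a similitude of a nondegenerate quadratic form
in odd characteristic -/
theorem transv_not_similitude (h2 : (2 : F) ≠ 0) {n : ℕ} (Q : (Fin n → F) → F)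
    (hQ : Cfsg.Geo.IsNondegenerateQuadraticForm Q) (y : Matrix (Fin n) (Fin n) F) (a : Fin n → F)
    (φ : (Fin n → F) → F) (hy : ∀ v, y *ᵥ v = v + φ v • a) (ha0 : a ≠ 0) (hφa : φ a = 0)
    (z : Fin n → F) (hz : φ z = 1) (hφz : ∀ v, φ (v + z) = φ v + 1) (c : F)
    (hc : ∀ v, Q (y *ᵥ v) = c * Q v) : False := by
  classical
  have hb := hQ.polar_bilinear
  -- the polar form is scaled by `c`
  have hBy : ∀ v v', QuadraticMap.polar Q (y *ᵥ v) (y *ᵥ v') = c * QuadraticMap.polar Q v v' := by
    intro v v'
    unfold QuadraticMap.polar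
    rw [← Matrix.mulVec_add, hc, hc, hc]
    ring
  have hya : y *ᵥ a = a := by rw [hy, hφa, zero_smul, add_zero]
  -- (***)
  have h3 : ∀ v, c * QuadraticMap.polar Q v a
      = QuadraticMap.polar Q v a + φ v * QuadraticMap.polar Q a a := by
    intro v
    have := hBy v a
    rw [hya, hy, hb.add_left, hb.smul_left] at this
    exact this.symm
  have hBaa : QuadraticMap.polar Q a a = 0 := by
    by_cases hc1 : c = 1
    · have := h3 z
      rw [hc1, hz, one_mul, one_mul] at this
      exact left_eq_add.mp this
    · have := h3 a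
      rw [hφa, zero_mul, add_zero] at this
      have h' : (c - 1) * QuadraticMap.polar Q a a = 0 := by rw [sub_mul, one_mul, this, sub_self]
      rcases mul_eq_zero.1 h' with h | h
      · exact absurd (sub_eq_zero.1 h) hc1
      · exact h
  have hQa : Q a = 0 := by
    have h4 : QuadraticMap.polar Q a a = 2 * Q a := by
      unfold QuadraticMap.polar
      have : a + a = (2 : F) • a := (two_smul F a).symm
      rw [this, hQ.smul]
      ring
    rw [h4] at hBaa
    rcases mul_eq_zero.1 hBaa with h | h
    · exact absurd h h2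
    · exact h
  have hall : ∀ v, QuadraticMap.polar Q v a = 0 := by
    by_cases hc1 : c = 1
    · -- isometry case
      have h5 : ∀ v, φ v * QuadraticMap.polar Q v a = 0 := by
        intro v
        have h6 := hc v
        rw [hc1, one_mul, hy] at h6
        have h7 : Q (v + φ v • a) = Q v + Q (φ v • a) + QuadraticMap.polar Q v (φ v • a) := by
          unfold QuadraticMap.polar
          ring
        rw [h7, hQ.smul, hQa, mul_zero, add_zero, hb.smul_right] at h6
        exact left_eq_add.mp h6.symm
      have hza : QuadraticMap.polar Q z a = 0 := by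
        have := h5 z
        rwa [hz, one_mul] at this
      intro v
      by_cases hv : φ v = 0
      · have := h5 (v + z)
        rw [hφz, hv, zero_add, one_mul, hb.add_left, hza, add_zero] at this
        exact this
      · rcases mul_eq_zero.1 (h5 v) with h | h
        · exact absurd h hv
        · exact h
    · intro v
      have := h3 v
      rw [hBaa, mul_zero, add_zero] at this
      have h' : (c - 1) * QuadraticMap.polar Q v a = 0 := by rw [sub_mul, one_mul, this, sub_self]
      rcases mul_eq_zero.1 h' with h | h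
      · exact absurd (sub_eq_zero.1 h) hc1
      · exact h
  obtain ⟨⟨x, hx⟩, -⟩ := hQ.nondegenerate a ha0
  exact hx (hall x)

/-- the action of a transvection on a vector -/
theorem transv_mulVec {n : ℕ} (i j : Fin n) (u : Fin n → F) :
    Matrix.transvection i j (1 : F) *ᵥ u = u + u j • Pi.single i (1 : F) := by
  classical
  ext k
  simp only [Matrix.transvection, Matrix.add_mulVec, Matrix.one_mulVec, Pi.add_apply, Pi.smul_apply,
    smul_eq_mul]
  congr 1
  simp only [Matrix.mulVec, dotProduct, Matrix.single_apply, Pi.single_apply]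
  by_cases hk : k = i
  · subst hk
    simp
  · have : ¬ (i = k) := fun h => hk h.symm
    simp [hk, this]

/-- powers of a transvection -/
theorem transv_pow {n : ℕ} (i j : Fin n) (hij : i ≠ j) (c : F) (k : ℕ) :
    Matrix.transvection i j c ^ k = Matrix.transvection i j ((k : F) * c) := by
  classical
  induction k with
  | zero => simp
  | succ k ih =>
    rw [pow_succ, ih, Matrix.transvection_mul_transvection_same i j hij]
    congr 1
    push_cast
    ring

/-- OF-TRANSV : a transvection `y = 1 + φ(·) w` is not a similitude of a nondegenerate quadratic form in dimension `≥ 3`,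
odd characteristic (on the hyperplane `ker φ`, of dimension `≥ 2`, `Q` is not identically zero, so the multiplier is `1`;
then `φ = a B(·, w)`, `a ≠ 0`, and `B(w, w) = -2 / a ≠ 0`, so `φ w ≠ 0`, contradiction) -/
theorem exists_transvection_not_mem (h2 : (2 : F) ≠ 0) {n : ℕ} (hn : 3 ≤ n)
    (Q : (Fin n → F) → F) (hQ : Cfsg.Geo.IsNondegenerateQuadraticForm Q) (p : ℕ) [Fact p.Prime] [CharP F p] :
    ∃ x : GL (Fin n) F, x ∈ Cfsg.Geo.specialLinear (Fin n) F ∧ x ^ p = 1 ∧
      (∀ z : F, (x : Matrix (Fin n) (Fin n) F) ≠ z • (1 : Matrix (Fin n) (Fin n) F)) ∧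
      ∀ R : GL (Fin n) F, R * x * R⁻¹ ∉ Cfsg.Geo.quadSimilarityGroup Q := by
  classical
  set i0 : Fin n := ⟨0, by omega⟩ with hi0
  set i1 : Fin n := ⟨1, by omega⟩ with hi1
  have h01 : i0 ≠ i1 := by
    intro h
    have := congrArg Fin.val h
    simp [hi0, hi1] at this
  set T : Matrix (Fin n) (Fin n) F := Matrix.transvection i0 i1 (1 : F) with hT
  have hdet : T.det = 1 := Matrix.det_transvection_of_ne i0 i1 h01 1
  set x : GL (Fin n) F := Matrix.GeneralLinearGroup.mkOfDetNeZero T (by rw [hdet]; exact one_ne_zero)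
    with hx
  have hxval : (x : Matrix (Fin n) (Fin n) F) = T := rfl
  refine ⟨x, ?_, ?_, ?_, ?_⟩
  · change Matrix.GeneralLinearGroup.det x = 1
    apply Units.ext
    rw [Matrix.GeneralLinearGroup.val_det_apply, hxval, hdet, Units.val_one]
  · apply Units.ext
    rw [Units.val_pow_eq_pow_val, hxval, hT, transv_pow i0 i1 h01, CharP.cast_eq_zero, zero_mul,
      Matrix.transvection_zero, Units.val_one]
  · intro z hz
    rw [hxval] at hz
    have := congrFun (congrFun hz i0) i1
    simp [hT, Matrix.transvection, h01] at this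
  · intro R hR
    obtain ⟨c, hc⟩ := hR
    set Rm : Matrix (Fin n) (Fin n) F := (R : Matrix (Fin n) (Fin n) F) with hRm
    set Ri : Matrix (Fin n) (Fin n) F := ((R⁻¹ : GL (Fin n) F) : Matrix (Fin n) (Fin n) F) with hRi
    have hRiR : Ri * Rm = 1 := by
      rw [hRi, hRm, ← Units.val_mul, inv_mul_cancel, Units.val_one]
    have hRRi : Rm * Ri = 1 := by
      rw [hRi, hRm, ← Units.val_mul, mul_inv_cancel, Units.val_one]
    have hyval : ((R * x * R⁻¹ : GL (Fin n) F) : Matrix (Fin n) (Fin n) F) = Rm * T * Ri := by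
      rw [Units.val_mul, Units.val_mul, hxval]
    rw [hyval] at hc
    set e0 : Fin n → F := Pi.single i0 1 with he0
    set e1 : Fin n → F := Pi.single i1 1 with he1
    have hRi_R : ∀ u, Ri *ᵥ (Rm *ᵥ u) = u := by
      intro u
      rw [Matrix.mulVec_mulVec, hRiR, Matrix.one_mulVec]
    have hR_Ri : ∀ u, Rm *ᵥ (Ri *ᵥ u) = u := by
      intro u
      rw [Matrix.mulVec_mulVec, hRRi, Matrix.one_mulVec]
    refine transv_not_similitude h2 Q hQ (Rm * T * Ri) (Rm *ᵥ e0) (fun v => (Ri *ᵥ v) i1) ?_ ?_ ?_
      (Rm *ᵥ e1) ?_ ?_ (c : F) hc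
    · intro v
      rw [← Matrix.mulVec_mulVec, ← Matrix.mulVec_mulVec, hT, transv_mulVec, Matrix.mulVec_add,
        Matrix.mulVec_smul, hR_Ri]
    · intro h
      have := hRi_R e0
      rw [h, Matrix.mulVec_zero] at this
      have h' := congrFun this i0
      simp [he0] at h'
    · rw [hRi_R, he0, Pi.single_apply, if_neg h01.symm]
    · rw [hRi_R, he1, Pi.single_apply, if_pos rfl]
    · intro v
      rw [Matrix.mulVec_add, hRi_R, Pi.add_apply, he1, Pi.single_apply, if_pos rfl]

end Cfsg.Agent.Lib.Helper44.Of
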