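import Mathlib
import Cfsg.Agent.Lib.Helper45.LtCore

/-! # Lt hive (helper45, S2363), leaf LT-PMINUS (helper53): the order of `PΩ⁻_{2m}(q)`. -/

set_option autoImplicit false

namespace Cfsg.Agent.Lib.Helper45.Lt

/-- `∑_{i<n} 2 (i + 1) = n (n + 1)` -/
theorem pminus_sum (n : ℕ) : ∑ i ∈ Finset.range n, 2 * (i + 1) = n * (n + 1) := by
  induction n with
  | zero => simp
  | succ n ih =>
    rw [Finset.sum_range_succ, ih]
    ring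

/-- `(q^m + 1)(q^2 - 1) < q^(m+2)` for `m ≥ 2`, `q ≥ 1` -/
theorem pminus_absorb {q m : ℕ} (hq : 1 ≤ q) (hm : 2 ≤ m) :
    (q ^ m + 1) * (q ^ 2 - 1) < q ^ (m + 2) := by
  have h1 : 1 ≤ q ^ 2 := Nat.one_le_pow _ _ hq
  have h2 : q ^ 2 ≤ q ^ m := Nat.pow_le_pow_right hq hm
  obtain ⟨B, hB⟩ : ∃ B, q ^ 2 = B + 1 := ⟨q ^ 2 - 1, by omega⟩
  rw [pow_add, hB, Nat.add_sub_cancel]
  have h3 : B < q ^ m := by omega
  calc (q ^ m + 1) * B = q ^ m * B + B := by ring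
    _ < q ^ m * B + q ^ m := by omega
    _ = q ^ m * (B + 1) := by ring

/-- the bound on the `p'`-part -/
theorem pminus_bound {q m : ℕ} (hq : 1 ≤ q) (hm : 4 ≤ m) :
    (q ^ m + 1) * ∏ i ∈ Finset.range (m - 1), (q ^ (2 * (i + 1)) - 1) <
      q ^ (m * (m - 1) + m) := by
  obtain ⟨n, rfl⟩ : ∃ n, m = n + 2 := ⟨m - 2, by omega⟩
  have hn1 : n + 2 - 1 = n + 1 := by omega
  rw [hn1, Finset.prod_range_succ']
  have hR := lt_prod_sub_one_le hq (Finset.range n) (fun i => 2 * (i + 1 + 1))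
  have hS : ∑ i ∈ Finset.range n, 2 * (i + 1 + 1) + (2 + (n + 2)) = (n + 2) * (n + 1) + (n + 2) := by
    have h1 := pminus_sum (n + 1)
    rw [Finset.sum_range_succ'] at h1
    have h2 : (n + 1) * (n + 1 + 1) = (n + 2) * (n + 1) := by ring
    omega
  have hA := pminus_absorb hq (show 2 ≤ n + 2 by omega)
  have hZ : 0 < q ^ ∑ i ∈ Finset.range n, 2 * (i + 1 + 1) := pow_pos hq _
  calc (q ^ (n + 2) + 1) * ((∏ i ∈ Finset.range n, (q ^ (2 * (i + 1 + 1)) - 1)) *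
        (q ^ (2 * (0 + 1)) - 1))
      = ((q ^ (n + 2) + 1) * (q ^ 2 - 1)) *
        ∏ i ∈ Finset.range n, (q ^ (2 * (i + 1 + 1)) - 1) := by ring
    _ ≤ ((q ^ (n + 2) + 1) * (q ^ 2 - 1)) * q ^ ∑ i ∈ Finset.range n, 2 * (i + 1 + 1) :=
        Nat.mul_le_mul_left _ hR
    _ < q ^ (n + 2 + 2) * q ^ ∑ i ∈ Finset.range n, 2 * (i + 1 + 1) :=
        Nat.mul_lt_mul_of_pos_right hA hZ
    _ = q ^ ((n + 2) * (n + 1) + (n + 2)) := by
        rw [← pow_add]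
        congr 1
        omega

/-- LT-PMINUS -/
theorem lt_pminus {p f m g : ℕ} (hp : p.Prime) (hf : 1 ≤ f) (hm : 4 ≤ m) (hg : 0 < g)
    (hcard : Nat.gcd 4 ((p ^ f) ^ m + 1) * g = (p ^ f) ^ (m * (m - 1)) * ((p ^ f) ^ m + 1) *
      ∏ i ∈ Finset.range (m - 1), ((p ^ f) ^ (2 * (i + 1)) - 1)) :
    g < p ^ (3 * g.factorization p) ∧ g ^ 3 < p ^ (8 * g.factorization p) := by
  have hq : 1 ≤ p ^ f := Nat.one_le_pow _ _ hp.pos
  have hd : Nat.gcd 4 ((p ^ f) ^ m + 1) * g = (p ^ f) ^ (m * (m - 1)) *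
      (((p ^ f) ^ m + 1) * ∏ i ∈ Finset.range (m - 1), ((p ^ f) ^ (2 * (i + 1)) - 1)) := by
    rw [hcard, mul_assoc]
  have hadd : ¬ p ∣ (p ^ f) ^ m + 1 := lt_not_dvd_add_one hp hf (by omega)
  have hpd : ¬ p ∣ Nat.gcd 4 ((p ^ f) ^ m + 1) :=
    lt_not_dvd_of_dvd (Nat.gcd_dvd_right _ _) hadd
  have hpM : ¬ p ∣ ((p ^ f) ^ m + 1) *
      ∏ i ∈ Finset.range (m - 1), ((p ^ f) ^ (2 * (i + 1)) - 1) := by
    apply lt_not_dvd_mul hp hadd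
    apply lt_not_dvd_prod hp
    intro i _
    exact lt_not_dvd_sub_one hp hf (by omega)
  have hd1 : 1 ≤ Nat.gcd 4 ((p ^ f) ^ m + 1) := Nat.gcd_pos_of_pos_left _ (by norm_num)
  have hM : ((p ^ f) ^ m + 1) * ∏ i ∈ Finset.range (m - 1), ((p ^ f) ^ (2 * (i + 1)) - 1) <
      Nat.gcd 4 ((p ^ f) ^ m + 1) * (p ^ f) ^ (m * (m - 1) + m) := by
    calc _ < (p ^ f) ^ (m * (m - 1) + m) := pminus_bound hq hm
      _ = 1 * (p ^ f) ^ (m * (m - 1) + m) := (one_mul _).symm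
      _ ≤ _ := Nat.mul_le_mul_right _ hd1
  have hl : m ≤ m * (m - 1) := by
    calc m = m * 1 := (mul_one m).symm
      _ ≤ m * (m - 1) := Nat.mul_le_mul_left _ (by omega)
  obtain ⟨-, h1, h2⟩ := lt_core hp hf hg hd hpd hpM hM hl
  refine ⟨h1, h2 ?_⟩
  obtain ⟨n, rfl⟩ : ∃ n, m = n + 4 := ⟨m - 4, by omega⟩
  have : n + 4 - 1 = n + 3 := by omega
  rw [this]
  nlinarith

end Cfsg.Agent.Lib.Helper45.Lt
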