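import Mathlib
import Cfsg.Agent.Lib.Helper46.AhDefs

/-!
# AH-P1 (Ah hive of helper46, S2538): `M` normalizes `XX M B`.
-/

set_option autoImplicit false

namespace Cfsg.Agent.Lib.Helper46.Ah

open Cfsg Equiv
open Cfsg.Agent.Lib.Helper15.Hs (resSub mem_resSub)

section leaves

variable {α : Type*} [Fintype α] [DecidableEq α] {π : Set ℕ} (M : Subgroup (Perm α)) (B : Set α)

omit [Fintype α] [DecidableEq α] in
/-- `M` normalizes the class-preserving group. -/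
theorem p1_ClsPres_conj {m x : Perm α} (hm : m ∈ M) (hx : x ∈ ClsPres M B) :
    m * x * m⁻¹ ∈ ClsPres M B := by
  intro z
  have h1 : Rel M B (x (m⁻¹ z)) (m⁻¹ z) := hx (m⁻¹ z)
  have h2 : Rel M B (m (x (m⁻¹ z))) (m (m⁻¹ z)) := h1.smul hm
  have h3 : m (m⁻¹ z) = z := by simp
  rw [h3] at h2
  simpa [Perm.mul_apply] using h2

omit [Fintype α] [DecidableEq α] in
/-- `M` normalizes `KK M B`. -/
theorem p1_KK_conj {m k : Perm α} (hm : m ∈ M) (hk : k ∈ KK M B) :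
    m * k * m⁻¹ ∈ KK M B :=
  ⟨M.mul_mem (M.mul_mem hm hk.1) (M.inv_mem hm), p1_ClsPres_conj M B hm hk.2⟩

set_option linter.unusedSectionVars false in
theorem XX_normalized {m x : Perm α} (hm : m ∈ M) (hx : x ∈ XX M B) : m * x * m⁻¹ ∈ XX M B := by
  obtain ⟨hx1, hx2⟩ := hx
  refine ⟨p1_ClsPres_conj M B hm hx1, fun z => ?_⟩
  obtain ⟨k, hk, hxk⟩ := hx2 (m⁻¹ z)
  refine ⟨m * k * m⁻¹, p1_KK_conj M B hm hk, fun y hy => ?_⟩
  have h1 : Rel M B (m⁻¹ y) (m⁻¹ z) := hy.smul (M.inv_mem hm)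
  have h2 := hxk (m⁻¹ y) h1
  simp only [Perm.mul_apply]
  rw [h2]

end leaves

end Cfsg.Agent.Lib.Helper46.Ah
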