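import Mathlib
import Cfsg.Agent.Lib.Helper46.AhDefs

/-!
# AH-P2 (Ah hive of helper46, S2538): `XX M B` is a π-group when `M` is.
-/

set_option autoImplicit false

namespace Cfsg.Agent.Lib.Helper46.Ah

open Cfsg Equiv
open Cfsg.Agent.Lib.Helper15.Hs (resSub mem_resSub)

section leaves

variable {α : Type*} [Fintype α] [DecidableEq α] {π : Set ℕ} (M : Subgroup (Perm α)) (B : Set α)

omit [Fintype α] [DecidableEq α] in
/-- On a class, the powers of `g` agree with the powers of `k`. -/
theorem p2_pow_agree {g k : Perm α} (hk : k ∈ KK M B) (x : α)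
    (hgk : ∀ y, Rel M B y x → g y = k y) (j : ℕ) :
    ∀ y, Rel M B y x → (g ^ j) y = (k ^ j) y := by
  induction j with
  | zero => intro y _; simp
  | succ j ih =>
    intro y hy
    rw [pow_succ', pow_succ', Perm.mul_apply, Perm.mul_apply]
    have h1 : Rel M B ((k ^ j) y) x := (((KK M B).pow_mem hk j).2 y).trans hy
    rw [ih y hy]
    exact hgk _ h1

omit [Fintype α] [DecidableEq α] in
/-- Every element of `XX M B` has order dividing `Nat.card M`. -/
theorem p2_pow_card {g : Perm α} (hg : g ∈ XX M B) : g ^ Nat.card M = 1 := by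
  ext x
  obtain ⟨k, hk, hgk⟩ := hg.2 x
  have h1 := p2_pow_agree M B hk x hgk (Nat.card M) x (Rel.refl M B x)
  rw [h1]
  have h2 : (⟨k, hk.1⟩ : M) ^ Nat.card M = 1 := pow_card_eq_one'
  have h3 : k ^ Nat.card M = 1 := by
    have h4 : ((⟨k, hk.1⟩ : M) ^ Nat.card M : M).1 = (1 : M).1 := by rw [h2]
    rw [Subgroup.coe_pow, Subgroup.coe_one] at h4
    exact h4
  rw [h3]

theorem XX_piSubgroup (hM : IsPiSubgroup π M) : IsPiSubgroup π (XX M B) := by
  intro p hp hdvd
  have : Fact p.Prime := ⟨hp⟩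
  obtain ⟨g, hg⟩ := exists_prime_orderOf_dvd_card' (G := XX M B) p hdvd
  have h1 : (g : Perm α) ^ Nat.card M = 1 := p2_pow_card M B g.2
  have h2 : g ^ Nat.card M = 1 := by
    apply Subtype.ext
    simpa using h1
  have h3 : orderOf g ∣ Nat.card M := orderOf_dvd_of_pow_eq_one h2
  rw [hg] at h3
  exact hM p hp h3

end leaves

end Cfsg.Agent.Lib.Helper46.Ah
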