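import Mathlib
import Cfsg.Prelude.Def_ClassicalGeometry
import Cfsg.Prelude.Def_GeometricClasses
import Cfsg.Agent.Lib.Helper46.OmDefs
import Cfsg.Agent.Lib.Helper46.OmBR
import Cfsg.Agent.Lib.Helper27.HyT5c

/-! # Om hive (helper46, S5991), leaf OM-PE3 (helper53): conjugation by a similitude with nonsquare multiplier. -/

set_option autoImplicit false

namespace Cfsg.Agent.Lib.Helper46.Om

open Module
open scoped Matrix
open Cfsg.Agent.Lib.Helper2.BG Cfsg.Agent.Lib.Helper99 Cfsg.Agent.Lib.Helper48.Ti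
open Cfsg.Agent.Lib.Helper5.Hy (Plus Orth Fix)
open Cfsg.Agent.Lib.Helper81.On (SameType Fixes)

section pe3abs

variable {F V : Type*} [Field F] [AddCommGroup V] [Module F V]
variable {B : V →ₗ[F] V →ₗ[F] F}

/-- discriminant of the image under a similitude -/
theorem pe3_disc_map (g : V ≃ₗ[F] V) (lam : F) (hg : ∀ u v, B (g u) (g v) = lam * B u v)
    {W : Submodule F V} {δ : F} (h : Disc B W δ) :
    Disc B (W.map (g : V →ₗ[F] V)) (lam ^ finrank F W * δ) := by
  classical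
  obtain ⟨b, hb⟩ := h
  have hfr : finrank F W = finrank F (W.map (g : V →ₗ[F] V)) :=
    (g.submoduleMap W).finrank_eq
  let b' : Basis (Fin (finrank F (W.map (g : V →ₗ[F] V)))) F (W.map (g : V →ₗ[F] V)) :=
    (b.map (g.submoduleMap W)).reindex (finCongr hfr)
  refine ⟨b', ?_⟩
  have hmat : LinearMap.BilinForm.toMatrix b' (B.domRestrict₁₂ (W.map (g : V →ₗ[F] V))
      (W.map (g : V →ₗ[F] V))) =
      Matrix.reindex (finCongr hfr) (finCongr hfr)
        (lam • LinearMap.BilinForm.toMatrix b (B.domRestrict₁₂ W W)) := by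
    ext i j
    simp only [LinearMap.BilinForm.toMatrix_apply, Matrix.reindex_apply, Matrix.submatrix_apply,
      Matrix.smul_apply, smul_eq_mul, b', Basis.reindex_apply, Basis.map_apply,
      LinearMap.domRestrict₁₂_apply, LinearEquiv.submoduleMap_apply]
    rw [hg]
  rw [hmat, Matrix.det_reindex_self, Matrix.det_smul, Fintype.card_fin, hb]

/-- a nondegenerate symmetric space of odd dimension has no similitude with a nonsquare multiplier -/
theorem pe3_isSquare_of_similitude [FiniteDimensional F V] (hs : ∀ u v, B u v = B v u)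
    {W : Submodule F V} (hW : Nd B W) (hodd : Odd (finrank F W)) (φ : W →ₗ[F] W) (lam : F)
    (hφ : ∀ u v : W, B (φ u : V) (φ v : V) = lam * B (u : V) (v : V)) : IsSquare lam := by
  classical
  by_cases hl0 : lam = 0
  · rw [hl0]
    exact ⟨0, by simp⟩
  let b : Basis (Fin (finrank F W)) F W := Module.finBasis F W
  let B' : LinearMap.BilinForm F W := Cfsg.Agent.Lib.Helper5.Hy.t5_res B W
  have hnd : B'.Nondegenerate := Cfsg.Agent.Lib.Helper5.Hy.t5_res_nondeg hs hW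
  have hdet : (LinearMap.BilinForm.toMatrix b B').det ≠ 0 :=
    (LinearMap.BilinForm.nondegenerate_iff_det_ne_zero b).1 hnd
  have hcomp : B'.comp φ φ = lam • B' := by
    apply LinearMap.ext
    intro u
    apply LinearMap.ext
    intro v
    exact hφ u v
  have hmat := LinearMap.BilinForm.toMatrix_comp (b := b) (c := b) B' φ φ
  rw [hcomp, map_smul] at hmat
  have hd := congrArg Matrix.det hmat
  rw [Matrix.det_smul, Matrix.det_mul, Matrix.det_mul, Matrix.det_transpose, Fintype.card_fin]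
    at hd
  have hd2 : ∃ D : F, lam ^ finrank F W = D ^ 2 := by
    refine ⟨(LinearMap.toMatrix b b φ).det, ?_⟩
    apply mul_right_cancel₀ hdet
    rw [hd]
    ring
  obtain ⟨D, hD⟩ := hd2
  obtain ⟨t, ht⟩ := hodd
  rw [ht, pow_succ, pow_mul] at hD
  have hlt : lam ^ t ≠ 0 := pow_ne_zero _ hl0
  refine ⟨D / lam ^ t, ?_⟩
  field_simp
  rw [← hD]
  ring

end pe3abs

section concrete

variable {F : Type*} [Field F] [Fintype F]

/-- OM-PE3 -/
theorem pe_conj (h2 : (2 : F) ≠ 0) (k : ℕ) (a b : F)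
    (hab : ∀ x y : F, x ^ 2 + a * x * y + b * y ^ 2 = 0 → x = 0 ∧ y = 0)
    (g : Matrix.GeneralLinearGroup ((Fin k ⊕ Fin k) ⊕ Fin 2) F) (lam : F) (hlam : ¬ IsSquare lam)
    (hg : ∀ v : VM k F, Cfsg.quadFormMinus k F a b
        (Matrix.mulVec (g : Matrix ((Fin k ⊕ Fin k) ⊕ Fin 2) ((Fin k ⊕ Fin k) ⊕ Fin 2) F) v) =
        lam * Cfsg.quadFormMinus k F a b v)
    (x : Matrix.GeneralLinearGroup ((Fin k ⊕ Fin k) ⊕ Fin 2) F)
    (hx : x ∈ Cfsg.isometryGroup F (Cfsg.quadFormMinus k F a b)) :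
    g * x * g⁻¹ ∈ Cfsg.isometryGroup F (Cfsg.quadFormMinus k F a b) ∧
    ∀ W₀ : Submodule F (VM k F), Odd (finrank F W₀) → Nd (minusB k a b) W₀ →
      Fixes (minusB k a b) (Matrix.toLin' ((g * x * g⁻¹ :
        Matrix.GeneralLinearGroup ((Fin k ⊕ Fin k) ⊕ Fin 2) F) :
        Matrix ((Fin k ⊕ Fin k) ⊕ Fin 2) ((Fin k ⊕ Fin k) ⊕ Fin 2) F)) W₀ →
      ∃ W : Submodule F (VM k F),
        Inv (Matrix.toLin' (x : Matrix ((Fin k ⊕ Fin k) ⊕ Fin 2) ((Fin k ⊕ Fin k) ⊕ Fin 2) F)) W ∧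
        Nd (minusB k a b) W ∧ finrank F W = finrank F W₀ ∧ ¬ SameType (minusB k a b) W W₀ := by
  classical
  have hlam0 : lam ≠ 0 := by
    intro h
    apply hlam
    rw [h]
    exact ⟨0, by simp⟩
  have hxQ : ∀ u : VM k F, Cfsg.quadFormMinus k F a b
      ((x : Matrix ((Fin k ⊕ Fin k) ⊕ Fin 2) ((Fin k ⊕ Fin k) ⊕ Fin 2) F) *ᵥ u) =
      Cfsg.quadFormMinus k F a b u := fun u => hx u 0
  have hgi : ∀ u : VM k F, (g : Matrix ((Fin k ⊕ Fin k) ⊕ Fin 2) ((Fin k ⊕ Fin k) ⊕ Fin 2) F) *ᵥ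
      (((g⁻¹ : Matrix.GeneralLinearGroup ((Fin k ⊕ Fin k) ⊕ Fin 2) F) :
        Matrix ((Fin k ⊕ Fin k) ⊕ Fin 2) ((Fin k ⊕ Fin k) ⊕ Fin 2) F) *ᵥ u) = u := by
    intro u
    rw [Matrix.mulVec_mulVec, ← Units.val_mul, mul_inv_cancel, Units.val_one, Matrix.one_mulVec]
  have hig : ∀ u : VM k F, ((g⁻¹ : Matrix.GeneralLinearGroup ((Fin k ⊕ Fin k) ⊕ Fin 2) F) :
        Matrix ((Fin k ⊕ Fin k) ⊕ Fin 2) ((Fin k ⊕ Fin k) ⊕ Fin 2) F) *ᵥ
      ((g : Matrix ((Fin k ⊕ Fin k) ⊕ Fin 2) ((Fin k ⊕ Fin k) ⊕ Fin 2) F) *ᵥ u) = u := by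
    intro u
    rw [Matrix.mulVec_mulVec, ← Units.val_mul, inv_mul_cancel, Units.val_one, Matrix.one_mulVec]
  -- the similitude on the bilinear form
  have hgB : ∀ u v : VM k F, minusB k a b
      ((g : Matrix ((Fin k ⊕ Fin k) ⊕ Fin 2) ((Fin k ⊕ Fin k) ⊕ Fin 2) F) *ᵥ u)
      ((g : Matrix ((Fin k ⊕ Fin k) ⊕ Fin 2) ((Fin k ⊕ Fin k) ⊕ Fin 2) F) *ᵥ v) =
      lam * minusB k a b u v := by
    intro u v
    rw [minusB_polar h2, minusB_polar h2]
    unfold QuadraticMap.polar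
    rw [← Matrix.mulVec_add, hg, hg, hg]
    ring
  have hgiQ : ∀ u : VM k F, lam * Cfsg.quadFormMinus k F a b
      (((g⁻¹ : Matrix.GeneralLinearGroup ((Fin k ⊕ Fin k) ⊕ Fin 2) F) :
        Matrix ((Fin k ⊕ Fin k) ⊕ Fin 2) ((Fin k ⊕ Fin k) ⊕ Fin 2) F) *ᵥ u) =
      Cfsg.quadFormMinus k F a b u := by
    intro u
    rw [← hg, hgi]
  have hconj : ∀ u : VM k F, ((g * x * g⁻¹ : Matrix.GeneralLinearGroup ((Fin k ⊕ Fin k) ⊕ Fin 2) F) :
        Matrix ((Fin k ⊕ Fin k) ⊕ Fin 2) ((Fin k ⊕ Fin k) ⊕ Fin 2) F) *ᵥ u =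
      (g : Matrix ((Fin k ⊕ Fin k) ⊕ Fin 2) ((Fin k ⊕ Fin k) ⊕ Fin 2) F) *ᵥ
        ((x : Matrix ((Fin k ⊕ Fin k) ⊕ Fin 2) ((Fin k ⊕ Fin k) ⊕ Fin 2) F) *ᵥ
          (((g⁻¹ : Matrix.GeneralLinearGroup ((Fin k ⊕ Fin k) ⊕ Fin 2) F) :
            Matrix ((Fin k ⊕ Fin k) ⊕ Fin 2) ((Fin k ⊕ Fin k) ⊕ Fin 2) F) *ᵥ u)) := by
    intro u
    rw [Units.val_mul, Units.val_mul, Matrix.mulVec_mulVec, Matrix.mulVec_mulVec]
  refine ⟨?_, ?_⟩
  · intro u _
    show Cfsg.quadFormMinus k F a b _ = Cfsg.quadFormMinus k F a b u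
    have h1 : (Units.coeHom (Matrix ((Fin k ⊕ Fin k) ⊕ Fin 2) ((Fin k ⊕ Fin k) ⊕ Fin 2) F))
        (g * x * g⁻¹) = ((g * x * g⁻¹ : Matrix.GeneralLinearGroup ((Fin k ⊕ Fin k) ⊕ Fin 2) F) :
        Matrix ((Fin k ⊕ Fin k) ⊕ Fin 2) ((Fin k ⊕ Fin k) ⊕ Fin 2) F) := rfl
    rw [h1, hconj, hg, hxQ, hgiQ]
  · rintro W₀ hodd hW₀ ⟨W', hW'nd, hW'st, hW'inv⟩
    -- the linear equivalence given by `g`
    let gl : VM k F ≃ₗ[F] VM k F := LinearEquiv.ofLinearMap
      (Matrix.toLin' (g : Matrix ((Fin k ⊕ Fin k) ⊕ Fin 2) ((Fin k ⊕ Fin k) ⊕ Fin 2) F))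
      (Matrix.toLin' ((g⁻¹ : Matrix.GeneralLinearGroup ((Fin k ⊕ Fin k) ⊕ Fin 2) F) :
        Matrix ((Fin k ⊕ Fin k) ⊕ Fin 2) ((Fin k ⊕ Fin k) ⊕ Fin 2) F))
      (by
        apply LinearMap.ext
        intro u
        simp only [LinearMap.comp_apply, Matrix.toLin'_apply, LinearMap.id_apply]
        exact hgi u)
      (by
        apply LinearMap.ext
        intro u
        simp only [LinearMap.comp_apply, Matrix.toLin'_apply, LinearMap.id_apply]
        exact hig u)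
    have hgl : ∀ u, gl u = (g : Matrix ((Fin k ⊕ Fin k) ⊕ Fin 2) ((Fin k ⊕ Fin k) ⊕ Fin 2) F) *ᵥ u :=
      fun u => Matrix.toLin'_apply _ _
    let W : Submodule F (VM k F) := W'.comap (gl : VM k F →ₗ[F] VM k F)
    have hWmem : ∀ u, u ∈ W ↔ gl u ∈ W' := fun u => Iff.rfl
    -- the restriction of `g` to `W`
    let e : W ≃ₗ[F] W' := LinearEquiv.ofBijective
      ((gl : VM k F →ₗ[F] VM k F).restrict (p := W) (q := W') (fun u hu => hu))
      ⟨by
        intro u v huv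
        apply Subtype.ext
        apply gl.injective
        exact congrArg Subtype.val huv,
       by
        intro w
        refine ⟨⟨gl.symm w.1, ?_⟩, ?_⟩
        · rw [hWmem, LinearEquiv.apply_symm_apply]
          exact w.2
        · apply Subtype.ext
          show gl (gl.symm w.1) = w.1
          rw [LinearEquiv.apply_symm_apply]⟩
    have he : ∀ u : W, ((e u : W') : VM k F) = gl u.1 := fun u => rfl
    obtain ⟨e', he'⟩ := hW'st
    refine ⟨W, ?_, ?_, ?_, ?_⟩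
    · intro u hu
      rw [hWmem, hgl, Matrix.toLin'_apply]
      have h1 := hW'inv (gl u) ((hWmem u).1 hu)
      rw [Matrix.toLin'_apply, hconj, hgl, hig] at h1
      exact h1
    · intro u hu hall
      have h1 : gl u = 0 := by
        apply hW'nd (gl u) ((hWmem u).1 hu)
        intro v' hv'
        have h2' : gl.symm v' ∈ W := by
          rw [hWmem, LinearEquiv.apply_symm_apply]
          exact hv'
        have h3 := hall _ h2'
        have h4 := hgB u (gl.symm v')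
        rw [← hgl, ← hgl, LinearEquiv.apply_symm_apply, h3, mul_zero] at h4
        exact h4
      exact gl.injective (by rw [h1, map_zero])
    · rw [e.finrank_eq, e'.finrank_eq]
    · rintro ⟨e0, he0⟩
      apply hlam
      have hWnd : Nd (minusB k a b) W := by
        intro u hu hall
        have h1 : gl u = 0 := by
          apply hW'nd (gl u) ((hWmem u).1 hu)
          intro v' hv'
          have h2' : gl.symm v' ∈ W := by
            rw [hWmem, LinearEquiv.apply_symm_apply]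
            exact hv'
          have h3 := hall _ h2'
          have h4 := hgB u (gl.symm v')
          rw [← hgl, ← hgl, LinearEquiv.apply_symm_apply, h3, mul_zero] at h4
          exact h4
        exact gl.injective (by rw [h1, map_zero])
      have hWodd : Odd (finrank F W) := by
        rw [e.finrank_eq, e'.finrank_eq]
        exact hodd
      -- the similitude of `W`
      let φ : W ≃ₗ[F] W := (e.trans e').trans e0.symm
      apply pe3_isSquare_of_similitude (B := minusB k a b) (minusB_symm h2 k a b) hWnd hWodd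
        (φ : W →ₗ[F] W) lam
      intro u v
      have h1 : ∀ z : W, ((φ : W →ₗ[F] W) z : VM k F) = ((e0.symm (e' (e z)) : W) : VM k F) :=
        fun z => rfl
      rw [h1, h1]
      have h3 := he0 (e0.symm (e' (e u))) (e0.symm (e' (e v)))
      rw [LinearEquiv.apply_symm_apply, LinearEquiv.apply_symm_apply] at h3
      rw [← h3, he', he, he, hgl, hgl, hgB]

end concrete

end Cfsg.Agent.Lib.Helper46.Om
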