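import Mathlib
import Cfsg.Prelude.Def_Classical
import Cfsg.Prelude.Def_LieClassical
import Cfsg.Agent.Lib.Helper14.TuDefs
import Cfsg.Agent.Lib.Helper40.HermStep
import Cfsg.Agent.Lib.Helper53.TuB

/-! S5953 Tu hive (helper14), leaf TU-A (helper53). -/

set_option autoImplicit false

namespace Cfsg.Agent.Lib.Helper14.Tu

open Cfsg.Agent.Lib.Helper40.Herm Cfsg.Agent.Lib.Helper2.BG Polynomial Module

/-- pure arithmetic: if an odd power of `x` is `-1` modulo an odd prime, the order of `x` is `2 mod 4` -/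
theorem a_mod_four {r : ℕ} (hr : r.Prime) (hr2 : r ≠ 2) (x : ZMod r) (k : ℕ) (hk : Odd k)
    (hx : x ^ k = -1) : orderOf x % 4 = 2 := by
  have : Fact r.Prime := ⟨hr⟩
  have h2k : x ^ (2 * k) = 1 := by rw [mul_comm, pow_mul, hx]; norm_num
  have hd : orderOf x ∣ 2 * k := orderOf_dvd_of_pow_eq_one h2k
  have hnd : ¬ orderOf x ∣ k := by
    intro h
    have h1 : x ^ k = 1 := orderOf_dvd_iff_pow_eq_one.1 h
    rw [hx] at h1
    have h2 : ((2 : ℕ) : ZMod r) = 0 := by
      push_cast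
      calc (2 : ZMod r) = 1 - (-1) := by ring
        _ = 1 - 1 := by rw [h1]
        _ = 0 := sub_self 1
    have h3 : r ∣ 2 := (ZMod.natCast_eq_zero_iff 2 r).1 h2
    have h4 : r ≤ 2 := Nat.le_of_dvd (by norm_num) h3
    have h5 := hr.two_le
    omega
  rcases Nat.even_or_odd (orderOf x) with he | ho
  · obtain ⟨j, hj⟩ := he
    have hj2 : orderOf x = 2 * j := by omega
    rw [hj2] at hd hnd ⊢
    have hjk : j ∣ k := Nat.dvd_of_mul_dvd_mul_left (by norm_num) hd
    have hjodd : Odd j := by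
      obtain ⟨t, ht⟩ := hjk
      rw [ht] at hk
      exact (Nat.odd_mul.1 hk).1
    obtain ⟨s, hs⟩ := hjodd
    omega
  · exfalso
    apply hnd
    have hcop : (orderOf x).Coprime 2 := Nat.Coprime.symm (Nat.coprime_two_left.2 ho)
    exact hcop.dvd_of_dvd_mul_left hd

section field
variable {F : Type*} [Field F] [Fintype F] {q : ℕ}

/-- the characteristic, with `q` a power of it -/
theorem a_exists_char (hF : Fintype.card F = q ^ 2) :
    ∃ p f : ℕ, p.Prime ∧ CharP F p ∧ q = p ^ f := by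
  obtain ⟨p, hpF⟩ := CharP.exists F
  obtain ⟨n, hp, hn⟩ := FiniteField.card F p
  have h1 : q ∣ p ^ (n : ℕ) := by
    rw [← hn, hF]
    exact dvd_pow_self q two_ne_zero
  obtain ⟨j, -, hj⟩ := (Nat.dvd_prime_pow hp).mp h1
  exact ⟨p, j, hp, hpF, hj⟩

/-- the arithmetic core: an irreducible factor `P ≠ X - 1` of `X ^ r - 1` over the field with `q²` elements which is
self-conjugate-reciprocal forces `ord_r(q) ≡ 2 (mod 4)` -/
theorem a_arith (hF : Fintype.card F = q ^ 2) {r : ℕ} (hr : r.Prime) (hr2 : r ≠ 2)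
    (hrF : (r : F) ≠ 0) (P : F[X]) (hP : Irreducible P) (hPr : P ∣ X ^ r - 1)
    (hP1 : ¬ P ∣ X - 1) (hps : P ∣ hsig (tauHom hF) r P) : orderOf (q : ZMod r) % 4 = 2 := by
  classical
  have hr0 : 0 < r := hr.pos
  have : Fact r.Prime := ⟨hr⟩
  obtain ⟨p, f, hp, hpF, hqf⟩ := a_exists_char hF
  have : Fact p.Prime := ⟨hp⟩
  have hq2 := Cfsg.Agent.Lib.Helper44.two_le_q_of_card hF
  have : Fact (Irreducible P) := ⟨hP⟩
  have hpne : P ≠ 0 := hP.ne_zero
  have : Module.Finite F (AdjoinRoot P) := (AdjoinRoot.powerBasis hpne).finite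
  have : Finite (AdjoinRoot P) := Module.finite_of_finite F
  have hcharL : CharP (AdjoinRoot P) p :=
    charP_of_injective_algebraMap (algebraMap F (AdjoinRoot P)).injective p
  set ζ : AdjoinRoot P := AdjoinRoot.root P with hζ
  have hζr : ζ ^ r = 1 := Cfsg.Agent.Lib.Helper40.Symp.root_pow_eq_one P r hPr
  have hζ1 : ζ ≠ 1 := by
    intro h1
    apply hP1
    rw [← AdjoinRoot.mk_eq_zero, map_sub, AdjoinRoot.mk_X, map_one, ← hζ, h1, sub_self]
  have hζord : orderOf ζ = r := orderOf_eq_prime hζr hζ1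
  set σ := hsigL (tauHom hF) P r hps with hσ
  have hσζ : σ ζ = ζ ^ (r - 1) := by
    rw [hζ, ← AdjoinRoot.mk_X, hσ, hsigL_mk, hsig_X, map_pow]
  have hσof : ∀ a : F, σ (AdjoinRoot.of P a) = AdjoinRoot.of P (tauHom hF a) := by
    intro a
    have h2 : AdjoinRoot.of P a = AdjoinRoot.mk P (C a) := rfl
    rw [h2, hσ, hsigL_mk, hsig_C]
    rfl
  -- the `q`-Frobenius of `L`
  let φq : AdjoinRoot P →+* AdjoinRoot P :=
    { toFun := fun x => x ^ q
      map_one' := one_pow q
      map_mul' := fun x y => mul_pow x y q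
      map_zero' := zero_pow (by omega)
      map_add' := fun x y => by rw [hqf]; exact add_pow_char_pow x y p f }
  have hφq : ∀ x, φq x = x ^ q := fun x => rfl
  -- `ρ = σ ∘ φq` is an `F`-algebra endomorphism
  let ρ : AdjoinRoot P →ₐ[F] AdjoinRoot P :=
    { toRingHom := σ.comp φq
      commutes' := fun a => by
        change σ (φq (algebraMap F (AdjoinRoot P) a)) = algebraMap F (AdjoinRoot P) a
        rw [AdjoinRoot.algebraMap_eq, hφq, ← map_pow, hσof, ← tauHom_apply hF, tauHom_tauHom] }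
  have hρ : ∀ x, ρ x = σ (x ^ q) := fun x => rfl
  obtain ⟨n, hn⟩ := (FiniteField.bijective_frobeniusAlgHom_pow F (AdjoinRoot P)).2 ρ
  have hn' : ζ ^ (Fintype.card F ^ (n : ℕ)) = (ζ ^ (r - 1)) ^ q := by
    have h1 := congrArg (fun ψ : AdjoinRoot P →ₐ[F] AdjoinRoot P => ψ ζ) hn
    simp only [AlgHom.coe_pow, FiniteField.coe_frobeniusAlgHom, pow_iterate] at h1
    rw [h1, hρ, map_pow, hσζ]
  rw [hF] at hn'
  -- `r ∣ q ^ (2 n) + q`
  have h3 : ζ ^ ((q ^ 2) ^ (n : ℕ) + q) = 1 := by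
    rw [pow_add, hn', ← mul_pow, ← pow_succ, Nat.sub_add_cancel hr0, hζr, one_pow]
  have h4 : r ∣ (q ^ 2) ^ (n : ℕ) + q := by
    rw [← hζord]
    exact orderOf_dvd_of_pow_eq_one h3
  -- `r ∤ q`
  have hrq : ¬ r ∣ q := by
    intro h
    have h5 : r ∣ p ^ f := hqf ▸ h
    have h6 : r = p := (Nat.prime_dvd_prime_iff_eq hr hp).1 (hr.dvd_of_dvd_pow h5)
    apply hrF
    rw [h6]
    exact CharP.cast_eq_zero F p
  set x : ZMod r := (q : ZMod r) with hx
  have hx0 : x ≠ 0 := by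
    rw [hx, Ne, ZMod.natCast_eq_zero_iff]
    exact hrq
  have h7 : (x ^ 2) ^ (n : ℕ) + x = 0 := by
    have := (ZMod.natCast_eq_zero_iff _ r).2 h4
    push_cast at this
    exact this
  -- an odd power of `x` is `-1`
  have h8 : ∃ k : ℕ, Odd k ∧ x ^ k = -1 := by
    rcases Nat.eq_zero_or_pos (n : ℕ) with h0 | hpos
    · refine ⟨1, odd_one, ?_⟩
      rw [h0, pow_zero] at h7
      rw [pow_one]
      exact (eq_neg_of_add_eq_zero_right h7)
    · refine ⟨2 * (n : ℕ) - 1, ⟨(n : ℕ) - 1, by omega⟩, ?_⟩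
      have h9 : x ^ (2 * (n : ℕ) - 1) * x = -1 * x := by
        rw [← pow_succ, Nat.sub_add_cancel (by omega), pow_mul, neg_one_mul]
        exact eq_neg_of_add_eq_zero_left h7
      exact mul_right_cancel₀ hx0 h9
  obtain ⟨k, hk, hxk⟩ := h8
  exact a_mod_four hr hr2 x k hk hxk

end field

section abs
variable {F : Type*} [Field F] [Fintype F] {q : ℕ} {hF : Fintype.card F = q ^ 2}
  {V : Type*} [AddCommGroup V] [Module F V] [FiniteDimensional F V]
  {H : V →ₗ[F] V →ₛₗ[tauHom hF] F} {g : Module.End F V} {N : ℕ}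

omit [Fintype F] [FiniteDimensional F V] in
/-- a nonzero vector killed by `A(g)` yields a nonzero vector `B(g) w` killed by an irreducible factor of `A` -/
theorem a_exists_irr (g : Module.End F V) (d : ℕ) : ∀ (A : F[X]), A.natDegree ≤ d → A ≠ 0 → ∀ (w : V), w ≠ 0 →
    aeval g A w = 0 →
    ∃ P B : F[X], Irreducible P ∧ P ∣ A ∧ aeval g B w ≠ 0 ∧ aeval g P (aeval g B w) = 0 := by
  induction d with
  | zero =>
    intro A hd hA w hw hAw
    exfalso
    rw [Polynomial.eq_C_of_natDegree_le_zero hd] at hAw hA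
    rw [aeval_C, Module.algebraMap_end_apply] at hAw
    have hc : A.coeff 0 ≠ 0 := fun h => hA (by rw [h, map_zero])
    exact hw ((smul_eq_zero.1 hAw).resolve_left hc)
  | succ d ih =>
    intro A hd hA w hw hAw
    by_cases hu : IsUnit A
    · exfalso
      have h0 := Polynomial.natDegree_eq_zero_of_isUnit hu
      rw [Polynomial.eq_C_of_natDegree_le_zero (le_of_eq h0)] at hAw hA
      rw [aeval_C, Module.algebraMap_end_apply] at hAw
      have hc : A.coeff 0 ≠ 0 := fun h => hA (by rw [h, map_zero])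
      exact hw ((smul_eq_zero.1 hAw).resolve_left hc)
    · obtain ⟨P, hP, B, hB⟩ := WfDvdMonoid.exists_irreducible_factor hu hA
      have hB0 : B ≠ 0 := fun h => hA (by rw [hB, h, mul_zero])
      have hdeg : B.natDegree ≤ d := by
        have h1 : A.natDegree = P.natDegree + B.natDegree := by
          rw [hB, Polynomial.natDegree_mul hP.ne_zero hB0]
        have h2 := hP.natDegree_pos
        omega
      by_cases hBw : aeval g B w = 0
      · obtain ⟨P', B', hP', hdvd, h1, h2⟩ := ih B hdeg hB0 w hw hBw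
        exact ⟨P', B', hP', dvd_trans hdvd ⟨P, by rw [hB, mul_comm]⟩, h1, h2⟩
      · refine ⟨P, B, hP, ⟨B, hB⟩, hBw, ?_⟩
        rw [← Module.End.mul_apply, ← map_mul, ← hB, hAw]

/-- TU-A (Lemma A).  `i % 4 ≠ 2`: a minimal invariant subspace without fixed vectors is totally isotropic.
Proof 1: else `Y` is nondegenerate (`Y ⊓ Y^⊥` is invariant), `⟨g⟩` acts freely on
`{v ∈ Y | H v v = 1}` of cardinality `q^(b-1) (q^b - (-1)^b)` (TU-CNT), so `r ∣ q^b - (-1)^b`, `c ∣ b` (TU-ARC),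
but `c = 2 b`.  Proof 2: the annihilator `P` of `Y` is not self-conjugate-reciprocal
(`hisotropic_of_not_dvd` in `Lib/Helper40/HermStep.lean`). -/
theorem isotropic_of_minimal {r : ℕ} (hc : Ctx hF H g r) (hr : r.Prime) (hr2 : r ≠ 2)
    (hi : orderOf (q : ZMod r) % 4 ≠ 2) {Y : Submodule F V} (hYi : Inv g Y)
    (hYfix : ∀ v ∈ Y, g v = v → v = 0)
    (hYmin : ∀ Y' : Submodule F V, Y' ≤ Y → Inv g Y' → Y' = ⊥ ∨ Y' = Y) : HIsotropic H Y := by
  classical
  by_cases hY0 : Y = ⊥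
  · intro x hx y _
    rw [hY0, Submodule.mem_bot] at hx
    rw [hx, map_zero, LinearMap.zero_apply]
  obtain ⟨w, hwY, hw0⟩ := (Submodule.ne_bot_iff _).1 hY0
  have hA0 : (X ^ r - 1 : F[X]) ≠ 0 := by
    have := Polynomial.X_pow_sub_C_ne_zero hr.pos (1 : F)
    rwa [map_one] at this
  have hAw : aeval g (X ^ r - 1 : F[X]) w = 0 := by
    rw [map_sub, map_pow, aeval_X, map_one, hc.pow, sub_self, LinearMap.zero_apply]
  obtain ⟨P, B, hP, hPr, hv0, hPv⟩ := a_exists_irr g _ (X ^ r - 1 : F[X]) le_rfl hA0 w hw0 hAw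
  set v := aeval g B w with hv
  have hvY : v ∈ Y := hYi.aeval B w hwY
  have hcyc := b_cyc_eq hYi hYmin v hvY hv0
  by_cases hnd : HNondegOn H (Cfsg.Agent.Lib.Helper40.SemisimpleConj.cyc g v)
  · exfalso
    apply hi
    have hps : P ∣ hsig (tauHom hF) r P :=
      hcaseA_of_nondeg (tauHom_tauHom hF) hc.herm hc.inv hc.pos hc.pow P hP v hv0 hPv hnd
    have hP1 : ¬ P ∣ X - 1 := by
      intro hd
      have h1 := Cfsg.Agent.Lib.Helper40.Symp.aeval_eq_zero_of_dvd g P (X - 1) hd v hPv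
      rw [map_sub, aeval_X, map_one, LinearMap.sub_apply, Module.End.one_apply, sub_eq_zero] at h1
      exact hv0 (hYfix v hvY h1)
    exact a_arith hF hr hr2 hc.ne P hP hPr hP1 hps
  · have := hisotropic_of_degenerate hc.inv hc.pos hc.pow P hP v hPv hnd
    rwa [hcyc] at this

end abs

end Cfsg.Agent.Lib.Helper14.Tu
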