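import Mathlib
import Cfsg.Prelude.Def_Characters

set_option autoImplicit false
set_option linter.unusedVariables false

/-! A5c hive (architect helper47, S3278), leaf A5c-KSUM: if a character vanishes in the mean on a Klein four-group
`{1, a, b, ab}` then it does so on every coset. -/

universe u

namespace Cfsg.Agent.Lib.Helper47.A5c

open Cfsg Subgroup

/-- LEAF A5c-KSUM. -/
theorem ksum {G : Type u} [Group G] [Finite G] {χ : G → ℂ} (hχ : IsCharacter G χ) (a b : G)
    (hab : a * b = b * a) (ha : a * a = 1) (hb : b * b = 1)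
    (h0 : χ 1 + χ a + χ b + χ (a * b) = 0) (g : G) :
    χ g + χ (a * g) + χ (b * g) + χ (a * b * g) = 0 := by
  obtain ⟨n, ρ, rfl⟩ := hχ
  set E : Module.End ℂ (Fin n → ℂ) := ρ 1 + ρ a + ρ b + ρ (a * b) with hE
  have e1 : b * a = a * b := hab.symm
  have e2 : a * b * a = b := by rw [mul_assoc, e1, ← mul_assoc, ha, one_mul]
  have e3 : a * b * b = a := by rw [mul_assoc, hb, mul_one]
  have e4 : a * b * (a * b) = 1 := by rw [← mul_assoc, e2, hb]
  have hE1 : E * ρ 1 = E := by rw [map_one, mul_one]
  have hEa : E * ρ a = E := by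
    rw [hE]
    simp only [add_mul, ← map_mul, one_mul, ha, e1, e2]
    abel
  have hEb : E * ρ b = E := by
    rw [hE]
    simp only [add_mul, ← map_mul, one_mul, hb, e3]
    abel
  have hEab : E * ρ (a * b) = E := by
    rw [hE]
    simp only [add_mul, ← map_mul, one_mul, e4, e2, e3]
    rw [← mul_assoc a a b, ha, one_mul, ← mul_assoc b a b, e1, e3]
    abel
  have hEE : E * E = (4 : ℂ) • E := by
    conv_lhs => rw [hE, mul_add, mul_add, mul_add, ← hE, hE1, hEa, hEb, hEab]
    module
  -- the projection `P = E / 4`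
  set P : Module.End ℂ (Fin n → ℂ) := (4 : ℂ)⁻¹ • E with hP
  have hidem : IsIdempotentElem P := by
    unfold IsIdempotentElem
    rw [hP, smul_mul_smul_comm, hEE, smul_smul]
    congr 1
    norm_num
  have htrE : LinearMap.trace ℂ (Fin n → ℂ) E = 0 := by
    rw [hE, map_add, map_add, map_add]
    exact h0
  have htrP : LinearMap.trace ℂ (Fin n → ℂ) P = 0 := by
    rw [hP, map_smul, htrE, smul_zero]
  have hrank : Module.finrank ℂ (LinearMap.range P) = 0 := by
    have h := (LinearMap.IsIdempotentElem.isProj_range P hidem).trace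
    rw [htrP] at h
    exact_mod_cast h.symm
  have hP0 : P = 0 := by
    rw [← LinearMap.range_eq_bot]
    exact Submodule.finrank_eq_zero.mp hrank
  have hE0 : E = 0 := by
    have : E = (4 : ℂ) • P := by rw [hP, smul_smul]; norm_num
    rw [this, hP0, smul_zero]
  have hfin : E * ρ g = ρ g + ρ (a * g) + ρ (b * g) + ρ (a * b * g) := by
    rw [hE]
    simp only [add_mul, ← map_mul, one_mul]
  have h := congrArg (LinearMap.trace ℂ (Fin n → ℂ)) hfin
  rw [hE0, zero_mul, map_zero, map_add, map_add, map_add] at h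
  exact h.symm

end Cfsg.Agent.Lib.Helper47.A5c
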