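import Mathlib
import Cfsg.Agent.Lib.Helper59.TqDefs
import Cfsg.Agent.Lib.Helper48.TqDEREVENDefs

/-! # TQ-DEREVEN sub-hive (helper48; helper59's Tq hive S5973 + S5987), leaf DE-MODB (helper53):
fixed space, cyclotomic kernel, dimension and type of the fixed part of the model. -/

set_option autoImplicit false

namespace Cfsg.Agent.Lib.Helper59.Tq

open Module Polynomial
open Cfsg.Agent.Lib.Helper99

section leaves2

variable {F : Type*} [Field F] {W : Type*} [AddCommGroup W] [Module F W]
  {C : Type*} [AddCommGroup C] [Module F C]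

/-- powers of the model map (own copy) -/
theorem demodb_g_pow {N : ℕ} (y : Module.End F W) (s : Fin N → ℕ) (n : ℕ)
    (m : (Fin N → W) × C) :
    ((dereven_g C y s) ^ n) m = (fun l => ((y ^ s l) ^ n) (m.1 l), m.2) := by
  induction n generalizing m with
  | zero => simp
  | succ n ih =>
    rw [pow_succ, Module.End.mul_apply, ih]
    apply Prod.ext
    · funext l
      simp only [dereven_g_apply, dereven_gR_apply]
      rw [pow_succ, Module.End.mul_apply]
    · rfl

/-- polynomials in the model map -/
theorem demodb_aeval {N : ℕ} (y : Module.End F W) (s : Fin N → ℕ) (P : F[X])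
    (m : (Fin N → W) × C) :
    (aeval (dereven_g C y s) P) m = (fun l => (aeval (y ^ s l) P) (m.1 l), P.eval 1 • m.2) := by
  induction P using Polynomial.induction_on' with
  | add p q hp hq =>
    rw [map_add, LinearMap.add_apply, hp, hq]
    apply Prod.ext
    · funext l
      simp only [Prod.fst_add, Pi.add_apply, map_add, LinearMap.add_apply]
    · simp only [Prod.snd_add, eval_add, add_smul]
  | monomial n a =>
    rw [← C_mul_X_pow_eq_monomial]
    simp only [map_mul, aeval_C, map_pow, aeval_X, eval_mul, eval_C, eval_pow, eval_X, one_pow,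
      mul_one, Module.End.mul_apply, Module.algebraMap_end_apply]
    rw [demodb_g_pow]
    rfl

/-- DE-MODB (1): the fixed space of the model map -/
theorem dereven_ker_sub_one {N : ℕ} (y : Module.End F W) (s : Fin N → ℕ)
    (hfpf : ∀ l v, (y ^ s l) v = v → v = 0) :
    LinearMap.ker (dereven_g C y s - 1) = Submodule.prod ⊥ ⊤ := by
  ext m
  rw [LinearMap.mem_ker, LinearMap.sub_apply, Module.End.one_apply, sub_eq_zero,
    Submodule.mem_prod]
  constructor
  · intro h
    refine ⟨?_, Submodule.mem_top⟩
    rw [Submodule.mem_bot]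
    funext l
    have h1 := congrArg (fun z : (Fin N → W) × C => z.1 l) h
    simp only [dereven_g_apply, dereven_gR_apply] at h1
    exact hfpf l _ h1
  · rintro ⟨h1, -⟩
    rw [Submodule.mem_bot] at h1
    apply Prod.ext
    · funext l
      simp only [dereven_g_apply, dereven_gR_apply]
      rw [h1]
      simp
    · rfl

/-- DE-MODB (2): the kernel of the cyclotomic polynomial -/
theorem dereven_ker_cyclotomic {N : ℕ} (y : Module.End F W) (s : Fin N → ℕ) (r : ℕ)
    (hr : r.Prime) (hrF : (r : F) ≠ 0) (hyr : y ^ r = 1)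
    (hfpf : ∀ l v, (y ^ s l) v = v → v = 0) :
    LinearMap.ker (aeval (dereven_g C y s) (cyclotomic r F)) = Submodule.prod ⊤ ⊥ := by
  have hrf : Fact r.Prime := ⟨hr⟩
  have hcyc : ∀ l, aeval (y ^ s l) (cyclotomic r F) = 0 := by
    intro l
    apply LinearMap.ext
    intro v
    rw [LinearMap.zero_apply]
    apply hfpf l
    have h1 : aeval (y ^ s l) ((X - 1) * cyclotomic r F) = 0 := by
      rw [mul_comm, cyclotomic_prime_mul_X_sub_one]
      simp only [map_sub, map_pow, aeval_X, map_one]
      rw [← pow_mul, mul_comm, pow_mul, hyr, one_pow, sub_self]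
    have h2 := congrArg (fun g : Module.End F W => g v) h1
    simp only [map_mul, map_sub, aeval_X, map_one, Module.End.mul_apply, LinearMap.sub_apply,
      Module.End.one_apply, LinearMap.zero_apply] at h2
    exact sub_eq_zero.1 h2
  have hev : (cyclotomic r F).eval 1 = (r : F) := eval_one_cyclotomic_prime
  ext m
  rw [LinearMap.mem_ker, demodb_aeval, Submodule.mem_prod, hev]
  constructor
  · intro h
    refine ⟨Submodule.mem_top, ?_⟩
    rw [Submodule.mem_bot]
    have h1 := congrArg Prod.snd h
    simp only [Prod.snd_zero] at h1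
    rcases smul_eq_zero.1 h1 with h3 | h3
    · exact absurd h3 hrF
    · exact h3
  · rintro ⟨-, h2⟩
    rw [Submodule.mem_bot] at h2
    apply Prod.ext
    · funext l
      show ((aeval (y ^ s l)) (cyclotomic r F)) (m.1 l) = 0
      rw [hcyc l]
      rfl
    · simp only [h2, smul_zero, Prod.snd_zero]

/-- DE-MODB (3) -/
theorem dereven_finrank_prod_top_bot [FiniteDimensional F W] [FiniteDimensional F C] (N : ℕ) :
    finrank F (Submodule.prod (⊤ : Submodule F (Fin N → W)) (⊥ : Submodule F C)) =
      N * finrank F W := by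
  rw [← Submodule.map_inl]
  rw [← (Submodule.equivMapOfInjective (LinearMap.inl F (Fin N → W) C) LinearMap.inl_injective
    ⊤).finrank_eq, finrank_top, Module.finrank_pi_fintype, Finset.sum_const, Finset.card_univ,
    Fintype.card_fin, smul_eq_mul]

/-- type along an injective isometric embedding -/
theorem demodb_plusOn_map {M : Type*} [AddCommGroup M] [Module F M]
    (Q : QuadraticForm F M) (Qc : QuadraticForm F C) (j : C →ₗ[F] M)
    (hj : Function.Injective j) (hQ : ∀ c, Q (j c) = Qc c) :
    PlusOn Q ((⊤ : Submodule F C).map j) ↔ PlusOn Qc ⊤ := by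
  have hfr : ∀ U : Submodule F C, finrank F (U.map j) = finrank F U := fun U =>
    (Submodule.equivMapOfInjective j hj U).finrank_eq.symm
  constructor
  · rintro ⟨U, hU, hts, hd⟩
    refine ⟨U.comap j, le_top, ?_, ?_⟩
    · intro c hc
      rw [← hQ]
      exact hts _ hc
    · have h1 : (U.comap j).map j = U := by
        rw [Submodule.map_comap_eq]
        rw [Submodule.map_top] at hU
        exact inf_eq_right.2 hU
      rw [← hfr (U.comap j), h1, hd, hfr]
  · rintro ⟨U, -, hts, hd⟩
    refine ⟨U.map j, Submodule.map_mono le_top, ?_, ?_⟩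
    · rintro _ ⟨c, hc, rfl⟩
      rw [hQ]
      exact hts c hc
    · rw [hfr, hfr, hd]

/-- DE-MODB (4): the type of the fixed space is the type of `Qc` -/
theorem dereven_plusOn_fix [FiniteDimensional F W] [FiniteDimensional F C]
    (Q0 : QuadraticForm F W) (Qc : QuadraticForm F C) (N : ℕ) :
    PlusOn (dereven_Q Q0 Qc N) (Submodule.prod (⊥ : Submodule F (Fin N → W)) ⊤) ↔
      PlusOn Qc ⊤ := by
  rw [← Submodule.map_inr]
  apply demodb_plusOn_map (dereven_Q Q0 Qc N) Qc (LinearMap.inr F (Fin N → W) C)
    LinearMap.inr_injective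
  intro c
  rw [dereven_Q_apply]
  simp

end leaves2

end Cfsg.Agent.Lib.Helper59.Tq
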