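import Mathlib
import Cfsg.Agent.Lib.Helper53.CenterMeet

set_option autoImplicit false
set_option linter.style.haveILetI false
set_option linter.unnecessarySimpa false
set_option linter.unusedVariables false

/-!
# Upper central series of a finite 2-group: elementary facts

* `ucs_lt_succ` : in a nilpotent group the upper central series is strictly increasing until
  it reaches the whole group.
* `exists_mem_ucs_succ_not_mem` : a normal subgroup not contained in `Z_i` contains an element
  of `Z_{i+1} \ Z_i`.
* `normal_le_ucs_of_card_le` : a normal subgroup of order at most `2^j` lies in `Z_j`.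
* `relIndex_le_of_fun` : counting cosets through a function.
-/

namespace Cfsg.Agent.Lib.Helper53


section general

variable {T : Type*} [Group T]

/-- if two consecutive terms coincide, the series is stationary -/
theorem ucs_stationary (i : ℕ)
    (h : Subgroup.upperCentralSeries T i = Subgroup.upperCentralSeries T (i + 1)) (j : ℕ) :
    Subgroup.upperCentralSeries T (i + j) = Subgroup.upperCentralSeries T i := by
  induction j with
  | zero => rfl
  | succ j ih =>
    have h1 : Subgroup.upperCentralSeries T (i + j + 1) = Subgroup.upperCentralSeries T (i + 1) := by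
      ext x
      rw [Subgroup.mem_upperCentralSeries_succ_iff, Subgroup.mem_upperCentralSeries_succ_iff, ih]
    rw [← add_assoc, h1, ← h]

/-- In a nilpotent group the upper central series is strictly increasing until it reaches the
whole group. -/
theorem ucs_lt_succ [hn : Group.IsNilpotent T] (i : ℕ) (h : Subgroup.upperCentralSeries T i ≠ ⊤) :
    Subgroup.upperCentralSeries T i < Subgroup.upperCentralSeries T (i + 1) := by
  refine lt_of_le_of_ne (Subgroup.upperCentralSeries_mono T (Nat.le_succ i)) ?_
  intro heq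
  apply h
  obtain ⟨n, hn⟩ := hn.nilpotent'
  have h1 := ucs_stationary i heq n
  have h2 : Subgroup.upperCentralSeries T n ≤ Subgroup.upperCentralSeries T (i + n) :=
    Subgroup.upperCentralSeries_mono T (Nat.le_add_left n i)
  rw [hn, h1] at h2
  exact top_le_iff.mp h2

/-- counting cosets through a function -/
theorem relIndex_le_of_fun (A B : Subgroup T) {S : Type*} [Finite S] (f : T → S)
    (h : ∀ a ∈ A, ∀ a' ∈ A, f a = f a' → a⁻¹ * a' ∈ B) : B.relIndex A ≤ Nat.card S := by
  rw [Subgroup.relIndex, Subgroup.index]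
  apply Nat.card_le_card_of_injective (fun q : ↥A ⧸ B.subgroupOf A => f ((q.out : ↥A) : T))
  intro q q' hq
  have h1 := h _ (q.out : ↥A).2 _ (q'.out : ↥A).2 hq
  have h2 : (q.out : ↥A)⁻¹ * (q'.out : ↥A) ∈ B.subgroupOf A := by
    rw [Subgroup.mem_subgroupOf]
    simpa using h1
  have h3 : (QuotientGroup.mk (q.out : ↥A) : ↥A ⧸ B.subgroupOf A) = QuotientGroup.mk (q'.out : ↥A) :=
    QuotientGroup.eq.mpr h2
  rwa [QuotientGroup.out_eq', QuotientGroup.out_eq'] at h3

end general

section twogroup

variable {T : Type*} [Group T] [Finite T]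

/-- A normal subgroup not contained in `Z_i` contains an element of `Z_{i+1} \ Z_i`. -/
theorem exists_mem_ucs_succ_not_mem (hT : IsPGroup 2 T) (N : Subgroup T) [hN : N.Normal] (i : ℕ)
    (h : ¬ N ≤ Subgroup.upperCentralSeries T i) :
    ∃ n ∈ N, n ∈ Subgroup.upperCentralSeries T (i + 1) ∧ n ∉ Subgroup.upperCentralSeries T i := by
  haveI : Fact (Nat.Prime 2) := ⟨Nat.prime_two⟩
  set Z := Subgroup.upperCentralSeries T i with hZ
  set π := QuotientGroup.mk' Z with hπ
  have hπs : Function.Surjective π := QuotientGroup.mk'_surjective Z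
  haveI : (N.map π).Normal := Subgroup.Normal.map hN π hπs
  have hQ : IsPGroup 2 (T ⧸ Z) := hT.to_quotient Z
  have hne : N.map π ≠ ⊥ := by
    intro hbot
    apply h
    intro n hn
    have : π n ∈ N.map π := Subgroup.mem_map_of_mem π hn
    rw [hbot, Subgroup.mem_bot] at this
    exact (QuotientGroup.eq_one_iff n).mp this
  obtain ⟨b, hbN, hb1, hbc⟩ := normal_meets_center hQ (N.map π) hne
  obtain ⟨n, hn, rfl⟩ := hbN
  refine ⟨n, hn, ?_, ?_⟩
  · rw [Subgroup.mem_upperCentralSeries_succ_iff]
    intro y
    rw [Subgroup.mem_center_iff] at hbc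
    have h1 := hbc (π y)
    rw [← hZ, ← QuotientGroup.eq_one_iff, commutatorElement_def]
    show π (n * y * n⁻¹ * y⁻¹) = 1
    rw [map_mul, map_mul, map_mul, map_inv, map_inv, ← h1]
    group
  · intro hn'
    apply hb1
    exact (QuotientGroup.eq_one_iff n).mpr hn'

/-- A normal subgroup of order at most `2^j` of a finite 2-group lies in `Z_j`. -/
theorem normal_le_ucs_of_card_le (hT : IsPGroup 2 T) (N : Subgroup T) [hN : N.Normal] (j : ℕ)
    (h : Nat.card ↥N ≤ 2 ^ j) : N ≤ Subgroup.upperCentralSeries T j := by
  have key : ∀ i : ℕ, N ≤ Subgroup.upperCentralSeries T i ∨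
      2 ^ (i + 1) ≤ Nat.card ↥(N ⊓ Subgroup.upperCentralSeries T (i + 1)) := by
    intro i
    induction i with
    | zero =>
      by_cases h0 : N ≤ Subgroup.upperCentralSeries T 0
      · exact Or.inl h0
      · right
        obtain ⟨n, hn, hn1, hn0⟩ := exists_mem_ucs_succ_not_mem hT N 0 h0
        have hne : N ⊓ Subgroup.upperCentralSeries T (0 + 1) ≠ ⊥ := by
          intro hbot
          apply hn0
          have : n ∈ N ⊓ Subgroup.upperCentralSeries T (0 + 1) := ⟨hn, hn1⟩
          rw [hbot, Subgroup.mem_bot] at this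
          rw [this]
          exact Subgroup.one_mem _
        have := (Subgroup.one_lt_card_iff_ne_bot _).mpr hne
        have h2 : (2 : ℕ) ^ (0 + 1) = 2 := by norm_num
        rw [h2]
        exact this
    | succ i ih =>
      by_cases h1 : N ≤ Subgroup.upperCentralSeries T (i + 1)
      · exact Or.inl h1
      · right
        have h0 : ¬ N ≤ Subgroup.upperCentralSeries T i := fun h0 =>
          h1 (h0.trans (Subgroup.upperCentralSeries_mono T (Nat.le_succ i)))
        have hc := ih.resolve_left h0
        obtain ⟨n, hn, hn1, hn0⟩ := exists_mem_ucs_succ_not_mem hT N (i + 1) h1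
        have hle : N ⊓ Subgroup.upperCentralSeries T (i + 1) ≤ N ⊓ Subgroup.upperCentralSeries T (i + 1 + 1) :=
          inf_le_inf_left _ (Subgroup.upperCentralSeries_mono T (Nat.le_succ _))
        obtain ⟨m, hm⟩ := Subgroup.card_dvd_of_le hle
        have hm0 : m ≠ 0 := by
          rintro rfl
          rw [mul_zero] at hm
          exact Nat.card_pos.ne' hm
        have hm1 : m ≠ 1 := by
          rintro rfl
          rw [mul_one] at hm
          have := Subgroup.eq_of_le_of_card_ge hle hm.le
          apply hn0
          have h2 : n ∈ N ⊓ Subgroup.upperCentralSeries T (i + 1 + 1) := ⟨hn, hn1⟩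
          rw [← this] at h2
          exact h2.2
        have hm2 : 2 ≤ m := by omega
        calc 2 ^ (i + 1 + 1) = 2 ^ (i + 1) * 2 := by ring
          _ ≤ Nat.card ↥(N ⊓ Subgroup.upperCentralSeries T (i + 1)) * m := Nat.mul_le_mul hc hm2
          _ = _ := hm.symm
  cases j with
  | zero =>
    have h1 : Nat.card ↥N = 1 := le_antisymm (by simpa using h) Nat.card_pos
    rw [Subgroup.card_eq_one] at h1
    rw [h1]
    exact bot_le
  | succ i =>
    rcases key i with h1 | h1
    · exact h1.trans (Subgroup.upperCentralSeries_mono T (Nat.le_succ i))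
    · have h2 : Nat.card ↥(N ⊓ Subgroup.upperCentralSeries T (i + 1)) ≤ Nat.card ↥N :=
        Subgroup.card_le_of_le inf_le_left
      have h3 : N ⊓ Subgroup.upperCentralSeries T (i + 1) = N :=
        Subgroup.eq_of_le_of_card_ge inf_le_left (by omega)
      rw [← h3]
      exact inf_le_right

/-- Under the Ru-type hypothesis the first four terms of the upper central series have
orders `2, 4, 8, 16`. -/
theorem card_ucs_of_card_four (hT : IsPGroup 2 T) (h4 : Nat.card ↥(Subgroup.upperCentralSeries T 4) = 16)
    (hlt : 16 < Nat.card T) :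
    Nat.card ↥(Subgroup.upperCentralSeries T 1) = 2 ∧ Nat.card ↥(Subgroup.upperCentralSeries T 2) = 4 ∧
      Nat.card ↥(Subgroup.upperCentralSeries T 3) = 8 := by
  haveI : Fact (Nat.Prime 2) := ⟨Nat.prime_two⟩
  haveI : Group.IsNilpotent T := hT.isNilpotent
  have hne4 : Subgroup.upperCentralSeries T 4 ≠ ⊤ := by
    intro h
    rw [h, Subgroup.card_top] at h4
    omega
  have hne : ∀ i, i ≤ 4 → Subgroup.upperCentralSeries T i ≠ ⊤ := by
    intro i hi h
    apply hne4
    have := Subgroup.upperCentralSeries_mono T hi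
    rw [h] at this
    exact top_le_iff.mp this
  have hlt' : ∀ i, i ≤ 4 → Nat.card ↥(Subgroup.upperCentralSeries T i) <
      Nat.card ↥(Subgroup.upperCentralSeries T (i + 1)) := by
    intro i hi
    have h1 := ucs_lt_succ i (hne i hi)
    by_contra hcon
    push Not at hcon
    have := Subgroup.eq_of_le_of_card_ge h1.le hcon
    exact h1.ne this
  have hpow : ∀ i, ∃ e, Nat.card ↥(Subgroup.upperCentralSeries T i) = 2 ^ e := fun i =>
    (IsPGroup.iff_card.mp (hT.to_subgroup (Subgroup.upperCentralSeries T i)))
  obtain ⟨e1, he1⟩ := hpow 1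
  obtain ⟨e2, he2⟩ := hpow 2
  obtain ⟨e3, he3⟩ := hpow 3
  have h0 : Nat.card ↥(Subgroup.upperCentralSeries T 0) = 1 := by
    rw [Subgroup.upperCentralSeries_zero]
    exact Subgroup.card_bot
  have l0 := hlt' 0 (by norm_num)
  have l1 := hlt' 1 (by norm_num)
  have l2 := hlt' 2 (by norm_num)
  have l3 := hlt' 3 (by norm_num)
  simp only [zero_add, Nat.reduceAdd] at l0 l1 l2 l3
  rw [h0, he1] at l0
  rw [he1, he2] at l1
  rw [he2, he3] at l2
  rw [he3, h4] at l3
  have a1 : 0 < e1 := by
    rcases Nat.eq_zero_or_pos e1 with h | h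
    · rw [h] at l0; simp at l0
    · exact h
  have a2 : e1 < e2 := (Nat.pow_lt_pow_iff_right (by norm_num)).mp l1
  have a3 : e2 < e3 := (Nat.pow_lt_pow_iff_right (by norm_num)).mp l2
  have a4 : e3 < 4 := by
    have : (2 : ℕ) ^ e3 < 2 ^ 4 := by simpa using l3
    exact (Nat.pow_lt_pow_iff_right (by norm_num)).mp this
  have b1 : e1 = 1 := by omega
  have b2 : e2 = 2 := by omega
  have b3 : e3 = 3 := by omega
  subst b1 b2 b3
  exact ⟨by simpa using he1, by simpa using he2, by simpa using he3⟩

end twogroup

end Cfsg.Agent.Lib.Helper53
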