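import Mathlib
import Cfsg.Agent.Lib.Helper53.CenterMeet
import Cfsg.Agent.Lib.Helper53.RuUCS

set_option autoImplicit false
set_option linter.style.haveILetI false
set_option linter.unnecessarySimpa false
set_option linter.unusedVariables false

/-!
# Upper central series of a finite `p`-group and small normal subgroups

* `exists_mem_ucs_succ_not_mem_p` : a normal subgroup not contained in `Z_i` contains an element
  of `Z_{i+1} \ Z_i`.
* `normal_le_ucs_of_card_le_p` : a normal subgroup of order at most `p^j` lies in `Z_j`.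
* `normal_le_center_of_card_prime` : a normal subgroup of order `p` is central.
* `comm_mem_center_of_normal_card_sq` : commutators with a normal subgroup of order `p^2` are
  central.
-/

namespace Cfsg.Agent.Lib.Helper53

open scoped commutatorElement

variable {T : Type*} [Group T] [Finite T]

/-- A normal subgroup not contained in `Z_i` contains an element of `Z_{i+1} \ Z_i`. -/
theorem exists_mem_ucs_succ_not_mem_p {p : ℕ} [hp : Fact p.Prime] (hT : IsPGroup p T)
    (N : Subgroup T) [hN : N.Normal] (i : ℕ)
    (h : ¬ N ≤ Subgroup.upperCentralSeries T i) :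
    ∃ n ∈ N, n ∈ Subgroup.upperCentralSeries T (i + 1) ∧ n ∉ Subgroup.upperCentralSeries T i := by
  set Z := Subgroup.upperCentralSeries T i with hZ
  set π := QuotientGroup.mk' Z with hπ
  have hπs : Function.Surjective π := QuotientGroup.mk'_surjective Z
  haveI : (N.map π).Normal := Subgroup.Normal.map hN π hπs
  have hQ : IsPGroup p (T ⧸ Z) := hT.to_quotient Z
  have hne : N.map π ≠ ⊥ := by
    intro hbot
    apply h
    intro n hn
    have : π n ∈ N.map π := Subgroup.mem_map_of_mem π hn
    rw [hbot, Subgroup.mem_bot] at this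
    exact (QuotientGroup.eq_one_iff n).mp this
  obtain ⟨b, hbN, hb1, hbc⟩ := normal_meets_center hQ (N.map π) hne
  obtain ⟨n, hn, rfl⟩ := hbN
  refine ⟨n, hn, ?_, ?_⟩
  · rw [Subgroup.mem_upperCentralSeries_succ_iff]
    intro y
    rw [Subgroup.mem_center_iff] at hbc
    have h1 := hbc (π y)
    rw [← hZ, ← QuotientGroup.eq_one_iff, commutatorElement_def]
    show π (n * y * n⁻¹ * y⁻¹) = 1
    rw [map_mul, map_mul, map_mul, map_inv, map_inv, ← h1]
    group
  · intro hn'
    apply hb1
    exact (QuotientGroup.eq_one_iff n).mpr hn'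

/-- A normal subgroup of order at most `p^j` of a finite `p`-group lies in `Z_j`. -/
theorem normal_le_ucs_of_card_le_p {p : ℕ} [hp : Fact p.Prime] (hT : IsPGroup p T)
    (N : Subgroup T) [hN : N.Normal] (j : ℕ)
    (h : Nat.card ↥N ≤ p ^ j) : N ≤ Subgroup.upperCentralSeries T j := by
  have hp2 : 2 ≤ p := hp.out.two_le
  have key : ∀ i : ℕ, N ≤ Subgroup.upperCentralSeries T i ∨
      p ^ (i + 1) ≤ Nat.card ↥(N ⊓ Subgroup.upperCentralSeries T (i + 1)) := by
    intro i
    induction i with
    | zero =>
      by_cases h0 : N ≤ Subgroup.upperCentralSeries T 0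
      · exact Or.inl h0
      · right
        obtain ⟨n, hn, hn1, hn0⟩ := exists_mem_ucs_succ_not_mem_p hT N 0 h0
        have hne : N ⊓ Subgroup.upperCentralSeries T (0 + 1) ≠ ⊥ := by
          intro hbot
          apply hn0
          have : n ∈ N ⊓ Subgroup.upperCentralSeries T (0 + 1) := ⟨hn, hn1⟩
          rw [hbot, Subgroup.mem_bot] at this
          rw [this]
          exact Subgroup.one_mem _
        have hpg : IsPGroup p ↥(N ⊓ Subgroup.upperCentralSeries T (0 + 1)) := hT.to_subgroup _
        obtain ⟨e, he⟩ := IsPGroup.iff_card.mp hpg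
        have h1 := (Subgroup.one_lt_card_iff_ne_bot _).mpr hne
        rw [he] at h1 ⊢
        have he0 : e ≠ 0 := by
          rintro rfl
          simp at h1
        exact Nat.pow_le_pow_right hp.out.pos (by omega)
    | succ i ih =>
      by_cases h1 : N ≤ Subgroup.upperCentralSeries T (i + 1)
      · exact Or.inl h1
      · right
        have h0 : ¬ N ≤ Subgroup.upperCentralSeries T i := fun h0 =>
          h1 (h0.trans (Subgroup.upperCentralSeries_mono T (Nat.le_succ i)))
        have hc := ih.resolve_left h0
        obtain ⟨n, hn, hn1, hn0⟩ := exists_mem_ucs_succ_not_mem_p hT N (i + 1) h1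
        have hle : N ⊓ Subgroup.upperCentralSeries T (i + 1) ≤
            N ⊓ Subgroup.upperCentralSeries T (i + 1 + 1) :=
          inf_le_inf_left _ (Subgroup.upperCentralSeries_mono T (Nat.le_succ _))
        have hlt : N ⊓ Subgroup.upperCentralSeries T (i + 1) <
            N ⊓ Subgroup.upperCentralSeries T (i + 1 + 1) := by
          refine lt_of_le_of_ne hle ?_
          intro heq
          apply hn0
          have h2 : n ∈ N ⊓ Subgroup.upperCentralSeries T (i + 1 + 1) := ⟨hn, hn1⟩
          rw [← heq] at h2
          exact h2.2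
        obtain ⟨e1, he1⟩ := IsPGroup.iff_card.mp
          (hT.to_subgroup (N ⊓ Subgroup.upperCentralSeries T (i + 1)))
        obtain ⟨e2, he2⟩ := IsPGroup.iff_card.mp
          (hT.to_subgroup (N ⊓ Subgroup.upperCentralSeries T (i + 1 + 1)))
        have hcl : Nat.card ↥(N ⊓ Subgroup.upperCentralSeries T (i + 1)) <
            Nat.card ↥(N ⊓ Subgroup.upperCentralSeries T (i + 1 + 1)) := by
          by_contra hcon
          exact hlt.ne (Subgroup.eq_of_le_of_card_ge hle (not_lt.mp hcon))
        rw [he1] at hc hcl
        rw [he2] at hcl ⊢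
        have h3 : i + 1 ≤ e1 := (Nat.pow_le_pow_iff_right hp.out.one_lt).mp hc
        have h4 : e1 < e2 := (Nat.pow_lt_pow_iff_right hp.out.one_lt).mp hcl
        exact Nat.pow_le_pow_right hp.out.pos (by omega)
  cases j with
  | zero =>
    have h1 : Nat.card ↥N = 1 := le_antisymm (by simpa using h) Nat.card_pos
    rw [Subgroup.card_eq_one] at h1
    rw [h1]
    exact bot_le
  | succ i =>
    rcases key i with h1 | h1
    · exact h1.trans (Subgroup.upperCentralSeries_mono T (Nat.le_succ i))
    · have h2 : Nat.card ↥(N ⊓ Subgroup.upperCentralSeries T (i + 1)) ≤ Nat.card ↥N :=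
        Subgroup.card_le_of_le inf_le_left
      have h3 : N ⊓ Subgroup.upperCentralSeries T (i + 1) = N :=
        Subgroup.eq_of_le_of_card_ge inf_le_left (by omega)
      rw [← h3]
      exact inf_le_right

/-- A normal subgroup of order `p` of a finite `p`-group is central. -/
theorem normal_le_center_of_card_prime {p : ℕ} [hp : Fact p.Prime] (hT : IsPGroup p T)
    (N : Subgroup T) [hN : N.Normal] (h : Nat.card ↥N = p) : N ≤ Subgroup.center T := by
  have h1 := normal_le_ucs_of_card_le_p hT N 1 (by rw [h, pow_one])
  rwa [Subgroup.upperCentralSeries_one] at h1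

/-- Commutators with elements of a normal subgroup of order `p ^ 2` are central. -/
theorem comm_mem_center_of_normal_card_sq {p : ℕ} [hp : Fact p.Prime] (hT : IsPGroup p T)
    (N : Subgroup T) [hN : N.Normal] (h : Nat.card ↥N = p ^ 2) {x : T} (hx : x ∈ N) (g : T) :
    ⁅x, g⁆ ∈ Subgroup.center T := by
  have h1 := normal_le_ucs_of_card_le_p hT N 2 h.le hx
  have h2 := (Subgroup.mem_upperCentralSeries_succ_iff (n := 1)).mp h1 g
  rwa [Subgroup.upperCentralSeries_one] at h2

end Cfsg.Agent.Lib.Helper53
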