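import Mathlib
import Cfsg.Prelude.Def_OddOrderLocal
import Cfsg.Agent.Lib.Helper53.Huppert

set_option autoImplicit false
set_option linter.style.haveILetI false
set_option linter.unusedSectionVars false
set_option linter.unusedVariables false

/-!
# `p`-central `p`-groups, `p` odd

A finite `p`-group (`p` odd) all of whose elements of order dividing `p` are central:
* `pc_pow_eq` : `a ^ p = b ^ p → (a⁻¹ * b) ^ p = 1`;
* `pcOmega` : the subgroup of elements of order dividing `p`;
* `pc_index_mho_le` : `|G : ℧₁(G)| ≤ |Ω₁(G)|`;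
* `pc_isMetacyclic` : if `|Ω₁(G)| ≤ p ^ 2` then `G` is metacyclic;
* `pc_exists_pow` : if `|G : ℧₁(G)| = |Ω₁(G)|` then every element of `℧₁(G)` is a `p`-th power.
-/

namespace Cfsg.Agent.Lib.Helper53

universe u

/-- `(x y)^n` when `y x = x y k` with `k` commuting with `x` and `y`. -/
theorem pc_pow_mul_comm {G : Type*} [Group G] (x y k : G) (hk : y * x = x * y * k)
    (hkx : Commute k x) (hky : Commute k y) (n : ℕ) : y ^ n * x = x * y ^ n * k ^ n := by
  induction n with
  | zero => simp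
  | succ n ih =>
    calc y ^ (n + 1) * x = y * (y ^ n * x) := by rw [pow_succ', mul_assoc]
      _ = y * (x * y ^ n * k ^ n) := by rw [ih]
      _ = (y * x) * y ^ n * k ^ n := by simp only [mul_assoc]
      _ = x * y * k * y ^ n * k ^ n := by rw [hk]
      _ = x * y * (k * y ^ n) * k ^ n := by simp only [mul_assoc]
      _ = x * y * (y ^ n * k) * k ^ n := by rw [(hky.pow_right n).eq]
      _ = x * (y * y ^ n) * (k * k ^ n) := by simp only [mul_assoc]
      _ = x * y ^ (n + 1) * k ^ (n + 1) := by rw [← pow_succ', ← pow_succ']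

theorem pc_mul_pow {G : Type*} [Group G] (x y k : G) (hk : y * x = x * y * k)
    (hkx : Commute k x) (hky : Commute k y) (n : ℕ) :
    (x * y) ^ n = x ^ n * y ^ n * k ^ (n.choose 2) := by
  induction n with
  | zero => simp
  | succ n ih =>
    have h1 := pc_pow_mul_comm x y k hk hkx hky n
    have h2 : (n + 1).choose 2 = n + n.choose 2 := by
      rw [Nat.choose_succ_succ' n 1, Nat.choose_one_right]
    calc (x * y) ^ (n + 1) = (x * y) ^ n * (x * y) := pow_succ _ _
      _ = x ^ n * y ^ n * k ^ (n.choose 2) * (x * y) := by rw [ih]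
      _ = x ^ n * y ^ n * (k ^ (n.choose 2) * x) * y := by simp only [mul_assoc]
      _ = x ^ n * y ^ n * (x * k ^ (n.choose 2)) * y := by rw [(hkx.pow_left _).eq]
      _ = x ^ n * (y ^ n * x) * k ^ (n.choose 2) * y := by simp only [mul_assoc]
      _ = x ^ n * (x * y ^ n * k ^ n) * k ^ (n.choose 2) * y := by rw [h1]
      _ = x ^ n * x * y ^ n * (k ^ n * k ^ (n.choose 2) * y) := by simp only [mul_assoc]
      _ = x ^ n * x * y ^ n * (y * (k ^ n * k ^ (n.choose 2))) := by
          rw [← pow_add, ((hky.pow_left _).eq)]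
      _ = (x ^ n * x) * (y ^ n * y) * k ^ (n + n.choose 2) := by
          rw [pow_add]; simp only [mul_assoc]
      _ = x ^ (n + 1) * y ^ (n + 1) * k ^ ((n + 1).choose 2) := by
          rw [← pow_succ, ← pow_succ, h2]

theorem pc_card_lt_of_ne_top {G : Type*} [Group G] [Finite G] (H : Subgroup G) (h : H ≠ ⊤) :
    Nat.card H < Nat.card G := by
  by_contra hcon
  apply h
  apply Subgroup.eq_top_of_card_eq
  exact le_antisymm (Subgroup.card_le_card_group H) (not_lt.mp hcon)

/-- The key power lemma for `p`-central groups, inductive form. -/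
theorem pc_pow_eq_aux {p : ℕ} [hpf : Fact p.Prime] (hp2 : p ≠ 2) :
    ∀ (n : ℕ) (G : Type u) [Group G] [Finite G], Nat.card G = n → IsPGroup p G →
      (∀ x : G, x ^ p = 1 → x ∈ Subgroup.center G) →
      ∀ a b : G, a ^ p = b ^ p → (a⁻¹ * b) ^ p = 1 := by
  intro n
  induction n using Nat.strong_induction_on with
  | _ n ih =>
  intro G _ _ hn hG hc a b hab
  have hp := hpf.out
  by_cases hcyc : Subgroup.zpowers a = ⊤
  · have hb : b ∈ Subgroup.zpowers a := by rw [hcyc]; exact Subgroup.mem_top b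
    obtain ⟨k, rfl⟩ := Subgroup.mem_zpowers_iff.mp hb
    have hcomm : Commute a⁻¹ (a ^ k) := ((Commute.refl a).zpow_right k).inv_left
    rw [hcomm.mul_pow, inv_pow, hab, inv_mul_cancel]
  · obtain ⟨M, hM, hle⟩ := (eq_top_or_exists_le_coatom (Subgroup.zpowers a)).resolve_left hcyc
    haveI : Group.IsNilpotent G := hG.isNilpotent
    haveI hMn : M.Normal :=
      Subgroup.NormalizerCondition.normal_of_coatom M Group.normalizerCondition_of_isNilpotent hM
    have haM : a ∈ M := hle (Subgroup.mem_zpowers a)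
    have hbM : b⁻¹ * a * b ∈ M := by
      have := hMn.conj_mem a haM b⁻¹
      simpa using this
    have hlt : Nat.card M < n := by
      rw [← hn]
      exact pc_card_lt_of_ne_top M hM.1
    have hMc : ∀ x : ↥M, x ^ p = 1 → x ∈ Subgroup.center ↥M := by
      intro x hx
      have h1 : (x : G) ^ p = 1 := by
        have := congrArg Subtype.val hx
        simpa using this
      have h2 := hc (x : G) h1
      rw [Subgroup.mem_center_iff] at h2 ⊢
      intro g
      apply Subtype.ext
      simpa using h2 (g : G)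
    have hpow : (⟨a, haM⟩ : ↥M) ^ p = (⟨b⁻¹ * a * b, hbM⟩ : ↥M) ^ p := by
      apply Subtype.ext
      show a ^ p = (b⁻¹ * a * b) ^ p
      have h1 : (b⁻¹ * a * b) ^ p = b⁻¹ * a ^ p * b := by
        have := conj_pow (a := b⁻¹) (b := a) (i := p)
        simpa using this
      rw [h1, hab]
      group
    have hih := ih (Nat.card M) hlt ↥M rfl (hG.to_subgroup M) hMc ⟨a, haM⟩ ⟨b⁻¹ * a * b, hbM⟩ hpow
    have hk : (a⁻¹ * (b⁻¹ * a * b)) ^ p = 1 := by
      have := congrArg Subtype.val hih
      simpa using this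
    set k := a⁻¹ * (b⁻¹ * a * b) with hkdef
    have hkc : k ∈ Subgroup.center G := hc k hk
    have hkcomm : ∀ g : G, Commute k g := fun g => (Subgroup.mem_center_iff.mp hkc g).symm
    have hrel : b * a⁻¹ = a⁻¹ * b * k := by
      have h1 : a * k * a⁻¹ = k := by
        rw [(hkcomm a).eq.symm, mul_inv_cancel_right]
      have h2 : a * k * a⁻¹ = b⁻¹ * a * b * a⁻¹ := by
        rw [hkdef]; group
      rw [← h1, h2]
      group
    have hform := pc_mul_pow a⁻¹ b k hrel (hkcomm a⁻¹) (hkcomm b) p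
    have hp3 : 2 < p := by
      have := hp.two_le
      omega
    have hk2 : k ^ (p.choose 2) = 1 := by
      obtain ⟨c, hc'⟩ := hp.dvd_choose_self (by norm_num : (2 : ℕ) ≠ 0) hp3
      rw [hc', pow_mul, hk, one_pow]
    rw [hform, hk2, mul_one, inv_pow, hab, inv_mul_cancel]

/-- **The power lemma for `p`-central groups** (`p` odd). -/
theorem pc_pow_eq {G : Type u} [Group G] [Finite G] {p : ℕ} [Fact p.Prime] (hp2 : p ≠ 2)
    (hG : IsPGroup p G) (hc : ∀ x : G, x ^ p = 1 → x ∈ Subgroup.center G) {a b : G}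
    (hab : a ^ p = b ^ p) : (a⁻¹ * b) ^ p = 1 :=
  pc_pow_eq_aux hp2 _ G rfl hG hc a b hab

/-- The elements of order dividing `p`, when they are all central. -/
def pcOmega {G : Type*} [Group G] (p : ℕ) (hc : ∀ x : G, x ^ p = 1 → x ∈ Subgroup.center G) :
    Subgroup G where
  carrier := {x | x ^ p = 1}
  mul_mem' := by
    intro x y hx hy
    have hx' : x ^ p = 1 := hx
    have hy' : y ^ p = 1 := hy
    have hcomm : Commute x y := Subgroup.mem_center_iff.mp (hc y hy') x
    show (x * y) ^ p = 1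
    rw [hcomm.mul_pow, hx', hy', one_mul]
  one_mem' := one_pow p
  inv_mem' := by
    intro x hx
    have hx' : x ^ p = 1 := hx
    show x⁻¹ ^ p = 1
    rw [inv_pow, hx', inv_one]

theorem mem_pcOmega {G : Type*} [Group G] (p : ℕ)
    (hc : ∀ x : G, x ^ p = 1 → x ∈ Subgroup.center G) (x : G) :
    x ∈ pcOmega p hc ↔ x ^ p = 1 := Iff.rfl

instance pcOmega_normal {G : Type*} [Group G] (p : ℕ)
    (hc : ∀ x : G, x ^ p = 1 → x ∈ Subgroup.center G) : (pcOmega p hc).Normal := by
  constructor
  intro n hn g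
  rw [mem_pcOmega] at hn ⊢
  rw [conj_pow, hn, mul_one, mul_inv_cancel]

section counting

variable {G : Type u} [Group G] [Finite G] {p : ℕ} [hpf : Fact p.Prime]

/-- the map `G / Ω₁(G) → ℧₁(G)`, `x ↦ x ^ p`, is injective -/
theorem pc_powMap_injective (hp2 : p ≠ 2) (hG : IsPGroup p G)
    (hc : ∀ x : G, x ^ p = 1 → x ∈ Subgroup.center G) :
    Function.Injective (fun q : G ⧸ pcOmega p hc =>
      (⟨(q.out) ^ p, pow_mem_mhoOne p q.out⟩ : ↥(mhoOne p G))) := by
  intro q q' hq
  have h1 : (q.out) ^ p = (q'.out) ^ p := congrArg Subtype.val hq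
  have h2 := pc_pow_eq hp2 hG hc h1
  have h3 : (q.out)⁻¹ * q'.out ∈ pcOmega p hc := h2
  have h4 : (QuotientGroup.mk q.out : G ⧸ pcOmega p hc) = QuotientGroup.mk q'.out :=
    QuotientGroup.eq.mpr h3
  rwa [QuotientGroup.out_eq', QuotientGroup.out_eq'] at h4

theorem pc_index_mho_le (hp2 : p ≠ 2) (hG : IsPGroup p G)
    (hc : ∀ x : G, x ^ p = 1 → x ∈ Subgroup.center G) :
    (mhoOne p G).index ≤ Nat.card (pcOmega p hc) := by
  have h1 := Nat.card_le_card_of_injective _ (pc_powMap_injective hp2 hG hc)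
  have h2 := Subgroup.card_eq_card_quotient_mul_card_subgroup (pcOmega p hc)
  have h3 := Subgroup.card_mul_index (mhoOne p G)
  have hpos : 0 < Nat.card ↥(mhoOne p G) := Nat.card_pos
  have h4 : Nat.card ↥(mhoOne p G) * (mhoOne p G).index ≤
      Nat.card ↥(mhoOne p G) * Nat.card (pcOmega p hc) := by
    rw [h3, h2]
    exact Nat.mul_le_mul_right _ h1
  exact Nat.le_of_mul_le_mul_left h4 hpos

/-- A `p`-central `p`-group, `p` odd, with at most `p ^ 2` elements of order dividing `p`
is metacyclic. -/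
theorem pc_isMetacyclic (hp2 : p ≠ 2) (hG : IsPGroup p G)
    (hc : ∀ x : G, x ^ p = 1 → x ∈ Subgroup.center G)
    (hcard : Nat.card (pcOmega p hc) ≤ p ^ 2) : Cfsg.IsMetacyclic G := by
  have hp := hpf.out
  apply isMetacyclic_of_mho_index hp2 hG
  have h1 := (pc_index_mho_le hp2 hG hc).trans hcard
  obtain ⟨j, hj⟩ := hG.index (mhoOne p G)
  rw [hj] at h1 ⊢
  have hj2 : j ≤ 2 := (Nat.pow_le_pow_iff_right hp.one_lt).mp h1
  exact pow_dvd_pow p hj2

/-- If `|G : ℧₁(G)| = |Ω₁(G)|` then every element of `℧₁(G)` is a `p`-th power. -/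
theorem pc_exists_pow (hp2 : p ≠ 2) (hG : IsPGroup p G)
    (hc : ∀ x : G, x ^ p = 1 → x ∈ Subgroup.center G)
    (hidx : Nat.card (pcOmega p hc) ≤ (mhoOne p G).index) :
    ∀ y ∈ mhoOne p G, ∃ x : G, x ^ p = y := by
  have hinj := pc_powMap_injective hp2 hG hc
  have h2 := Subgroup.card_eq_card_quotient_mul_card_subgroup (pcOmega p hc)
  have h3 := Subgroup.card_mul_index (mhoOne p G)
  have hle : Nat.card ↥(mhoOne p G) ≤ Nat.card (G ⧸ pcOmega p hc) := by
    have hpos : 0 < Nat.card (pcOmega p hc) := Nat.card_pos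
    have h4 : Nat.card ↥(mhoOne p G) * Nat.card (pcOmega p hc) ≤
        Nat.card (G ⧸ pcOmega p hc) * Nat.card (pcOmega p hc) := by
      rw [← h2, ← h3]
      exact Nat.mul_le_mul_left _ hidx
    exact Nat.le_of_mul_le_mul_right h4 hpos
  have hbij : Function.Bijective (fun q : G ⧸ pcOmega p hc =>
      (⟨(q.out) ^ p, pow_mem_mhoOne p q.out⟩ : ↥(mhoOne p G))) := by
    rw [Nat.bijective_iff_injective_and_card]
    exact ⟨hinj, le_antisymm (Nat.card_le_card_of_injective _ hinj) hle⟩
  intro y hy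
  obtain ⟨q, hq⟩ := hbij.2 ⟨y, hy⟩
  exact ⟨q.out, congrArg Subtype.val hq⟩

end counting

end Cfsg.Agent.Lib.Helper53
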