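import Mathlib
import Cfsg.Agent.Lib.Helper29.CyclicMax
import Cfsg.Prelude.Def_OddOrderLocal

set_option autoImplicit false
set_option linter.unusedSectionVars false
set_option linter.style.haveILetI false
set_option maxHeartbeats 1000000

/-!
In a metacyclic `p`-group, `p` odd, the elements of order dividing `p` form a subgroup of order
at most `p ^ 2`.
-/

namespace Cfsg.Agent.Lib.Helper53

/-- A cyclic group all of whose elements satisfy `x ^ p = 1` has order dividing `p`. -/
theorem card_dvd_of_isCyclic_of_forall_pow {C : Type*} [Group C] [IsCyclic C] (p : ℕ)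
    (h : ∀ x : C, x ^ p = 1) : Nat.card C ∣ p := by
  rw [← IsCyclic.exponent_eq_card]
  exact Monoid.exponent_dvd_of_forall_pow_eq_one h

theorem exists_omega_of_metacyclic {R : Type*} [Group R] [Finite R] {p : ℕ} [hpf : Fact p.Prime]
    (hp2 : p ≠ 2) (hR : IsPGroup p R) (hm : Cfsg.IsMetacyclic R) :
    ∃ W : Subgroup R, (∀ x : R, x ∈ W ↔ x ^ p = 1) ∧ Nat.card W ≤ p ^ 2 := by
  have hp : p.Prime := hpf.out
  obtain ⟨N, hNn, hNc, hQc⟩ := hm
  haveI := hNn
  haveI := hNc
  haveI := hQc
  have hcommQ : ∀ a b : R ⧸ N, Commute a b := fun a b =>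
    (IsCyclic.isMulCommutative (α := R ⧸ N)).is_comm.comm a b
  let M : Subgroup R :=
    { carrier := {x | x ^ p ∈ N}
      one_mem' := by simp
      mul_mem' := by
        intro x y hx hy
        simp only [Set.mem_ofPred_eq] at hx hy ⊢
        rw [← QuotientGroup.eq_one_iff] at hx hy ⊢
        rw [QuotientGroup.mk_pow] at hx hy ⊢
        rw [QuotientGroup.mk_mul, (hcommQ _ _).mul_pow, hx, hy, one_mul]
      inv_mem' := by
        intro x hx
        simp only [Set.mem_ofPred_eq] at hx ⊢
        rw [inv_pow]
        exact N.inv_mem hx }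
  have hMmem : ∀ x : R, x ∈ M ↔ x ^ p ∈ N := fun x => Iff.rfl
  have hNM : N ≤ M := fun x hx => (hMmem x).2 (N.pow_mem hx p)
  have hsol : ∀ x : R, x ^ p = 1 → x ∈ M := fun x hx => (hMmem x).2 (hx ▸ N.one_mem)
  by_cases hMc : IsCyclic M
  · obtain ⟨c, hcM⟩ := (Subgroup.isCyclic_iff_exists_zpowers_eq_top M).1 hMc
    have hcomM : ∀ x ∈ M, ∀ y ∈ M, x * y = y * x := by
      intro x hx y hy
      rw [← hcM] at hx hy
      exact Cfsg.Agent.Lib.Helper29.zpowers_comm c x hx y hy
    let W : Subgroup R :=
      { carrier := {x | x ^ p = 1}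
        one_mem' := by simp
        mul_mem' := by
          intro x y hx hy
          simp only [Set.mem_ofPred_eq] at hx hy ⊢
          have hc : Commute x y := hcomM x (hsol x hx) y (hsol y hy)
          rw [hc.mul_pow, hx, hy, one_mul]
        inv_mem' := by
          intro x hx
          simp only [Set.mem_ofPred_eq] at hx ⊢
          rw [inv_pow, hx, inv_one] }
    refine ⟨W, fun x => Iff.rfl, ?_⟩
    have hWc : W ≤ Subgroup.zpowers c := fun x hx => hcM ▸ hsol x hx
    have h1 : Nat.card W ∣ p :=
      Cfsg.Agent.Lib.Helper29.card_dvd_of_le_zpowers_of_pow_eq_one W c hWc (fun x hx => hx)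
    calc Nat.card W ≤ p := Nat.le_of_dvd hp.pos h1
      _ ≤ p ^ 2 := by nlinarith [hp.two_le]
  · -- `N` has index `p` in `M`
    have hrel_dvd : N.relIndex M ∣ p := by
      have h1 : N.relIndex M = Nat.card (M.map (QuotientGroup.mk' N)) := by
        have := Subgroup.relIndex_ker M (QuotientGroup.mk' N)
        rwa [QuotientGroup.ker_mk'] at this
      rw [h1]
      apply card_dvd_of_isCyclic_of_forall_pow
      rintro ⟨y, x, hx, rfl⟩
      apply Subtype.ext
      rw [Subgroup.coe_pow, Subgroup.coe_one]
      show (QuotientGroup.mk' N x) ^ p = 1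
      rw [← map_pow]
      exact (QuotientGroup.eq_one_iff _).2 ((hMmem x).1 hx)
    have hrel_ne : N.relIndex M ≠ 1 := by
      intro h
      have hMN : M ≤ N := Subgroup.relIndex_eq_one.1 h
      have : M = N := le_antisymm hMN hNM
      exact hMc (this ▸ hNc)
    have hrel : N.relIndex M = p := by
      rcases (Nat.dvd_prime hp).1 hrel_dvd with h | h
      · exact absurd h hrel_ne
      · exact h
    have hCc : IsCyclic (N.subgroupOf M) :=
      isCyclic_of_surjective (Subgroup.subgroupOfEquivOfLe hNM).symm
        (Subgroup.subgroupOfEquivOfLe hNM).symm.surjective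
    obtain ⟨W', hW', hW'card⟩ := Cfsg.Agent.Lib.Helper29.exists_omega_card_sq hp2
      (hR.to_subgroup M) hMc (N.subgroupOf M) hCc hrel
    refine ⟨W'.map M.subtype, ?_, ?_⟩
    · intro x
      constructor
      · rintro ⟨y, hy, rfl⟩
        have := (hW' y).1 hy
        have h2 := congrArg (fun w : M => (w : R)) this
        simpa using h2
      · intro hx
        refine ⟨⟨x, hsol x hx⟩, (hW' _).2 ?_, rfl⟩
        apply Subtype.ext
        rw [Subgroup.coe_pow, Subgroup.coe_one]
        exact hx
    · rw [Subgroup.card_map_of_injective M.subtype_injective, hW'card]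

end Cfsg.Agent.Lib.Helper53
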