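import Mathlib
import Cfsg.Prelude.Def_OddOrderLocal
import Cfsg.Agent.Lib.Helper53.MetaOmega
import Cfsg.Agent.Lib.Helper53.MetaPow
import Cfsg.Agent.Lib.Helper53.PUCS
import Cfsg.Agent.Lib.Helper52.NormalRankTwo
import Cfsg.Agent.Lib.Helper54.CyclicDerived
import Cfsg.Agent.Lib.Helper70.Kulakoff3

set_option autoImplicit false
set_option linter.style.haveILetI false
set_option linter.unusedSectionVars false
set_option linter.unusedVariables false

/-!
# Metacyclic `p`-groups without cyclic maximal subgroups (`p` odd): `Ω₁`, `Ω₂` and the power map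

For a metacyclic `p`-group `L`, `p` odd, with no cyclic subgroup of index `p`:
* `E = Ω₁(L) = {x | x ^ p = 1}` is a subgroup of order `p ^ 2`;
* `W = Ω₂(L) = {x | x ^ p ∈ E}` is a subgroup of order `p ^ 4`, of class at most two with
  commutators of order dividing `p`, and `x ↦ x ^ p` maps `W` onto `E`, which is central in `W`.
-/

namespace Cfsg.Agent.Lib.Helper53

open scoped commutatorElement

/-- A group admitting an injective homomorphism into a metacyclic group is metacyclic. -/
theorem ma_isMetacyclic_of_injective {H : Type*} {S : Type*} [Group H] [Group S] (f : H →* S)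
    (hf : Function.Injective f) (hS : Cfsg.IsMetacyclic S) : Cfsg.IsMetacyclic H := by
  obtain ⟨N, hNn, hNc, hQc⟩ := hS
  refine ⟨N.comap f, hNn.comap f, ?_, ?_⟩
  · haveI := hNc
    apply isCyclic_of_injective (f.subgroupComap N)
    intro a b hab
    apply Subtype.ext
    apply hf
    exact congrArg Subtype.val hab
  · haveI := hQc
    haveI : (N.comap f).Normal := hNn.comap f
    apply isCyclic_of_injective (QuotientGroup.map (N.comap f) N f le_rfl)
    rw [injective_iff_map_eq_one]
    intro y hy
    obtain ⟨x, rfl⟩ := QuotientGroup.mk'_surjective _ y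
    rw [QuotientGroup.mk'_apply, QuotientGroup.map_mk, QuotientGroup.eq_one_iff] at hy
    exact (QuotientGroup.eq_one_iff x).2 hy

/-- A quotient of a metacyclic group is metacyclic. -/
theorem ma_isMetacyclic_quotient {L : Type*} [Group L] (hm : Cfsg.IsMetacyclic L)
    (K : Subgroup L) [K.Normal] : Cfsg.IsMetacyclic (L ⧸ K) := by
  obtain ⟨N, hNn, hNc, hQc⟩ := hm
  haveI := hNn
  have hs : Function.Surjective (QuotientGroup.mk' K) := QuotientGroup.mk'_surjective K
  haveI hN'n : (N.map (QuotientGroup.mk' K)).Normal := Subgroup.Normal.map hNn _ hs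
  refine ⟨N.map (QuotientGroup.mk' K), hN'n, ?_, ?_⟩
  · haveI := hNc
    exact isCyclic_of_surjective ((QuotientGroup.mk' K).subgroupMap N)
      ((QuotientGroup.mk' K).subgroupMap_surjective N)
  · haveI := hQc
    apply isCyclic_of_surjective
      (QuotientGroup.map N (N.map (QuotientGroup.mk' K)) (QuotientGroup.mk' K)
        (Subgroup.le_comap_map _ _))
    intro y
    obtain ⟨y', rfl⟩ := QuotientGroup.mk_surjective y
    obtain ⟨x, rfl⟩ := QuotientGroup.mk_surjective y'
    exact ⟨QuotientGroup.mk x, rfl⟩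

section omega

variable {L : Type*} [Group L] [Finite L] {p : ℕ} [hpf : Fact p.Prime]

/-- The set `{x | x ^ p = 1}`, when a subgroup, is normal. -/
theorem ma_normal_of_omega (E : Subgroup L) (hE : ∀ x : L, x ∈ E ↔ x ^ p = 1) : E.Normal := by
  constructor
  intro n hn g
  rw [hE] at hn ⊢
  rw [conj_pow, hn, mul_one, mul_inv_cancel]

/-- In a noncyclic metacyclic `p`-group, `p` odd, the elements of order dividing `p` form a
subgroup of order exactly `p ^ 2`. -/
theorem ma_exists_omega (hp2 : p ≠ 2) (hL : IsPGroup p L) (hm : Cfsg.IsMetacyclic L)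
    (hnc : ¬ IsCyclic L) :
    ∃ E : Subgroup L, (∀ x : L, x ∈ E ↔ x ^ p = 1) ∧ Nat.card E = p ^ 2 := by
  obtain ⟨E, hE, hEc⟩ := exists_omega_of_metacyclic hp2 hL hm
  refine ⟨E, hE, le_antisymm hEc ?_⟩
  rcases Cfsg.Agent.Lib.Helper52.normal_rank_two p hL with ⟨N, hNn, hNc, hNe⟩ | hc | ⟨h2, _⟩
  · have hle : N ≤ E := fun x hx => (hE x).2 (hNe x hx)
    rw [← hNc]
    exact Subgroup.card_le_of_le hle
  · exact absurd hc hnc
  · exact absurd h2 hp2

/-- If `L` has no cyclic subgroup of index `p`, then `L / Ω₁(L)` is not cyclic. -/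
theorem ma_not_isCyclic_quotient (hL : IsPGroup p L) (E : Subgroup L) [hEn : E.Normal]
    (hE : ∀ x : L, x ∈ E ↔ x ^ p = 1) (hEc : Nat.card E = p ^ 2)
    (hnc : ∀ C : Subgroup L, IsCyclic C → C.index ≠ p) : ¬ IsCyclic (L ⧸ E) := by
  intro hcyc
  have hp := hpf.out
  obtain ⟨q, hq⟩ := hcyc.exists_generator
  obtain ⟨g, rfl⟩ := QuotientGroup.mk_surjective q
  set C := Subgroup.zpowers g with hC
  have hsup : C ⊔ E = ⊤ := by
    rw [eq_top_iff]
    intro x _
    obtain ⟨k, hk⟩ := Subgroup.mem_zpowers_iff.mp (hq (QuotientGroup.mk x))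
    have h1 : (QuotientGroup.mk (g ^ k) : L ⧸ E) = QuotientGroup.mk x := by
      rw [← hk]; rfl
    have h2 : (g ^ k)⁻¹ * x ∈ E := QuotientGroup.eq.mp h1
    have h3 : x = g ^ k * ((g ^ k)⁻¹ * x) := by group
    rw [h3]
    exact Subgroup.mul_mem_sup (Subgroup.zpow_mem_zpowers g k) h2
  -- index computation
  have h1 : E.relIndex C = E.index := by
    have := Subgroup.relIndex_sup_right C E
    rw [hsup, Subgroup.relIndex_top_right] at this
    exact this.symm
  have h2 : Nat.card (E.subgroupOf C) * E.relIndex C = Nat.card C :=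
    Subgroup.card_mul_index (E.subgroupOf C)
  have h3 : Nat.card C * C.index = Nat.card L := Subgroup.card_mul_index C
  have h4 : Nat.card E * E.index = Nat.card L := Subgroup.card_mul_index E
  have hidx : E.index ≠ 0 := Subgroup.index_ne_zero_of_finite
  have h5 : Nat.card (E.subgroupOf C) * C.index = p ^ 2 := by
    have : Nat.card (E.subgroupOf C) * C.index * E.index = p ^ 2 * E.index := by
      rw [← hEc, h4, ← h3, ← h2, h1]; ring
    exact Nat.eq_of_mul_eq_mul_right (Nat.pos_of_ne_zero hidx) this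
  -- `E ⊓ C` is cyclic of exponent `p`
  haveI : IsCyclic ↥C := by rw [hC]; infer_instance
  have h6 : Nat.card (E.subgroupOf C) ∣ p := by
    apply card_dvd_of_isCyclic_of_forall_pow p
    intro x
    have := (hE (x : ↥C)).1 x.2
    apply Subtype.ext
    apply Subtype.ext
    simpa using this
  rcases (Nat.dvd_prime hp).mp h6 with h7 | h7
  · -- `E ⊓ C` trivial: then `C` is trivial
    rw [h7, one_mul] at h5
    have hCbot : Nat.card C = 1 := by
      by_contra hne
      have hCp : IsPGroup p ↥C := hL.to_subgroup C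
      obtain ⟨j, hj⟩ := IsPGroup.iff_card.mp hCp
      have hj0 : j ≠ 0 := by
        rintro rfl
        exact hne (by rw [hj, pow_zero])
      have hdvd : p ∣ Nat.card ↥C := by rw [hj]; exact dvd_pow_self p hj0
      haveI : Fintype ↥C := Fintype.ofFinite _
      rw [Nat.card_eq_fintype_card] at hdvd
      obtain ⟨x, hx⟩ := exists_prime_orderOf_dvd_card p hdvd
      have hx1 : x ≠ 1 := by
        intro h
        rw [h, orderOf_one] at hx
        exact hp.one_lt.ne hx
      have hxE : x ∈ E.subgroupOf C := by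
        rw [Subgroup.mem_subgroupOf, hE]
        have := pow_orderOf_eq_one x
        rw [hx] at this
        have h8 := congrArg Subtype.val this
        simpa using h8
      have h9 : E.subgroupOf C = ⊥ := Subgroup.card_eq_one.mp h7
      rw [h9, Subgroup.mem_bot] at hxE
      exact hx1 hxE
    -- then `L = E` has order `p ^ 2`, and any subgroup of order `p` is cyclic of index `p`
    rw [hCbot, one_mul] at h3
    have hLc : Nat.card L = p ^ 2 := by rw [← h3, h5]
    obtain ⟨K, hK⟩ := Sylow.exists_subgroup_card_pow_prime p (n := 1)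
      (by rw [hLc]; exact pow_dvd_pow p (by norm_num))
    rw [pow_one] at hK
    haveI : IsCyclic ↥K := isCyclic_of_prime_card hK
    apply hnc K inferInstance
    have := Subgroup.card_mul_index K
    rw [hK, hLc, pow_two] at this
    exact Nat.eq_of_mul_eq_mul_left hp.pos this
  · rw [h7, pow_two] at h5
    have h8 : C.index = p := Nat.eq_of_mul_eq_mul_left hp.pos h5
    exact hnc C inferInstance h8

/-- `Ω₂(L)` has order `p ^ 4`. -/
theorem ma_exists_omega_two (hp2 : p ≠ 2) (hL : IsPGroup p L) (hm : Cfsg.IsMetacyclic L)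
    (hnc : ∀ C : Subgroup L, IsCyclic C → C.index ≠ p)
    (E : Subgroup L) (hE : ∀ x : L, x ∈ E ↔ x ^ p = 1) (hEc : Nat.card E = p ^ 2) :
    ∃ W : Subgroup L, (∀ x : L, x ∈ W ↔ x ^ p ∈ E) ∧ Nat.card W = p ^ 4 := by
  haveI hEn : E.Normal := ma_normal_of_omega E hE
  have hQ : IsPGroup p (L ⧸ E) := hL.to_quotient E
  have hQm : Cfsg.IsMetacyclic (L ⧸ E) := ma_isMetacyclic_quotient hm E
  have hQnc : ¬ IsCyclic (L ⧸ E) := ma_not_isCyclic_quotient hL E hE hEc hnc
  obtain ⟨Wb, hWb, hWbc⟩ := ma_exists_omega hp2 hQ hQm hQnc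
  refine ⟨Wb.comap (QuotientGroup.mk' E), ?_, ?_⟩
  · intro x
    rw [Subgroup.mem_comap, hWb, QuotientGroup.mk'_apply, ← QuotientGroup.mk_pow,
      QuotientGroup.eq_one_iff]
  · have h1 : (Wb.comap (QuotientGroup.mk' E)).index = Wb.index :=
      Subgroup.index_comap_of_surjective Wb (QuotientGroup.mk'_surjective E)
    have h2 := Subgroup.card_mul_index (Wb.comap (QuotientGroup.mk' E))
    have h3 := Subgroup.card_mul_index Wb
    have h4 := Subgroup.card_eq_card_quotient_mul_card_subgroup E
    have hidx : Wb.index ≠ 0 := Subgroup.index_ne_zero_of_finite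
    rw [h1] at h2
    have : Nat.card ↥(Wb.comap (QuotientGroup.mk' E)) * Wb.index = p ^ 4 * Wb.index := by
      rw [h2, h4, ← h3, hWbc, hEc]; ring
    exact Nat.eq_of_mul_eq_mul_right (Nat.pos_of_ne_zero hidx) this

end omega

end Cfsg.Agent.Lib.Helper53
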