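import Mathlib
import Cfsg.Agent.Lib.Helper53.MetaAutA

set_option autoImplicit false
set_option linter.style.haveILetI false
set_option linter.unusedSectionVars false
set_option linter.unusedVariables false

/-!
# `Ω₂` of a metacyclic `p`-group: class two, the power map onto `Ω₁`
-/

namespace Cfsg.Agent.Lib.Helper53

open scoped commutatorElement

section

variable {L : Type*} [Group L] [Finite L] {p : ℕ} [hpf : Fact p.Prime]

/-- `Ω₂(L)` has class at most two with commutators of order dividing `p`. -/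
theorem ma_ctwo (hL : IsPGroup p L) (hm : Cfsg.IsMetacyclic L)
    (E : Subgroup L) (hE : ∀ x : L, x ∈ E ↔ x ^ p = 1) (hEc : Nat.card E = p ^ 2)
    (W : Subgroup L) (hW : ∀ x : L, x ∈ W ↔ x ^ p ∈ E) (hWc : Nat.card W = p ^ 4) :
    CTwo p ↥W := by
  have hp := hpf.out
  haveI hEn : E.Normal := ma_normal_of_omega E hE
  have hEW : E ≤ W := by
    intro x hx
    rw [hW, (hE x).1 hx]
    exact one_mem E
  have hWp : IsPGroup p ↥W := hL.to_subgroup W
  have hWm : Cfsg.IsMetacyclic ↥W := ma_isMetacyclic_of_injective W.subtype W.subtype_injective hm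
  obtain ⟨N, hNn, hNc, hQc⟩ := hWm
  haveI := hNn
  haveI := hNc
  -- commutators lie in `N`
  have hcN : ∀ x y : ↥W, ⁅x, y⁆ ∈ N := by
    intro x y
    rw [← QuotientGroup.eq_one_iff]
    haveI := hQc
    have hcomm : ∀ a b : ↥W ⧸ N, a * b = b * a := fun a b =>
      (IsCyclic.commGroup (α := ↥W ⧸ N)).mul_comm a b
    rw [commutatorElement_def]
    show ((x * y * x⁻¹ * y⁻¹ : ↥W) : ↥W ⧸ N) = 1
    rw [QuotientGroup.mk_mul, QuotientGroup.mk_mul, QuotientGroup.mk_mul, QuotientGroup.mk_inv,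
      QuotientGroup.mk_inv, hcomm (x : ↥W ⧸ N) (y : ↥W ⧸ N)]
    group
  -- commutators lie in `E`
  have hcE : ∀ x y : ↥W, ⁅x, y⁆ ^ p = 1 := by
    intro x y
    haveI : (E.subgroupOf W).Normal := inferInstance
    have hcard : Nat.card (E.subgroupOf W) = p ^ 2 := by
      rw [Nat.card_congr (Subgroup.subgroupOfEquivOfLe hEW).toEquiv, hEc]
    have hq : Nat.card (↥W ⧸ E.subgroupOf W) = p ^ 2 := by
      have h1 := Subgroup.card_eq_card_quotient_mul_card_subgroup (E.subgroupOf W)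
      rw [hcard, hWc] at h1
      have h2 : p ^ 2 * p ^ 2 = Nat.card (↥W ⧸ E.subgroupOf W) * p ^ 2 := by
        rw [← h1]; ring
      exact (Nat.eq_of_mul_eq_mul_right (pow_pos hp.pos 2) h2).symm
    have hcomm : ∀ a b : ↥W ⧸ E.subgroupOf W, a * b = b * a :=
      IsPGroup.commutative_of_card_eq_prime_sq hq
    have hmem : ⁅x, y⁆ ∈ E.subgroupOf W := by
      rw [← QuotientGroup.eq_one_iff]
      rw [commutatorElement_def]
      show ((x * y * x⁻¹ * y⁻¹ : ↥W) : ↥W ⧸ E.subgroupOf W) = 1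
      rw [QuotientGroup.mk_mul, QuotientGroup.mk_mul, QuotientGroup.mk_mul, QuotientGroup.mk_inv,
        QuotientGroup.mk_inv, hcomm (x : ↥W ⧸ E.subgroupOf W) (y : ↥W ⧸ E.subgroupOf W)]
      group
    rw [Subgroup.mem_subgroupOf, hE] at hmem
    apply Subtype.ext
    simpa using hmem
  refine ⟨?_, hcE⟩
  intro x y
  rw [Subgroup.mem_center_iff]
  intro w
  have h1 := Cfsg.Agent.Lib.Helper54.conj_eq_of_cyclic_normal hWp N w ⁅x, y⁆ (hcN x y) (hcE x y)
  calc w * ⁅x, y⁆ = w * ⁅x, y⁆ * w⁻¹ * w := by group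
    _ = ⁅x, y⁆ * w := by rw [h1]

/-- The `p`-th power map sends `Ω₂(L)` onto `Ω₁(L)`. -/
theorem ma_pow_surj (hp2 : p ≠ 2)
    (E : Subgroup L) (hE : ∀ x : L, x ∈ E ↔ x ^ p = 1) (hEc : Nat.card E = p ^ 2)
    (W : Subgroup L) (hW : ∀ x : L, x ∈ W ↔ x ^ p ∈ E) (hWc : Nat.card W = p ^ 4)
    (hct : CTwo p ↥W) : ∀ e ∈ E, ∃ w ∈ W, w ^ p = e := by
  have hp := hpf.out
  have hEW : E ≤ W := by
    intro x hx
    rw [hW, (hE x).1 hx]
    exact one_mem E
  set φ : ↥W →* ↥W := hct.ppow hp hp2 1 with hφ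
  have hφa : ∀ x : ↥W, φ x = x ^ p := by
    intro x
    rw [hφ, CTwo.ppow_apply, pow_one]
  have hker : φ.ker = E.subgroupOf W := by
    ext x
    rw [MonoidHom.mem_ker, hφa, Subgroup.mem_subgroupOf, hE]
    constructor
    · intro h
      have := congrArg Subtype.val h
      simpa using this
    · intro h
      apply Subtype.ext
      simpa using h
  have hcard : Nat.card (E.subgroupOf W) = p ^ 2 := by
    rw [Nat.card_congr (Subgroup.subgroupOfEquivOfLe hEW).toEquiv, hEc]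
  have hrange : Nat.card φ.range = p ^ 2 := by
    have h1 := Subgroup.card_mul_index φ.ker
    rw [Subgroup.index_ker, hker, hcard, hWc] at h1
    have h2 : p ^ 2 * Nat.card φ.range = p ^ 2 * p ^ 2 := by rw [h1]; ring
    exact Nat.eq_of_mul_eq_mul_left (pow_pos hp.pos 2) h2
  have hle : φ.range ≤ E.subgroupOf W := by
    rintro _ ⟨x, rfl⟩
    rw [hφa, Subgroup.mem_subgroupOf]
    have := (hW (x : L)).1 x.2
    simpa using this
  have heq : φ.range = E.subgroupOf W :=
    Subgroup.eq_of_le_of_card_ge hle (by rw [hcard, hrange])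
  intro e he
  have hmem : (⟨e, hEW he⟩ : ↥W) ∈ E.subgroupOf W := by
    rw [Subgroup.mem_subgroupOf]
    exact he
  rw [← heq] at hmem
  obtain ⟨x, hx⟩ := hmem
  refine ⟨(x : L), x.2, ?_⟩
  rw [hφa] at hx
  have := congrArg Subtype.val hx
  simpa using this

/-- `Ω₁(L)` is central in `Ω₂(L)`. -/
theorem ma_omega_central (hp2 : p ≠ 2)
    (E : Subgroup L) (hE : ∀ x : L, x ∈ E ↔ x ^ p = 1) (hEc : Nat.card E = p ^ 2)
    (W : Subgroup L) (hW : ∀ x : L, x ∈ W ↔ x ^ p ∈ E) (hWc : Nat.card W = p ^ 4)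
    (hct : CTwo p ↥W) : ∀ e ∈ E, ∀ w ∈ W, e * w = w * e := by
  intro e he w hw
  obtain ⟨w₀, hw₀, rfl⟩ := ma_pow_surj hp2 E hE hEc W hW hWc hct e he
  have h1 := hct.pow_mem_center (⟨w₀, hw₀⟩ : ↥W)
  rw [Subgroup.mem_center_iff] at h1
  have h2 := h1 ⟨w, hw⟩
  have h3 := congrArg Subtype.val h2
  simpa using h3.symm

/-- The `p`-th power map is multiplicative on `Ω₂(L)`. -/
theorem ma_mul_pow (hp2 : p ≠ 2) (W : Subgroup L) (hct : CTwo p ↥W) :
    ∀ x ∈ W, ∀ y ∈ W, (x * y) ^ p = x ^ p * y ^ p := by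
  intro x hx y hy
  have h1 := hct.mul_pow_prime hpf.out hp2 (⟨x, hx⟩ : ↥W) ⟨y, hy⟩
  have h2 := congrArg Subtype.val h1
  simpa using h2

end

/-- Iterating an automorphism along a chain `w ↦ w u`, `u ↦ u v`, `v ↦ v z`, `z ↦ z`. -/
theorem ma_iter_formula {L : Type*} [Group L] (a : MulAut L) (w u v z : L)
    (hw : a w = w * u) (hu : a u = u * v) (hv : a v = v * z) (hz : a z = z)
    (huv : Commute u v) (hvz : Commute v z) (k : ℕ) :
    (a ^ k) w = w * u ^ k * v ^ (k.choose 2) * z ^ (k.choose 3) := by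
  induction k with
  | zero => simp
  | succ k ih =>
    rw [pow_succ', MulAut.mul_apply, ih, map_mul, map_mul, map_mul, map_pow, map_pow, map_pow,
      hw, hu, hv, hz, huv.mul_pow, hvz.mul_pow]
    have h2 : (k + 1).choose 2 = k + k.choose 2 := by
      rw [Nat.choose_succ_succ' k 1, Nat.choose_one_right]
    have h3 : (k + 1).choose 3 = k.choose 2 + k.choose 3 := Nat.choose_succ_succ' k 2
    rw [h2, h3, pow_succ' u k, pow_add, pow_add]
    simp only [mul_assoc]

end Cfsg.Agent.Lib.Helper53
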