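import Mathlib
import Cfsg.Agent.Lib.Helper53.MetaAutB

set_option autoImplicit false
set_option linter.style.haveILetI false
set_option linter.unusedSectionVars false
set_option linter.unusedVariables false
set_option maxHeartbeats 1000000

/-!
# An automorphism of order `p` of a metacyclic `p`-group moving `Ω₁`

If `a` has order `p`, acts nontrivially on `E = Ω₁(L)` and `(a - 1)^2 = 0` on `E`, then `p = 3`
and `a` has exactly `p` fixed points.
-/

namespace Cfsg.Agent.Lib.Helper53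

open scoped commutatorElement

variable {L : Type*} [Group L] [Finite L] {p : ℕ} [hpf : Fact p.Prime]

theorem ma_pow_eq_one_of_dvd {x : L} {n : ℕ} (h : x ^ p = 1) (hd : p ∣ n) : x ^ n = 1 := by
  obtain ⟨c, rfl⟩ := hd
  rw [pow_mul, h, one_pow]

/-- the forward direction, group-theoretic core -/
theorem ma_forward (hp2 : p ≠ 2) (hL : IsPGroup p L) (hm : Cfsg.IsMetacyclic L)
    (hnc : ∀ C : Subgroup L, IsCyclic C → C.index ≠ p)
    (a : MulAut L) (ha : a ^ p = 1)
    (E : Subgroup L) (hE : ∀ x : L, x ∈ E ↔ x ^ p = 1) (hEc : Nat.card E = p ^ 2)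
    (hN1 : ∀ e ∈ E, a (e⁻¹ * a e) = e⁻¹ * a e)
    (e₁ : L) (he₁ : e₁ ∈ E) (hmove : a e₁ ≠ e₁) :
    p = 3 ∧ ∀ F : Subgroup L, (∀ x : L, x ∈ F ↔ a x = x) → Nat.card F = p := by
  have hp := hpf.out
  have hp3 : 3 ≤ p := by
    have := hp.two_le
    omega
  obtain ⟨W, hW, hWc⟩ := ma_exists_omega_two hp2 hL hm hnc E hE hEc
  have hct : CTwo p ↥W := ma_ctwo hL hm E hE hEc W hW hWc
  have hsurj := ma_pow_surj hp2 E hE hEc W hW hWc hct
  have hcen := ma_omega_central hp2 E hE hEc W hW hWc hct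
  have hmp := ma_mul_pow hp2 W hct
  have hEW : E ≤ W := by
    intro x hx
    rw [hW, (hE x).1 hx]
    exact one_mem E
  have haE : ∀ x : L, a x ∈ E ↔ x ∈ E := by
    intro x
    rw [hE, hE, ← map_pow, MulEquiv.map_eq_one_iff]
  have haW : ∀ x : L, a x ∈ W ↔ x ∈ W := by
    intro x
    rw [hW, hW, ← map_pow, haE]
  -- the chain
  obtain ⟨w, hwW, hwp⟩ := hsurj e₁ he₁
  set u := w⁻¹ * a w with hu
  have huW : u ∈ W := W.mul_mem (W.inv_mem hwW) ((haW w).2 hwW)
  set y := e₁⁻¹ * a e₁ with hy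
  have hup : u ^ p = y := by
    rw [hu, hmp _ (W.inv_mem hwW) _ ((haW w).2 hwW), inv_pow, ← map_pow, hwp]
  have hyE : y ∈ E := E.mul_mem (E.inv_mem he₁) ((haE e₁).2 he₁)
  have hy1 : y ≠ 1 := by
    intro h
    apply hmove
    rw [hy, inv_mul_eq_one] at h
    exact h.symm
  have hay : a y = y := hN1 e₁ he₁
  set v := u⁻¹ * a u with hv
  have hvW : v ∈ W := W.mul_mem (W.inv_mem huW) ((haW u).2 huW)
  have hvp : v ^ p = 1 := by
    rw [hv, hmp _ (W.inv_mem huW) _ ((haW u).2 huW), inv_pow, ← map_pow, hup, hay, inv_mul_cancel]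
  have hvE : v ∈ E := (hE v).2 hvp
  set z := v⁻¹ * a v with hz
  have hzE : z ∈ E := E.mul_mem (E.inv_mem hvE) ((haE v).2 hvE)
  have haz : a z = z := hN1 v hvE
  have hzp : z ^ p = 1 := (hE z).1 hzE
  have hw' : a w = w * u := by rw [hu, mul_inv_cancel_left]
  have hu' : a u = u * v := by rw [hv, mul_inv_cancel_left]
  have hv' : a v = v * z := by rw [hz, mul_inv_cancel_left]
  have huv : Commute u v := (hcen v hvE u huW).symm
  have hvz : Commute v z := hcen v hvE z (hEW hzE)
  have hform := ma_iter_formula a w u v z hw' hu' hv' haz huv hvz p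
  rw [ha, MulAut.one_apply, hup] at hform
  have hc2 : v ^ (p.choose 2) = 1 :=
    ma_pow_eq_one_of_dvd hvp (hp.dvd_choose_self (by norm_num) (by omega))
  rw [hc2, mul_one] at hform
  have hyz : y * z ^ (p.choose 3) = 1 := by
    have h1 : w * (y * z ^ (p.choose 3)) = w * 1 := by
      rw [mul_one, ← mul_assoc]
      exact hform.symm
    exact mul_left_cancel h1
  have hp3' : p = 3 := by
    by_contra hne
    have h4 : 3 < p := by omega
    have hc3 : z ^ (p.choose 3) = 1 :=
      ma_pow_eq_one_of_dvd hzp (hp.dvd_choose_self (by norm_num) h4)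
    rw [hc3, mul_one] at hyz
    exact hy1 hyz
  refine ⟨hp3', ?_⟩
  have hyz' : y * z = 1 := by
    have h33 : p.choose 3 = 1 := by rw [hp3']; rfl
    rw [h33, pow_one] at hyz
    exact hyz
  intro F hF
  have hFp : IsPGroup p ↥F := hL.to_subgroup F
  obtain ⟨j, hj⟩ := IsPGroup.iff_card.mp hFp
  have hyF : y ∈ F := (hF y).2 hay
  have he₁F : e₁ ∉ F := fun h => hmove ((hF e₁).1 h)
  by_contra hne
  -- `|F| ≥ p ^ 2`
  have hj2 : 2 ≤ j := by
    by_contra hlt
    have hj1 : j = 0 ∨ j = 1 := by omega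
    rcases hj1 with rfl | rfl
    · rw [pow_zero, Subgroup.card_eq_one] at hj
      rw [hj, Subgroup.mem_bot] at hyF
      exact hy1 hyF
    · rw [pow_one] at hj
      exact hne hj
  -- `F` is cyclic
  have hFcyc : IsCyclic ↥F := by
    rcases Cfsg.Agent.Lib.Helper52.normal_rank_two p hFp with ⟨N, hNn, hNc, hNe⟩ | hc | ⟨h2, _⟩
    · exfalso
      have hle : N.map F.subtype ≤ E := by
        rintro _ ⟨x, hx, rfl⟩
        rw [hE]
        have := hNe x hx
        have h2 := congrArg Subtype.val this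
        simpa using h2
      have hcard : Nat.card (N.map F.subtype) = p ^ 2 := by
        rw [Subgroup.card_map_of_injective F.subtype_injective, hNc]
      have heq : N.map F.subtype = E := Subgroup.eq_of_le_of_card_ge hle (by rw [hcard, hEc])
      apply he₁F
      have : e₁ ∈ N.map F.subtype := by rw [heq]; exact he₁
      obtain ⟨x, _, rfl⟩ := this
      exact x.2
    · exact hc
    · exact absurd h2 hp2
  -- an element of order `p ^ 2` fixed by `a`
  obtain ⟨g, hg⟩ := IsCyclic.exists_ofOrder_eq_natCard (α := ↥F)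
  rw [hj] at hg
  set c : ↥F := g ^ (p ^ (j - 2)) with hc
  have hco : orderOf c = p ^ 2 := by
    rw [hc, orderOf_pow_of_dvd (pow_pos hp.pos _).ne' (by rw [hg]; exact pow_dvd_pow p (by omega)), hg]
    rw [Nat.pow_div (by omega) hp.pos]
    congr 1
    omega
  have hco' : orderOf (c : L) = p ^ 2 := by rw [Subgroup.orderOf_coe, hco]
  have hac : a (c : L) = (c : L) := (hF _).1 c.2
  set d := (c : L) ^ p with hd
  have hd1 : d ≠ 1 := by
    rw [hd]
    apply pow_ne_one_of_lt_orderOf hp.ne_zero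
    rw [hco']
    calc p = p ^ 1 := (pow_one p).symm
      _ < p ^ 2 := Nat.pow_lt_pow_right hp.one_lt (by norm_num)
  have hdp : d ^ p = 1 := by
    rw [hd, ← pow_mul, ← pow_two, ← hco', pow_orderOf_eq_one]
  have hdE : d ∈ E := (hE d).2 hdp
  have hcW : (c : L) ∈ W := (hW _).2 hdE
  have had : a d = d := by rw [hd, map_pow, hac]
  have hdF : d ∈ F := (hF d).2 had
  -- `E ⊓ F` has order `p`
  have hEF : Nat.card ↥(E ⊓ F) = p := by
    have hdvd : Nat.card ↥(E ⊓ F) ∣ p ^ 2 := by
      rw [← hEc]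
      exact Subgroup.card_dvd_of_le inf_le_left
    obtain ⟨i, hi, hci⟩ := (Nat.dvd_prime_pow hp).mp hdvd
    have hi2 : i ≠ 2 := by
      rintro rfl
      have : E ⊓ F = E := Subgroup.eq_of_le_of_card_ge inf_le_left (by rw [hci, hEc])
      apply he₁F
      have h1 : e₁ ∈ E ⊓ F := by rw [this]; exact he₁
      exact h1.2
    have hi0 : i ≠ 0 := by
      rintro rfl
      rw [pow_zero, Subgroup.card_eq_one] at hci
      have h1 : d ∈ E ⊓ F := ⟨hdE, hdF⟩
      rw [hci, Subgroup.mem_bot] at h1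
      exact hd1 h1
    have hi1 : i = 1 := by omega
    rw [hci, hi1, pow_one]
  -- `y` is a power of `d`
  have hyd : ∃ k : ℤ, d ^ k = y := by
    have hdne : (⟨d, ⟨hdE, hdF⟩⟩ : ↥(E ⊓ F)) ≠ 1 := by
      intro h
      apply hd1
      exact congrArg Subtype.val h
    have h1 := mem_zpowers_of_prime_card hEF hdne (g' := (⟨y, ⟨hyE, hyF⟩⟩ : ↥(E ⊓ F)))
    obtain ⟨k, hk⟩ := Subgroup.mem_zpowers_iff.mp h1
    refine ⟨k, ?_⟩
    have h2 := congrArg Subtype.val hk
    simpa using h2
  obtain ⟨k, hk⟩ := hyd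
  set s := (c : L) ^ k with hs
  have hsW : s ∈ W := W.zpow_mem hcW k
  have has : a s = s := by rw [hs, map_zpow, hac]
  have hsp : s ^ p = y := by
    rw [hs, ← hk, hd, ← zpow_natCast, ← zpow_natCast, ← zpow_mul, ← zpow_mul, mul_comm]
  set e' := u * s⁻¹ with he'
  have he'W : e' ∈ W := W.mul_mem huW (W.inv_mem hsW)
  have he'p : e' ^ p = 1 := by
    rw [he', hmp _ huW _ (W.inv_mem hsW), inv_pow, hup, hsp, mul_inv_cancel]
  have he'E : e' ∈ E := (hE e').2 he'p
  have hue : u = e' * s := by rw [he', inv_mul_cancel_right]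
  set t := e'⁻¹ * a e' with ht
  have htE : t ∈ E := E.mul_mem (E.inv_mem he'E) ((haE e').2 he'E)
  have hat : a t = t := hN1 e' he'E
  have hvt : v = t := by
    have h1 : t * s = s * t := hcen t htE s hsW
    calc v = (e' * s)⁻¹ * (a e' * a s) := by rw [hv, hue, map_mul]
      _ = s⁻¹ * (t * s) := by rw [has, ht]; group
      _ = t := by rw [h1, inv_mul_cancel_left]
  have hz1 : z = 1 := by rw [hz, hvt, hat, inv_mul_cancel]
  rw [hz1, mul_one] at hyz'
  exact hy1 hyz'

end Cfsg.Agent.Lib.Helper53
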