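import Mathlib

set_option autoImplicit false
set_option linter.style.haveILetI false
set_option linter.unusedSectionVars false
set_option linter.unusedVariables false

/-!
# The norm-type map of an endomorphism of an abelian group

For an endomorphism `α` of a commutative group, `nrm α k g = g * α g * ⋯ * α^(k-1) g`
(defined by the recursion `nrm α (k+1) g = α (nrm α k g) * g`).
-/

namespace Cfsg.Agent.Lib.Helper53

/-- `g * α g * ⋯ * α^(k-1) g`, by recursion. -/
def nrm {A : Type*} [Group A] (α : A →* A) : ℕ → A → A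
  | 0, _ => 1
  | k + 1, g => α (nrm α k g) * g

section

variable {A : Type*} [Group A] (α : A →* A)

@[simp] theorem nrm_zero (g : A) : nrm α 0 g = 1 := rfl

theorem nrm_succ (k : ℕ) (g : A) : nrm α (k + 1) g = α (nrm α k g) * g := rfl

theorem nrm_one_right (k : ℕ) : nrm α k (1 : A) = 1 := by
  induction k with
  | zero => rfl
  | succ k ih => rw [nrm_succ, ih, map_one, one_mul]

variable (hcomm : ∀ a b : A, a * b = b * a)
include hcomm

theorem nrm_mul (k : ℕ) (g h : A) : nrm α k (g * h) = nrm α k g * nrm α k h := by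
  induction k with
  | zero => simp
  | succ k ih =>
    rw [nrm_succ, nrm_succ, nrm_succ, ih, map_mul]
    calc α (nrm α k g) * α (nrm α k h) * (g * h)
        = α (nrm α k g) * (α (nrm α k h) * g) * h := by simp only [mul_assoc]
      _ = α (nrm α k g) * (g * α (nrm α k h)) * h := by rw [hcomm (α (nrm α k h)) g]
      _ = α (nrm α k g) * g * (α (nrm α k h) * h) := by simp only [mul_assoc]

theorem nrm_pow (k : ℕ) (g : A) (j : ℕ) : nrm α k (g ^ j) = (nrm α k g) ^ j := by
  induction j with
  | zero => rw [pow_zero, pow_zero, nrm_one_right]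
  | succ j ih => rw [pow_succ, nrm_mul α hcomm, ih, pow_succ]

theorem nrm_inv (k : ℕ) (g : A) : nrm α k g⁻¹ = (nrm α k g)⁻¹ := by
  have h1 := nrm_mul α hcomm k g g⁻¹
  rw [mul_inv_cancel, nrm_one_right] at h1
  exact (eq_inv_of_mul_eq_one_right h1.symm)

theorem nrm_zpow (k : ℕ) (g : A) (j : ℤ) : nrm α k (g ^ j) = (nrm α k g) ^ j := by
  cases j with
  | ofNat j => simpa using nrm_pow α hcomm k g j
  | negSucc j =>
    rw [zpow_negSucc, zpow_negSucc, nrm_inv α hcomm, nrm_pow α hcomm]

/-- the other recursion -/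
theorem nrm_succ' (k : ℕ) (g : A) : nrm α (k + 1) g = nrm α k g * (α^[k]) g := by
  induction k with
  | zero => simp [nrm_succ]
  | succ k ih =>
    have h1 : nrm α (k + 1 + 1) g = α (nrm α (k + 1) g) * g := nrm_succ α (k + 1) g
    have h2 : nrm α (k + 1) g = α (nrm α k g) * g := nrm_succ α k g
    calc nrm α (k + 1 + 1) g = α (nrm α (k + 1) g) * g := h1
      _ = α (nrm α k g * (α^[k]) g) * g := by rw [ih]
      _ = α (nrm α k g) * α ((α^[k]) g) * g := by rw [map_mul]
      _ = α (nrm α k g) * (α ((α^[k]) g) * g) := by rw [mul_assoc]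
      _ = α (nrm α k g) * (g * α ((α^[k]) g)) := by rw [hcomm (α ((α^[k]) g)) g]
      _ = α (nrm α k g) * g * α ((α^[k]) g) := by rw [mul_assoc]
      _ = nrm α (k + 1) g * (α^[k + 1]) g := by rw [← h2, Function.iterate_succ_apply']

/-- if `α^k g = g` then `nrm α k g` is fixed by `α` -/
theorem nrm_fixed (k : ℕ) (g : A) (h : (α^[k]) g = g) : α (nrm α k g) = nrm α k g := by
  have h1 := nrm_succ α k g
  have h2 := nrm_succ' α hcomm k g
  rw [h] at h2
  rw [h1] at h2
  exact mul_right_cancel h2

/-- the norm along a chain `w ↦ w u`, `u ↦ u v`, `v ↦ v`. -/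
theorem nrm_chain (w u v : A) (hw : α w = w * u) (hu : α u = u * v) (hv : α v = v) (k : ℕ) :
    nrm α k w = w ^ k * u ^ (k.choose 2) * v ^ (k.choose 3) := by
  letI : CommGroup A := { (inferInstance : Group A) with mul_comm := hcomm }
  induction k with
  | zero => simp
  | succ k ih =>
    have h2 : (k + 1).choose 2 = k + k.choose 2 := by
      rw [Nat.choose_succ_succ' k 1, Nat.choose_one_right]
    have h3 : (k + 1).choose 3 = k.choose 2 + k.choose 3 := Nat.choose_succ_succ' k 2
    rw [nrm_succ, ih, map_mul, map_mul, map_pow, map_pow, map_pow, hw, hu, hv, h2, h3,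
      pow_succ w k, pow_add u, pow_add v]
    have e1 : (w * u) ^ k = w ^ k * u ^ k := by
      rw [(show Commute w u from hcomm w u).mul_pow]
    have e2 : (u * v) ^ (k.choose 2) = u ^ (k.choose 2) * v ^ (k.choose 2) := by
      rw [(show Commute u v from hcomm u v).mul_pow]
    rw [e1, e2]
    calc w ^ k * u ^ k * (u ^ k.choose 2 * v ^ k.choose 2) * v ^ k.choose 3 * w
        = w * (w ^ k * u ^ k * (u ^ k.choose 2 * v ^ k.choose 2) * v ^ k.choose 3) :=
          hcomm _ _
      _ = w ^ k * w * (u ^ k * u ^ k.choose 2) * (v ^ k.choose 2 * v ^ k.choose 3) := by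
          rw [hcomm (w ^ k) w]
          simp only [mul_assoc]

end

end Cfsg.Agent.Lib.Helper53
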