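import Mathlib
import Cfsg.Agent.Lib.Helper53.BlkC

set_option autoImplicit false
set_option linter.style.haveILetI false
set_option linter.unusedSectionVars false
set_option linter.unusedVariables false

/-!
# Small general lemmas used for the groups of rank two
-/

namespace Cfsg.Agent.Lib.Helper53

/-- a subgroup of prime relative index is maximal -/
theorem blk_le_of_prime_relIndex {G : Type*} [Group G] {p : ℕ} (hp : p.Prime)
    (D K C : Subgroup G) (hDK : D ≤ K) (hDC : D ≤ C) (hidx : D.relIndex C = p)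
    (hne : ¬ (K ⊓ C ≤ D)) : C ≤ K := by
  have h1 : D ≤ K ⊓ C := le_inf hDK hDC
  have h2 : K ⊓ C ≤ C := inf_le_right
  have h3 := Subgroup.relIndex_mul_relIndex D (K ⊓ C) C h1 h2
  rw [hidx] at h3
  have h4 : D.relIndex (K ⊓ C) ≠ 1 := by
    intro h
    exact hne (Subgroup.relIndex_eq_one.mp h)
  have h5 : D.relIndex (K ⊓ C) ∣ p := Dvd.intro _ h3
  rcases (Nat.dvd_prime hp).mp h5 with h | h
  · exact absurd h h4
  · rw [h] at h3
    have h6 : (K ⊓ C).relIndex C = 1 := by
      have hp0 : 0 < p := hp.pos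
      have : p * (K ⊓ C).relIndex C = p * 1 := by rw [h3, mul_one]
      exact Nat.eq_of_mul_eq_mul_left hp0 this
    exact (Subgroup.relIndex_eq_one.mp h6).trans inf_le_left

theorem blk_relIndex_of_card {G : Type*} [Group G] {p : ℕ} (hp : p.Prime) (D K : Subgroup G)
    (hDK : D ≤ K) (a : ℕ) (hD : Nat.card D = p ^ a) (hK : Nat.card K = p ^ (a + 1)) :
    D.relIndex K = p := by
  have h1 := Subgroup.relIndex_mul_relIndex ⊥ D K bot_le hDK
  rw [Subgroup.relIndex_bot_left, Subgroup.relIndex_bot_left, hD, hK, pow_succ] at h1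
  exact Nat.eq_of_mul_eq_mul_left (pow_pos hp.pos a) h1

/-- an element of order dividing `p` is a power of any of its powers prime to `p` -/
theorem blk_mem_zpowers_pow {G : Type*} [Group G] {p : ℕ} (hp : p.Prime) (y : G) (hy : y ^ p = 1)
    (i : ℕ) (hi : ¬ p ∣ i) : y ∈ Subgroup.zpowers (y ^ i) := by
  have hcop : Nat.Coprime i p := ((Nat.Prime.coprime_iff_not_dvd hp).mpr hi).symm
  obtain ⟨j, -, hj⟩ := Nat.exists_mul_mod_eq_one_of_coprime hcop hp.one_lt
  have h1 : (y ^ i) ^ j = y := by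
    rw [← pow_mul, pow_eq_pow_mod (i * j) hy, hj, pow_one]
  have h2 : (y ^ i) ^ j ∈ Subgroup.zpowers (y ^ i) :=
    Subgroup.pow_mem _ (Subgroup.mem_zpowers (y ^ i)) j
  rwa [h1] at h2

/-- normalising a quadratic residue -/
theorem blk_exists_sq {p : ℕ} [hpf : Fact p.Prime] (s : ℕ) (hs : ¬ p ∣ s)
    (hsq : IsSquare (s : ZMod p)) : ∃ i : ℕ, 0 < i ∧ i < p ∧ (s * i ^ 2) % p = 1 := by
  have hp := hpf.out
  obtain ⟨r, hr⟩ := hsq
  have hs0 : (s : ZMod p) ≠ 0 := by
    intro h
    exact hs ((ZMod.natCast_eq_zero_iff s p).mp h)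
  have hr0 : r ≠ 0 := by
    rintro rfl
    exact hs0 (by rw [hr, mul_zero])
  refine ⟨(r⁻¹).val, ?_, ZMod.val_lt _, ?_⟩
  · rw [Nat.pos_iff_ne_zero]
    intro h
    have h1 : r⁻¹ = 0 := (ZMod.val_eq_zero _).mp h
    exact (inv_ne_zero hr0) h1
  · have h1 : ((s * (r⁻¹).val ^ 2 : ℕ) : ZMod p) = ((1 : ℕ) : ZMod p) := by
      push_cast
      rw [ZMod.natCast_val, ZMod.cast_id', id, hr]
      field_simp
    have h2 := (ZMod.natCast_eq_natCast_iff' _ _ _).mp h1
    rw [h2]
    exact Nat.mod_eq_of_lt hp.one_lt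

/-- the `k`-th power of `x * g` for `g` in a normal subgroup -/
theorem blk_mul_pow_nrm {G : Type*} [Group G] (C : Subgroup G) [C.Normal] (x : G) (g : ↥C)
    (k : ℕ) :
    (x * (g : G)) ^ k
      = x ^ k * ((nrm (MulAut.conjNormal x⁻¹ : MulAut ↥C).toMonoidHom k g : ↥C) : G) := by
  induction k with
  | zero => simp
  | succ k ih =>
    rw [pow_succ, ih, nrm_succ]
    simp only [MulEquiv.coe_toMonoidHom, Subgroup.coe_mul, MulAut.conjNormal_apply, inv_inv]
    rw [pow_succ]
    group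

end Cfsg.Agent.Lib.Helper53
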