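import Mathlib
import Cfsg.Agent.Lib.Helper53.BlkD
import Cfsg.Agent.Lib.Helper53.MetaAutB

set_option autoImplicit false
set_option linter.style.haveILetI false
set_option linter.unusedSectionVars false
set_option linter.unusedVariables false

/-!
# An automorphism of order `p` of an abelian group of type `(p ^ (k + 2), p)`
-/

namespace Cfsg.Agent.Lib.Helper53

section D

variable {A : Type*} [Group A]

/-- `d a = a⁻¹ * α a` -/
def blkD (α : MulAut A) (a : A) : A := a⁻¹ * α a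

theorem blkD_def (α : MulAut A) (a : A) : blkD α a = a⁻¹ * α a := rfl

theorem blkD_one (α : MulAut A) : blkD α 1 = 1 := by simp [blkD]

theorem blkD_apply (α : MulAut A) (a : A) : α a = a * blkD α a := by
  rw [blkD, mul_inv_cancel_left]

theorem blkD_eq_one_iff (α : MulAut A) (a : A) : blkD α a = 1 ↔ α a = a := by
  rw [blkD, inv_mul_eq_one, eq_comm]

variable (hcomm : ∀ a b : A, a * b = b * a)
include hcomm

theorem blkD_mul (α : MulAut A) (a b : A) : blkD α (a * b) = blkD α a * blkD α b := by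
  unfold blkD
  rw [map_mul, (show Commute a b from hcomm a b).mul_inv]
  exact (show Commute b⁻¹ (α a) from hcomm _ _).mul_mul_mul_comm _ _

theorem blkD_pow (α : MulAut A) (a : A) (j : ℕ) : blkD α (a ^ j) = (blkD α a) ^ j := by
  induction j with
  | zero => rw [pow_zero, pow_zero, blkD_one]
  | succ j ih => rw [pow_succ, blkD_mul hcomm, ih, pow_succ]

theorem blkD_inv (α : MulAut A) (a : A) : blkD α a⁻¹ = (blkD α a)⁻¹ := by
  have h := blkD_mul hcomm α a a⁻¹
  rw [mul_inv_cancel, blkD_one] at h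
  exact eq_inv_of_mul_eq_one_right h.symm

theorem blkD_zpow (α : MulAut A) (a : A) (j : ℤ) : blkD α (a ^ j) = (blkD α a) ^ j := by
  cases j with
  | ofNat j => simpa using blkD_pow hcomm α a j
  | negSucc j => rw [zpow_negSucc, zpow_negSucc, blkD_inv hcomm, blkD_pow hcomm]

end D

/-- Fermat: an automorphism of `p`-power order fixes an element of order `p` that it maps to a
power of itself. -/
theorem blk_fix_of_pow {A : Type*} [Group A] {p : ℕ} [hpf : Fact p.Prime] (α : MulAut A) (g : A)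
    (hg : g ^ p = 1) (j : ℕ) (hj : α g = g ^ j) (hp : (α ^ p) g = g) : α g = g := by
  have h1 : ∀ i : ℕ, (α ^ i) g = g ^ (j ^ i) := by
    intro i
    induction i with
    | zero => simp
    | succ i ih =>
      rw [pow_succ', MulAut.mul_apply, ih, map_pow, hj, ← pow_mul, pow_succ']
  have h2 := h1 p
  rw [hp] at h2
  have h3 : (j ^ p) % p = j % p := by
    have : ((j ^ p : ℕ) : ZMod p) = ((j : ℕ) : ZMod p) := by
      push_cast
      exact ZMod.pow_card _
    exact (ZMod.natCast_eq_natCast_iff' _ _ _).mp this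
  rw [hj, pow_eq_pow_mod j hg, ← h3, ← pow_eq_pow_mod (j ^ p) hg, ← h2]

theorem blk_pow_iterate {A : Type*} [Group A] (α : MulAut A) (k : ℕ) (a : A) :
    ((α.toMonoidHom : A →* A))^[k] a = (α ^ k) a := by
  induction k with
  | zero => simp
  | succ k ih =>
    rw [Function.iterate_succ_apply', ih, pow_succ', MulAut.mul_apply]
    rfl


section Ctx

variable {A : Type*} [Group A] {p : ℕ} {k : ℕ} {c : A} {E : Subgroup A} {α : MulAut A}

/-- The fixed points of `α` in `E`. -/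
def blkFix (E : Subgroup A) (α : MulAut A) : Subgroup A where
  carrier := {a | a ∈ E ∧ α a = a}
  mul_mem' := fun {a b} ha hb => ⟨E.mul_mem ha.1 hb.1, by rw [map_mul, ha.2, hb.2]⟩
  one_mem' := ⟨E.one_mem, map_one α⟩
  inv_mem' := fun {a} ha => ⟨E.inv_mem ha.1, by rw [map_inv, ha.2]⟩

theorem mem_blkFix (a : A) : a ∈ blkFix E α ↔ a ∈ E ∧ α a = a := Iff.rfl

/-- The standing hypotheses: `A` abelian of order `p ^ (k + 3)` with an element `c` of order
`p ^ (k + 2)`, `E = Ω₁(A)` of order `p ^ 2`, and an automorphism `α` with `α ^ p = 1` acting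
nontrivially on `E`, with `[E, α]` fixed by `α`. -/
structure BlkCtx (A : Type*) [Group A] (p k : ℕ) (c : A) (E : Subgroup A) (α : MulAut A) :
    Prop where
  hcomm : ∀ a b : A, a * b = b * a
  hp2 : p ≠ 2
  hA : Nat.card A = p ^ (k + 3)
  hc : orderOf c = p ^ (k + 2)
  hE : ∀ a : A, a ∈ E ↔ a ^ p = 1
  hEc : Nat.card E = p ^ 2
  hαp : ∀ a : A, (α ^ p) a = a
  hN1 : ∀ e ∈ E, α (e⁻¹ * α e) = e⁻¹ * α e
  hmove : ∃ e ∈ E, α e ≠ e

variable [Finite A] [hpf : Fact p.Prime]

theorem BlkCtx.card_zpowers_cp (h : BlkCtx A p k c E α) :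
    Nat.card (Subgroup.zpowers (c ^ p)) = p ^ (k + 1) := by
  have hp := hpf.out
  rw [Nat.card_zpowers, orderOf_pow_of_dvd hp.ne_zero
    (by rw [h.hc]; exact dvd_pow_self p (by omega)), h.hc, pow_succ p (k + 1),
    Nat.mul_div_cancel _ hp.pos]

theorem BlkCtx.pow_mem (h : BlkCtx A p k c E α) (a : A) :
    a ^ p ∈ Subgroup.zpowers (c ^ p) := by
  have hp := hpf.out
  let φ : A →* A :=
    { toFun := fun a => a ^ p
      map_one' := one_pow p
      map_mul' := fun a b => (show Commute a b from h.hcomm a b).mul_pow p }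
  have hker : φ.ker = E := by
    ext a
    rw [MonoidHom.mem_ker, h.hE]
    rfl
  have h1 : Nat.card φ.ker * φ.ker.index = Nat.card A := Subgroup.card_mul_index _
  rw [Subgroup.index_ker, hker, h.hEc, h.hA] at h1
  have h2 : Nat.card φ.range = p ^ (k + 1) := by
    have : p ^ 2 * Nat.card φ.range = p ^ 2 * p ^ (k + 1) := by
      rw [h1, ← pow_add]
      congr 1
      omega
    exact Nat.eq_of_mul_eq_mul_left (pow_pos hp.pos 2) this
  have h3 : Subgroup.zpowers (c ^ p) ≤ φ.range := by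
    rw [Subgroup.zpowers_le]
    exact ⟨c, rfl⟩
  have h5 : Subgroup.zpowers (c ^ p) = φ.range :=
    Subgroup.eq_of_le_of_card_ge h3 (by rw [h2, h.card_zpowers_cp])
  rw [h5]
  exact ⟨a, rfl⟩

theorem BlkCtx.c0_pow (h : BlkCtx A p k c E α) : (c ^ p ^ (k + 1)) ^ p = 1 := by
  rw [← pow_mul, ← pow_succ, ← h.hc]
  exact pow_orderOf_eq_one c

theorem BlkCtx.c0_ne_one (h : BlkCtx A p k c E α) : c ^ p ^ (k + 1) ≠ 1 := by
  have hp := hpf.out
  intro h0
  have h1 := orderOf_dvd_of_pow_eq_one h0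
  rw [h.hc] at h1
  have h2 := (Nat.pow_dvd_pow_iff_le_right hp.one_lt).mp h1
  omega

theorem BlkCtx.mem_zpowers_c0 (h : BlkCtx A p k c E α) (a : A)
    (ha : a ∈ Subgroup.zpowers c) (hap : a ^ p = 1) :
    a ∈ Subgroup.zpowers (c ^ p ^ (k + 1)) := by
  have hp := hpf.out
  rw [← mem_powers_iff_mem_zpowers] at ha
  obtain ⟨j, rfl⟩ := ha
  rw [← pow_mul] at hap
  have h1 := orderOf_dvd_of_pow_eq_one hap
  rw [h.hc, pow_succ p (k + 1)] at h1
  have h2 : p ^ (k + 1) ∣ j := Nat.dvd_of_mul_dvd_mul_right hp.pos h1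
  obtain ⟨j', rfl⟩ := h2
  show c ^ (p ^ (k + 1) * j') ∈ Subgroup.zpowers (c ^ p ^ (k + 1))
  rw [pow_mul]
  exact Subgroup.pow_mem _ (Subgroup.mem_zpowers _) _

theorem BlkCtx.c0_fixed (h : BlkCtx A p k c E α) : α (c ^ p ^ (k + 1)) = c ^ p ^ (k + 1) := by
  have h1 : α (c ^ p ^ (k + 1)) ∈ Subgroup.zpowers (c ^ p ^ (k + 1)) := by
    apply h.mem_zpowers_c0
    · have h2 : α (c ^ p ^ (k + 1)) = (α (c ^ p ^ k)) ^ p := by
        rw [← map_pow, ← pow_mul, ← pow_succ]
      rw [h2]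
      exact (Subgroup.zpowers_le.mpr (Subgroup.pow_mem _ (Subgroup.mem_zpowers c) p))
        (h.pow_mem _)
    · rw [← map_pow, h.c0_pow, map_one]
  rw [← mem_powers_iff_mem_zpowers] at h1
  obtain ⟨j, hj⟩ := h1
  exact blk_fix_of_pow α _ h.c0_pow j hj.symm (h.hαp _)

theorem BlkCtx.fixed_of_mem (h : BlkCtx A p k c E α) (a : A)
    (ha : a ∈ Subgroup.zpowers c) (hap : a ^ p = 1) : α a = a := by
  obtain ⟨j, rfl⟩ := Subgroup.mem_zpowers_iff.mp (h.mem_zpowers_c0 a ha hap)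
  rw [map_zpow, h.c0_fixed]

theorem BlkCtx.map_mem (h : BlkCtx A p k c E α) {e : A} (he : e ∈ E) : α e ∈ E := by
  rw [h.hE, ← map_pow, (h.hE e).mp he, map_one]

theorem BlkCtx.blkD_mem (h : BlkCtx A p k c E α) {e : A} (he : e ∈ E) : blkD α e ∈ E :=
  E.mul_mem (E.inv_mem he) (h.map_mem he)

theorem BlkCtx.blkD_fixed (h : BlkCtx A p k c E α) {e : A} (he : e ∈ E) :
    α (blkD α e) = blkD α e := h.hN1 e he

theorem BlkCtx.card_fix (h : BlkCtx A p k c E α) : Nat.card (blkFix E α) = p := by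
  have hp := hpf.out
  have hle : blkFix E α ≤ E := fun a ha => ha.1
  have h1 : Nat.card (blkFix E α) ∣ p ^ 2 := h.hEc ▸ Subgroup.card_dvd_of_le hle
  obtain ⟨i, hi, hi2⟩ := (Nat.dvd_prime_pow hp).mp h1
  interval_cases i
  · exfalso
    have h3 := Subgroup.eq_bot_of_card_eq _ (by simpa using hi2)
    have hmem : c ^ p ^ (k + 1) ∈ blkFix E α := ⟨(h.hE _).mpr h.c0_pow, h.c0_fixed⟩
    rw [h3, Subgroup.mem_bot] at hmem
    exact h.c0_ne_one hmem
  · simpa using hi2
  · exfalso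
    have h3 : blkFix E α = E := Subgroup.eq_of_le_of_card_ge hle (by rw [hi2, h.hEc])
    obtain ⟨e, he, hne⟩ := h.hmove
    have h4 : e ∈ blkFix E α := by rw [h3]; exact he
    exact hne h4.2

theorem BlkCtx.fix_zpowers (h : BlkCtx A p k c E α) (f : A) (hfE : f ∈ E) (hf : α f = f)
    (hf1 : f ≠ 1) (a : A) (haE : a ∈ E) (ha : α a = a) : a ∈ Subgroup.zpowers f := by
  have hcard := h.card_fix
  have h1 : (⟨a, haE, ha⟩ : blkFix E α) ∈ Subgroup.zpowers (⟨f, hfE, hf⟩ : blkFix E α) :=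
    mem_zpowers_of_prime_card hcard (by
      intro h0
      exact hf1 (congrArg Subtype.val h0))
  obtain ⟨j, hj⟩ := Subgroup.mem_zpowers_iff.mp h1
  rw [Subgroup.mem_zpowers_iff]
  exact ⟨j, by simpa using congrArg Subtype.val hj⟩

theorem BlkCtx.not_mem_zpowers (h : BlkCtx A p k c E α) {a : A} (haE : a ∈ E)
    (hne : α a ≠ a) : a ∉ Subgroup.zpowers c :=
  fun hm => hne (h.fixed_of_mem a hm ((h.hE a).mp haE))

theorem BlkCtx.closure_eq_top (h : BlkCtx A p k c E α) (H : Subgroup A) (hcH : c ∈ H)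
    (w : A) (hwH : w ∈ H) (hw : w ∉ Subgroup.zpowers c) : H = ⊤ := by
  have hp := hpf.out
  have hle : Subgroup.zpowers c ≤ H := Subgroup.zpowers_le.mpr hcH
  have hidx : (Subgroup.zpowers c).index = p := by
    have h1 : Nat.card (Subgroup.zpowers c) * (Subgroup.zpowers c).index = Nat.card A :=
      Subgroup.card_mul_index _
    rw [Nat.card_zpowers, h.hc, h.hA, pow_succ p (k + 2)] at h1
    exact Nat.eq_of_mul_eq_mul_left (pow_pos hp.pos _) h1
  have h2 := blk_le_of_prime_relIndex hp (Subgroup.zpowers c) H ⊤ hle le_top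
    (by rw [Subgroup.relIndex_top_right]; exact hidx)
    (fun hcon => hw (hcon ⟨hwH, Subgroup.mem_top w⟩))
  exact top_le_iff.mp h2

theorem BlkCtx.nrm_cprime (h : BlkCtx A p k c E α) :
    nrm α.toMonoidHom p (c ^ p ^ k)
      = c ^ p ^ (k + 1) * (blkD α (blkD α (c ^ p ^ k))) ^ (p.choose 3) := by
  have hp := hpf.out
  have hp3 : 2 < p := by
    have := hp.two_le
    have := h.hp2
    omega
  have hu'p : (blkD α (c ^ p ^ k)) ^ p = 1 := by
    rw [← blkD_pow h.hcomm, ← pow_mul, ← pow_succ, blkD_eq_one_iff, h.c0_fixed]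
  have hu'E : blkD α (c ^ p ^ k) ∈ E := (h.hE _).mpr hu'p
  have hv := h.hN1 _ hu'E
  have hchain := nrm_chain α.toMonoidHom h.hcomm (c ^ p ^ k) (blkD α (c ^ p ^ k))
    (blkD α (blkD α (c ^ p ^ k))) (blkD_apply α _) (blkD_apply α _) hv p
  rw [hchain]
  have h2 : p ∣ p.choose 2 := hp.dvd_choose_self (by norm_num) hp3
  obtain ⟨q, hq⟩ := h2
  rw [hq, pow_mul (blkD α (c ^ p ^ k)) p q, hu'p, one_pow, mul_one, ← pow_mul, ← pow_succ]

end Ctx

end Cfsg.Agent.Lib.Helper53
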