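import Mathlib
import Cfsg.Agent.Lib.Helper53.BlkE

set_option autoImplicit false
set_option linter.style.haveILetI false
set_option linter.unusedSectionVars false
set_option linter.unusedVariables false

/-!
# The dichotomy and the two normal forms
-/

namespace Cfsg.Agent.Lib.Helper53

section Ctx

variable {A : Type*} [Group A] {p : ℕ} {k : ℕ} {c : A} {E : Subgroup A} {α : MulAut A}
variable [Finite A] [hpf : Fact p.Prime]

theorem BlkCtx.dichotomy (h : BlkCtx A p k c E α) (t : A)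
    (hpow : ∀ g : A, ∃ b : A, b ^ p = t * nrm α.toMonoidHom p g) :
    (p = 3 ∧ k = 0 ∧ blkD α (blkD α c) ≠ 1) ∨
      ((∃ g₀ : A, t * nrm α.toMonoidHom p g₀ = 1) ∧ (blkD α c) ^ p = 1) := by
  have hp := hpf.out
  have htm : t ∈ Subgroup.zpowers (c ^ p) := by
    obtain ⟨b, hb⟩ := hpow 1
    rw [nrm_one_right, mul_one] at hb
    rw [← hb]
    exact h.pow_mem b
  have hNm : nrm α.toMonoidHom p c ∈ Subgroup.zpowers (c ^ p) := by
    obtain ⟨b, hb⟩ := hpow c
    have h1 : nrm α.toMonoidHom p c = t⁻¹ * b ^ p := by rw [hb, inv_mul_cancel_left]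
    rw [h1]
    exact Subgroup.mul_mem _ (Subgroup.inv_mem _ htm) (h.pow_mem b)
  have hκ : (nrm α.toMonoidHom p c) ^ p ^ k
      = c ^ p ^ (k + 1) * (blkD α (blkD α (c ^ p ^ k))) ^ (p.choose 3) := by
    rw [← nrm_pow α.toMonoidHom h.hcomm, h.nrm_cprime]
  have hu'p : (blkD α (c ^ p ^ k)) ^ p = 1 := by
    rw [← blkD_pow h.hcomm, ← pow_mul, ← pow_succ, blkD_eq_one_iff, h.c0_fixed]
  have hu'E : blkD α (c ^ p ^ k) ∈ E := (h.hE _).mpr hu'p
  have hv'E : blkD α (blkD α (c ^ p ^ k)) ∈ E := h.blkD_mem hu'E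
  have hv'p : (blkD α (blkD α (c ^ p ^ k))) ^ p = 1 := (h.hE _).mp hv'E
  by_cases hκ1 : (nrm α.toMonoidHom p c) ^ p ^ k = 1
  · left
    rw [hκ1] at hκ
    have hp3 : p = 3 := by
      by_contra hp3
      have h3 : 3 < p := by
        have := hp.two_le
        have := h.hp2
        omega
      have h4 : p ∣ p.choose 3 := hp.dvd_choose_self (by norm_num) h3
      obtain ⟨q, hq⟩ := h4
      rw [hq, pow_mul, hv'p, one_pow, mul_one] at hκ
      exact h.c0_ne_one hκ.symm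
    have h33 : p.choose 3 = 1 := by rw [hp3]; rfl
    rw [h33, pow_one] at hκ
    have hv'1 : blkD α (blkD α (c ^ p ^ k)) ≠ 1 := by
      intro h0
      rw [h0, mul_one] at hκ
      exact h.c0_ne_one hκ.symm
    have hk0 : k = 0 := by
      by_contra hk
      obtain ⟨k', rfl⟩ := Nat.exists_eq_succ_of_ne_zero hk
      apply hv'1
      rw [blkD_eq_one_iff]
      apply h.fixed_of_mem _ _ hu'p
      have h5 : blkD α (c ^ p ^ (k' + 1)) = (blkD α (c ^ p ^ k')) ^ p := by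
        rw [← blkD_pow h.hcomm, ← pow_mul, ← pow_succ]
      rw [h5]
      exact (Subgroup.zpowers_le.mpr (Subgroup.pow_mem _ (Subgroup.mem_zpowers c) p))
        (h.pow_mem _)
    refine ⟨hp3, hk0, ?_⟩
    rw [hk0, pow_zero, pow_one] at hv'1
    exact hv'1
  · right
    have hord : orderOf (nrm α.toMonoidHom p c) = p ^ (k + 1) := by
      have h1 := Subgroup.orderOf_dvd_natCard _ hNm
      rw [h.card_zpowers_cp] at h1
      obtain ⟨i, hi, hi2⟩ := (Nat.dvd_prime_pow hp).mp h1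
      rcases Nat.lt_or_ge i (k + 1) with hlt | hge
      · exfalso
        apply hκ1
        rw [← orderOf_dvd_iff_pow_eq_one, hi2]
        exact pow_dvd_pow p (by omega)
      · have : i = k + 1 := le_antisymm hi hge
        rw [hi2, this]
    have hzp : Subgroup.zpowers (nrm α.toMonoidHom p c) = Subgroup.zpowers (c ^ p) :=
      Subgroup.eq_of_le_of_card_ge (Subgroup.zpowers_le.mpr hNm)
        (by rw [h.card_zpowers_cp, Nat.card_zpowers, hord])
    have hfixN : α (nrm α.toMonoidHom p c) = nrm α.toMonoidHom p c :=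
      nrm_fixed α.toMonoidHom h.hcomm p c (by rw [blk_pow_iterate]; exact h.hαp c)
    refine ⟨?_, ?_⟩
    · have h1 : t⁻¹ ∈ Subgroup.zpowers (nrm α.toMonoidHom p c) := by
        rw [hzp]
        exact Subgroup.inv_mem _ htm
      rw [← mem_powers_iff_mem_zpowers] at h1
      obtain ⟨j, hj⟩ := h1
      refine ⟨c ^ j, ?_⟩
      rw [nrm_pow α.toMonoidHom h.hcomm]
      have hj' : (nrm α.toMonoidHom p c) ^ j = t⁻¹ := hj
      rw [hj', mul_inv_cancel]
    · have h1 : c ^ p ∈ Subgroup.zpowers (nrm α.toMonoidHom p c) := by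
        rw [hzp]
        exact Subgroup.mem_zpowers _
      obtain ⟨j, hj⟩ := Subgroup.mem_zpowers_iff.mp h1
      have h2 : α (c ^ p) = c ^ p := by
        rw [← hj, map_zpow, hfixN]
      rw [← blkD_pow h.hcomm, blkD_eq_one_iff, h2]


omit [Finite A] hpf in
theorem blk_mem_of_eq {H : Subgroup A} {a b : A} (hb : b ∈ H) (h : a = b) : a ∈ H := h ▸ hb

omit [Finite A] hpf in
theorem blk_zpow_pow_eq_one (e : A) (he : e ^ p = 1) (j : ℤ) (q : ℕ) (hq : p ∣ q) :
    (e ^ j) ^ q = 1 := by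
  obtain ⟨r, rfl⟩ := hq
  rw [← zpow_natCast, ← zpow_mul, mul_comm, zpow_mul, zpow_natCast, pow_mul, he, one_pow,
    one_zpow]

/-- the algebra of the second normal form, with abstract `u`, `v` -/
theorem BlkCtx.typeB (h : BlkCtx A p k c E α) (u v : A) (hcu : α c = c * u)
    (huv : α u = u * v) (hvf : α v = v) (hu : u ^ p = 1) (hvp : v ^ p = 1) (huE : u ∈ E)
    (hfu : α u ≠ u) (s' : ℕ) (hs' : (c ^ p ^ (k + 1)) ^ s' = v) (i s : ℕ) (hi0 : 0 < i)
    (hip : i < p) (hmod : (s' * i ^ 2) % p = s % p) :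
    Subgroup.closure {u ^ i * v ^ (i.choose 2), c} = ⊤ ∧
      (u ^ i * v ^ (i.choose 2)) ^ p = 1 ∧
      (α ^ i) (u ^ i * v ^ (i.choose 2)) = u ^ i * v ^ (i.choose 2) * c ^ (s * p ^ (k + 1)) ∧
      (α ^ i) c = u ^ i * v ^ (i.choose 2) * c := by
  have hp := hpf.out
  have hit_c : (α ^ i) c = c * u ^ i * v ^ (i.choose 2) := by
    have h1 := ma_iter_formula α c u v 1 hcu huv (by rw [mul_one]; exact hvf) (map_one α)
      (h.hcomm u v) (h.hcomm v 1) i
    rw [h1, one_pow, mul_one]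
  have hit_u : (α ^ i) u = u * v ^ i := by
    have h1 := ma_iter_formula α u v 1 1 huv (by rw [mul_one]; exact hvf)
      (by rw [mul_one, map_one]) (map_one α) (h.hcomm v 1) (h.hcomm 1 1) i
    rw [h1, one_pow, one_pow, mul_one, mul_one]
  have hit_v : (α ^ i) v = v := by
    have h1 := ma_iter_formula α v 1 1 1 (by rw [mul_one]; exact hvf)
      (by rw [mul_one, map_one]) (by rw [mul_one, map_one]) (map_one α) (h.hcomm 1 1)
      (h.hcomm 1 1) i
    rw [h1, one_pow, one_pow, one_pow, mul_one, mul_one, mul_one]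
  refine ⟨?_, ?_, ?_, ?_⟩
  · have hcH : c ∈ Subgroup.closure ({u ^ i * v ^ (i.choose 2), c} : Set A) :=
      Subgroup.subset_closure (by simp)
    have hyH : u ^ i * v ^ (i.choose 2) ∈
        Subgroup.closure ({u ^ i * v ^ (i.choose 2), c} : Set A) :=
      Subgroup.subset_closure (by simp)
    apply h.closure_eq_top _ hcH u ?_ (h.not_mem_zpowers huE hfu)
    have hvH : v ∈ Subgroup.closure ({u ^ i * v ^ (i.choose 2), c} : Set A) := by
      exact blk_mem_of_eq (Subgroup.pow_mem _ (Subgroup.pow_mem _ hcH _) _) hs'.symm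
    have huiH : u ^ i ∈ Subgroup.closure ({u ^ i * v ^ (i.choose 2), c} : Set A) := by
      have h1 : u ^ i = (u ^ i * v ^ (i.choose 2)) * (v ^ (i.choose 2))⁻¹ := by
        rw [mul_inv_cancel_right]
      exact blk_mem_of_eq
        (Subgroup.mul_mem _ hyH (Subgroup.inv_mem _ (Subgroup.pow_mem _ hvH _))) h1
    have h2 := blk_mem_zpowers_pow hp u hu i (Nat.not_dvd_of_pos_of_lt hi0 hip)
    exact (Subgroup.zpowers_le.mpr huiH) h2
  · rw [(show Commute (u ^ i) (v ^ (i.choose 2)) from h.hcomm _ _).mul_pow, ← pow_mul, ← pow_mul,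
      mul_comm i p, mul_comm (i.choose 2) p, pow_mul, pow_mul, hu, hvp, one_pow, one_pow, mul_one]
  · rw [map_mul, map_pow, map_pow, hit_u, hit_v,
      (show Commute u (v ^ i) from h.hcomm _ _).mul_pow]
    have hvv : (v ^ i) ^ i = c ^ (s * p ^ (k + 1)) := by
      rw [← pow_mul, ← hs', ← pow_mul, ← pow_two, pow_eq_pow_mod _ h.c0_pow, hmod,
        ← pow_eq_pow_mod _ h.c0_pow, ← pow_mul']
    rw [hvv, mul_assoc, mul_assoc, h.hcomm (c ^ (s * p ^ (k + 1))) (v ^ (i.choose 2))]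
  · rw [hit_c, mul_assoc]
    exact h.hcomm _ _

theorem BlkCtx.types (h : BlkCtx A p k c E α) (hu : (blkD α c) ^ p = 1) :
    (∃ y z : A, Subgroup.closure {y, z} = ⊤ ∧ y ^ p = 1 ∧ z ^ p ^ (k + 2) = 1 ∧ α z = z ∧
        α y = y * z ^ p ^ (k + 1)) ∨
    (∃ (i s : ℕ) (y z : A), 0 < i ∧ i < p ∧ (s = 1 ∨ ¬ IsSquare (s : ZMod p)) ∧
        Subgroup.closure {y, z} = ⊤ ∧ y ^ p = 1 ∧ z ^ p ^ (k + 2) = 1 ∧
        (α ^ i) y = y * z ^ (s * p ^ (k + 1)) ∧ (α ^ i) z = y * z) := by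
  have hp := hpf.out
  have huE : blkD α c ∈ E := (h.hE _).mpr hu
  have hc0E : c ^ p ^ (k + 1) ∈ E := (h.hE _).mpr h.c0_pow
  by_cases hfu : α (blkD α c) = blkD α c
  · left
    obtain ⟨e₀, he₀E, he₀⟩ := h.hmove
    have hz1 : blkD α e₀ ≠ 1 := fun h0 => he₀ ((blkD_eq_one_iff α e₀).mp h0)
    have hz1E := h.blkD_mem he₀E
    have hz1f := h.blkD_fixed he₀E
    obtain ⟨j, hj⟩ := Subgroup.mem_zpowers_iff.mp
      (h.fix_zpowers _ hz1E hz1f hz1 _ hc0E h.c0_fixed)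
    have he₁E : e₀ ^ j ∈ E := E.zpow_mem he₀E j
    have hde₁ : blkD α (e₀ ^ j) = c ^ p ^ (k + 1) := by rw [blkD_zpow h.hcomm, hj]
    have he₁p : (e₀ ^ j) ^ p = 1 := (h.hE _).mp he₁E
    have he₁ne : α (e₀ ^ j) ≠ e₀ ^ j := by
      intro h0
      rw [← blkD_eq_one_iff, hde₁] at h0
      exact h.c0_ne_one h0
    obtain ⟨i, hi⟩ := Subgroup.mem_zpowers_iff.mp
      (h.fix_zpowers _ hc0E h.c0_fixed h.c0_ne_one _ huE hfu)
    have hzpow : (c * (e₀ ^ j) ^ (-i)) ^ p ^ (k + 1) = c ^ p ^ (k + 1) := by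
      rw [(show Commute c ((e₀ ^ j) ^ (-i)) from h.hcomm _ _).mul_pow,
        blk_zpow_pow_eq_one (e₀ ^ j) he₁p (-i) (p ^ (k + 1)) (dvd_pow_self p (by omega)),
        mul_one]
    refine ⟨e₀ ^ j, c * (e₀ ^ j) ^ (-i), ?_, he₁p, ?_, ?_, ?_⟩
    · have hyH : e₀ ^ j ∈ Subgroup.closure ({e₀ ^ j, c * (e₀ ^ j) ^ (-i)} : Set A) :=
        Subgroup.subset_closure (by simp)
      have hzH : c * (e₀ ^ j) ^ (-i) ∈
          Subgroup.closure ({e₀ ^ j, c * (e₀ ^ j) ^ (-i)} : Set A) :=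
        Subgroup.subset_closure (by simp)
      apply h.closure_eq_top _ ?_ (e₀ ^ j) hyH (h.not_mem_zpowers he₁E he₁ne)
      have h1 : c = (c * (e₀ ^ j) ^ (-i)) * (e₀ ^ j) ^ i := by
        rw [mul_assoc, ← zpow_add, neg_add_cancel, zpow_zero, mul_one]
      exact blk_mem_of_eq (Subgroup.mul_mem _ hzH (Subgroup.zpow_mem _ hyH _)) h1
    · rw [pow_succ p (k + 1), pow_mul, hzpow, h.c0_pow]
    · rw [← blkD_eq_one_iff, blkD_mul h.hcomm, blkD_zpow h.hcomm, hde₁, ← hi, ← zpow_add,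
        add_neg_cancel, zpow_zero]
    · rw [blkD_apply α (e₀ ^ j), hde₁, hzpow]
  · right
    have hvE := h.blkD_mem huE
    have hvf := h.blkD_fixed huE
    have hv1 : blkD α (blkD α c) ≠ 1 := fun h0 => hfu ((blkD_eq_one_iff α _).mp h0)
    have hvp : (blkD α (blkD α c)) ^ p = 1 := (h.hE _).mp hvE
    have hvm := h.fix_zpowers _ hc0E h.c0_fixed h.c0_ne_one _ hvE hvf
    rw [← mem_powers_iff_mem_zpowers] at hvm
    obtain ⟨s₀, hs₀⟩ := hvm
    have hs₀' : (c ^ p ^ (k + 1)) ^ (s₀ % p) = blkD α (blkD α c) := by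
      rw [← pow_eq_pow_mod s₀ h.c0_pow]
      exact hs₀
    have hs'lt : s₀ % p < p := Nat.mod_lt _ hp.pos
    have hs'nd : ¬ p ∣ s₀ % p := by
      intro hd
      have h0 : s₀ % p = 0 := Nat.eq_zero_of_dvd_of_lt hd hs'lt
      rw [h0, pow_zero] at hs₀'
      exact hv1 hs₀'.symm
    obtain ⟨i, s, hi0, hip, hs, hmod⟩ : ∃ i s : ℕ, 0 < i ∧ i < p ∧
        (s = 1 ∨ ¬ IsSquare (s : ZMod p)) ∧ ((s₀ % p) * i ^ 2) % p = s % p := by
      by_cases hsq : IsSquare ((s₀ % p : ℕ) : ZMod p)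
      · obtain ⟨i, hi0, hip, hi⟩ := blk_exists_sq (s₀ % p) hs'nd hsq
        exact ⟨i, 1, hi0, hip, Or.inl rfl, by rw [hi, Nat.mod_eq_of_lt hp.one_lt]⟩
      · exact ⟨1, s₀ % p, one_pos, hp.one_lt, Or.inr hsq, by rw [one_pow, mul_one]⟩
    obtain ⟨h1, h2, h3, h4⟩ := h.typeB (blkD α c) (blkD α (blkD α c)) (blkD_apply α c)
      (blkD_apply α _) hvf hu hvp huE hfu (s₀ % p) hs₀' i s hi0 hip hmod
    refine ⟨i, s, _, c, hi0, hip, hs, h1, h2, ?_, h3, h4⟩
    rw [← h.hc]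
    exact pow_orderOf_eq_one c

end Ctx

end Cfsg.Agent.Lib.Helper53
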