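import Mathlib
import Cfsg.Agent.Lib.Helper53.BlkF
import Cfsg.Agent.Lib.Helper53.PUCS

set_option autoImplicit false
set_option linter.style.haveILetI false
set_option linter.unusedSectionVars false
set_option linter.unusedVariables false

/-!
# Rank two, the case of an abelian centralizer of type `(p ^ (k + 2), p)`
-/

namespace Cfsg.Agent.Lib.Helper53

open scoped commutatorElement

section G

variable {G : Type*} [Group G]

theorem blk_coe_blkD (C : Subgroup G) [C.Normal] (x : G) (a : ↥C) :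
    ((blkD (MulAut.conjNormal x⁻¹ : MulAut ↥C) a : ↥C) : G) = ⁅(a : G)⁻¹, x⁻¹⁆ := by
  rw [blkD_def, commutatorElement_def]
  simp only [Subgroup.coe_mul, Subgroup.coe_inv, MulAut.conjNormal_apply, inv_inv]
  group

theorem blk_conj_pow (C : Subgroup G) [C.Normal] (x₁ : G) (α : MulAut ↥C)
    (h : ∀ a : ↥C, x₁⁻¹ * (a : G) * x₁ = ((α a : ↥C) : G)) (i : ℕ) (a : ↥C) :
    (x₁ ^ i)⁻¹ * (a : G) * x₁ ^ i = (((α ^ i) a : ↥C) : G) := by
  induction i with
  | zero => simp
  | succ i ih =>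
    rw [pow_succ' α i, MulAut.mul_apply, ← h, ← ih, pow_succ]
    group

theorem blk_closure_top {p : ℕ} (hp : p.Prime) (C : Subgroup G) (hCidx : C.index = p) (x' : G)
    (hx' : x' ∉ C) (y z : ↥C) (hyz : Subgroup.closure ({y, z} : Set ↥C) = ⊤) :
    Subgroup.closure ({x', (y : G), (z : G)} : Set G) = ⊤ := by
  have h1 : C ≤ Subgroup.closure ({x', (y : G), (z : G)} : Set G) := by
    have h2 : (Subgroup.closure ({y, z} : Set ↥C)).map C.subtype = C := by
      rw [hyz, ← MonoidHom.range_eq_map, Subgroup.range_subtype]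
    have h4 : (Subgroup.closure ({y, z} : Set ↥C)).map C.subtype
        ≤ Subgroup.closure ({x', (y : G), (z : G)} : Set G) := by
      rw [MonoidHom.map_closure, Set.image_pair]
      apply Subgroup.closure_mono
      intro w hw
      rcases hw with rfl | rfl
      · simp
      · simp
    rw [h2] at h4
    exact h4
  have h3 := blk_le_of_prime_relIndex hp C _ ⊤ h1 le_top
    (by rw [Subgroup.relIndex_top_right]; exact hCidx)
    (fun hcon => hx' (hcon ⟨Subgroup.subset_closure (by simp), Subgroup.mem_top x'⟩))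
  exact top_le_iff.mp h3


section Big

variable [Finite G] {p : ℕ} [hpf : Fact p.Prime]

/-- the standing hypotheses hold for the conjugation action on the centralizer -/
theorem blk_ctx (hp2 : p ≠ 2) (k : ℕ) (hG : Nat.card G = p ^ (k + 4))
    (E C : Subgroup G) [hEn : E.Normal] [hCn : C.Normal]
    (hEc : Nat.card E = p ^ 2) (hEexp : ∀ e ∈ E, e ^ p = 1)
    (hC : ∀ g : G, g ∈ C ↔ ∀ e ∈ E, e * g = g * e)
    (hCidx : C.index = p)
    (hΩ : ∀ g ∈ C, g ^ p = 1 → g ∈ E)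
    (hCab : ∀ a ∈ C, ∀ b ∈ C, a * b = b * a)
    (c : G) (hcC : c ∈ C) (hcord : orderOf c = p ^ (k + 2)) (x : G) (hx : x ∉ C) :
    BlkCtx ↥C p k ⟨c, hcC⟩ (E.subgroupOf C) (MulAut.conjNormal x⁻¹ : MulAut ↥C) := by
  have hp := hpf.out
  have hGp : IsPGroup p G := IsPGroup.of_card hG
  have hEab : ∀ a ∈ E, ∀ b ∈ E, a * b = b * a := by
    intro a ha b hb
    have h1 := (IsPGroup.isMulCommutative_of_card_eq_prime_sq hEc).is_comm.comm
      (⟨a, ha⟩ : ↥E) ⟨b, hb⟩
    exact congrArg Subtype.val h1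
  have hEC : E ≤ C := by
    intro g hg
    rw [hC]
    intro e he
    exact hEab e he g hg
  have hxpC : (x⁻¹) ^ p ∈ C := by
    have h1 := Subgroup.pow_index_mem C x⁻¹
    rwa [hCidx] at h1
  refine ⟨?_, hp2, ?_, ?_, ?_, ?_, ?_, ?_, ?_⟩
  · intro a b
    exact Subtype.ext (hCab a a.2 b b.2)
  · have h1 : Nat.card C * C.index = Nat.card G := Subgroup.card_mul_index C
    rw [hCidx, hG, pow_succ p (k + 3)] at h1
    exact Nat.eq_of_mul_eq_mul_right hp.pos h1
  · rw [← hcord]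
    exact (Subgroup.orderOf_coe (⟨c, hcC⟩ : ↥C)).symm
  · intro a
    rw [Subgroup.mem_subgroupOf]
    constructor
    · intro ha
      exact Subtype.ext (by simpa using hEexp _ ha)
    · intro ha
      apply hΩ _ a.2
      have := congrArg Subtype.val ha
      simpa using this
  · rw [← hEc]
    exact Nat.card_congr (Subgroup.subgroupOfEquivOfLe hEC).toEquiv
  · intro a
    rw [← map_pow]
    apply Subtype.ext
    rw [MulAut.conjNormal_apply]
    rw [hCab _ hxpC _ a.2, mul_inv_cancel_right]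
  · intro e he
    rw [Subgroup.mem_subgroupOf] at he
    apply Subtype.ext
    have h1 : (((e⁻¹ * (MulAut.conjNormal x⁻¹ : MulAut ↥C) e : ↥C)) : G) = ⁅(e : G)⁻¹, x⁻¹⁆ :=
      blk_coe_blkD C x e
    rw [MulAut.conjNormal_apply, h1]
    have h2 : ⁅(e : G)⁻¹, x⁻¹⁆ ∈ Subgroup.center G :=
      comm_mem_center_of_normal_card_sq hGp E hEc (E.inv_mem he) x⁻¹
    have h3 := Subgroup.mem_center_iff.mp h2 x⁻¹
    rw [h3, mul_inv_cancel_right]
  · have h1 : ¬ ∀ e ∈ E, e * x = x * e := fun h => hx ((hC x).mpr h)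
    simp only [not_forall] at h1
    obtain ⟨e, he, hne⟩ := h1
    refine ⟨⟨e, hEC he⟩, by rw [Subgroup.mem_subgroupOf]; exact he, ?_⟩
    intro h0
    apply hne
    have h2 := congrArg Subtype.val h0
    rw [MulAut.conjNormal_apply] at h2
    simp only [inv_inv] at h2
    calc e * x = x * (x⁻¹ * e * x) := by group
      _ = x * e := by rw [h2]


/-- the case `n = k + 4` with abelian centralizer of type `(p ^ (k + 2), p)` -/
theorem blk_beta_big (hp2 : p ≠ 2) (k : ℕ) (hG : Nat.card G = p ^ (k + 4))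
    (E C : Subgroup G) [hEn : E.Normal] [hCn : C.Normal]
    (hEc : Nat.card E = p ^ 2) (hEexp : ∀ e ∈ E, e ^ p = 1)
    (hC : ∀ g : G, g ∈ C ↔ ∀ e ∈ E, e * g = g * e)
    (hCidx : C.index = p)
    (hΩ : ∀ g ∈ C, g ^ p = 1 → g ∈ E)
    (hCab : ∀ a ∈ C, ∀ b ∈ C, a * b = b * a)
    (hpow : ∀ g : G, ∃ b ∈ C, b ^ p = g ^ p)
    (c : G) (hcC : c ∈ C) (hcord : orderOf c = p ^ (k + 2)) :
    (∃ x y z : G, Subgroup.closure ({x, y, z} : Set G) = ⊤ ∧ x ^ p = 1 ∧ y ^ p = 1 ∧
        z ^ p ^ (k + 2) = 1 ∧ x * z = z * x ∧ y * z = z * y ∧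
        x⁻¹ * y * x = y * z ^ p ^ (k + 1)) ∨
    (∃ (s : ℕ) (x y z : G), (s = 1 ∨ ¬ IsSquare (s : ZMod p)) ∧
        Subgroup.closure ({x, y, z} : Set G) = ⊤ ∧ x ^ p = 1 ∧ y ^ p = 1 ∧
        z ^ p ^ (k + 2) = 1 ∧ y * z = z * y ∧ x⁻¹ * y * x = y * z ^ (s * p ^ (k + 1)) ∧
        x⁻¹ * z * x = y * z) ∨
    (p = 3 ∧ k = 0 ∧ (⊤ : Subgroup G).lowerCentralSeries 2 ≠ ⊥) := by
  have hp := hpf.out
  obtain ⟨x, hx⟩ : ∃ x, x ∉ C := by
    by_contra hcon
    have h1 : C = ⊤ := by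
      ext g
      simp only [Subgroup.mem_top, iff_true]
      by_contra hg
      exact hcon ⟨g, hg⟩
    rw [h1, Subgroup.index_top] at hCidx
    exact hp.one_lt.ne hCidx
  have hctx := blk_ctx hp2 k hG E C hEc hEexp hC hCidx hΩ hCab c hcC hcord x hx
  have hxpC : x ^ p ∈ C := by
    have h1 := Subgroup.pow_index_mem C x
    rwa [hCidx] at h1
  have hpow' : ∀ g : ↥C, ∃ b : ↥C, b ^ p = (⟨x ^ p, hxpC⟩ : ↥C) *
      nrm (MulAut.conjNormal x⁻¹ : MulAut ↥C).toMonoidHom p g := by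
    intro g
    obtain ⟨b, hbC, hb⟩ := hpow (x * (g : G))
    refine ⟨⟨b, hbC⟩, Subtype.ext ?_⟩
    rw [Subgroup.coe_pow, Subgroup.coe_mul]
    show b ^ p = x ^ p * _
    rw [hb, blk_mul_pow_nrm C x g p]
  rcases hctx.dichotomy _ hpow' with ⟨hp3, hk0, hne⟩ | ⟨⟨g₀, hg₀⟩, hu⟩
  · right; right
    refine ⟨hp3, hk0, ?_⟩
    intro hbot
    apply hne
    apply Subtype.ext
    rw [blk_coe_blkD, Subgroup.coe_one]
    have hmem : ⁅((blkD (MulAut.conjNormal x⁻¹ : MulAut ↥C) ⟨c, hcC⟩ : ↥C) : G)⁻¹, x⁻¹⁆ ∈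
        (⊤ : Subgroup G).lowerCentralSeries 2 := by
      rw [blk_coe_blkD]
      show _ ∈ ⁅⁅(⊤ : Subgroup G), ⊤⁆, ⊤⁆
      exact Subgroup.commutator_mem_commutator
        (Subgroup.inv_mem _ (Subgroup.commutator_mem_commutator (Subgroup.mem_top _)
          (Subgroup.mem_top _))) (Subgroup.mem_top _)
    rw [hbot, Subgroup.mem_bot] at hmem
    exact hmem
  · have hx₁p : (x * (g₀ : G)) ^ p = 1 := by
      rw [blk_mul_pow_nrm C x g₀ p]
      have h1 := congrArg Subtype.val hg₀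
      simpa using h1
    have hx₁C : x * (g₀ : G) ∉ C := fun h =>
      hx (by simpa using C.mul_mem h (C.inv_mem g₀.2))
    have hconj : ∀ a : ↥C, (x * (g₀ : G))⁻¹ * (a : G) * (x * (g₀ : G))
        = (((MulAut.conjNormal x⁻¹ : MulAut ↥C) a : ↥C) : G) := by
      intro a
      rw [MulAut.conjNormal_apply, inv_inv]
      have h1 : x⁻¹ * (a : G) * x ∈ C := by
        have h2 := hCn.conj_mem (a : G) a.2 x⁻¹
        simpa using h2
      calc (x * (g₀ : G))⁻¹ * (a : G) * (x * (g₀ : G))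
          = (g₀ : G)⁻¹ * ((x⁻¹ * (a : G) * x) * (g₀ : G)) := by group
        _ = (g₀ : G)⁻¹ * ((g₀ : G) * (x⁻¹ * (a : G) * x)) := by rw [hCab _ h1 _ g₀.2]
        _ = x⁻¹ * (a : G) * x := by rw [inv_mul_cancel_left]
    rcases hctx.types hu with ⟨y, z, hyz, hyp, hzp, hαz, hαy⟩ |
      ⟨i, s, y, z, hi0, hip, hs, hyz, hyp, hzp, hαy, hαz⟩
    · left
      refine ⟨x * (g₀ : G), (y : G), (z : G), blk_closure_top hp C hCidx _ hx₁C y z hyz, hx₁p,
        ?_, ?_, ?_, ?_, ?_⟩
      · have h1 := congrArg Subtype.val hyp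
        simpa using h1
      · have h1 := congrArg Subtype.val hzp
        simpa using h1
      · have h1 := hconj z
        rw [hαz] at h1
        calc x * (g₀ : G) * (z : G)
            = x * (g₀ : G) * ((x * (g₀ : G))⁻¹ * (z : G) * (x * (g₀ : G))) := by rw [h1]
          _ = (z : G) * (x * (g₀ : G)) := by group
      · exact hCab _ y.2 _ z.2
      · rw [hconj y, hαy]
        simp
    · right; left
      have hconj' := blk_conj_pow C (x * (g₀ : G)) _ hconj i
      have hx'C : (x * (g₀ : G)) ^ i ∉ C := by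
        intro h
        apply hx₁C
        have h1 := blk_mem_zpowers_pow hp (x * (g₀ : G)) hx₁p i
          (Nat.not_dvd_of_pos_of_lt hi0 hip)
        exact (Subgroup.zpowers_le.mpr h) h1
      refine ⟨s, (x * (g₀ : G)) ^ i, (y : G), (z : G), hs,
        blk_closure_top hp C hCidx _ hx'C y z hyz, ?_, ?_, ?_, ?_, ?_, ?_⟩
      · rw [← pow_mul, mul_comm, pow_mul, hx₁p, one_pow]
      · have h1 := congrArg Subtype.val hyp
        simpa using h1
      · have h1 := congrArg Subtype.val hzp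
        simpa using h1
      · exact hCab _ y.2 _ z.2
      · rw [hconj' y, hαy]
        simp
      · rw [hconj' z, hαz]
        simp

end Big

end G

end Cfsg.Agent.Lib.Helper53
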