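import Mathlib
import Cfsg.Agent.Lib.Helper53.BlkG
import Cfsg.Agent.Lib.Helper53.BlkA
import Cfsg.Agent.Lib.Helper53.BlkB
import Cfsg.Agent.S0112

set_option autoImplicit false
set_option linter.style.haveILetI false
set_option linter.unusedSectionVars false
set_option linter.unusedVariables false

/-!
# Rank two: the group of order `p ^ 3` and exponent `p`, and the case of maximal class
-/

namespace Cfsg.Agent.Lib.Helper53

open scoped commutatorElement

universe u

/-- the nonabelian group of order `p ^ 3` and exponent `p` -/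
theorem blk_small {G : Type*} [Group G] [Finite G] {p : ℕ} [hpf : Fact p.Prime]
    (hG : Nat.card G = p ^ 3)
    (E : Subgroup G) [hEn : E.Normal] (hEc : Nat.card E = p ^ 2) (hEexp : ∀ e ∈ E, e ^ p = 1)
    (x e : G) (he : e ∈ E) (hne : e * x ≠ x * e) (hxp : x ^ p = 1) :
    ∃ x y z : G, Subgroup.closure ({x, y, z} : Set G) = ⊤ ∧ x ^ p = 1 ∧ y ^ p = 1 ∧ z ^ p = 1 ∧
      x * z = z * x ∧ y * z = z * y ∧ x⁻¹ * y * x = y * z := by
  have hp := hpf.out
  have hGp : IsPGroup p G := IsPGroup.of_card hG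
  have hEab : ∀ a ∈ E, ∀ b ∈ E, a * b = b * a := by
    intro a ha b hb
    have h1 := (IsPGroup.isMulCommutative_of_card_eq_prime_sq hEc).is_comm.comm
      (⟨a, ha⟩ : ↥E) ⟨b, hb⟩
    exact congrArg Subtype.val h1
  have hxE : x ∉ E := fun h => hne (hEab e he x h)
  have hzc : ⁅e⁻¹, x⁻¹⁆ ∈ Subgroup.center G :=
    comm_mem_center_of_normal_card_sq hGp E hEc (E.inv_mem he) x⁻¹
  have hzE : ⁅e⁻¹, x⁻¹⁆ ∈ E := by
    rw [commutatorElement_def]
    have h1 : x⁻¹ * e⁻¹⁻¹ * x⁻¹⁻¹ ∈ E := hEn.conj_mem _ (E.inv_mem (E.inv_mem he)) x⁻¹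
    have h2 : e⁻¹ * x⁻¹ * e⁻¹⁻¹ * x⁻¹⁻¹ = e⁻¹ * (x⁻¹ * e⁻¹⁻¹ * x⁻¹⁻¹) := by group
    rw [h2]
    exact E.mul_mem (E.inv_mem he) h1
  have hrel : x⁻¹ * e * x = e * ⁅e⁻¹, x⁻¹⁆ := by
    rw [commutatorElement_def]
    group
  have hz1 : ⁅e⁻¹, x⁻¹⁆ ≠ 1 := by
    intro h0
    apply hne
    rw [h0, mul_one] at hrel
    calc e * x = x * (x⁻¹ * e * x) := by group
      _ = x * e := by rw [hrel]
  have hzp : ⁅e⁻¹, x⁻¹⁆ ^ p = 1 := hEexp _ hzE
  refine ⟨x, e, ⁅e⁻¹, x⁻¹⁆, ?_, hxp, hEexp e he, hzp, Subgroup.mem_center_iff.mp hzc x,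
    Subgroup.mem_center_iff.mp hzc e, hrel⟩
  have hxH : x ∈ Subgroup.closure ({x, e, ⁅e⁻¹, x⁻¹⁆} : Set G) :=
    Subgroup.subset_closure (by simp)
  have heH : e ∈ Subgroup.closure ({x, e, ⁅e⁻¹, x⁻¹⁆} : Set G) :=
    Subgroup.subset_closure (by simp)
  have hzH : ⁅e⁻¹, x⁻¹⁆ ∈ Subgroup.closure ({x, e, ⁅e⁻¹, x⁻¹⁆} : Set G) :=
    Subgroup.subset_closure (by simp)
  have heD : e ∉ Subgroup.zpowers ⁅e⁻¹, x⁻¹⁆ := by
    intro h
    have h1 : e ∈ Subgroup.center G := (Subgroup.zpowers_le.mpr hzc) h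
    exact hne (Subgroup.mem_center_iff.mp h1 x).symm
  have hDcard : Nat.card (Subgroup.zpowers ⁅e⁻¹, x⁻¹⁆) = p ^ 1 := by
    rw [Nat.card_zpowers, orderOf_eq_prime hzp hz1, pow_one]
  have hrelI := blk_relIndex_of_card hp (Subgroup.zpowers ⁅e⁻¹, x⁻¹⁆) E
    (Subgroup.zpowers_le.mpr hzE) 1 hDcard hEc
  have hEH : E ≤ Subgroup.closure ({x, e, ⁅e⁻¹, x⁻¹⁆} : Set G) :=
    blk_le_of_prime_relIndex hp (Subgroup.zpowers ⁅e⁻¹, x⁻¹⁆) _ E
      (Subgroup.zpowers_le.mpr hzH) (Subgroup.zpowers_le.mpr hzE) hrelI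
      (fun hcon => heD (hcon ⟨heH, he⟩))
  have hEidx : E.index = p := by
    have h1 : Nat.card E * E.index = Nat.card G := Subgroup.card_mul_index E
    rw [hEc, hG, pow_succ p 2] at h1
    exact Nat.eq_of_mul_eq_mul_left (pow_pos hp.pos 2) h1
  have h3 := blk_le_of_prime_relIndex hp E _ ⊤ hEH le_top
    (by rw [Subgroup.relIndex_top_right]; exact hEidx)
    (fun hcon => hxE (hcon ⟨hxH, Subgroup.mem_top x⟩))
  exact top_le_iff.mp h3


/-- the case where the centralizer of `E` has no cyclic subgroup of index `p` -/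
theorem blk_alpha {G : Type u} [Group G] [Finite G] {p : ℕ} [hpf : Fact p.Prime] (hp2 : p ≠ 2)
    (n : ℕ) (hG : Nat.card G = p ^ n)
    (E C : Subgroup G) [hEn : E.Normal] [hCn : C.Normal]
    (hEc : Nat.card E = p ^ 2) (hEexp : ∀ e ∈ E, e ^ p = 1)
    (hC : ∀ g : G, g ∈ C ↔ ∀ e ∈ E, e * g = g * e)
    (hCidx : C.index = p)
    (hΩ : ∀ g ∈ C, g ^ p = 1 → g ∈ E)
    (hpow : ∀ g : G, ∃ b ∈ C, b ^ p = g ^ p)
    (hCm : Cfsg.IsMetacyclic ↥C)
    (hnc : ∀ D : Subgroup ↥C, IsCyclic D → D.index ≠ p) :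
    p = 3 ∧ (⊤ : Subgroup G).lowerCentralSeries (n - 2) ≠ ⊥ := by
  have hp := hpf.out
  have hGp : IsPGroup p G := IsPGroup.of_card hG
  have hLp : IsPGroup p ↥C := hGp.to_subgroup C
  obtain ⟨x, hx⟩ : ∃ x, x ∉ C := by
    by_contra hcon
    have h1 : C = ⊤ := by
      ext g
      simp only [Subgroup.mem_top, iff_true]
      by_contra hg
      exact hcon ⟨g, hg⟩
    rw [h1, Subgroup.index_top] at hCidx
    exact hp.one_lt.ne hCidx
  have hEab : ∀ a ∈ E, ∀ b ∈ E, a * b = b * a := by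
    intro a ha b hb
    have h1 := (IsPGroup.isMulCommutative_of_card_eq_prime_sq hEc).is_comm.comm
      (⟨a, ha⟩ : ↥E) ⟨b, hb⟩
    exact congrArg Subtype.val h1
  have hEC : E ≤ C := by
    intro g hg
    rw [hC]
    intro e he
    exact hEab e he g hg
  have hcen : ∀ w : ↥C, w ^ p = 1 → w ∈ Subgroup.center ↥C := by
    intro w hw
    have hwE : (w : G) ∈ E := hΩ _ w.2 (by
      have h1 := congrArg Subtype.val hw
      simpa using h1)
    rw [Subgroup.mem_center_iff]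
    intro g
    apply Subtype.ext
    rw [Subgroup.coe_mul, Subgroup.coe_mul]
    exact ((hC g).mp g.2 _ hwE).symm
  have ha : ∀ w : ↥C, (w ^ p) ^ p = 1 →
      ((MulAut.conjNormal x : MulAut ↥C) ^ p) w = w := by
    intro w hw
    obtain ⟨b, hbC, hb⟩ := hpow x
    have hwp : w ^ p ∈ Subgroup.center ↥C := hcen _ hw
    have h1 : ((⟨b, hbC⟩ : ↥C) * w * (⟨b, hbC⟩ : ↥C)⁻¹) ^ p = w ^ p := by
      rw [conj_pow, Subgroup.mem_center_iff.mp hwp, mul_inv_cancel_right]
    have h2 := pc_pow_eq hp2 hLp hcen h1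
    have h3 := hcen _ h2
    have hk : (⟨b, hbC⟩ : ↥C)⁻¹ * w = w * (⟨b, hbC⟩ : ↥C)⁻¹ *
        (((⟨b, hbC⟩ : ↥C) * w * (⟨b, hbC⟩ : ↥C)⁻¹)⁻¹ * w) := by group
    have h4 := pc_pow_mul_comm w (⟨b, hbC⟩ : ↥C)⁻¹ _ hk
      (Subgroup.mem_center_iff.mp h3 w).symm (Subgroup.mem_center_iff.mp h3 _).symm p
    rw [h2, mul_one] at h4
    rw [← map_pow]
    apply Subtype.ext
    rw [MulAut.conjNormal_apply, ← hb]
    have h5 := congrArg Subtype.val h4
    simp only [Subgroup.coe_mul, Subgroup.coe_pow, Subgroup.coe_inv] at h5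
    rw [inv_pow] at h5
    calc b ^ p * (w : G) * (b ^ p)⁻¹ = b ^ p * ((w : G) * (b ^ p)⁻¹) := by rw [mul_assoc]
      _ = b ^ p * ((b ^ p)⁻¹ * (w : G)) := by rw [h5]
      _ = (w : G) := by rw [mul_inv_cancel_left]
  have hE : ∀ a : ↥C, a ∈ E.subgroupOf C ↔ a ^ p = 1 := by
    intro a
    rw [Subgroup.mem_subgroupOf]
    constructor
    · intro ha
      exact Subtype.ext (by simpa using hEexp _ ha)
    · intro ha
      apply hΩ _ a.2
      have := congrArg Subtype.val ha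
      simpa using this
  have hEc' : Nat.card (E.subgroupOf C) = p ^ 2 := by
    rw [← hEc]
    exact Nat.card_congr (Subgroup.subgroupOfEquivOfLe hEC).toEquiv
  have hN1 : ∀ e ∈ E.subgroupOf C, (MulAut.conjNormal x : MulAut ↥C)
      (e⁻¹ * (MulAut.conjNormal x : MulAut ↥C) e) = e⁻¹ * (MulAut.conjNormal x : MulAut ↥C) e := by
    intro e he
    rw [Subgroup.mem_subgroupOf] at he
    apply Subtype.ext
    have h1 : (((e⁻¹ * (MulAut.conjNormal x : MulAut ↥C) e : ↥C)) : G) = ⁅(e : G)⁻¹, x⁆ := by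
      rw [commutatorElement_def]
      simp only [Subgroup.coe_mul, Subgroup.coe_inv, MulAut.conjNormal_apply, inv_inv]
      group
    rw [MulAut.conjNormal_apply, h1]
    have h2 : ⁅(e : G)⁻¹, x⁆ ∈ Subgroup.center G :=
      comm_mem_center_of_normal_card_sq hGp E hEc (E.inv_mem he) x
    have h3 := Subgroup.mem_center_iff.mp h2 x
    rw [h3, mul_inv_cancel_right]
  obtain ⟨e₁, he₁, hmove⟩ : ∃ e₁ ∈ E.subgroupOf C, (MulAut.conjNormal x : MulAut ↥C) e₁ ≠ e₁ := by
    have h1 : ¬ ∀ e ∈ E, e * x = x * e := fun h => hx ((hC x).mpr h)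
    simp only [not_forall] at h1
    obtain ⟨e, he, hne⟩ := h1
    refine ⟨⟨e, hEC he⟩, by rw [Subgroup.mem_subgroupOf]; exact he, ?_⟩
    intro h0
    apply hne
    have h2 := congrArg Subtype.val h0
    rw [MulAut.conjNormal_apply] at h2
    calc e * x = (x * e * x⁻¹)  * x := by rw [h2]
      _ = x * e := by group
  obtain ⟨hp3, hF⟩ := ma_forward_gen hp2 hLp hCm hnc (MulAut.conjNormal x : MulAut ↥C) ha
    (E.subgroupOf C) hE hEc' hN1 e₁ he₁ hmove
  refine ⟨hp3, ?_⟩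
  have hF' : Nat.card ((Subgroup.centralizer ({x} : Set G)).subgroupOf C) = p := by
    apply hF
    intro w
    rw [Subgroup.mem_subgroupOf, Subgroup.mem_centralizer_singleton_iff]
    constructor
    · intro h
      apply Subtype.ext
      rw [MulAut.conjNormal_apply, ← h, mul_inv_cancel_right]
    · intro h
      have h2 := congrArg Subtype.val h
      rw [MulAut.conjNormal_apply] at h2
      calc (w : G) * x = (x * (w : G) * x⁻¹) * x := by rw [h2]
        _ = x * (w : G) := by group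
  have hxZ : x ∈ Subgroup.centralizer ({x} : Set G) := by
    rw [Subgroup.mem_centralizer_singleton_iff]
  have hZcard : Nat.card (Subgroup.centralizer ({x} : Set G)) = p ^ 2 := by
    have h1 : Nat.card ↥(C ⊓ Subgroup.centralizer ({x} : Set G)) = p := by
      rw [← hF', ← Subgroup.inf_subgroupOf_left]
      exact (Nat.card_congr (Subgroup.subgroupOfEquivOfLe inf_le_left).toEquiv).symm
    have h2 : C.relIndex (Subgroup.centralizer ({x} : Set G)) ∣ p := by
      rw [← hCidx]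
      exact Subgroup.relIndex_dvd_index_of_normal C _
    have h3 : C.relIndex (Subgroup.centralizer ({x} : Set G)) ≠ 1 := by
      intro h
      exact hx ((Subgroup.relIndex_eq_one.mp h) hxZ)
    have h4 : C.relIndex (Subgroup.centralizer ({x} : Set G)) = p := by
      rcases (Nat.dvd_prime hp).mp h2 with h | h
      · exact absurd h h3
      · exact h
    have h5 := Subgroup.relIndex_mul_relIndex ⊥ (C ⊓ Subgroup.centralizer ({x} : Set G))
      (Subgroup.centralizer ({x} : Set G)) bot_le inf_le_right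
    rw [Subgroup.relIndex_bot_left, Subgroup.relIndex_bot_left, Subgroup.inf_relIndex_right,
      h1, h4] at h5
    rw [← h5, pow_two]
  have hZab : ∀ a ∈ Subgroup.centralizer ({x} : Set G),
      ∀ b ∈ Subgroup.centralizer ({x} : Set G), a * b = b * a := by
    intro a ha b hb
    have h1 := (IsPGroup.isMulCommutative_of_card_eq_prime_sq hZcard).is_comm.comm
      (⟨a, ha⟩ : ↥(Subgroup.centralizer ({x} : Set G))) ⟨b, hb⟩
    exact congrArg Subtype.val h1
  have hZcent : Subgroup.centralizer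
      ((Subgroup.centralizer ({x} : Set G) : Subgroup G) : Set G)
      = Subgroup.centralizer ({x} : Set G) := by
    apply le_antisymm
    · intro g hg
      rw [Subgroup.mem_centralizer_singleton_iff]
      rw [Subgroup.mem_centralizer_iff] at hg
      exact (hg x hxZ).symm
    · intro g hg
      rw [Subgroup.mem_centralizer_iff]
      intro h hh
      exact hZab h hh g hg
  have hclass := Cfsg.Agent.S0112.main p n G hG _ hZcard hZcent
  have hn2 : 2 ≤ n := by
    have h1 : p ^ 2 ∣ p ^ n := by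
      rw [← hEc, ← hG]
      exact Subgroup.card_subgroup_dvd_card E
    exact (Nat.pow_dvd_pow_iff_le_right hp.one_lt).mp h1
  intro hbot
  haveI : Group.IsNilpotent G := hGp.isNilpotent
  rw [Subgroup.lowerCentralSeries_eq_bot_iff_nilpotencyClass_le, hclass] at hbot
  omega

end Cfsg.Agent.Lib.Helper53
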