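import Mathlib
import Cfsg.Agent.Lib.Helper53.BlkH
import Cfsg.Agent.Lib.Helper53.CenterMeet
import Cfsg.Agent.Lib.Helper53.RuUCS

set_option autoImplicit false
set_option linter.style.haveILetI false
set_option linter.unusedSectionVars false
set_option linter.unusedVariables false

/-!
# Rank two: the centralizer of a normal elementary abelian subgroup of order `p ^ 2`
-/

namespace Cfsg.Agent.Lib.Helper53

open scoped commutatorElement

universe u

section Prep

variable {G : Type*} [Group G]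

/-- elements commuting pairwise generate a commutative subgroup -/
theorem blk_closure_comm (S : Set G) (hS : ∀ x ∈ S, ∀ y ∈ S, x * y = y * x) :
    ∀ a ∈ Subgroup.closure S, ∀ b ∈ Subgroup.closure S, a * b = b * a := by
  intro a ha b hb
  have h1 := (Subgroup.isMulCommutative_closure hS).is_comm.comm
    (⟨a, ha⟩ : ↥(Subgroup.closure S)) ⟨b, hb⟩
  exact congrArg Subtype.val h1

/-- `E ⊔ ⟨g⟩` is elementary abelian if `E` is and `g` of order `p` centralizes `E` -/
theorem blk_sup_elemAb {p : ℕ} (E : Subgroup G) (hEab : ∀ a ∈ E, ∀ b ∈ E, a * b = b * a)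
    (hEexp : ∀ e ∈ E, e ^ p = 1) (g : G) (hg : ∀ e ∈ E, e * g = g * e) (hgp : g ^ p = 1) :
    (∀ a ∈ E ⊔ Subgroup.zpowers g, ∀ b ∈ E ⊔ Subgroup.zpowers g, a * b = b * a) ∧
      ∀ a ∈ E ⊔ Subgroup.zpowers g, a ^ p = 1 := by
  have hcl : E ⊔ Subgroup.zpowers g = Subgroup.closure ((E : Set G) ∪ {g}) := by
    rw [Subgroup.closure_union, Subgroup.closure_eq, Subgroup.zpowers_eq_closure]
  have hgen : ∀ x ∈ (E : Set G) ∪ {g}, ∀ y ∈ (E : Set G) ∪ {g}, x * y = y * x := by
    rintro x (hx | hx) y (hy | hy)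
    · exact hEab x hx y hy
    · rw [Set.mem_singleton_iff] at hy
      rw [hy]
      exact hg x hx
    · rw [Set.mem_singleton_iff] at hx
      rw [hx]
      exact (hg y hy).symm
    · rw [Set.mem_singleton_iff] at hx hy
      rw [hx, hy]
  have hcomm := blk_closure_comm _ hgen
  rw [← hcl] at hcomm
  refine ⟨hcomm, ?_⟩
  intro a ha
  have ha' := ha
  rw [hcl] at ha'
  induction ha' using Subgroup.closure_induction with
  | mem x hx =>
    rcases hx with hx | hx
    · exact hEexp x hx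
    · rw [Set.mem_singleton_iff] at hx
      rw [hx]
      exact hgp
  | one => exact one_pow p
  | mul x z hx hz ihx ihz =>
    have hx' : x ∈ E ⊔ Subgroup.zpowers g := hcl ▸ hx
    have hz' : z ∈ E ⊔ Subgroup.zpowers g := hcl ▸ hz
    rw [(show Commute x z from hcomm x hx' z hz').mul_pow, ihx hx', ihz hz', one_mul]
  | inv x hx ihx =>
    have hx' : x ∈ E ⊔ Subgroup.zpowers g := hcl ▸ hx
    rw [inv_pow, ihx hx', inv_one]

variable [Finite G] {p : ℕ} [hpf : Fact p.Prime]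

/-- in a group of rank two, the elements of order `p` centralizing `E` lie in `E` -/
theorem blk_omega (hrk : Cfsg.PRankLE p 2 G) (E : Subgroup G) (hEc : Nat.card E = p ^ 2)
    (hEexp : ∀ e ∈ E, e ^ p = 1) (g : G) (hg : ∀ e ∈ E, e * g = g * e) (hgp : g ^ p = 1) :
    g ∈ E := by
  have hEab : ∀ a ∈ E, ∀ b ∈ E, a * b = b * a := by
    intro a ha b hb
    have h1 := (IsPGroup.isMulCommutative_of_card_eq_prime_sq hEc).is_comm.comm
      (⟨a, ha⟩ : ↥E) ⟨b, hb⟩
    exact congrArg Subtype.val h1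
  obtain ⟨h1, h2⟩ := blk_sup_elemAb E hEab hEexp g hg hgp
  have hcommA : IsMulCommutative ↥(E ⊔ Subgroup.zpowers g) :=
    ⟨⟨fun a b => Subtype.ext (h1 a a.2 b b.2)⟩⟩
  have h3 := hrk (E ⊔ Subgroup.zpowers g) hcommA h2
  have h4 : E = E ⊔ Subgroup.zpowers g :=
    Subgroup.eq_of_le_of_card_ge le_sup_left (by rw [hEc]; exact h3)
  rw [h4]
  exact (le_sup_right : Subgroup.zpowers g ≤ E ⊔ Subgroup.zpowers g) (Subgroup.mem_zpowers g)

/-- the centralizer of a noncentral normal subgroup of order `p ^ 2` has index `p` -/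
theorem blk_index (n : ℕ) (hG : Nat.card G = p ^ n) (E C : Subgroup G) [hEn : E.Normal]
    (hEc : Nat.card E = p ^ 2)
    (hC : ∀ g : G, g ∈ C ↔ ∀ e ∈ E, e * g = g * e) (hCtop : C ≠ ⊤) : C.index = p := by
  have hp := hpf.out
  have hGp : IsPGroup p G := IsPGroup.of_card hG
  -- a noncentral element of `E`
  obtain ⟨e₁, he₁, he₁c⟩ : ∃ e₁ ∈ E, e₁ ∉ Subgroup.center G := by
    by_contra hcon
    apply hCtop
    ext g
    simp only [Subgroup.mem_top, iff_true]
    rw [hC]
    intro e he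
    by_contra hne
    apply hcon
    refine ⟨e, he, fun hc => hne ?_⟩
    exact (Subgroup.mem_center_iff.mp hc g).symm
  have hEbot : E ≠ ⊥ := by
    intro h
    rw [h, Subgroup.mem_bot] at he₁
    rw [he₁] at he₁c
    exact he₁c (Subgroup.one_mem _)
  obtain ⟨b, hbE, hb1, hbc⟩ := normal_meets_center hGp E hEbot
  -- `Z₀ = E ⊓ Z(G)` has order `p`
  have hZcard : Nat.card ↥(E ⊓ Subgroup.center G) = p ^ 1 := by
    have h1 : Nat.card ↥(E ⊓ Subgroup.center G) ∣ p ^ 2 :=
      hEc ▸ Subgroup.card_dvd_of_le inf_le_left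
    obtain ⟨i, hi, hi2⟩ := (Nat.dvd_prime_pow hp).mp h1
    interval_cases i
    · exfalso
      have h3 := Subgroup.eq_bot_of_card_eq (E ⊓ Subgroup.center G) (by rw [hi2, pow_zero])
      have hmem : b ∈ E ⊓ Subgroup.center G := ⟨hbE, hbc⟩
      rw [h3, Subgroup.mem_bot] at hmem
      exact hb1 hmem
    · exact hi2
    · exfalso
      have h3 : E ⊓ Subgroup.center G = E :=
        Subgroup.eq_of_le_of_card_ge inf_le_left (by rw [hi2, hEc])
      have h4 : e₁ ∈ E ⊓ Subgroup.center G := by rw [h3]; exact he₁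
      exact he₁c h4.2
  have hrel := blk_relIndex_of_card hp (E ⊓ Subgroup.center G) E inf_le_left 1 hZcard hEc
  have hEle : E ≤ Subgroup.zpowers e₁ ⊔ (E ⊓ Subgroup.center G) :=
    blk_le_of_prime_relIndex hp (E ⊓ Subgroup.center G) _ E le_sup_right inf_le_left hrel
      (fun hcon => he₁c (hcon ⟨(le_sup_left : Subgroup.zpowers e₁ ≤ _)
        (Subgroup.mem_zpowers e₁), he₁⟩).2)
  -- the commutator map
  have hmem : ∀ g : G, ⁅e₁, g⁆ ∈ E ⊓ Subgroup.center G := by
    intro g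
    refine ⟨?_, comm_mem_center_of_normal_card_sq hGp E hEc he₁ g⟩
    rw [commutatorElement_def]
    have h1 : g * e₁⁻¹ * g⁻¹ ∈ E := hEn.conj_mem _ (E.inv_mem he₁) g
    have h2 : e₁ * g * e₁⁻¹ * g⁻¹ = e₁ * (g * e₁⁻¹ * g⁻¹) := by group
    rw [h2]
    exact E.mul_mem he₁ h1
  have hle := relIndex_le_of_fun (⊤ : Subgroup G) C
    (fun g => (⟨⁅e₁, g⁆, hmem g⟩ : ↥(E ⊓ Subgroup.center G))) (by
      intro a _ a' _ haa
      have h1 : ⁅e₁, a⁆ = ⁅e₁, a'⁆ := congrArg Subtype.val haa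
      rw [commutatorElement_def, commutatorElement_def] at h1
      have h2 : e₁ * (a⁻¹ * a') = (a⁻¹ * a') * e₁ := by
        have h3 : a * e₁⁻¹ * a⁻¹ = a' * e₁⁻¹ * a'⁻¹ := by
          have h4 : e₁ * (a * e₁⁻¹ * a⁻¹) = e₁ * (a' * e₁⁻¹ * a'⁻¹) := by
            calc e₁ * (a * e₁⁻¹ * a⁻¹) = e₁ * a * e₁⁻¹ * a⁻¹ := by group
              _ = e₁ * a' * e₁⁻¹ * a'⁻¹ := h1
              _ = e₁ * (a' * e₁⁻¹ * a'⁻¹) := by group
          exact mul_left_cancel h4
        have h5 : (a⁻¹ * a') * e₁⁻¹ = e₁⁻¹ * (a⁻¹ * a') := by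
          calc (a⁻¹ * a') * e₁⁻¹ = a⁻¹ * (a' * e₁⁻¹ * a'⁻¹) * a' := by group
            _ = a⁻¹ * (a * e₁⁻¹ * a⁻¹) * a' := by rw [h3]
            _ = e₁⁻¹ * (a⁻¹ * a') := by group
        calc e₁ * (a⁻¹ * a') = e₁ * ((a⁻¹ * a') * e₁⁻¹) * e₁ := by group
          _ = e₁ * (e₁⁻¹ * (a⁻¹ * a')) * e₁ := by rw [h5]
          _ = (a⁻¹ * a') * e₁ := by group
      rw [hC]
      intro e he
      have h6 : Subgroup.zpowers e₁ ⊔ (E ⊓ Subgroup.center G)
          ≤ Subgroup.centralizer ({a⁻¹ * a'} : Set G) := by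
        apply sup_le
        · rw [Subgroup.zpowers_le, Subgroup.mem_centralizer_singleton_iff]
          exact h2
        · intro z hz
          rw [Subgroup.mem_centralizer_singleton_iff]
          exact (Subgroup.mem_center_iff.mp hz.2 _).symm
      exact Subgroup.mem_centralizer_singleton_iff.mp (h6 (hEle he)))
  rw [Subgroup.relIndex_top_right, hZcard, pow_one] at hle
  have hdvd : C.index ∣ p ^ n := hG ▸ Subgroup.index_dvd_card C
  obtain ⟨i, hi, hi2⟩ := (Nat.dvd_prime_pow hp).mp hdvd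
  have hi0 : i ≠ 0 := by
    rintro rfl
    rw [pow_zero] at hi2
    exact hCtop (Subgroup.index_eq_one.mp hi2)
  have hi1 : i ≤ 1 := by
    by_contra hcon
    have h1 : p ^ 2 ≤ p ^ i := Nat.pow_le_pow_right hp.pos (by omega)
    have h2 : p < p ^ 2 := by
      rw [pow_two]
      exact lt_mul_self hp.one_lt
    omega
  have : i = 1 := by omega
  rw [hi2, this, pow_one]

end Prep

end Cfsg.Agent.Lib.Helper53
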