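import Mathlib
import Cfsg.Agent.Lib.Helper53.BlkI

set_option autoImplicit false
set_option linter.style.haveILetI false
set_option linter.unusedSectionVars false
set_option linter.unusedVariables false

/-!
# Rank two: `p`-th powers and the abelian centralizer
-/

namespace Cfsg.Agent.Lib.Helper53

open scoped commutatorElement

universe u

/-- a `p`-central group with a cyclic subgroup of index `p` and `|Ω₁| = p ^ 2` is abelian -/
theorem blk_abelian {L : Type*} [Group L] [Finite L] {p : ℕ} [hpf : Fact p.Prime]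
    (E' : Subgroup L) (hE : ∀ a : L, a ∈ E' ↔ a ^ p = 1) (hEc' : Nat.card E' = p ^ 2)
    (hcen : ∀ w : L, w ^ p = 1 → w ∈ Subgroup.center L)
    (D : Subgroup L) (hD : IsCyclic D) (hDidx : D.index = p) :
    (∀ a b : L, a * b = b * a) ∧ ∃ c : L, orderOf c = Nat.card D := by
  have hp := hpf.out
  obtain ⟨g, hg⟩ := hD.exists_generator
  have hDz : D = Subgroup.zpowers (g : L) := by
    apply le_antisymm
    · intro w hw
      obtain ⟨i, hi⟩ := Subgroup.mem_zpowers_iff.mp (hg ⟨w, hw⟩)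
      rw [Subgroup.mem_zpowers_iff]
      refine ⟨i, ?_⟩
      have h1 := congrArg Subtype.val hi
      simpa using h1
    · rw [Subgroup.zpowers_le]
      exact g.2
  have hEnotD : ¬ E' ≤ D := by
    intro hle
    haveI := hD
    have hcyc : IsCyclic E' := Subgroup.isCyclic_of_le hle
    obtain ⟨e, he⟩ := hcyc.exists_generator
    have h1 := orderOf_eq_card_of_forall_mem_zpowers he
    rw [hEc'] at h1
    have h2 : e ^ p = 1 := by
      apply Subtype.ext
      have := (hE (e : L)).mp e.2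
      simpa using this
    have h3 := orderOf_dvd_of_pow_eq_one h2
    rw [h1] at h3
    have h4 := Nat.le_of_dvd hp.pos h3
    have h5 : p < p ^ 2 := by
      rw [pow_two]
      exact lt_mul_self hp.one_lt
    omega
  obtain ⟨e, heE, heD⟩ := SetLike.not_le_iff_exists.mp hEnotD
  have htop : ⊤ ≤ D ⊔ E' :=
    blk_le_of_prime_relIndex hp D (D ⊔ E') ⊤ le_sup_left le_top
      (by rw [Subgroup.relIndex_top_right]; exact hDidx)
      (fun hcon => heD (hcon ⟨(le_sup_right : E' ≤ D ⊔ E') heE, Subgroup.mem_top e⟩))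
  have hcl : D ⊔ E' = Subgroup.closure (({(g : L)} : Set L) ∪ (E' : Set L)) := by
    rw [Subgroup.closure_union, Subgroup.closure_eq, ← Subgroup.zpowers_eq_closure, ← hDz]
  have hgen : ∀ x ∈ ({(g : L)} : Set L) ∪ (E' : Set L),
      ∀ y ∈ ({(g : L)} : Set L) ∪ (E' : Set L), x * y = y * x := by
    rintro x (hx | hx) y (hy | hy)
    · rw [Set.mem_singleton_iff] at hx hy
      rw [hx, hy]
    · exact Subgroup.mem_center_iff.mp (hcen y ((hE y).mp hy)) x
    · exact (Subgroup.mem_center_iff.mp (hcen x ((hE x).mp hx)) y).symm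
    · exact Subgroup.mem_center_iff.mp (hcen y ((hE y).mp hy)) x
  have hcomm := blk_closure_comm _ hgen
  rw [← hcl] at hcomm
  refine ⟨fun a b => hcomm a (htop (Subgroup.mem_top a)) b (htop (Subgroup.mem_top b)),
    (g : L), ?_⟩
  rw [← Nat.card_zpowers, ← hDz]

section Pow

variable {G : Type u} [Group G] [Finite G] {p : ℕ} [hpf : Fact p.Prime]

theorem blk_hcen (E C : Subgroup G)
    (hC : ∀ g : G, g ∈ C ↔ ∀ e ∈ E, e * g = g * e)
    (hΩ : ∀ g ∈ C, g ^ p = 1 → g ∈ E) :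
    ∀ w : ↥C, w ^ p = 1 → w ∈ Subgroup.center ↥C := by
  intro w hw
  have hwE : (w : G) ∈ E := hΩ _ w.2 (by
    have h1 := congrArg Subtype.val hw
    simpa using h1)
  rw [Subgroup.mem_center_iff]
  intro g
  apply Subtype.ext
  rw [Subgroup.coe_mul, Subgroup.coe_mul]
  exact ((hC g).mp g.2 _ hwE).symm

theorem blk_hE (E C : Subgroup G) (hEexp : ∀ e ∈ E, e ^ p = 1)
    (hΩ : ∀ g ∈ C, g ^ p = 1 → g ∈ E) :
    ∀ a : ↥C, a ∈ E.subgroupOf C ↔ a ^ p = 1 := by
  intro a
  rw [Subgroup.mem_subgroupOf]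
  constructor
  · intro ha
    exact Subtype.ext (by simpa using hEexp _ ha)
  · intro ha
    apply hΩ _ a.2
    have := congrArg Subtype.val ha
    simpa using this

theorem blk_hEC (E C : Subgroup G) (hEc : Nat.card E = p ^ 2)
    (hC : ∀ g : G, g ∈ C ↔ ∀ e ∈ E, e * g = g * e) : E ≤ C := by
  intro g hg
  rw [hC]
  intro e he
  have h1 := (IsPGroup.isMulCommutative_of_card_eq_prime_sq hEc).is_comm.comm
    (⟨e, he⟩ : ↥E) ⟨g, hg⟩
  exact congrArg Subtype.val h1

theorem blk_card_omega (E C : Subgroup G) (hEc : Nat.card E = p ^ 2)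
    (hEexp : ∀ e ∈ E, e ^ p = 1)
    (hC : ∀ g : G, g ∈ C ↔ ∀ e ∈ E, e * g = g * e)
    (hΩ : ∀ g ∈ C, g ^ p = 1 → g ∈ E)
    (hcen : ∀ w : ↥C, w ^ p = 1 → w ∈ Subgroup.center ↥C) :
    Nat.card (pcOmega p hcen) = p ^ 2 := by
  have hom : pcOmega p hcen = E.subgroupOf C := by
    ext w
    rw [mem_pcOmega, blk_hE E C hEexp hΩ]
  rw [hom, ← hEc]
  exact Nat.card_congr (Subgroup.subgroupOfEquivOfLe (blk_hEC E C hEc hC)).toEquiv

/-- the centralizer of `E` is metacyclic -/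
theorem blk_C_metacyclic (hp2 : p ≠ 2) (hGp : IsPGroup p G) (E C : Subgroup G)
    (hEc : Nat.card E = p ^ 2) (hEexp : ∀ e ∈ E, e ^ p = 1)
    (hC : ∀ g : G, g ∈ C ↔ ∀ e ∈ E, e * g = g * e)
    (hΩ : ∀ g ∈ C, g ^ p = 1 → g ∈ E) : Cfsg.IsMetacyclic ↥C := by
  have hcen := blk_hcen E C hC hΩ
  exact pc_isMetacyclic hp2 (hGp.to_subgroup C) hcen
    (blk_card_omega E C hEc hEexp hC hΩ hcen).le

/-- if `G` is not metacyclic, every `p`-th power is the `p`-th power of an element of `C` -/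
theorem blk_hpow (hp2 : p ≠ 2) (hGp : IsPGroup p G) (E C : Subgroup G)
    (hEc : Nat.card E = p ^ 2) (hEexp : ∀ e ∈ E, e ^ p = 1)
    (hC : ∀ g : G, g ∈ C ↔ ∀ e ∈ E, e * g = g * e) (hCidx : C.index = p)
    (hΩ : ∀ g ∈ C, g ^ p = 1 → g ∈ E) (hnm : ¬ Cfsg.IsMetacyclic G) :
    ∀ g : G, ∃ b ∈ C, b ^ p = g ^ p := by
  have hp := hpf.out
  have hLp : IsPGroup p ↥C := hGp.to_subgroup C
  have hcen := blk_hcen E C hC hΩ
  have hcardΩ := blk_card_omega E C hEc hEexp hC hΩ hcen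
  have h1 : (mhoOne p ↥C).index ≤ p ^ 2 := hcardΩ ▸ pc_index_mho_le hp2 hLp hcen
  have hM : (mhoOne p ↥C).map C.subtype ≤ mhoOne p G := by
    rw [mhoOne, MonoidHom.map_closure, Subgroup.closure_le]
    rintro _ ⟨_, ⟨y, rfl⟩, rfl⟩
    rw [map_pow]
    exact pow_mem_mhoOne p _
  have hMidx : ((mhoOne p ↥C).map C.subtype).index = (mhoOne p ↥C).index * p := by
    rw [Subgroup.index_map_subtype, hCidx]
  obtain ⟨j, hj⟩ := hGp.index (mhoOne p G)
  have hj3 : 3 ≤ j := by
    by_contra hcon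
    apply hnm
    apply isMetacyclic_of_mho_index hp2 hGp
    rw [hj]
    exact pow_dvd_pow p (by omega)
  obtain ⟨i, hi⟩ := hLp.index (mhoOne p ↥C)
  have hi2 : i ≤ 2 := by
    rw [hi] at h1
    exact (Nat.pow_le_pow_iff_right hp.one_lt).mp h1
  have hdvd : (mhoOne p G).index ∣ ((mhoOne p ↥C).map C.subtype).index :=
    Subgroup.index_dvd_of_le hM
  rw [hj, hMidx, hi, ← pow_succ] at hdvd
  have hji : j ≤ i + 1 := (Nat.pow_dvd_pow_iff_le_right hp.one_lt).mp hdvd
  have hi2' : i = 2 := by omega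
  have hj3' : j = 3 := by omega
  have hMeq : (mhoOne p ↥C).map C.subtype = mhoOne p G := by
    have h2 := Subgroup.relIndex_mul_index hM
    rw [hMidx, hj, hi, hi2', hj3', ← pow_succ] at h2
    have h3 : ((mhoOne p ↥C).map C.subtype).relIndex (mhoOne p G) = 1 := by
      have h4 : ((mhoOne p ↥C).map C.subtype).relIndex (mhoOne p G) * p ^ 3 = 1 * p ^ 3 := by
        rw [h2, one_mul]
      exact Nat.eq_of_mul_eq_mul_right (pow_pos hp.pos 3) h4
    exact le_antisymm hM (Subgroup.relIndex_eq_one.mp h3)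
  have hidx : Nat.card (pcOmega p hcen) ≤ (mhoOne p ↥C).index := by
    rw [hcardΩ, hi, hi2']
  have hex := pc_exists_pow hp2 hLp hcen hidx
  intro g
  have hg : g ^ p ∈ (mhoOne p ↥C).map C.subtype := by
    rw [hMeq]
    exact pow_mem_mhoOne p g
  obtain ⟨y, hy, hyg⟩ := hg
  obtain ⟨w, hw⟩ := hex y hy
  refine ⟨(w : G), w.2, ?_⟩
  rw [← hyg, ← hw]
  simp

end Pow

end Cfsg.Agent.Lib.Helper53
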