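import Mathlib
import Cfsg.Agent.Lib.Helper53.BlkJ
import Cfsg.Agent.Lib.Helper52.NormalRankTwo

set_option autoImplicit false
set_option linter.style.haveILetI false
set_option linter.unusedSectionVars false
set_option linter.unusedVariables false

/-!
# Blackburn's classification of the `p`-groups of rank at most two, `p` odd
-/

namespace Cfsg.Agent.Lib.Helper53

open scoped commutatorElement

universe u

theorem blk_main {G : Type u} [Group G] [Finite G] {p : ℕ} [hpf : Fact p.Prime] (hp2 : p ≠ 2)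
    (n : ℕ) (hG : Nat.card G = p ^ n) (hrk : Cfsg.PRankLE p 2 G) :
    Cfsg.IsMetacyclic G ∨
    (3 ≤ n ∧ ∃ x y z : G, Subgroup.closure ({x, y, z} : Set G) = ⊤ ∧ x ^ p = 1 ∧ y ^ p = 1 ∧
        z ^ p ^ (n - 2) = 1 ∧
        x * z = z * x ∧ y * z = z * y ∧ x⁻¹ * y * x = y * z ^ p ^ (n - 3)) ∨
    (4 ≤ n ∧ ∃ (s : ℕ) (x y z : G), (s = 1 ∨ ¬ IsSquare (s : ZMod p)) ∧
        Subgroup.closure ({x, y, z} : Set G) = ⊤ ∧
        x ^ p = 1 ∧ y ^ p = 1 ∧ z ^ p ^ (n - 2) = 1 ∧ y * z = z * y ∧
        x⁻¹ * y * x = y * z ^ (s * p ^ (n - 3)) ∧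
        x⁻¹ * z * x = y * z) ∨
    (p = 3 ∧ 2 ≤ n ∧ (⊤ : Subgroup G).lowerCentralSeries (n - 2) ≠ ⊥) := by
  have hp := hpf.out
  have hGp : IsPGroup p G := IsPGroup.of_card hG
  by_cases hm : Cfsg.IsMetacyclic G
  · exact Or.inl hm
  right
  rcases Cfsg.Agent.Lib.Helper52.normal_rank_two p hGp with
    ⟨E, hEn, hEc, hEexp⟩ | hcyc | ⟨h2, _⟩
  rotate_left
  · exfalso
    apply hm
    haveI := hcyc
    exact ⟨⊥, inferInstance, inferInstance,
      isCyclic_of_surjective (QuotientGroup.mk' ⊥) (QuotientGroup.mk'_surjective _)⟩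
  · exact absurd h2 hp2
  haveI := hEn
  have hC : ∀ g : G, g ∈ Subgroup.centralizer (E : Set G) ↔ ∀ e ∈ E, e * g = g * e :=
    fun g => Subgroup.mem_centralizer_iff
  have hΩ : ∀ g ∈ Subgroup.centralizer (E : Set G), g ^ p = 1 → g ∈ E :=
    fun g hg hgp => blk_omega hrk E hEc hEexp g ((hC g).mp hg) hgp
  have hCm := blk_C_metacyclic hp2 hGp E _ hEc hEexp hC hΩ
  have hCtop : Subgroup.centralizer (E : Set G) ≠ ⊤ := by
    intro h
    apply hm
    let f : G →* ↥(Subgroup.centralizer (E : Set G)) :=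
      { toFun := fun g => ⟨g, h ▸ Subgroup.mem_top g⟩
        map_one' := rfl
        map_mul' := fun a b => rfl }
    exact ma_isMetacyclic_of_injective f (fun a b hab => congrArg Subtype.val hab) hCm
  have hCidx := blk_index n hG E _ hEc hC hCtop
  have hpow := blk_hpow hp2 hGp E _ hEc hEexp hC hCidx hΩ hm
  have hn2 : 2 ≤ n := by
    have h1 : p ^ 2 ∣ p ^ n := by
      rw [← hEc, ← hG]
      exact Subgroup.card_subgroup_dvd_card E
    exact (Nat.pow_dvd_pow_iff_le_right hp.one_lt).mp h1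
  by_cases hnc : ∀ D : Subgroup ↥(Subgroup.centralizer (E : Set G)), IsCyclic D → D.index ≠ p
  · right; right
    obtain ⟨h3, hl⟩ := blk_alpha hp2 n hG E _ hEc hEexp hC hCidx hΩ hpow hCm hnc
    exact ⟨h3, hn2, hl⟩
  · simp only [not_forall, not_not] at hnc
    obtain ⟨D, hD, hDidx⟩ := hnc
    have hcen := blk_hcen E _ hC hΩ
    have hEC := blk_hEC E _ hEc hC
    have hEc' : Nat.card (E.subgroupOf (Subgroup.centralizer (E : Set G))) = p ^ 2 := by
      rw [← hEc]
      exact Nat.card_congr (Subgroup.subgroupOfEquivOfLe hEC).toEquiv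
    obtain ⟨hab, c', hc'⟩ := blk_abelian (E.subgroupOf (Subgroup.centralizer (E : Set G)))
      (blk_hE E _ hEexp hΩ) hEc' hcen D hD hDidx
    have hCab : ∀ a ∈ Subgroup.centralizer (E : Set G),
        ∀ b ∈ Subgroup.centralizer (E : Set G), a * b = b * a :=
      fun a ha b hb => congrArg Subtype.val (hab ⟨a, ha⟩ ⟨b, hb⟩)
    have hCcard : Nat.card (Subgroup.centralizer (E : Set G)) * p = p ^ n := by
      have h1 := Subgroup.card_mul_index (Subgroup.centralizer (E : Set G))
      rw [hCidx, hG] at h1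
      exact h1
    have hn3 : 3 ≤ n := by
      have h1 : p ^ 2 ∣ Nat.card (Subgroup.centralizer (E : Set G)) :=
        hEc ▸ Subgroup.card_dvd_of_le hEC
      have h2 : p ^ 3 ∣ p ^ n := by
        rw [← hCcard, pow_succ p 2]
        exact Nat.mul_dvd_mul_right h1 p
      exact (Nat.pow_dvd_pow_iff_le_right hp.one_lt).mp h2
    have hDcard : Nat.card D * p = Nat.card (Subgroup.centralizer (E : Set G)) := by
      have h1 := Subgroup.card_mul_index D
      rw [hDidx] at h1
      exact h1
    obtain ⟨x, hx⟩ : ∃ x, x ∉ Subgroup.centralizer (E : Set G) := by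
      by_contra hcon
      apply hCtop
      ext g
      simp only [Subgroup.mem_top, iff_true]
      by_contra hg
      exact hcon ⟨g, hg⟩
    rcases Nat.lt_or_ge n 4 with hlt | hge
    · have hn : n = 3 := by omega
      subst hn
      left
      have hCc : Nat.card (Subgroup.centralizer (E : Set G)) = p ^ 2 := by
        rw [pow_succ p 2] at hCcard
        exact Nat.eq_of_mul_eq_mul_right hp.pos hCcard
      have hCE : E = Subgroup.centralizer (E : Set G) :=
        Subgroup.eq_of_le_of_card_ge hEC (by rw [hCc, hEc])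
      have h1 : ¬ ∀ e ∈ E, e * x = x * e := fun h => hx ((hC x).mpr h)
      simp only [not_forall] at h1
      obtain ⟨e, he, hne⟩ := h1
      obtain ⟨b, hbC, hb⟩ := hpow x
      have hxp : x ^ p = 1 := by
        rw [← hb]
        apply hEexp b
        rw [hCE]
        exact hbC
      obtain ⟨x', y, z, h1, h2, h3, h4, h5, h6, h7⟩ := blk_small hG E hEc hEexp x e he hne hxp
      refine ⟨le_refl 3, x', y, z, h1, h2, h3, ?_, h5, h6, ?_⟩
      · show z ^ p ^ 1 = 1
        rw [pow_one]
        exact h4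
      · show x'⁻¹ * y * x' = y * z ^ p ^ 0
        rw [pow_zero, pow_one]
        exact h7
    · obtain ⟨k, rfl⟩ : ∃ k, n = k + 4 := ⟨n - 4, by omega⟩
      have hcord : orderOf (c' : G) = p ^ (k + 2) := by
        rw [Subgroup.orderOf_coe, hc']
        have h1 : Nat.card D * p * p = p ^ (k + 2) * p * p := by
          rw [hDcard, hCcard, pow_succ p (k + 3), pow_succ p (k + 2)]
        exact Nat.eq_of_mul_eq_mul_right hp.pos (Nat.eq_of_mul_eq_mul_right hp.pos h1)
      have e1 : k + 4 - 2 = k + 2 := by omega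
      have e2 : k + 4 - 3 = k + 1 := by omega
      rcases blk_beta_big hp2 k hG E _ hEc hEexp hC hCidx hΩ hCab hpow (c' : G) c'.2 hcord with
        h | h | ⟨h3, hk0, hl⟩
      · left
        rw [e1, e2]
        exact ⟨by omega, h⟩
      · right; left
        rw [e1, e2]
        exact ⟨by omega, h⟩
      · right; right
        refine ⟨h3, by omega, ?_⟩
        subst hk0
        exact hl

end Cfsg.Agent.Lib.Helper53
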