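import Mathlib

set_option autoImplicit false

namespace Cfsg.Agent.Lib.Helper53

/-- Membership in the centre of a subgroup, viewed in the ambient group. -/
theorem mem_map_center {X : Type*} [Group X] (H : Subgroup X) (a : X) :
    a ∈ (Subgroup.center ↥H).map H.subtype ↔ a ∈ H ∧ ∀ h ∈ H, h * a = a * h := by
  constructor
  · rintro ⟨a', ha', rfl⟩
    refine ⟨a'.2, fun h hh => ?_⟩
    have := Subgroup.mem_center_iff.1 ha' ⟨h, hh⟩
    exact congrArg Subtype.val this
  · rintro ⟨haH, hcomm⟩
    refine ⟨⟨a, haH⟩, Subgroup.mem_center_iff.2 ?_, rfl⟩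
    intro g
    apply Subtype.ext
    exact hcomm g g.2

end Cfsg.Agent.Lib.Helper53
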