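import Mathlib
import Cfsg.Prelude.Def_FusionSystem

/-! Leaf CR-P of the S5141 hive (owner helper88): the power step. -/

set_option autoImplicit false

namespace Cfsg.Agent.Lib.Helper88.Crav

open Cfsg Cfsg.FusionSystem

variable {Ω : Type*} [Group Ω] {S T : Subgroup Ω} [Finite S] {p : ℕ} [Fact p.Prime]
  {F : FusionSystem S} {E : FusionSystem T}

/-- the elements `w` of a subgroup `K ≤ S` with `w⁻¹ δ(w) ∈ T`, for an automorphism `δ` of `K`,
form a subgroup (`T` normalized by `S`) -/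
def h53_niceSub (hTn : ∀ s ∈ S, ∀ t ∈ T, s * t * s⁻¹ ∈ T) (K : Subgroup Ω) (hKS : K ≤ S)
    (δ : MulAut ↥K) : Subgroup ↥K where
  carrier := {w | (w : Ω)⁻¹ * ((δ w : ↥K) : Ω) ∈ T}
  one_mem' := by
    show ((1 : ↥K) : Ω)⁻¹ * ((δ 1 : ↥K) : Ω) ∈ T
    rw [map_one, Subgroup.coe_one, inv_one, one_mul]
    exact T.one_mem
  mul_mem' := by
    intro a b ha hb
    show ((a * b : ↥K) : Ω)⁻¹ * ((δ (a * b) : ↥K) : Ω) ∈ T
    have ha' : (a : Ω)⁻¹ * ((δ a : ↥K) : Ω) ∈ T := ha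
    have hb' : (b : Ω)⁻¹ * ((δ b : ↥K) : Ω) ∈ T := hb
    have hbS : (b : Ω)⁻¹ ∈ S := S.inv_mem (hKS b.2)
    have h1 := hTn _ hbS _ ha'
    have e : ((a * b : ↥K) : Ω)⁻¹ * ((δ (a * b) : ↥K) : Ω) =
        ((b : Ω)⁻¹ * ((a : Ω)⁻¹ * ((δ a : ↥K) : Ω)) * ((b : Ω)⁻¹)⁻¹) *
          ((b : Ω)⁻¹ * ((δ b : ↥K) : Ω)) := by
      rw [map_mul, Subgroup.coe_mul, Subgroup.coe_mul]
      group
    rw [e]
    exact T.mul_mem h1 hb'
  inv_mem' := by
    intro a ha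
    show ((a⁻¹ : ↥K) : Ω)⁻¹ * ((δ a⁻¹ : ↥K) : Ω) ∈ T
    have ha' : (a : Ω)⁻¹ * ((δ a : ↥K) : Ω) ∈ T := ha
    have haS : (a : Ω) ∈ S := hKS a.2
    have h1 := hTn _ haS _ (T.inv_mem ha')
    have e : ((a⁻¹ : ↥K) : Ω)⁻¹ * ((δ a⁻¹ : ↥K) : Ω) =
        (a : Ω) * ((a : Ω)⁻¹ * ((δ a : ↥K) : Ω))⁻¹ * (a : Ω)⁻¹ := by
      rw [map_inv, Subgroup.coe_inv, Subgroup.coe_inv]
      group
    rw [e]
    exact h1

theorem h53_mem_niceSub (hTn : ∀ s ∈ S, ∀ t ∈ T, s * t * s⁻¹ ∈ T) (K : Subgroup Ω) (hKS : K ≤ S)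
    (δ : MulAut ↥K) (w : ↥K) :
    w ∈ h53_niceSub hTn K hKS δ ↔ (w : Ω)⁻¹ * ((δ w : ↥K) : Ω) ∈ T := Iff.rfl

/-- CR-P (power step). -/
theorem pow_nice (hTS : T ≤ S) (hTn : ∀ s ∈ S, ∀ t ∈ T, s * t * s⁻¹ ∈ T) {P : Subgroup Ω}
    (hPT : P ≤ T)
    (γ : MulAut ↥(T ⊔ centralizerIn S T))
    (hγT : ∀ z : ↥(T ⊔ centralizerIn S T), (z : Ω) ∈ T → ((γ z : ↥(T ⊔ centralizerIn S T)) : Ω) ∈ T)
    (ψ : ↥(P ⊔ centralizerIn S T) →* Ω)
    (hψ : ∀ z : ↥(P ⊔ centralizerIn S T), (z : Ω)⁻¹ * ψ z ∈ T)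
    (σ : MulAut ↥(P ⊔ centralizerIn S T))
    (hσ : ∀ z : ↥(P ⊔ centralizerIn S T), (z : Ω) ∈ P → σ z = z) (n : ℕ) (hσn : σ ^ n = 1)
    (hγψ : ∀ z : ↥(P ⊔ centralizerIn S T),
      ((γ (Subgroup.inclusion (sup_le_sup_right hPT _) z) : ↥(T ⊔ centralizerIn S T)) : Ω) =
        ψ (σ z)) :
    ∀ z : ↥(T ⊔ centralizerIn S T), (z : Ω)⁻¹ * (((γ ^ n) z : ↥(T ⊔ centralizerIn S T)) : Ω) ∈ T := by
  have hCS : centralizerIn S T ≤ S := inf_le_left
  have hKS : T ⊔ centralizerIn S T ≤ S := sup_le hTS hCS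
  -- powers of γ preserve T
  have hpowT : ∀ j : ℕ, ∀ z : ↥(T ⊔ centralizerIn S T), (z : Ω) ∈ T →
      (((γ ^ j) z : ↥(T ⊔ centralizerIn S T)) : Ω) ∈ T := by
    intro j
    induction j with
    | zero =>
      intro z hz
      rw [pow_zero]
      exact hz
    | succ j ih =>
      intro z hz
      rw [pow_succ', MulAut.mul_apply]
      exact hγT _ (ih z hz)
  -- the key induction
  have hind : ∀ j : ℕ, ∀ x : ↥(P ⊔ centralizerIn S T),
      (((σ ^ j) x : ↥(P ⊔ centralizerIn S T)) : Ω)⁻¹ *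
        (((γ ^ j) (Subgroup.inclusion (sup_le_sup_right hPT _) x) :
          ↥(T ⊔ centralizerIn S T)) : Ω) ∈ T := by
    intro j
    induction j with
    | zero =>
      intro x
      rw [pow_zero, pow_zero]
      show (x : Ω)⁻¹ * (x : Ω) ∈ T
      rw [inv_mul_cancel]
      exact T.one_mem
    | succ j ih =>
      intro x
      rw [pow_succ', pow_succ', MulAut.mul_apply, MulAut.mul_apply]
      set u : ↥(P ⊔ centralizerIn S T) := (σ ^ j) x with hu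
      set w : ↥(T ⊔ centralizerIn S T) :=
        (γ ^ j) (Subgroup.inclusion (sup_le_sup_right hPT _) x) with hw
      have ih' : (u : Ω)⁻¹ * (w : Ω) ∈ T := ih x
      -- first factor
      have h1 : ((σ u : ↥(P ⊔ centralizerIn S T)) : Ω)⁻¹ *
          ((γ (Subgroup.inclusion (sup_le_sup_right hPT _) u) :
            ↥(T ⊔ centralizerIn S T)) : Ω) ∈ T := by
        rw [hγψ u]
        exact hψ (σ u)
      -- second factor
      have h2 : ((γ (Subgroup.inclusion (sup_le_sup_right hPT _) u) :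
            ↥(T ⊔ centralizerIn S T)) : Ω)⁻¹ * ((γ w : ↥(T ⊔ centralizerIn S T)) : Ω) ∈ T := by
        have h3 : ((γ ((Subgroup.inclusion (sup_le_sup_right hPT _) u)⁻¹ * w) :
            ↥(T ⊔ centralizerIn S T)) : Ω) ∈ T := by
          apply hγT
          rw [Subgroup.coe_mul, Subgroup.coe_inv]
          exact ih'
        rw [map_mul, map_inv, Subgroup.coe_mul, Subgroup.coe_inv] at h3
        exact h3
      have e : ((σ u : ↥(P ⊔ centralizerIn S T)) : Ω)⁻¹ * ((γ w : ↥(T ⊔ centralizerIn S T)) : Ω) =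
          (((σ u : ↥(P ⊔ centralizerIn S T)) : Ω)⁻¹ *
            ((γ (Subgroup.inclusion (sup_le_sup_right hPT _) u) :
              ↥(T ⊔ centralizerIn S T)) : Ω)) *
          (((γ (Subgroup.inclusion (sup_le_sup_right hPT _) u) :
            ↥(T ⊔ centralizerIn S T)) : Ω)⁻¹ * ((γ w : ↥(T ⊔ centralizerIn S T)) : Ω)) := by
        group
      rw [e]
      exact T.mul_mem h1 h2
  -- the nice subgroup for δ = γ ^ n is everything
  have htop : h53_niceSub hTn (T ⊔ centralizerIn S T) hKS (γ ^ n) = ⊤ := by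
    rw [eq_top_iff, ← Subgroup.subgroupOf_self (H := T ⊔ centralizerIn S T),
      Subgroup.subgroupOf_sup le_sup_left le_sup_right]
    apply sup_le
    · intro z hz
      have hzT : (z : Ω) ∈ T := hz
      rw [h53_mem_niceSub]
      exact T.mul_mem (T.inv_mem hzT) (hpowT n z hzT)
    · intro z hz
      have hzC : (z : Ω) ∈ centralizerIn S T := hz
      rw [h53_mem_niceSub]
      have hzPC : (z : Ω) ∈ P ⊔ centralizerIn S T := (le_sup_right : _ ≤ P ⊔ centralizerIn S T) hzC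
      have h4 := hind n ⟨(z : Ω), hzPC⟩
      rw [hσn] at h4
      have e : Subgroup.inclusion (sup_le_sup_right hPT (centralizerIn S T))
          (⟨(z : Ω), hzPC⟩ : ↥(P ⊔ centralizerIn S T)) = z := Subtype.ext rfl
      rw [e] at h4
      exact h4
  intro z
  have hz : z ∈ h53_niceSub hTn (T ⊔ centralizerIn S T) hKS (γ ^ n) := by
    rw [htop]
    exact Subgroup.mem_top z
  exact hz

end Cfsg.Agent.Lib.Helper88.Crav
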