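import Mathlib
import Cfsg.Agent.Lib.Helper81.EsDefs

/-!
# Es hive (helper81, S5877), leaf ES-C1a: `cm g x` fixes `eig g c ⊓ x (eig g c)` pointwise
-/

set_option autoImplicit false

namespace Cfsg.Agent.Lib.Helper81.Es

open scoped MatrixGroups

variable {F : Type*} [Field F] {n : ℕ}

/-- the linear equivalence `v ↦ x *ᵥ v` -/
def c1a_equiv (x : GL (Fin n) F) : (Fin n → F) ≃ₗ[F] (Fin n → F) :=
  LinearEquiv.ofLinearMap (Matrix.toLin' (x : Matrix (Fin n) (Fin n) F))
    (Matrix.toLin' ((x⁻¹ : GL (Fin n) F) : Matrix (Fin n) (Fin n) F))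
    (by rw [← Matrix.toLin'_mul, ← Units.val_mul, mul_inv_cancel, Units.val_one, Matrix.toLin'_one])
    (by rw [← Matrix.toLin'_mul, ← Units.val_mul, inv_mul_cancel, Units.val_one, Matrix.toLin'_one])

theorem c1a_equiv_apply (x : GL (Fin n) F) (v : Fin n → F) :
    c1a_equiv x v = (x : Matrix (Fin n) (Fin n) F).mulVec v := by
  show Matrix.toLin' (x : Matrix (Fin n) (Fin n) F) v = _
  rw [Matrix.toLin'_apply]

theorem c1a_inv_mulVec (x : GL (Fin n) F) (v : Fin n → F) :
    ((x⁻¹ : GL (Fin n) F) : Matrix (Fin n) (Fin n) F).mulVec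
      ((x : Matrix (Fin n) (Fin n) F).mulVec v) = v := by
  rw [Matrix.mulVec_mulVec, ← Units.val_mul, inv_mul_cancel, Units.val_one, Matrix.one_mulVec]

theorem c1a_mem_eig (g : GL (Fin n) F) (c : F) (v : Fin n → F) :
    v ∈ eig g c ↔ (g : Matrix (Fin n) (Fin n) F).mulVec v = c • v := by
  unfold eig
  rw [Module.End.mem_eigenspace_iff, Matrix.toLin'_apply]

/-- the `0`-eigenspace of an invertible matrix is trivial -/
theorem c1a_eig_zero (g : GL (Fin n) F) : eig g 0 = ⊥ := by
  rw [eq_bot_iff]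
  intro v hv
  rw [c1a_mem_eig, zero_smul] at hv
  have := c1a_inv_mulVec g v
  rw [hv, Matrix.mulVec_zero] at this
  rw [Submodule.mem_bot]
  exact this.symm

/-- ES-C1a : `cm g x` fixes `eig g c ⊓ x (eig g c)` pointwise; dimension count. -/
theorem inter_le (g x : GL (Fin n) F) (c : F) :
    2 * Module.finrank F (eig g c) ≤ n + Module.finrank F (eig (cm g x) 1) := by
  by_cases hc : c = 0
  · subst hc
    rw [c1a_eig_zero, finrank_bot]
    omega
  set W := eig g c with hW
  set xW : Submodule F (Fin n → F) := W.map (c1a_equiv x : (Fin n → F) →ₗ[F] (Fin n → F)) with hxW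
  have hdim : Module.finrank F xW = Module.finrank F W := LinearEquiv.finrank_map_eq (c1a_equiv x) W
  have hle : W ⊓ xW ≤ eig (cm g x) 1 := by
    intro w hw
    obtain ⟨hw1, hw2⟩ := hw
    obtain ⟨w', hw', hww'⟩ := hw2
    rw [LinearEquiv.coe_coe, c1a_equiv_apply] at hww'
    have hgw' : (g : Matrix (Fin n) (Fin n) F).mulVec w' = c • w' := (c1a_mem_eig g c w').mp hw'
    have hgw : (g : Matrix (Fin n) (Fin n) F).mulVec w = c • w := (c1a_mem_eig g c w).mp hw1
    have hginv : ((g⁻¹ : GL (Fin n) F) : Matrix (Fin n) (Fin n) F).mulVec w' = c⁻¹ • w' := by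
      have := c1a_inv_mulVec g w'
      rw [hgw', Matrix.mulVec_smul] at this
      calc ((g⁻¹ : GL (Fin n) F) : Matrix (Fin n) (Fin n) F).mulVec w'
          = c⁻¹ • (c • ((g⁻¹ : GL (Fin n) F) : Matrix (Fin n) (Fin n) F).mulVec w') := by
            rw [smul_smul, inv_mul_cancel₀ hc, one_smul]
        _ = c⁻¹ • w' := by rw [this]
    rw [c1a_mem_eig, one_smul]
    unfold cm
    simp only [Units.val_mul]
    rw [← Matrix.mulVec_mulVec, ← Matrix.mulVec_mulVec, ← Matrix.mulVec_mulVec, ← hww',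
      c1a_inv_mulVec, hginv, Matrix.mulVec_smul, hww', Matrix.mulVec_smul, hgw, smul_smul,
      inv_mul_cancel₀ hc, one_smul]
  have h1 := Submodule.finrank_sup_add_finrank_inf_eq W xW
  have h2 : Module.finrank F ↥(W ⊔ xW) ≤ n := by
    have := Submodule.finrank_le (W ⊔ xW)
    rwa [Module.finrank_fintype_fun_eq_card, Fintype.card_fin] at this
  have h3 := Submodule.finrank_mono hle
  omega

end Cfsg.Agent.Lib.Helper81.Es
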