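import Mathlib
import Cfsg.Prelude.Def_Local
import Cfsg.Agent.Lib.Helper63.FrobTrick
import Cfsg.Agent.Lib.Helper76.PSolvable
import Cfsg.Agent.Lib.Helper11.PConstrained

/-!
# From Hall–Higman Theorem B to a nontrivial norm

`ThmB p` is the statement of Theorem B over the prime field.  For a faithful action of a
`p`-solvable group `Γ` with `O_p(Γ) = 1` on a finite elementary abelian `p`-group `V`, and an element
`x` of order `p ^ n` which is not in the exceptional situation of Theorem B, the norm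
`v ↦ ∏_{j < p^n} x^j v` is not trivial on `V`.
-/

set_option autoImplicit false

namespace Cfsg.Agent.Lib.Helper53

open Cfsg Polynomial
open scoped IsMulCommutative
open Cfsg.Agent.Lib.Helper63.Frob (nrm)

universe u

/-- The statement of Hall–Higman's Theorem B over `ZMod p`, in universe `u`. -/
def ThmB (p : ℕ) [Fact p.Prime] : Prop :=
  ∀ {V : Type u} [AddCommGroup V] [Module (ZMod p) V] [FiniteDimensional (ZMod p) V] [Nontrivial V]
    (H : Subgroup (V ≃ₗ[ZMod p] V)) [Finite H] (_ : Cfsg.IsPSolvable p H) (_ : Cfsg.pCore p H = ⊥)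
    (x : V ≃ₗ[ZMod p] V) (_ : x ∈ H) (n : ℕ) (_ : orderOf x = p ^ n) (r : ℕ)
    (_ : minpoly (ZMod p) (x : Module.End (ZMod p) V) = (Polynomial.X - 1) ^ r),
    r = p ^ n ∨ ∃ n₀ q m : ℕ, 1 ≤ n₀ ∧ n₀ ≤ n ∧ q.Prime ∧ 1 ≤ m ∧ p ^ n₀ - 1 = q ^ m ∧
      (∀ Q : Sylow q H, ¬ IsMulCommutative Q) ∧ p ^ (n - n₀) * (p ^ n₀ - 1) ≤ r

/-- In characteristic `p` the geometric sum of length `p ^ n` is a power of `X - 1`. -/
theorem geom_sum_X_char (p : ℕ) [hp : Fact p.Prime] (n : ℕ) :
    (∑ j ∈ Finset.range (p ^ n), (X : (ZMod p)[X]) ^ j) = (X - 1) ^ (p ^ n - 1) := by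
  have h1 : (∑ j ∈ Finset.range (p ^ n), (X : (ZMod p)[X]) ^ j) * (X - 1) = X ^ p ^ n - 1 :=
    geom_sum_mul _ _
  have h2 : ((X : (ZMod p)[X]) - 1) ^ p ^ n = X ^ p ^ n - 1 := by
    rw [sub_pow_char_pow, one_pow]
  have hpos : 0 < p ^ n := pow_pos hp.out.pos n
  have h3 : ((X : (ZMod p)[X]) - 1) ^ p ^ n = (X - 1) ^ (p ^ n - 1) * (X - 1) := by
    rw [← pow_succ]
    congr 1
    omega
  have hne : ((X : (ZMod p)[X]) - 1) ≠ 0 := by
    have := Polynomial.X_sub_C_ne_zero (1 : ZMod p)
    simpa using this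
  apply mul_right_cancel₀ hne
  rw [h1, ← h3, h2]

section bridge

variable {p : ℕ} {Γ V : Type u} [Group Γ] [Group V] [IsMulCommutative V]

/-- An elementary abelian `p`-group written additively, as a type carrying its `ZMod p`-module
structure. -/
def EA (p : ℕ) (V : Type u) [Group V] (_hV : ∀ v : V, v ^ p = 1) : Type u := Additive V

variable (hV : ∀ v : V, v ^ p = 1)

noncomputable instance : AddCommGroup (EA p V hV) := inferInstanceAs (AddCommGroup (Additive V))

noncomputable instance : Module (ZMod p) (EA p V hV) :=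
  AddCommGroup.zmodModule (n := p) (G := Additive V) (fun x => by
    have : p • x = Additive.ofMul (x.toMul ^ p) := rfl
    rw [this, hV]; rfl)

/-- The element of `EA` attached to `v : V`. -/
def EA.of (v : V) : EA p V hV := Additive.ofMul v

/-- The element of `V` attached to an element of `EA`. -/
def EA.to (a : EA p V hV) : V := Additive.toMul (a : Additive V)

@[simp] theorem EA.to_of (v : V) : EA.to hV (EA.of hV v) = v := rfl
@[simp] theorem EA.of_to (a : EA p V hV) : EA.of hV (EA.to hV a) = a := rfl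
theorem EA.of_mul (v w : V) : EA.of hV (v * w) = EA.of hV v + EA.of hV w := rfl
theorem EA.of_one : EA.of hV (1 : V) = 0 := rfl
theorem EA.of_injective : Function.Injective (EA.of hV : V → EA p V hV) := fun _ _ h => h

theorem EA.of_prod {ι : Type*} (s : Finset ι) (f : ι → V) :
    EA.of hV (∏ i ∈ s, f i) = ∑ i ∈ s, EA.of hV (f i) :=
  ofMul_prod s f

/-- The linear automorphism attached to an automorphism. -/
noncomputable def addAut (φ : MulAut V) : EA p V hV ≃+ EA p V hV :=
  (MulEquiv.toAdditive φ : Additive V ≃+ Additive V)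

/-- The linear automorphism attached to an automorphism. -/
noncomputable def linAut (φ : MulAut V) : EA p V hV ≃ₗ[ZMod p] EA p V hV :=
  { addAut hV φ with
    map_smul' := fun c x => ZMod.map_smul (addAut hV φ) c x }

theorem linAut_of (φ : MulAut V) (v : V) : linAut hV φ (EA.of hV v) = EA.of hV (φ v) := rfl

/-- The linear representation attached to an action by automorphisms. -/
noncomputable def linRep (ρ : Γ →* MulAut V) : Γ →* (EA p V hV ≃ₗ[ZMod p] EA p V hV) :=
  MonoidHom.mk' (fun g => linAut hV (ρ g))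
    (by
      intro a b
      apply LinearEquiv.ext
      intro v
      show linAut hV (ρ (a * b)) (EA.of hV (EA.to hV v)) =
        linAut hV (ρ a) (linAut hV (ρ b) (EA.of hV (EA.to hV v)))
      rw [linAut_of, linAut_of, linAut_of, map_mul]; rfl)

theorem linRep_of (ρ : Γ →* MulAut V) (g : Γ) (v : V) :
    linRep hV ρ g (EA.of hV v) = EA.of hV (ρ g v) := rfl

theorem linRep_injective (ρ : Γ →* MulAut V) (hρ : Function.Injective ρ) :
    Function.Injective (linRep hV ρ) := by
  intro a b hab
  apply hρ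
  apply MulEquiv.ext
  intro v
  have := congrArg (fun f => f (EA.of hV v)) hab
  simp only [linRep_of] at this
  exact EA.of_injective hV this

theorem isMulCommutative_map {A B : Type*} [Group A] [Group B] (f : A →* B) (K : Subgroup A)
    (hK : IsMulCommutative K) : IsMulCommutative (K.map f) := by
  refine ⟨⟨?_⟩⟩
  rintro ⟨a, a₀, ha₀, rfl⟩ ⟨b, b₀, hb₀, rfl⟩
  apply Subtype.ext
  show f a₀ * f b₀ = f b₀ * f a₀
  have := hK.is_comm.comm (⟨a₀, ha₀⟩ : K) ⟨b₀, hb₀⟩
  have h2 : a₀ * b₀ = b₀ * a₀ := congrArg Subtype.val this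
  rw [← map_mul, ← map_mul, h2]

include hV in
/-- **From Theorem B to the norm**: if `x` of order `p ^ n` is not in the exceptional situation of
Theorem B then its norm on `V` is not trivial. -/
theorem exists_nrm_ne_one [hp : Fact p.Prime] [Finite Γ] [Finite V] [Nontrivial V]
    (hB : ThmB.{u} p) (hsol : IsPSolvable p Γ) (hO : pCore p Γ = ⊥)
    (ρ : Γ →* MulAut V) (hρ : Function.Injective ρ)
    (x : Γ) (n : ℕ) (hx : orderOf x = p ^ n)
    (hne : ∀ n₀ q m : ℕ, 1 ≤ n₀ → n₀ ≤ n → q.Prime → 1 ≤ m → p ^ n₀ - 1 = q ^ m →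
      ∃ Q : Sylow q Γ, IsMulCommutative (Q : Subgroup Γ)) :
    ∃ v : V, nrm ρ x (p ^ n) v ≠ 1 := by
  classical
  have hLinj := linRep_injective hV ρ hρ
  let H : Subgroup (EA p V hV ≃ₗ[ZMod p] EA p V hV) := (linRep hV ρ).range
  let e : Γ ≃* H := MonoidHom.ofInjective hLinj
  have : Finite H := Finite.of_equiv Γ e.toEquiv
  have hHsol : IsPSolvable p H := Cfsg.Agent.Lib.Helper76.isPSolvable_of_mulEquiv e hsol
  have hHO : pCore p H = ⊥ := by
    rw [← Cfsg.Agent.Lib.Helper11.pCore_map_equiv' p e, hO, Subgroup.map_bot]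
  have : Finite (EA p V hV) := inferInstanceAs (Finite (Additive V))
  have : Nontrivial (EA p V hV) := inferInstanceAs (Nontrivial (Additive V))
  have : FiniteDimensional (ZMod p) (EA p V hV) := Module.Finite.of_finite
  have hxH : linRep hV ρ x ∈ H := ⟨x, rfl⟩
  have hord : orderOf (linRep hV ρ x) = p ^ n := by
    rw [orderOf_injective (linRep hV ρ) hLinj, hx]
  set f : Module.End (ZMod p) (EA p V hV) := (linRep hV ρ x : Module.End (ZMod p) (EA p V hV))
    with hf
  have hfpow : ∀ j : ℕ, f ^ j = ((linRep hV ρ (x ^ j)) : Module.End (ZMod p) (EA p V hV)) := by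
    intro j
    have h1 := map_pow (LinearEquiv.automorphismGroup.toLinearMapMonoidHom
      (R := ZMod p) (M := EA p V hV)) (linRep hV ρ x) j
    rw [map_pow]
    exact h1.symm
  have hfone : f ^ (p ^ n) = 1 := by
    rw [hfpow, ← hx, pow_orderOf_eq_one, map_one]; rfl
  have hann : aeval f (((X : (ZMod p)[X]) - 1) ^ p ^ n) = 0 := by
    rw [sub_pow_char_pow, one_pow, map_sub, map_pow, aeval_X, map_one, hfone, sub_self]
  have hdvd : minpoly (ZMod p) f ∣ ((X : (ZMod p)[X]) - 1) ^ p ^ n := minpoly.dvd _ _ hann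
  have hprime : Prime ((X : (ZMod p)[X]) - 1) := by
    have := Polynomial.prime_X_sub_C (1 : ZMod p)
    simpa using this
  have hint : IsIntegral (ZMod p) f := Algebra.IsIntegral.isIntegral f
  obtain ⟨r, hrle, hr⟩ := (dvd_prime_pow hprime _).1 hdvd
  have hmonic : (((X : (ZMod p)[X]) - 1) ^ r).Monic := by
    have := (Polynomial.monic_X_sub_C (1 : ZMod p)).pow r
    simpa using this
  have hr' : minpoly (ZMod p) f = (X - 1) ^ r :=
    Polynomial.eq_of_monic_of_associated (minpoly.monic hint) hmonic hr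
  rcases hB H hHsol hHO (linRep hV ρ x) hxH n hord r hr' with h | ⟨n₀, q, m, h1, h2, hq, hm, heq, hsyl, _⟩
  · -- the regular case
    subst h
    have hg : (f - 1) ^ (p ^ n - 1) ≠ 0 := by
      intro hg0
      have h0 : aeval f (((X : (ZMod p)[X]) - 1) ^ (p ^ n - 1)) = 0 := by
        rw [map_pow, map_sub, aeval_X, map_one, hg0]
      have hd := minpoly.dvd _ _ h0
      rw [hr'] at hd
      have hne0 : (((X : (ZMod p)[X]) - 1) ^ (p ^ n - 1)) ≠ 0 := pow_ne_zero _ hprime.ne_zero
      have hle := Polynomial.natDegree_le_of_dvd hd hne0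
      have hdeg : ∀ k : ℕ, (((X : (ZMod p)[X]) - 1) ^ k).natDegree = k := by
        intro k
        have h1 := Polynomial.Monic.natDegree_pow (Polynomial.monic_X_sub_C (1 : ZMod p)) k
        rw [Polynomial.natDegree_X_sub_C, mul_one, map_one] at h1
        exact h1
      rw [hdeg, hdeg] at hle
      have hpos : 0 < p ^ n := pow_pos hp.out.pos n
      omega
    have hsum : (f - 1) ^ (p ^ n - 1) = ∑ j ∈ Finset.range (p ^ n), f ^ j := by
      have := congrArg (aeval f) (geom_sum_X_char p n)
      rw [map_sum, map_pow, map_sub, aeval_X, map_one] at this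
      simp only [map_pow, aeval_X] at this
      exact this.symm
    obtain ⟨w, hw⟩ : ∃ w, ((f - 1) ^ (p ^ n - 1)) w ≠ 0 := by
      by_contra hcon
      push Not at hcon
      exact hg (LinearMap.ext hcon)
    refine ⟨EA.to hV w, ?_⟩
    intro hnrm
    apply hw
    rw [hsum, LinearMap.sum_apply]
    have hterm : ∀ j ∈ Finset.range (p ^ n), (f ^ j) w = EA.of hV (ρ (x ^ j) (EA.to hV w)) := by
      intro j _
      rw [hfpow]
      show linRep hV ρ (x ^ j) (EA.of hV (EA.to hV w)) = _
      rw [linRep_of]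
    rw [Finset.sum_congr rfl hterm, ← EA.of_prod]
    unfold nrm at hnrm
    rw [hnrm]; rfl
  · exfalso
    obtain ⟨Q, hQ⟩ := hne n₀ q m h1 h2 hq hm heq
    have := Fact.mk hq
    apply hsyl (Q.mapSurjective e.surjective)
    exact isMulCommutative_map e.toMonoidHom (Q : Subgroup Γ) hQ

end bridge

end Cfsg.Agent.Lib.Helper53
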