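import Mathlib

/-!
# The regular wreath product `C_p ≀ C_p` as a concrete group in `Type`

`Wr p = (ZMod p → ZMod p) ⋊ ZMod p` (multiplicative), the cyclic group acting by shifting the
argument; with the properties that characterize it in statement S3787.
-/

set_option autoImplicit false

namespace Cfsg.Agent.Lib.Helper53

/-- The shift of functions on `ZMod p` by `j`. -/
def shiftAdd (p : ℕ) (j : ZMod p) : (ZMod p → ZMod p) ≃+ (ZMod p → ZMod p) where
  toFun f := fun i => f (i - j)
  invFun f := fun i => f (i + j)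
  left_inv f := by funext i; simp
  right_inv f := by funext i; simp
  map_add' f g := rfl

theorem shiftAdd_apply (p : ℕ) (j : ZMod p) (f : ZMod p → ZMod p) (i : ZMod p) :
    shiftAdd p j f i = f (i - j) := rfl

/-- The shift action. -/
def shiftHom (p : ℕ) : Multiplicative (ZMod p) →* MulAut (Multiplicative (ZMod p → ZMod p)) where
  toFun j := AddEquiv.toMultiplicative (shiftAdd p j.toAdd)
  map_one' := by
    apply MulEquiv.ext
    intro f
    apply Multiplicative.toAdd.injective
    funext i
    show f.toAdd (i - 0) = f.toAdd i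
    rw [sub_zero]
  map_mul' a b := by
    apply MulEquiv.ext
    intro f
    apply Multiplicative.toAdd.injective
    funext i
    show f.toAdd (i - (a.toAdd + b.toAdd)) = f.toAdd (i - a.toAdd - b.toAdd)
    rw [sub_add_eq_sub_sub]

theorem shiftHom_apply (p : ℕ) (j : Multiplicative (ZMod p))
    (f : Multiplicative (ZMod p → ZMod p)) :
    shiftHom p j f = Multiplicative.ofAdd (shiftAdd p j.toAdd f.toAdd) := rfl

/-- The wreath product `C_p ≀ C_p`. -/
abbrev Wr (p : ℕ) : Type :=
  Multiplicative (ZMod p → ZMod p) ⋊[shiftHom p] Multiplicative (ZMod p)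

open SemidirectProduct

variable (p : ℕ) [hp : Fact p.Prime]

instance : Finite (Wr p) := Finite.of_equiv _ (SemidirectProduct.equivProd).symm

/-- The base subgroup. -/
def WrB : Subgroup (Wr p) := (inl : Multiplicative (ZMod p → ZMod p) →* Wr p).range

/-- The top generator. -/
def WrT : Wr p := inr (Multiplicative.ofAdd (1 : ZMod p))

theorem wrB_normal : (WrB p).Normal := by
  unfold WrB
  rw [range_inl_eq_ker_rightHom]
  infer_instance

theorem wrB_comm : IsMulCommutative (WrB p) := by
  refine ⟨⟨?_⟩⟩
  rintro ⟨_, a, rfl⟩ ⟨_, b, rfl⟩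
  apply Subtype.ext
  show inl a * inl b = inl b * inl a
  rw [← map_mul, ← map_mul, mul_comm]

theorem wrB_exp : ∀ b ∈ WrB p, b ^ p = 1 := by
  rintro _ ⟨a, rfl⟩
  rw [← map_pow]
  have : a ^ p = 1 := by
    apply Multiplicative.toAdd.injective
    show p • a.toAdd = 0
    funext i
    show p • (a.toAdd i) = 0
    rw [nsmul_eq_mul, CharP.cast_eq_zero, zero_mul]
  rw [this, map_one]

theorem card_fun_zmod : Nat.card (Multiplicative (ZMod p → ZMod p)) = p ^ p := by
  have : Nat.card (Multiplicative (ZMod p → ZMod p)) = Nat.card (ZMod p → ZMod p) := rfl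
  rw [this, Nat.card_fun, Nat.card_zmod]

theorem wrB_card : Nat.card (WrB p) = p ^ p := by
  unfold WrB
  rw [← card_fun_zmod p]
  exact Nat.card_congr (Equiv.ofInjective _ inl_injective).symm

theorem wr_card : Nat.card (Wr p) = p ^ (p + 1) := by
  rw [SemidirectProduct.card, card_fun_zmod]
  have : Nat.card (Multiplicative (ZMod p)) = Nat.card (ZMod p) := rfl
  rw [this, Nat.card_zmod, pow_succ]

theorem wrT_order : orderOf (WrT p) = p := by
  unfold WrT
  rw [orderOf_injective (inr : Multiplicative (ZMod p) →* Wr p) inr_injective,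
    orderOf_ofAdd_eq_addOrderOf, ZMod.addOrderOf_one]

theorem wrT_notMem : WrT p ∉ WrB p := by
  unfold WrB WrT
  rw [range_inl_eq_ker_rightHom, MonoidHom.mem_ker, rightHom_inr]
  intro h
  have h1 : (1 : ZMod p) = 0 := Multiplicative.ofAdd.injective h
  have : Nontrivial (ZMod p) := ZMod.nontrivial_iff.2 hp.out.ne_one
  exact one_ne_zero h1

/-- A function on `ZMod p` invariant under the shift by one is constant. -/
theorem const_of_shift (f : ZMod p → ZMod p) (h : ∀ i, f (i - 1) = f i) : ∀ i, f i = f 0 := by
  have h2 : ∀ k : ℕ, f (k : ZMod p) = f 0 := by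
    intro k
    induction k with
    | zero => simp
    | succ k ih =>
      have := h ((k + 1 : ℕ) : ZMod p)
      rw [← this]
      have e : (((k + 1 : ℕ) : ZMod p) - 1) = (k : ZMod p) := by push_cast; ring
      rw [e, ih]
  intro i
  have := h2 i.val
  rwa [ZMod.natCast_zmod_val] at this

theorem wr_cent_card :
    Nat.card ↥(WrB p ⊓ Subgroup.centralizer ({WrT p} : Set (Wr p))) = p := by
  have hcomm : ∀ f : Multiplicative (ZMod p → ZMod p),
      (inl f : Wr p) ∈ Subgroup.centralizer ({WrT p} : Set (Wr p)) ↔
        ∀ i, f.toAdd (i - 1) = f.toAdd i := by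
    intro f
    rw [Subgroup.mem_centralizer_singleton_iff]
    unfold WrT
    constructor
    · intro h
      have h1 : inr (Multiplicative.ofAdd (1 : ZMod p)) * inl f *
          inr (Multiplicative.ofAdd (1 : ZMod p))⁻¹ = (inl f : Wr p) := by
        rw [← h, mul_assoc, ← map_mul, mul_inv_cancel, map_one, mul_one]
      rw [← inl_aut] at h1
      have h2 := inl_injective h1
      intro i
      have h3 := congrArg (fun g => g.toAdd i) h2
      simpa [shiftHom_apply, shiftAdd_apply] using h3
    · intro h
      have h2 : shiftHom p (Multiplicative.ofAdd (1 : ZMod p)) f = f := by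
        apply Multiplicative.toAdd.injective
        funext i
        show f.toAdd (i - 1) = f.toAdd i
        exact h i
      have h1 := inl_aut (φ := shiftHom p) (Multiplicative.ofAdd (1 : ZMod p)) f
      rw [h2] at h1
      have h3 : (inl f : Wr p) * inr (Multiplicative.ofAdd (1 : ZMod p)) =
          inr (Multiplicative.ofAdd (1 : ZMod p)) * inl f := by
        conv_lhs => rw [h1]
        simp [mul_assoc]
      exact h3
  let F : ZMod p → ↥(WrB p ⊓ Subgroup.centralizer ({WrT p} : Set (Wr p))) := fun c =>
    ⟨inl (Multiplicative.ofAdd (fun _ => c)), ⟨⟨_, rfl⟩, (hcomm _).2 (fun _ => rfl)⟩⟩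
  have hF : Function.Bijective F := by
    constructor
    · intro c d hcd
      have h1 := congrArg Subtype.val hcd
      have h2 := inl_injective h1
      have h3 := congrArg (fun g => g.toAdd 0) h2
      exact h3
    · rintro ⟨x, ⟨f, rfl⟩, hx⟩
      have hf := (hcomm f).1 hx
      have hconst := const_of_shift p f.toAdd hf
      refine ⟨f.toAdd 0, ?_⟩
      apply Subtype.ext
      show inl (Multiplicative.ofAdd (fun _ => f.toAdd 0)) = inl f
      congr 1
      apply Multiplicative.toAdd.injective
      funext i
      exact (hconst i).symm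
  rw [← Nat.card_eq_of_bijective F hF, Nat.card_zmod]

/-- All the properties of `C_p ≀ C_p` used in S3787. -/
theorem wr_props : ∃ (B : Subgroup (Wr p)) (t : Wr p), B.Normal ∧ IsMulCommutative B ∧
    (∀ b ∈ B, b ^ p = 1) ∧ Nat.card B = p ^ p ∧ orderOf t = p ∧ t ∉ B ∧
    Nat.card (Wr p) = p ^ (p + 1) ∧
    Nat.card ↥(B ⊓ Subgroup.centralizer ({t} : Set (Wr p))) = p :=
  ⟨WrB p, WrT p, wrB_normal p, wrB_comm p, wrB_exp p, wrB_card p, wrT_order p, wrT_notMem p,
    wr_card p, wr_cent_card p⟩

end Cfsg.Agent.Lib.Helper53
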