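import Mathlib
import Cfsg.Agent.Lib.Helper53.HHB1
import Cfsg.Agent.Lib.Helper53.HHB2
import Cfsg.Agent.Lib.Helper63.FrattiniAct

/-!
# Embedding `C_p ≀ C_p`

If `t` of order `p` normalizes (here: lies in a group with normal) elementary abelian `A`, `t ∉ A`,
and the norm of some `a ∈ A` under `t` is not trivial, then `⟨t, a⟩ ≅ C_p ≀ C_p`.
-/

set_option autoImplicit false

namespace Cfsg.Agent.Lib.Helper53

open Polynomial
open scoped IsMulCommutative
open Cfsg.Agent.Lib.Helper63.Frob (nc)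

universe u

section modlemma

variable {p : ℕ} [hp : Fact p.Prime] {M : Type*} [AddCommGroup M] [Module (ZMod p) M]

/-- A polynomial of degree `< p` killing a vector `v` with `(L-1)^(p-1) v ≠ 0`, `L^p = 1`, is zero. -/
theorem poly_eq_zero_of_aeval (L : Module.End (ZMod p) M) (hL : L ^ p = 1) (v : M)
    (hv : ((L - 1) ^ (p - 1)) v ≠ 0) (g : (ZMod p)[X]) (hdeg : g.natDegree < p)
    (hg : aeval L g v = 0) : g = 0 := by
  by_contra hg0
  have hmul : ∀ q h : (ZMod p)[X], aeval L h v = 0 → aeval L (q * h) v = 0 := by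
    intro q h hh
    rw [map_mul, Module.End.mul_apply, hh, map_zero]
  have hP : aeval L (((X : (ZMod p)[X]) - 1) ^ p) v = 0 := by
    have : ((X : (ZMod p)[X]) - 1) ^ p = X ^ p - 1 := by
      rw [sub_pow_char, one_pow]
    rw [this, map_sub, map_pow, aeval_X, map_one, hL, sub_self, LinearMap.zero_apply]
  have hprime : Prime ((X : (ZMod p)[X]) - 1) := by
    have := Polynomial.prime_X_sub_C (1 : ZMod p)
    simpa using this
  set d := EuclideanDomain.gcd g (((X : (ZMod p)[X]) - 1) ^ p) with hd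
  have hdv : aeval L d v = 0 := by
    rw [hd, EuclideanDomain.gcd_eq_gcd_ab, map_add, LinearMap.add_apply,
      mul_comm g, mul_comm ((X - 1) ^ p), hmul _ _ hg, hmul _ _ hP, add_zero]
  have hd1 : d ∣ ((X : (ZMod p)[X]) - 1) ^ p := EuclideanDomain.gcd_dvd_right _ _
  have hd2 : d ∣ g := EuclideanDomain.gcd_dvd_left _ _
  obtain ⟨k, hkp, hk⟩ := (dvd_prime_pow hprime _).1 hd1
  obtain ⟨u, hu⟩ := hk
  have hkv : aeval L (((X : (ZMod p)[X]) - 1) ^ k) v = 0 := by
    rw [← hu, mul_comm]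
    exact hmul _ _ hdv
  have hkeq : k = p := by
    by_contra hne
    have hlt : k ≤ p - 1 := by omega
    apply hv
    have e : ((X : (ZMod p)[X]) - 1) ^ (p - 1) = (X - 1) ^ (p - 1 - k) * (X - 1) ^ k := by
      rw [← pow_add]; congr 1; omega
    have := hmul (((X : (ZMod p)[X]) - 1) ^ (p - 1 - k)) _ hkv
    rw [← e, map_pow, map_sub, aeval_X, map_one] at this
    exact this
  rw [hkeq] at hu
  have hdvd : ((X : (ZMod p)[X]) - 1) ^ p ∣ g := by
    have : ((X : (ZMod p)[X]) - 1) ^ p ∣ d := ⟨(↑u⁻¹ : (ZMod p)[X]), by rw [← hu]; simp [mul_assoc]⟩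
    exact this.trans hd2
  have hle := Polynomial.natDegree_le_of_dvd hdvd hg0
  have hdegk : (((X : (ZMod p)[X]) - 1) ^ p).natDegree = p := by
    have h1 := Polynomial.Monic.natDegree_pow (Polynomial.monic_X_sub_C (1 : ZMod p)) p
    rw [Polynomial.natDegree_X_sub_C, mul_one, map_one] at h1
    exact h1
  rw [hdegk] at hle
  omega

/-- The polynomial with coefficients `c`. -/
noncomputable def cpoly (c : ZMod p → ZMod p) : (ZMod p)[X] :=
  ∑ i : ZMod p, C (c i) * X ^ i.val

theorem cpoly_natDegree_lt (c : ZMod p → ZMod p) : (cpoly c).natDegree < p := by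
  have hp1 : 0 < p := hp.out.pos
  have : (cpoly c).natDegree ≤ p - 1 := by
    unfold cpoly
    apply Polynomial.natDegree_sum_le_of_forall_le
    intro i _
    calc (C (c i) * X ^ i.val).natDegree ≤ i.val := Polynomial.natDegree_C_mul_X_pow_le _ _
      _ ≤ p - 1 := by have := ZMod.val_lt i; omega
  omega

theorem cpoly_coeff (c : ZMod p → ZMod p) (j : ZMod p) : (cpoly c).coeff j.val = c j := by
  unfold cpoly
  rw [Polynomial.finsetSum_coeff]
  rw [Finset.sum_eq_single j]
  · rw [Polynomial.coeff_C_mul_X_pow]; simp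
  · intro i _ hij
    rw [Polynomial.coeff_C_mul_X_pow, if_neg]
    intro h
    exact hij (ZMod.val_injective p h.symm)
  · intro h; exact absurd (Finset.mem_univ j) h

theorem cpoly_eq_zero (c : ZMod p → ZMod p) (h : cpoly c = 0) : c = 0 := by
  funext j
  rw [← cpoly_coeff c j, h]; rfl

theorem aeval_cpoly (L : Module.End (ZMod p) M) (c : ZMod p → ZMod p) (v : M) :
    aeval L (cpoly c) v = ∑ i : ZMod p, c i • (L ^ i.val) v := by
  unfold cpoly
  rw [map_sum, LinearMap.sum_apply]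
  apply Finset.sum_congr rfl
  intro i _
  rw [map_mul, aeval_C, map_pow, aeval_X, Module.End.mul_apply]
  rfl

end modlemma

end Cfsg.Agent.Lib.Helper53

namespace Cfsg.Agent.Lib.Helper53

open Polynomial
open scoped IsMulCommutative
open Cfsg.Agent.Lib.Helper63.Frob (nc)

universe u

section embed

variable {p : ℕ} [hp : Fact p.Prime] {X : Type u} [Group X]

/-- A power of `t` prime to `p` lying in a subgroup, with `t ^ p = 1`, puts `t` in the subgroup. -/
theorem mem_of_pow_mem_of_coprime (A : Subgroup X) (t : X) (htp : t ^ p = 1) (m : ℕ)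
    (hm : m.Coprime p) (h : t ^ m ∈ A) : t ∈ A := by
  have hp1 : 1 < p := hp.out.one_lt
  obtain ⟨k, -, hk⟩ := Nat.exists_mul_mod_eq_one_of_coprime hm hp1
  have : t = (t ^ m) ^ k := by
    rw [← pow_mul, pow_eq_pow_mod (m * k) htp, hk, pow_one]
  rw [this]
  exact A.pow_mem h k

theorem wr_embed (A : Subgroup X) [hA : A.Normal]
    (hAc : ∀ a ∈ A, ∀ b ∈ A, a * b = b * a) (hAe : ∀ a ∈ A, a ^ p = 1)
    (t : X) (htp : t ^ p = 1) (htA : t ∉ A) (a : X) (ha : a ∈ A) (hN : nc a t p ≠ 1) :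
    ∃ f : Wr p →* X, Function.Injective f := by
  classical
  have : IsMulCommutative A := ⟨⟨fun x y => Subtype.ext (hAc x x.2 y y.2)⟩⟩
  have hV : ∀ v : ↥A, v ^ p = 1 := fun v => Subtype.ext (by simpa using hAe v v.2)
  let ρ : X →* MulAut ↥A := MulAut.conjNormal
  let L : Module.End (ZMod p) (EA p ↥A hV) := (linRep hV ρ t : Module.End (ZMod p) (EA p ↥A hV))
  have hLpow : ∀ j : ℕ, L ^ j =
      ((linRep hV ρ (t ^ j)) : Module.End (ZMod p) (EA p ↥A hV)) := by
    intro j
    have h1 := map_pow (LinearEquiv.automorphismGroup.toLinearMapMonoidHom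
      (R := ZMod p) (M := EA p ↥A hV)) (linRep hV ρ t) j
    rw [map_pow]
    exact h1.symm
  have hL : L ^ p = 1 := by
    rw [hLpow, htp, map_one]; rfl
  let v : EA p ↥A hV := EA.of hV ⟨a, ha⟩
  have hLv : ∀ (j : ℕ) (w : ↥A), (L ^ j) (EA.of hV w) = EA.of hV (ρ (t ^ j) w) := by
    intro j w
    rw [hLpow]
    show linRep hV ρ (t ^ j) (EA.of hV w) = _
    rw [linRep_of]
  have hcoe : ∀ k : ℕ, ((∏ j ∈ Finset.range k, ρ (t ^ j) ⟨a, ha⟩ : ↥A) : X) = nc a t k := by
    intro k
    induction k with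
    | zero => simp [nc]
    | succ k ih =>
      rw [Finset.prod_range_succ, Subgroup.coe_mul, ih, nc]
      rfl
  have hv : ((L - 1) ^ (p - 1)) v ≠ 0 := by
    intro h0
    have hsum : (L - 1) ^ (p - 1) = ∑ j ∈ Finset.range p, L ^ j := by
      have := congrArg (aeval L) (geom_sum_X_char p 1)
      rw [pow_one, map_sum, map_pow, map_sub, aeval_X, map_one] at this
      simp only [map_pow, aeval_X] at this
      exact this.symm
    rw [hsum, LinearMap.sum_apply] at h0
    have hterm : ∀ j ∈ Finset.range p, (L ^ j) v = EA.of hV (ρ (t ^ j) ⟨a, ha⟩) :=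
      fun j _ => hLv j _
    rw [Finset.sum_congr rfl hterm, ← EA.of_prod] at h0
    have h1 : (∏ j ∈ Finset.range p, ρ (t ^ j) ⟨a, ha⟩ : ↥A) = 1 := EA.of_injective hV h0
    apply hN
    rw [← hcoe, h1]; rfl
  let ℓ : (ZMod p → ZMod p) →ₗ[ZMod p] EA p ↥A hV :=
    Fintype.linearCombination (ZMod p) (fun i : ZMod p => (L ^ i.val) v)
  have hℓ : ∀ c, ℓ c = ∑ i : ZMod p, c i • (L ^ i.val) v := fun c =>
    Fintype.linearCombination_apply _ _ _
  have hℓinj : ∀ c, ℓ c = 0 → c = 0 := by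
    intro c hc
    apply cpoly_eq_zero
    apply poly_eq_zero_of_aeval L hL v hv _ (cpoly_natDegree_lt c)
    rw [aeval_cpoly, ← hℓ, hc]
  let f₁ : Multiplicative (ZMod p → ZMod p) →* X :=
    MonoidHom.mk' (fun c => ((EA.to hV (ℓ c.toAdd) : ↥A) : X)) (by
      intro c d
      show ((EA.to hV (ℓ (c.toAdd + d.toAdd)) : ↥A) : X) = _
      rw [map_add]; rfl)
  let f₂ : Multiplicative (ZMod p) →* X :=
    MonoidHom.mk' (fun j => t ^ j.toAdd.val) (by
      intro c d
      show t ^ (c.toAdd + d.toAdd).val = t ^ c.toAdd.val * t ^ d.toAdd.val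
      rw [ZMod.val_add, ← pow_eq_pow_mod _ htp, pow_add])
  have hf₁ : ∀ c, f₁ c = ((EA.to hV (ℓ c.toAdd) : ↥A) : X) := fun _ => rfl
  have hf₂ : ∀ j, f₂ j = t ^ j.toAdd.val := fun _ => rfl
  have hshift : ∀ (g : ZMod p) (c : ZMod p → ZMod p),
      (L ^ g.val) (ℓ c) = ℓ (shiftAdd p g c) := by
    intro g c
    rw [hℓ, hℓ, map_sum]
    refine Fintype.sum_equiv (Equiv.addRight g) _ _ ?_
    intro i
    rw [map_smul]
    show c i • (L ^ g.val) ((L ^ i.val) v) = shiftAdd p g c (i + g) • (L ^ (i + g).val) v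
    rw [shiftAdd_apply, add_sub_cancel_right, ← Module.End.mul_apply, ← pow_add, ZMod.val_add,
      ← pow_eq_pow_mod _ hL, add_comm]
  have hcompat : ∀ g, f₁.comp (shiftHom p g).toMonoidHom =
      (MulAut.conj (f₂ g)).toMonoidHom.comp f₁ := by
    intro g
    apply MonoidHom.ext
    intro c
    show f₁ (shiftHom p g c) = f₂ g * f₁ c * (f₂ g)⁻¹
    rw [hf₁, hf₁, hf₂, shiftHom_apply]
    show ((EA.to hV (ℓ (shiftAdd p g.toAdd c.toAdd)) : ↥A) : X) = _
    rw [← hshift, ← MulAut.conjNormal_apply]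
    congr 1
    have := hLv g.toAdd.val (EA.to hV (ℓ c.toAdd))
    rw [EA.of_to] at this
    rw [this]; rfl
  refine ⟨SemidirectProduct.lift f₁ f₂ hcompat, ?_⟩
  rw [injective_iff_map_eq_one]
  intro w hw
  have hw' : f₁ w.left * f₂ w.right = 1 := hw
  have hf₁A : f₁ w.left ∈ A := by rw [hf₁]; exact (EA.to hV (ℓ w.left.toAdd)).2
  have hf₂A : f₂ w.right ∈ A := by
    have : f₂ w.right = (f₁ w.left)⁻¹ := eq_inv_of_mul_eq_one_right hw'
    rw [this]; exact A.inv_mem hf₁A
  have hr : w.right = 1 := by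
    by_contra hne
    have hval : w.right.toAdd.val ≠ 0 := by
      intro h0
      apply hne
      have : w.right.toAdd = 0 := (ZMod.val_eq_zero _).1 h0
      exact Multiplicative.toAdd.injective this
    apply htA
    apply mem_of_pow_mem_of_coprime A t htp w.right.toAdd.val _ (by rw [← hf₂]; exact hf₂A)
    apply Nat.Coprime.symm
    rw [Nat.Prime.coprime_iff_not_dvd hp.out]
    intro hdvd
    have := Nat.le_of_dvd (Nat.pos_of_ne_zero hval) hdvd
    have := ZMod.val_lt w.right.toAdd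
    omega
  rw [hr, map_one, mul_one, hf₁] at hw'
  have h2 : EA.to hV (ℓ w.left.toAdd) = 1 := Subtype.ext hw'
  have h3 : ℓ w.left.toAdd = 0 := by
    have := congrArg (EA.of hV) h2
    rwa [EA.of_to] at this
  have h4 := hℓinj _ h3
  have hl : w.left = 1 := Multiplicative.toAdd.injective h4
  exact SemidirectProduct.ext hl hr

end embed

end Cfsg.Agent.Lib.Helper53
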