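import Mathlib
import Cfsg.Prelude.Def_Local
import Cfsg.Prelude.Def_LocalEven
import Cfsg.Agent.Lib.Helper53.HHB3
import Cfsg.Agent.Lib.Helper63.HHAbelian
import Cfsg.Agent.Lib.Helper88.SectionFreeRadical

/-!
# From a nontrivial norm to a section `C_p ≀ C_p`
-/

set_option autoImplicit false
set_option linter.unusedSectionVars false
set_option linter.style.haveILetI false

namespace Cfsg.Agent.Lib.Helper53

open Cfsg
open scoped IsMulCommutative Pointwise commutatorElement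
open Cfsg.Agent.Lib.Helper63.Frob (nc FQ frActQ frActQ_mk mk_nc nc_mem mul_pow_eq isMulCommutative_FQ)

universe u

section fnrm

variable {Γ V : Type*} [Group Γ] [Group V] [IsMulCommutative V]

/-- The norm as a homomorphism. -/
noncomputable def fnrmHom (ρ : Γ →* MulAut V) (x : Γ) (m : ℕ) : V →* V where
  toFun v := Cfsg.Agent.Lib.Helper63.Frob.nrm ρ x m v
  map_one' := by
    unfold Cfsg.Agent.Lib.Helper63.Frob.nrm
    simp
  map_mul' v w := by
    unfold Cfsg.Agent.Lib.Helper63.Frob.nrm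
    simp only [map_mul]
    rw [Finset.prod_mul_distrib]

theorem fnrmHom_apply (ρ : Γ →* MulAut V) (x : Γ) (m : ℕ) (v : V) :
    fnrmHom ρ x m v = Cfsg.Agent.Lib.Helper63.Frob.nrm ρ x m v := rfl

end fnrm

section ncmap

variable {G H : Type*} [Group G] [Group H]

theorem map_nc (f : G →* H) (u x : G) (k : ℕ) : f (nc u x k) = nc (f u) (f x) k := by
  induction k with
  | zero => simp [nc]
  | succ k ih => rw [nc, nc, map_mul, ih, map_mul, map_mul, map_inv, map_pow]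

end ncmap

section goodpair

variable {G : Type u} [Group G] [Finite G] {p : ℕ} [hp : Fact p.Prime]
  (N : Subgroup G) [hN : N.Normal]

/-- The image of the Frattini subgroup of `N` in `G`. -/
abbrev PhiOf : Subgroup G := (frattini ↥N).map N.subtype

theorem mem_phiOf_iff {g : G} (hg : g ∈ N) :
    g ∈ PhiOf N ↔ (QuotientGroup.mk (⟨g, hg⟩ : ↥N) : FQ N) = 1 := by
  rw [QuotientGroup.eq_one_iff]
  constructor
  · rintro ⟨y, hy, rfl⟩
    exact hy
  · intro h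
    exact ⟨⟨g, hg⟩, h, rfl⟩

theorem phiOf_le : PhiOf N ≤ N := by
  rintro _ ⟨y, _, rfl⟩
  exact y.2

instance phiOf_normal : (PhiOf N).Normal := ConjAct.normal_of_characteristic_of_normal

theorem fq_pow (hNp : IsPGroup p N) (v : FQ N) : v ^ p = 1 := by
  obtain ⟨w, rfl⟩ := QuotientGroup.mk_surjective v
  rw [← QuotientGroup.mk_pow, QuotientGroup.eq_one_iff]
  exact Cfsg.Agent.Lib.Helper2.pow_mem_frattini hNp w

theorem mk_mul_eq (x u' : G) (hu' : u' ∈ N) :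
    (QuotientGroup.mk (u' * x) : G ⧸ N) = QuotientGroup.mk x := by
  rw [QuotientGroup.mk_mul, (QuotientGroup.eq_one_iff u').2 hu', one_mul]

theorem exists_good_pair (hNp : IsPGroup p N) (x : G) (hxp : x ^ p ∈ N) (u : G) (hu : u ∈ N)
    (hnu : nc u x p ∉ PhiOf N) :
    ∃ t₀ a : G, a ∈ N ∧ (∃ u' ∈ N, t₀ = u' * x) ∧
      nc a t₀ p ∉ PhiOf N ⊔ Subgroup.zpowers (t₀ ^ p) := by
  classical
  haveI := isMulCommutative_FQ N hNp
  by_cases hc : nc u x p ∈ PhiOf N ⊔ Subgroup.zpowers (x ^ p)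
  · -- adjust `x`
    have hmem : nc u x p ∈ ((PhiOf N : Subgroup G) : Set G) * (Subgroup.zpowers (x ^ p) : Set G) := by
      rw [← Subgroup.normal_mul]; exact hc
    obtain ⟨φ, hφ, z, hz, hφz⟩ := Set.mem_mul.1 hmem
    obtain ⟨k, rfl⟩ := Subgroup.mem_zpowers_iff.1 hz
    set ρ := frActQ N hNp with hρ
    set xb : G ⧸ N := QuotientGroup.mk x with hxb
    set ub : FQ N := QuotientGroup.mk (⟨u, hu⟩ : ↥N) with hub
    set rb : FQ N := QuotientGroup.mk (⟨x ^ p, hxp⟩ : ↥N) with hrb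
    set nb : FQ N := Cfsg.Agent.Lib.Helper63.Frob.nrm ρ xb p ub with hnb
    have hnb' : (QuotientGroup.mk (⟨nc u x p, nc_mem N hu x p⟩ : ↥N) : FQ N) = nb :=
      mk_nc N hNp hu x p
    have hnb1 : nb ≠ 1 := by
      rw [← hnb']
      intro h
      exact hnu ((mem_phiOf_iff N (nc_mem N hu x p)).2 h)
    have hrk : nb = rb ^ k := by
      rw [← hnb']
      have hφN : φ ∈ N := phiOf_le N hφ
      have hzN : (x ^ p) ^ k ∈ N := N.zpow_mem hxp k
      have e : (⟨nc u x p, nc_mem N hu x p⟩ : ↥N) = ⟨φ, hφN⟩ * ⟨(x ^ p) ^ k, hzN⟩ :=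
        Subtype.ext hφz.symm
      rw [e, QuotientGroup.mk_mul, (mem_phiOf_iff N hφN).1 hφ, one_mul]
      have e2 : (⟨(x ^ p) ^ k, hzN⟩ : ↥N) = (⟨x ^ p, hxp⟩ : ↥N) ^ k := Subtype.ext (by simp)
      rw [e2, QuotientGroup.mk_zpow]
    have hrp : rb ^ p = 1 := fq_pow N hNp rb
    have hpk : ¬ (p : ℤ) ∣ k := by
      rintro ⟨j, rfl⟩
      apply hnb1
      rw [hrk, zpow_mul, zpow_natCast, hrp, one_zpow]
    have hcop : IsCoprime (p : ℤ) k := by
      have hpi : Prime (p : ℤ) := Nat.prime_iff_prime_int.1 hp.out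
      exact (Prime.coprime_iff_not_dvd hpi).2 hpk
    obtain ⟨a, b, hab⟩ := hcop
    have hrb2 : rb = nb ^ b := by
      have h1 : rb = rb ^ (a * p + b * k) := by rw [hab, zpow_one]
      rw [zpow_add, mul_comm a, zpow_mul, zpow_natCast, hrp, one_zpow, one_mul, mul_comm b,
        zpow_mul, ← hrk] at h1
      exact h1
    have hu'N : u ^ (-b) ∈ N := N.zpow_mem hu _
    refine ⟨u ^ (-b) * x, u, hu, ⟨u ^ (-b), hu'N, rfl⟩, ?_⟩
    have hpow : (u ^ (-b) * x) ^ p = nc (u ^ (-b)) x p * x ^ p := mul_pow_eq _ _ _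
    have hpowN : (u ^ (-b) * x) ^ p ∈ N := by
      rw [hpow]; exact N.mul_mem (nc_mem N hu'N x p) hxp
    have hpowΦ : (u ^ (-b) * x) ^ p ∈ PhiOf N := by
      rw [mem_phiOf_iff N hpowN]
      have e : (⟨(u ^ (-b) * x) ^ p, hpowN⟩ : ↥N) =
          ⟨nc (u ^ (-b)) x p, nc_mem N hu'N x p⟩ * ⟨x ^ p, hxp⟩ := Subtype.ext hpow
      rw [e, QuotientGroup.mk_mul, mk_nc N hNp hu'N x p]
      have e2 : (QuotientGroup.mk (⟨u ^ (-b), hu'N⟩ : ↥N) : FQ N) = ub ^ (-b) := by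
        rw [hub, ← QuotientGroup.mk_zpow]
        congr 1
      rw [e2, ← fnrmHom_apply, map_zpow, fnrmHom_apply]
      show nb ^ (-b) * rb = 1
      rw [hrb2, ← zpow_add, neg_add_cancel, zpow_zero]
    have hsup : PhiOf N ⊔ Subgroup.zpowers ((u ^ (-b) * x) ^ p) = PhiOf N :=
      sup_eq_left.2 ((Subgroup.zpowers_le).2 hpowΦ)
    rw [hsup, mem_phiOf_iff N (nc_mem N hu _ p), mk_nc N hNp hu _ p, mk_mul_eq N x _ hu'N]
    exact hnb1
  · exact ⟨x, u, hu, ⟨1, N.one_mem, (one_mul x).symm⟩, hc⟩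

end goodpair


section involve

variable {G : Type u} [Group G] [Finite G] {p : ℕ} [hp : Fact p.Prime]
  (N : Subgroup G) [hN : N.Normal]

/-- commutators of elements of `N` lie in `Φ(N)`. -/
theorem comm_mem_phiOf (hNp : IsPGroup p N) {g h : G} (hg : g ∈ N) (hh : h ∈ N) :
    g * h * g⁻¹ * h⁻¹ ∈ PhiOf N := by
  have h1 : ⁅(⟨g, hg⟩ : ↥N), ⟨h, hh⟩⁆ ∈ frattini ↥N := by
    apply Cfsg.Agent.Lib.Helper2.commutator_le_frattini hNp
    rw [commutator_def]
    exact Subgroup.commutator_mem_commutator (Subgroup.mem_top _) (Subgroup.mem_top _)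
  refine ⟨_, h1, ?_⟩
  simp [commutatorElement_def]

theorem pow_mem_phiOf (hNp : IsPGroup p N) {g : G} (hg : g ∈ N) : g ^ p ∈ PhiOf N :=
  ⟨(⟨g, hg⟩ : ↥N) ^ p, Cfsg.Agent.Lib.Helper2.pow_mem_frattini hNp _, by simp⟩

theorem involves_wr_of_good_pair (hNp : IsPGroup p N) (S : Subgroup G) (hNS : N ≤ S)
    (t₀ a : G) (htS : t₀ ∈ S) (htN : t₀ ∉ N) (htp : t₀ ^ p ∈ N) (ha : a ∈ N)
    (hnc : nc a t₀ p ∉ PhiOf N ⊔ Subgroup.zpowers (t₀ ^ p)) : Involves (Wr p) ↥S := by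
  classical
  set R : Subgroup G := PhiOf N ⊔ Subgroup.zpowers (t₀ ^ p) with hR
  have hΦR : PhiOf N ≤ R := le_sup_left
  have hrR : t₀ ^ p ∈ R := (le_sup_right : Subgroup.zpowers (t₀ ^ p) ≤ R) (Subgroup.mem_zpowers _)
  have hRN : R ≤ N := sup_le (phiOf_le N) ((Subgroup.zpowers_le).2 htp)
  -- `N` normalizes `R`
  have hN1 : N ≤ Subgroup.normalizer (R : Set G) := by
    rw [Subgroup.le_normalizer_iff]
    intro g hg k hk
    have : g * k * g⁻¹ = (g * k * g⁻¹ * k⁻¹) * k := by group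
    rw [this]
    exact R.mul_mem (hΦR (comm_mem_phiOf N hNp hg (hRN hk))) hk
  -- `t₀` normalizes `R`
  have hN2 : Subgroup.zpowers t₀ ≤ Subgroup.normalizer (R : Set G) := by
    rw [Subgroup.le_normalizer_iff]
    intro g hg
    have hcomm : g * t₀ ^ p * g⁻¹ = t₀ ^ p := by
      obtain ⟨j, rfl⟩ := Subgroup.mem_zpowers_iff.1 hg
      have : Commute (t₀ ^ j) (t₀ ^ p) := (Commute.refl t₀).zpow_left j |>.pow_right p
      rw [this.eq, mul_assoc, mul_inv_cancel, mul_one]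
    have hle : R ≤ R.comap (MulAut.conj g).toMonoidHom := by
      rw [hR]
      apply sup_le
      · intro k hk
        rw [Subgroup.mem_comap]
        exact hΦR ((phiOf_normal N).conj_mem k hk g)
      · rw [Subgroup.zpowers_le, Subgroup.mem_comap]
        show g * t₀ ^ p * g⁻¹ ∈ _
        rw [hcomm]; exact hrR
    intro k hk
    exact hle hk
  set T₀ : Subgroup G := S ⊓ Subgroup.normalizer (R : Set G) with hT₀
  have hRT : R ≤ T₀ := le_inf (hRN.trans hNS) Subgroup.le_normalizer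
  have hNT : N ≤ T₀ := le_inf hNS hN1
  have htT : t₀ ∈ T₀ := ⟨htS, hN2 (Subgroup.mem_zpowers _)⟩
  haveI hnorm : (R.subgroupOf T₀).Normal :=
    (Subgroup.normal_subgroupOf_iff_le_normalizer hRT).2 inf_le_right
  let π : ↥T₀ →* ↥T₀ ⧸ R.subgroupOf T₀ := QuotientGroup.mk' _
  have hπ : Function.Surjective π := QuotientGroup.mk'_surjective _
  have hπ1 : ∀ g : ↥T₀, π g = 1 ↔ (g : G) ∈ R := by
    intro g
    show (QuotientGroup.mk g : ↥T₀ ⧸ R.subgroupOf T₀) = 1 ↔ _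
    rw [QuotientGroup.eq_one_iff, Subgroup.mem_subgroupOf]
  let A : Subgroup (↥T₀ ⧸ R.subgroupOf T₀) := (N.subgroupOf T₀).map π
  haveI hAn : A.Normal := Subgroup.Normal.map inferInstance π hπ
  have hAc : ∀ x ∈ A, ∀ y ∈ A, x * y = y * x := by
    rintro _ ⟨g, hg, rfl⟩ _ ⟨h, hh, rfl⟩
    rw [← map_mul, ← map_mul, ← mul_inv_eq_one, ← map_inv, ← map_mul, hπ1]
    have hg' : (g : G) ∈ N := Subgroup.mem_subgroupOf.1 hg
    have hh' : (h : G) ∈ N := Subgroup.mem_subgroupOf.1 hh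
    have := comm_mem_phiOf N hNp hg' hh'
    apply hΦR
    simpa [mul_assoc] using this
  have hAe : ∀ x ∈ A, x ^ p = 1 := by
    rintro _ ⟨g, hg, rfl⟩
    rw [← map_pow, hπ1]
    have hg' : (g : G) ∈ N := Subgroup.mem_subgroupOf.1 hg
    apply hΦR
    simpa using pow_mem_phiOf N hNp hg'
  have htp' : (π ⟨t₀, htT⟩) ^ p = 1 := by
    rw [← map_pow, hπ1]
    simpa using hrR
  have htA : π ⟨t₀, htT⟩ ∉ A := by
    rintro ⟨g, hg, hgt⟩
    have hg' : (g : G) ∈ N := Subgroup.mem_subgroupOf.1 hg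
    have h1 : π (g⁻¹ * ⟨t₀, htT⟩) = 1 := by rw [map_mul, map_inv, hgt, inv_mul_cancel]
    rw [hπ1] at h1
    have h2 : (g : G)⁻¹ * t₀ ∈ N := hRN (by simpa using h1)
    apply htN
    have := N.mul_mem hg' h2
    simpa using this
  have haA : π ⟨a, hNT ha⟩ ∈ A := ⟨⟨a, hNT ha⟩, Subgroup.mem_subgroupOf.2 ha, rfl⟩
  have hncne : nc (π ⟨a, hNT ha⟩) (π ⟨t₀, htT⟩) p ≠ 1 := by
    rw [← map_nc, Ne, hπ1]
    have : ((nc (⟨a, hNT ha⟩ : ↥T₀) ⟨t₀, htT⟩ p : ↥T₀) : G) = nc a t₀ p :=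
      map_nc T₀.subtype _ _ p
    rw [this]
    exact hnc
  obtain ⟨f, hf⟩ := wr_embed A hAc hAe (π ⟨t₀, htT⟩) htp' htA (π ⟨a, hNT ha⟩) haA hncne
  have h1 : Involves (Wr p) (↥T₀ ⧸ R.subgroupOf T₀) :=
    Cfsg.Agent.Lib.Helper88.involves_of_hom f (MonoidHom.id _) hf Function.surjective_id
  have h2 : Involves (Wr p) ↥T₀ := Cfsg.Agent.Lib.Helper88.involves_of_surjective π hπ h1
  exact Cfsg.Agent.Lib.Helper88.involves_of_injective
    (Subgroup.inclusion (inf_le_left : T₀ ≤ S)) (Subgroup.inclusion_injective _) h2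

end involve

end Cfsg.Agent.Lib.Helper53
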