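import Mathlib
import Cfsg.Prelude.Def_Local
import Cfsg.Prelude.Def_LocalEven
import Cfsg.Agent.Lib.Helper53.HHB4
import Cfsg.Agent.Lib.Helper63.PLength
import Cfsg.Agent.Lib.Helper30.PPrimeCore
import Cfsg.Agent.Lib.Helper32.PPrimeP
import Cfsg.Agent.Lib.Helper47.FrakL1
import Cfsg.Agent.S3784

/-!
# `p`-length one from the absence of `C_p ≀ C_p` (Hall–Higman), given Theorem B
-/

set_option autoImplicit false
set_option linter.unusedSectionVars false
set_option linter.style.haveILetI false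

namespace Cfsg.Agent.Lib.Helper53

open Cfsg
open scoped IsMulCommutative
open Cfsg.Agent.Lib.Helper63.Frob (nc FQ frActQ frActQ_mk mk_nc nc_mem mul_pow_eq isMulCommutative_FQ)
open Cfsg.Agent.Lib.Helper63 (pLengthLE_iff PPrimeFac PFac IsPSeries)

universe u

variable {p : ℕ} [hp : Fact p.Prime]

/-- The arithmetic part of the exceptional case of Theorem B does not occur for `n = 1` when `p`
is odd and not a Fermat prime. -/
theorem no_exceptional_one (hp2 : p ≠ 2) (hnf : ¬ ∃ k : ℕ, p = 2 ^ k + 1)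
    (n₀ q m : ℕ) (h1 : 1 ≤ n₀) (h2 : n₀ ≤ 1) (hq : q.Prime) (hm : 1 ≤ m)
    (h : p ^ n₀ - 1 = q ^ m) : False := by
  have hn : n₀ = 1 := le_antisymm h2 h1
  subst hn
  have hpos : 1 ≤ p ^ 1 := Nat.one_le_pow _ _ hp.out.pos
  have h' : p ^ 1 = q ^ m + 1 := by omega
  rcases Cfsg.Agent.S3784.result p q 1 m hp.out hq le_rfl hm h' with ⟨h2', _⟩ | ⟨_, _, _, h3⟩ | ⟨h4, _⟩
  · exact hp2 h2'
  · exact hnf ⟨m, h3⟩
  · rw [pow_one] at h4
    have := hp.out
    rw [h4] at this
    norm_num at this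

theorem involves_wr_core (hB : ThmB.{u} p) (hp2 : p ≠ 2) (hnf : ¬ ∃ k : ℕ, p = 2 ^ k + 1)
    {G : Type u} [Group G] [Finite G] (hsol : IsPSolvable p G) (hO : pPrimeCore p G = ⊥)
    (S : Sylow p G) (x₀ : G) (hx₀S : x₀ ∈ (S : Subgroup G)) (hx₀ : x₀ ∉ pCore p G) :
    Involves (Wr p) ↥(S : Subgroup G) := by
  classical
  haveI hNn : (pCore p G).Normal := Cfsg.Agent.Lib.Helper55.pCore_normal' p
  have hNp : IsPGroup p (pCore p G) := Cfsg.Agent.Lib.Helper55.pCore_isPGroup p
  have hNS : pCore p G ≤ (S : Subgroup G) := Cfsg.Agent.Lib.Helper11.pCore_le_sylow S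
  -- choose `x`
  obtain ⟨x, hxS, hxN, hxp⟩ : ∃ x ∈ (S : Subgroup G), x ∉ pCore p G ∧ x ^ p ∈ pCore p G := by
    have hex : ∃ k : ℕ, x₀ ^ p ^ k ∈ pCore p G := by
      obtain ⟨k, hk⟩ := (IsPGroup.iff_orderOf.1 S.isPGroup') ⟨x₀, hx₀S⟩
      refine ⟨k, ?_⟩
      have : (⟨x₀, hx₀S⟩ : ↥(S : Subgroup G)) ^ p ^ k = 1 := by
        rw [← hk]; exact pow_orderOf_eq_one _
      have h2 : x₀ ^ p ^ k = 1 := congrArg Subtype.val this
      rw [h2]; exact Subgroup.one_mem _
    have hk0 : Nat.find hex ≠ 0 := by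
      intro h0
      have := Nat.find_spec hex
      rw [h0, pow_zero, pow_one] at this
      exact hx₀ this
    obtain ⟨j, hj⟩ := Nat.exists_eq_succ_of_ne_zero hk0
    refine ⟨x₀ ^ p ^ j, Subgroup.pow_mem _ hx₀S _, ?_, ?_⟩
    · exact Nat.find_min hex (by omega)
    · have := Nat.find_spec hex
      rw [hj, pow_succ, pow_mul] at this
      exact this
  have hsolΓ : IsPSolvable p (G ⧸ pCore p G) :=
    Cfsg.Agent.Lib.Helper76.isPSolvable_quotient _ hsol
  have hOΓ : pCore p (G ⧸ pCore p G) = ⊥ := Cfsg.Agent.Lib.Helper47.pCore_quotient_pCore_eq_bot p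
  haveI := isMulCommutative_FQ (pCore p G) hNp
  have hρ : Function.Injective (frActQ (pCore p G) hNp) := by
    rw [injective_iff_map_eq_one]
    intro g hg
    obtain ⟨g, rfl⟩ := QuotientGroup.mk_surjective g
    rw [QuotientGroup.eq_one_iff]
    apply (Cfsg.Agent.Lib.Helper76.hallHigman_125 hsol hO g).1
    intro u hu
    have h1 := congrArg (fun f => f (QuotientGroup.mk (⟨u, hu⟩ : ↥(pCore p G)))) hg
    simp only [frActQ_mk, MulAut.one_apply] at h1
    have h2 := (QuotientGroup.eq).1 h1.symm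
    have h3 := (frattini ↥(pCore p G)).normal_of_characteristic.conj_mem _ h2 ⟨u, hu⟩
    refine ⟨_, h3, ?_⟩
    simp [MulAut.conjNormal_apply, mul_assoc]
  set xb : G ⧸ pCore p G := QuotientGroup.mk x with hxb
  have hxb1 : xb ≠ 1 := fun h => hxN ((QuotientGroup.eq_one_iff x).1 h)
  have hxbp : xb ^ p = 1 := by
    rw [hxb, ← QuotientGroup.mk_pow, QuotientGroup.eq_one_iff]; exact hxp
  have hord : orderOf xb = p ^ 1 := by rw [pow_one]; exact orderOf_eq_prime hxbp hxb1
  haveI : Nontrivial (FQ (pCore p G)) := by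
    by_contra hnt
    rw [not_nontrivial_iff_subsingleton] at hnt
    apply hxb1
    apply hρ
    rw [map_one]
    apply MulEquiv.ext
    intro v
    exact Subsingleton.elim _ _
  obtain ⟨v, hv⟩ := exists_nrm_ne_one (fq_pow (pCore p G) hNp) hB hsolΓ hOΓ
    (frActQ (pCore p G) hNp) hρ xb 1 hord
    (fun n₀ q m h1 h2 hq hm h => (no_exceptional_one hp2 hnf n₀ q m h1 h2 hq hm h).elim)
  rw [pow_one] at hv
  obtain ⟨⟨u, hu⟩, rfl⟩ := QuotientGroup.mk_surjective v
  have hnu : nc u x p ∉ PhiOf (pCore p G) := by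
    rw [mem_phiOf_iff _ (nc_mem _ hu x p), mk_nc _ hNp hu x p]
    exact hv
  obtain ⟨t₀, a, ha, ⟨u', hu', rfl⟩, hnc⟩ := exists_good_pair (pCore p G) hNp x hxp u hu hnu
  have htS : u' * x ∈ (S : Subgroup G) := Subgroup.mul_mem _ (hNS hu') hxS
  have htN : u' * x ∉ pCore p G := by
    intro h
    apply hxN
    have := Subgroup.mul_mem _ (Subgroup.inv_mem _ hu') h
    simpa using this
  have htp : (u' * x) ^ p ∈ pCore p G := by
    rw [mul_pow_eq]
    exact Subgroup.mul_mem _ (nc_mem _ hu' x p) hxp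
  exact involves_wr_of_good_pair (pCore p G) hNp (S : Subgroup G) hNS (u' * x) a htS htN htp ha hnc


/-- **Hall–Higman**: an odd non-Fermat prime `p`, `G` `p`-solvable whose Sylow `p`-subgroups do not
involve `C_p ≀ C_p`: then `G` has `p`-length at most one (given Theorem B). -/
theorem pLengthLE_one_of_not_involves_wr (hB : ThmB.{u} p) (hp2 : p ≠ 2)
    (hnf : ¬ ∃ k : ℕ, p = 2 ^ k + 1) {G : Type u} [Group G] [Finite G] (hG : IsPSolvable p G)
    (P : Sylow p G) (hwr : ¬ Involves (Wr p) ↥(P : Subgroup G)) : PLengthLE p 1 G := by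
  classical
  haveI hKn : (pPrimeCore p G).Normal := Cfsg.Agent.Lib.Helper55.pPrimeCore_normal' p
  have hπ : Function.Surjective (QuotientGroup.mk' (pPrimeCore p G)) :=
    QuotientGroup.mk'_surjective _
  have hsol' : IsPSolvable p (G ⧸ pPrimeCore p G) :=
    Cfsg.Agent.Lib.Helper76.isPSolvable_quotient _ hG
  have hO' : pPrimeCore p (G ⧸ pPrimeCore p G) = ⊥ :=
    Cfsg.Agent.Lib.Helper30.pPrimeCore_quotient_eq_bot p
  set Pb : Sylow p (G ⧸ pPrimeCore p G) := P.mapSurjective hπ with hPb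
  haveI hCn : (pCore p (G ⧸ pPrimeCore p G)).Normal := Cfsg.Agent.Lib.Helper55.pCore_normal' p
  have hCp : IsPGroup p (pCore p (G ⧸ pPrimeCore p G)) := Cfsg.Agent.Lib.Helper55.pCore_isPGroup p
  have hle : (Pb : Subgroup (G ⧸ pPrimeCore p G)) ≤ pCore p (G ⧸ pPrimeCore p G) := by
    intro y hy
    by_contra hyC
    have h1 := involves_wr_core hB hp2 hnf hsol' hO' Pb y hy hyC
    apply hwr
    have hcoe : (Pb : Subgroup (G ⧸ pPrimeCore p G)) =
        (P : Subgroup G).map (QuotientGroup.mk' (pPrimeCore p G)) := rfl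
    rw [hcoe] at h1
    exact Cfsg.Agent.Lib.Helper88.involves_of_surjective
      ((QuotientGroup.mk' (pPrimeCore p G)).subgroupMap (P : Subgroup G))
      (MonoidHom.subgroupMap_surjective _ _) h1
  have hidx : (pCore p (G ⧸ pPrimeCore p G)).index.Coprime p := by
    have h1 : (pCore p (G ⧸ pPrimeCore p G)).index ∣
        (Pb : Subgroup (G ⧸ pPrimeCore p G)).index := Subgroup.index_dvd_of_le hle
    have h2 : ¬ p ∣ (Pb : Subgroup (G ⧸ pPrimeCore p G)).index := Pb.not_dvd_index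
    rw [Nat.coprime_comm, Nat.Prime.coprime_iff_not_dvd hp.out]
    exact fun h => h2 (h.trans h1)
  have hKc : (Nat.card (pPrimeCore p G)).Coprime p :=
    Cfsg.Agent.Lib.Helper63.pPrimeCore_card_coprime' p
  rw [pLengthLE_iff]
  refine ⟨fun i => if i = 0 then ⊥ else if i = 1 then pPrimeCore p G else
    if i = 2 then pPrimePCore p G else ⊤, ⟨by simp, ?_, ?_, ?_⟩, by simp⟩
  · intro i
    by_cases h0 : i = 0
    · simp only [h0, if_true]; infer_instance
    by_cases h1 : i = 1
    · simp only [h1, if_true]; exact hKn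
    by_cases h2 : i = 2
    · simp only [h2, if_true]
      exact Cfsg.Agent.Lib.Helper32.pPrimePCore_normal p G
    · simp only [h0, h1, h2, if_false]; infer_instance
  · intro i hi x hx
    by_cases h0 : i = 0
    · subst h0
      refine ⟨Nat.card (pPrimeCore p G), hKc, ?_⟩
      have hxK : x ∈ pPrimeCore p G := by simpa using hx
      have h1 : (⟨x, hxK⟩ : ↥(pPrimeCore p G)) ^ Nat.card (pPrimeCore p G) = 1 :=
        pow_card_eq_one'
      have h2 : x ^ Nat.card (pPrimeCore p G) = 1 := congrArg Subtype.val h1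
      simp only [if_true]
      rw [h2]; exact Subgroup.one_mem _
    by_cases h2 : i = 2
    · subst h2
      refine ⟨(pCore p (G ⧸ pPrimeCore p G)).index, hidx, ?_⟩
      have : (QuotientGroup.mk' (pPrimeCore p G) x) ^ (pCore p (G ⧸ pPrimeCore p G)).index ∈
          pCore p (G ⧸ pPrimeCore p G) := Subgroup.pow_index_mem _ _
      rw [← map_pow] at this
      simpa [pPrimePCore] using this
    · have hi1 : i ≠ 1 := by rintro rfl; exact absurd hi (by decide)
      refine ⟨1, Nat.coprime_one_left p, ?_⟩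
      simp only [h0, hi1, h2, if_false]
      exact Subgroup.mem_top _
  · intro i hi x hx
    by_cases h1 : i = 1
    · subst h1
      have hx' : x ∈ pPrimePCore p G := by simpa using hx
      have hx2 : QuotientGroup.mk' (pPrimeCore p G) x ∈ pCore p (G ⧸ pPrimeCore p G) := hx'
      obtain ⟨m, hm⟩ := hCp ⟨_, hx2⟩
      refine ⟨m, ?_⟩
      have h2 : (QuotientGroup.mk' (pPrimeCore p G) x) ^ p ^ m = 1 := congrArg Subtype.val hm
      rw [← map_pow, QuotientGroup.mk'_apply, QuotientGroup.eq_one_iff] at h2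
      simpa using h2
    · have h0 : i ≠ 0 := by rintro rfl; exact hi (by decide)
      have h2 : i ≠ 2 := by rintro rfl; exact hi (by decide)
      refine ⟨0, ?_⟩
      simp only [h0, h1, h2, if_false]
      exact Subgroup.mem_top _

end Cfsg.Agent.Lib.Helper53
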