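import Mathlib
import Cfsg.Prelude.Def_Local
import Cfsg.Agent.Lib.Helper53.HHB1

/-!
# Bridges for the two-level Hall–Higman lemma

* `exists_twoLevel_ne`: from Theorem B, for `p` odd and `x` of order `p ^ (m + 1)` acting faithfully
  (inside a `p`-solvable group with `O_p = 1`) on an elementary abelian `p`-group, there is `v` whose
  partial norm `ω = N_{p^m}(x) v` is moved by `x ^ p ^ m`.
* `lin_sub_one_pow_eq_zero`: if the norm of `x` of length `p ^ n` is trivial then
  `(x - 1) ^ (p ^ n - 1) = 0` as a linear map.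
* `repK`: the base change of the linearised action to the algebraic closure of `ZMod p`.
-/

set_option autoImplicit false
set_option linter.unusedSectionVars false

namespace Cfsg.Agent.Lib.Helper53

open Cfsg Polynomial
open scoped IsMulCommutative
open Cfsg.Agent.Lib.Helper63.Frob (nrm)

universe u

section bridge2

variable {p : ℕ} {Γ V : Type u} [Group Γ] [Group V] [IsMulCommutative V]
variable (hV : ∀ v : V, v ^ p = 1)

/-- The linear endomorphism attached to `g`. -/
noncomputable def linEnd (ρ : Γ →* MulAut V) : Γ →* Module.End (ZMod p) (EA p V hV) :=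
  (LinearEquiv.automorphismGroup.toLinearMapMonoidHom
      (R := ZMod p) (M := EA p V hV)).comp (linRep hV ρ)

theorem linEnd_of (ρ : Γ →* MulAut V) (g : Γ) (v : V) :
    linEnd hV ρ g (EA.of hV v) = EA.of hV (ρ g v) := rfl

theorem linEnd_apply (ρ : Γ →* MulAut V) (g : Γ) (w : EA p V hV) :
    linEnd hV ρ g w = EA.of hV (ρ g (EA.to hV w)) := rfl

theorem linEnd_injective (ρ : Γ →* MulAut V) (hρ : Function.Injective ρ) :
    Function.Injective (linEnd hV ρ) := by
  intro a b hab
  apply linRep_injective hV ρ hρ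
  exact LinearEquiv.toLinearMap_injective hab

/-- The sum of the first `k` powers of `x` is the norm. -/
theorem sum_linEnd_pow_apply (ρ : Γ →* MulAut V) (x : Γ) (k : ℕ) (w : EA p V hV) :
    (∑ j ∈ Finset.range k, (linEnd hV ρ x) ^ j) w = EA.of hV (nrm ρ x k (EA.to hV w)) := by
  rw [LinearMap.sum_apply]
  have hterm : ∀ j ∈ Finset.range k,
      ((linEnd hV ρ x) ^ j) w = EA.of hV (ρ (x ^ j) (EA.to hV w)) := by
    intro j _
    rw [← map_pow]
    rfl
  rw [Finset.sum_congr rfl hterm, ← EA.of_prod]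
  rfl

/-- In characteristic `p`, `(f - 1) ^ (p ^ n - 1)` is the geometric sum. -/
theorem sub_one_pow_eq_sum [hp : Fact p.Prime] {M : Type*} [AddCommGroup M] [Module (ZMod p) M]
    (f : Module.End (ZMod p) M) (n : ℕ) :
    (f - 1) ^ (p ^ n - 1) = ∑ j ∈ Finset.range (p ^ n), f ^ j := by
  have := congrArg (aeval f) (geom_sum_X_char p n)
  rw [map_sum, map_pow, map_sub, aeval_X, map_one] at this
  simp only [map_pow, aeval_X] at this
  exact this.symm

/-- In characteristic `p`, `(f - 1) ^ (p ^ n) = f ^ (p ^ n) - 1`. -/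
theorem sub_one_pow_char [hp : Fact p.Prime] {M : Type*} [AddCommGroup M] [Module (ZMod p) M]
    (f : Module.End (ZMod p) M) (n : ℕ) :
    (f - 1) ^ (p ^ n) = f ^ (p ^ n) - 1 := by
  have h2 : ((X : (ZMod p)[X]) - 1) ^ p ^ n = X ^ p ^ n - 1 := by
    rw [sub_pow_char_pow, one_pow]
  have := congrArg (aeval f) h2
  rw [map_pow, map_sub, aeval_X, map_one, map_sub, map_pow, aeval_X, map_one] at this
  exact this

/-- If the norm of `x` of length `p ^ n` is trivial on `V` then `(x - 1) ^ (p ^ n - 1) = 0`. -/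
theorem lin_sub_one_pow_eq_zero [hp : Fact p.Prime] (ρ : Γ →* MulAut V) (x : Γ) (n : ℕ)
    (h : ∀ v : V, nrm ρ x (p ^ n) v = 1) :
    (linEnd hV ρ x - 1) ^ (p ^ n - 1) = 0 := by
  rw [sub_one_pow_eq_sum]
  apply LinearMap.ext
  intro w
  rw [sum_linEnd_pow_apply, h]
  rfl

include hV in
/-- **From Theorem B to the two-level inequality**: `p` odd, `x` of order `p ^ (m + 1)`: there is
`v` whose partial norm `N_{p^m}(x) v` is not fixed by `x ^ p ^ m`. -/
theorem exists_twoLevel_ne [hp : Fact p.Prime] [Finite Γ] [Finite V] [Nontrivial V]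
    (hB : ThmB.{u} p) (hp2 : p ≠ 2) (hsol : IsPSolvable p Γ) (hO : pCore p Γ = ⊥)
    (ρ : Γ →* MulAut V) (hρ : Function.Injective ρ)
    (x : Γ) (m : ℕ) (hx : orderOf x = p ^ (m + 1)) :
    ∃ v : V, ρ (x ^ p ^ m) (nrm ρ x (p ^ m) v) ≠ nrm ρ x (p ^ m) v := by
  classical
  have hLinj := linRep_injective hV ρ hρ
  let H : Subgroup (EA p V hV ≃ₗ[ZMod p] EA p V hV) := (linRep hV ρ).range
  let e : Γ ≃* H := MonoidHom.ofInjective hLinj
  have : Finite H := Finite.of_equiv Γ e.toEquiv
  have hHsol : IsPSolvable p H := Cfsg.Agent.Lib.Helper76.isPSolvable_of_mulEquiv e hsol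
  have hHO : pCore p H = ⊥ := by
    rw [← Cfsg.Agent.Lib.Helper11.pCore_map_equiv' p e, hO, Subgroup.map_bot]
  have : Finite (EA p V hV) := inferInstanceAs (Finite (Additive V))
  have : Nontrivial (EA p V hV) := inferInstanceAs (Nontrivial (Additive V))
  have : FiniteDimensional (ZMod p) (EA p V hV) := Module.Finite.of_finite
  have hxH : linRep hV ρ x ∈ H := ⟨x, rfl⟩
  have hord : orderOf (linRep hV ρ x) = p ^ (m + 1) := by
    rw [orderOf_injective (linRep hV ρ) hLinj, hx]
  set f : Module.End (ZMod p) (EA p V hV) := linEnd hV ρ x with hf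
  have hfpow : ∀ j : ℕ, f ^ j = linEnd hV ρ (x ^ j) := by
    intro j
    rw [hf, ← map_pow]
  have hfone : f ^ (p ^ (m + 1)) = 1 := by
    rw [hfpow, ← hx, pow_orderOf_eq_one, map_one]
  have hann : aeval f (((X : (ZMod p)[X]) - 1) ^ p ^ (m + 1)) = 0 := by
    rw [sub_pow_char_pow, one_pow, map_sub, map_pow, aeval_X, map_one, hfone, sub_self]
  have hdvd : minpoly (ZMod p) f ∣ ((X : (ZMod p)[X]) - 1) ^ p ^ (m + 1) := minpoly.dvd _ _ hann
  have hprime : Prime ((X : (ZMod p)[X]) - 1) := by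
    have := Polynomial.prime_X_sub_C (1 : ZMod p)
    simpa using this
  have hint : IsIntegral (ZMod p) f := Algebra.IsIntegral.isIntegral f
  obtain ⟨r, hrle, hr⟩ := (dvd_prime_pow hprime _).1 hdvd
  have hmonic : (((X : (ZMod p)[X]) - 1) ^ r).Monic := by
    have := (Polynomial.monic_X_sub_C (1 : ZMod p)).pow r
    simpa using this
  have hr' : minpoly (ZMod p) f = (X - 1) ^ r :=
    Polynomial.eq_of_monic_of_associated (minpoly.monic hint) hmonic hr
  have hp3 : 3 ≤ p := by
    have := hp.out.two_le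
    omega
  have hMpos : 0 < p ^ m := pow_pos hp.out.pos m
  -- the degree is at least `2 p^m`
  have hrbig : 2 * p ^ m ≤ r := by
    rcases hB H hHsol hHO (linRep hV ρ x) hxH (m + 1) hord r hr' with
      h | ⟨n₀, q, k, h1, h2, _, _, _, _, hle⟩
    · rw [h, pow_succ]
      nlinarith
    · refine le_trans ?_ hle
      have hA : p ^ (m + 1 - n₀) ≤ p ^ m := Nat.pow_le_pow_right hp.out.pos (by omega)
      have hAB : p ^ (m + 1 - n₀) * p ^ n₀ = p ^ m * p := by
        rw [← pow_add, ← pow_succ]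
        congr 1
        omega
      have h3M : p ^ m * 3 ≤ p ^ m * p := Nat.mul_le_mul_left _ hp3
      rw [Nat.mul_sub_one]
      omega
  have hg : (f - 1) ^ (2 * p ^ m - 1) ≠ 0 := by
    intro hg0
    have h0 : aeval f (((X : (ZMod p)[X]) - 1) ^ (2 * p ^ m - 1)) = 0 := by
      rw [map_pow, map_sub, aeval_X, map_one, hg0]
    have hd := minpoly.dvd _ _ h0
    rw [hr'] at hd
    have hne0 : (((X : (ZMod p)[X]) - 1) ^ (2 * p ^ m - 1)) ≠ 0 := pow_ne_zero _ hprime.ne_zero
    have hle := Polynomial.natDegree_le_of_dvd hd hne0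
    have hdeg : ∀ k : ℕ, (((X : (ZMod p)[X]) - 1) ^ k).natDegree = k := by
      intro k
      have h1 := Polynomial.Monic.natDegree_pow (Polynomial.monic_X_sub_C (1 : ZMod p)) k
      rw [Polynomial.natDegree_X_sub_C, mul_one, map_one] at h1
      exact h1
    rw [hdeg, hdeg] at hle
    omega
  have hsplit : (f - 1) ^ (2 * p ^ m - 1) =
      (f ^ (p ^ m) - 1) * ∑ j ∈ Finset.range (p ^ m), f ^ j := by
    rw [← sub_one_pow_char, ← sub_one_pow_eq_sum, ← pow_add]
    congr 1
    omega
  obtain ⟨w, hw⟩ : ∃ w, ((f - 1) ^ (2 * p ^ m - 1)) w ≠ 0 := by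
    by_contra hcon
    push Not at hcon
    exact hg (LinearMap.ext hcon)
  refine ⟨EA.to hV w, ?_⟩
  intro hfix
  apply hw
  rw [hsplit, Module.End.mul_apply, hf, sum_linEnd_pow_apply, LinearMap.sub_apply,
    Module.End.one_apply, ← map_pow, linEnd_of, hfix, sub_self]

end bridge2

end Cfsg.Agent.Lib.Helper53
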