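import Mathlib
import Cfsg.Prelude.Def_Local
import Cfsg.Agent.Lib.Helper53.HHTwoLevelA
import Cfsg.Agent.Lib.Helper66.HHPairDefs
import Cfsg.Agent.Lib.Helper66.PSolvDual
import Cfsg.Agent.Lib.Helper66.SylowGen
import Cfsg.Agent.Lib.Helper64.InvSylow
import Cfsg.Agent.Lib.Helper55.Cores
import Cfsg.Agent.Lib.Helper55.SolvCore

/-!
# The two-level Hall–Higman lemma, part 1: the commutator lies in `O_{p'}`
-/

set_option autoImplicit false
set_option linter.unusedSectionVars false

namespace Cfsg.Agent.Lib.Helper53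

open Cfsg
open scoped IsMulCommutative commutatorElement TensorProduct
open Cfsg.Agent.Lib.Helper63.Frob (nrm)
open Cfsg.Agent.Lib.Helper66.HHPair (PairStmt)

universe u

section repK

variable {p : ℕ} [hp : Fact p.Prime] {Γ V : Type u} [Group Γ] [Group V] [IsMulCommutative V]
variable (hV : ∀ v : V, v ^ p = 1)

/-- The algebraically closed field of characteristic `p`. -/
abbrev KK (p : ℕ) [Fact p.Prime] : Type := AlgebraicClosure (ZMod p)

instance : CharP (KK p) p := charP_of_injective_algebraMap (algebraMap (ZMod p) (KK p)).injective p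

/-- The base-changed module. -/
abbrev VK : Type u := KK p ⊗[ZMod p] EA p V hV

/-- The base change of the linearised action. -/
noncomputable def repK (ρ : Γ →* MulAut V) : Γ →* Module.End (KK p) (VK hV) :=
  ((Module.End.baseChangeHom (ZMod p) (KK p) (EA p V hV) :
      Module.End (ZMod p) (EA p V hV) →ₐ[ZMod p] Module.End (KK p) (VK hV)) :
    Module.End (ZMod p) (EA p V hV) →* Module.End (KK p) (VK hV)).comp (linEnd hV ρ)

theorem repK_apply (ρ : Γ →* MulAut V) (g : Γ) :
    repK hV ρ g = Module.End.baseChangeHom (ZMod p) (KK p) (EA p V hV) (linEnd hV ρ g) := rfl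

theorem repK_injective (ρ : Γ →* MulAut V) (hρ : Function.Injective ρ) :
    Function.Injective (repK hV ρ) := by
  intro a b hab
  rw [repK_apply, repK_apply] at hab
  exact linEnd_injective hV ρ hρ (LinearMap.baseChangeHom_injective (ZMod p) (EA p V hV) (KK p) hab)

theorem repK_sub_one_pow_eq_zero (ρ : Γ →* MulAut V) (x : Γ) (n : ℕ)
    (h : ∀ v : V, nrm ρ x (p ^ n) v = 1) :
    (repK hV ρ x - 1) ^ (p ^ n - 1) = 0 := by
  have h1 := lin_sub_one_pow_eq_zero hV ρ x n h
  have : repK hV ρ x - 1 =
      Module.End.baseChangeHom (ZMod p) (KK p) (EA p V hV) (linEnd hV ρ x - 1) := by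
    rw [map_sub, map_one]; rfl
  rw [this, ← map_pow, h1, map_zero]

instance [Finite V] : FiniteDimensional (KK p) (VK hV) := by
  have : Finite (EA p V hV) := inferInstanceAs (Finite (Additive V))
  have : FiniteDimensional (ZMod p) (EA p V hV) := Module.Finite.of_finite
  infer_instance

end repK

section part1

variable {p : ℕ} [hp : Fact p.Prime]

/-- **Part 1**: `H` is `p`-solvable with `O_p(H) = 1`, acting faithfully on the elementary abelian
`p`-group `V`; `T` is a `p`-subgroup all of whose elements `h` satisfy `h ^ p ^ (m+1) = 1` and have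
trivial norm of length `p ^ (m+1)` on `V`.  Then (given the pair statement) the commutator of the
`p ^ m`-th powers of two elements of `T` lies in `O_{p'}(H)`. -/
theorem comm_pow_mem_pPrimeCore (hC : PairStmt.{u, 0, u, u} p)
    {H V : Type u} [Group H] [Finite H] [Group V] [IsMulCommutative V] [Finite V]
    (hV : ∀ v : V, v ^ p = 1)
    (hsol : IsPSolvable p H) (hO : pCore p H = ⊥)
    (ρ : H →* MulAut V) (hρ : Function.Injective ρ)
    (T : Subgroup H) (hT : IsPGroup p T) (m : ℕ)
    (hTexp : ∀ h ∈ T, h ^ p ^ (m + 1) = 1 ∧ ∀ v : V, nrm ρ h (p ^ (m + 1)) v = 1)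
    (x y : H) (hx : x ∈ T) (hy : y ∈ T) :
    ⁅x ^ p ^ m, y ^ p ^ m⁆ ∈ pPrimeCore p H := by
  classical
  have hNn : (pPrimeCore p H).Normal := Cfsg.Agent.Lib.Helper55.pPrimeCore_normal' p
  have hNcop : (Nat.card (pPrimeCore p H)).Coprime p :=
    Cfsg.Agent.Lib.Helper55.pPrimeCore_card_coprime p
  have hpN : ¬ p ∣ Nat.card (pPrimeCore p H) := by
    intro h
    exact (Nat.Prime.coprime_iff_not_dvd hp.out).mp hNcop.symm h
  have hinj := repK_injective hV ρ hρ
  set c : H := ⁅x ^ p ^ m, y ^ p ^ m⁆ with hc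
  apply Cfsg.Agent.Lib.Helper66.PSolvDual.centralizer_pPrimeCore_le_of_isPSolvable hsol hO
  rw [Subgroup.mem_centralizer_iff]
  have hM : (Subgroup.centralizer ({c} : Set H)).subgroupOf (pPrimeCore p H) = ⊤ := by
    apply Cfsg.Agent.Lib.Helper66.eq_top_of_forall_sylow_le
    intro q hq
    obtain ⟨P, hP⟩ := Cfsg.Agent.Lib.Helper64.exists_invariant_sylow (p := p) (q := q)
      (pPrimeCore p H) hpN hT
    refine ⟨P, ?_⟩
    intro g hg
    rw [Subgroup.mem_subgroupOf, Subgroup.mem_centralizer_singleton_iff]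
    by_cases hqp : q = p
    · subst hqp
      obtain ⟨k, hk⟩ := P.2 ⟨g, hg⟩
      have hk' : g ^ (q ^ k) = 1 := by
        have := congrArg Subtype.val hk
        simpa using this
      have h1 : orderOf g ∣ q ^ k := orderOf_dvd_of_pow_eq_one hk'
      have h2 : orderOf g ∣ Nat.card (pPrimeCore q H) := orderOf_dvd_natCard g
      have hcop' : Nat.Coprime (q ^ k) (Nat.card (pPrimeCore q H)) :=
        (Nat.Coprime.pow_right k hNcop).symm
      have h3 : orderOf g = 1 := by
        have := Nat.dvd_gcd h1 h2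
        rw [hcop'.gcd_eq_one] at this
        exact Nat.dvd_one.mp this
      rw [orderOf_eq_one_iff] at h3
      rw [h3]; simp
    · -- the pair statement
      set Q : Subgroup H := (P : Subgroup (pPrimeCore p H)).map (pPrimeCore p H).subtype with hQdef
      have hQ : IsPGroup q Q := P.2.map _
      have hgQ : (g : H) ∈ Q := ⟨g, hg, rfl⟩
      have hTQ : T ≤ Subgroup.normalizer (Q : Set H) := by
        intro t ht
        rw [Subgroup.mem_normalizer_iff]
        intro b
        constructor
        · intro hb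
          exact hP t ht b hb
        · intro hb
          have := hP t⁻¹ (T.inv_mem ht) _ hb
          simpa [mul_assoc] using this
      let θ : T →* MulAut Q := (Q.normalizerMonoidHom).comp (Subgroup.inclusion hTQ)
      have hθ : ∀ (t : T) (u : Q), ((θ t u : Q) : H) = (t : H) * u * (t : H)⁻¹ := fun t u => rfl
      let r : Q →* Module.End (KK p) (VK hV) := (repK hV ρ).comp Q.subtype
      let ρT : T →* Module.End (KK p) (VK hV) := (repK hV ρ).comp T.subtype
      have hr : ∀ u : Q, r u = repK hV ρ (u : H) := fun u => rfl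
      have hρT : ∀ t : T, ρT t = repK hV ρ (t : H) := fun t => rfl
      have hcompat : ∀ (t : T) (u : Q), ρT t * r u = r (θ t u) * ρT t := by
        intro t u
        rw [hr, hr, hρT, hθ, ← map_mul, ← map_mul]
        congr 1
        group
      have hxe := hTexp x hx
      have hye := hTexp y hy
      have key := hC (KK p) q hq.out hqp Q hQ (VK hV) T hT r θ ρT hcompat ⟨x, hx⟩ ⟨y, hy⟩
        (m + 1) (m + 1) (by omega) (by omega)
        (Subtype.ext hxe.1) (repK_sub_one_pow_eq_zero hV ρ x (m + 1) hxe.2)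
        (Subtype.ext hye.1) (repK_sub_one_pow_eq_zero hV ρ y (m + 1) hye.2) ⟨g, hgQ⟩
      rw [Nat.add_sub_cancel] at key
      have hcT : ((⁅(⟨x, hx⟩ : T) ^ p ^ m, (⟨y, hy⟩ : T) ^ p ^ m⁆ : T) : H) = c := by
        rw [hc]
        have := map_commutatorElement T.subtype ((⟨x, hx⟩ : T) ^ p ^ m) ((⟨y, hy⟩ : T) ^ p ^ m)
        rw [map_pow, map_pow] at this
        exact this
      rw [hr, hρT, hcT, ← map_mul, ← map_mul] at key
      exact (hinj key).symm
  intro h hh
  have : (⟨h, hh⟩ : pPrimeCore p H) ∈
      (Subgroup.centralizer ({c} : Set H)).subgroupOf (pPrimeCore p H) := by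
    rw [hM]; trivial
  rw [Subgroup.mem_subgroupOf, Subgroup.mem_centralizer_singleton_iff] at this
  exact this

end part1

end Cfsg.Agent.Lib.Helper53
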