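import Mathlib
import Cfsg.Prelude.Def_Local
import Cfsg.Agent.Lib.Helper53.HHTwoLevelA
import Cfsg.Agent.Lib.Helper53.HHB5

/-!
# The two-level Hall–Higman lemma, part 2: a commutator outside `O_{p'}`
-/

set_option autoImplicit false
set_option linter.unusedSectionVars false

namespace Cfsg.Agent.Lib.Helper53

open Cfsg
open scoped IsMulCommutative commutatorElement
open Cfsg.Agent.Lib.Helper63.Frob (nrm nc FQ frActQ frActQ_mk mk_nc nc_mem mul_pow_eq
  isMulCommutative_FQ)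

universe u

section faithful

variable {p : ℕ} [hp : Fact p.Prime]

/-- Hall–Higman 1.2.5 as the faithfulness of the action of `G / O_p(G)` on the Frattini quotient
of `O_p(G)` when `O_{p'}(G) = 1`. -/
theorem frActQ_pCore_injective {G : Type u} [Group G] [Finite G] (hsol : IsPSolvable p G)
    (hO : pPrimeCore p G = ⊥) (hNp : IsPGroup p (pCore p G)) :
    Function.Injective (frActQ (pCore p G) hNp) := by
  rw [injective_iff_map_eq_one]
  intro g hg
  obtain ⟨g, rfl⟩ := QuotientGroup.mk_surjective g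
  rw [QuotientGroup.eq_one_iff]
  apply (Cfsg.Agent.Lib.Helper76.hallHigman_125 hsol hO g).1
  intro u hu
  have h1 := congrArg (fun f => f (QuotientGroup.mk (⟨u, hu⟩ : ↥(pCore p G)))) hg
  simp only [frActQ_mk, MulAut.one_apply] at h1
  have h2 := (QuotientGroup.eq).1 h1.symm
  have h3 := (frattini ↥(pCore p G)).normal_of_characteristic.conj_mem _ h2 ⟨u, hu⟩
  refine ⟨_, h3, ?_⟩
  simp [MulAut.conjNormal_apply, mul_assoc]

end faithful

section part2

variable {p : ℕ} [hp : Fact p.Prime]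

/-- **Part 2**: if `x` in a Sylow `p`-subgroup `T` of the `p`-solvable group `H` has
`x ^ p ^ (m+1) = 1` but `x ^ p ^ m ∉ O_{p',p}(H)`, then (given Theorem B, `p` odd) there is `w ∈ T`
such that the commutator of `x ^ p ^ m` and `(w x) ^ p ^ m` is not in `O_{p'}(H)`. -/
theorem exists_comm_notMem (hB : ThmB.{u} p) (hp2 : p ≠ 2)
    {H : Type u} [Group H] [Finite H] (hsol : IsPSolvable p H)
    (T : Sylow p H) (x : H) (m : ℕ) (hxm : x ^ p ^ (m + 1) = 1)
    (hxL : x ^ p ^ m ∉ pPrimePCore p H) :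
    ∃ w ∈ (T : Subgroup H), ⁅x ^ p ^ m, (w * x) ^ p ^ m⁆ ∉ pPrimeCore p H := by
  classical
  -- the quotient `H̄ = H / O_{p'}(H)`
  have hπ : Function.Surjective (QuotientGroup.mk' (pPrimeCore p H)) :=
    QuotientGroup.mk'_surjective _
  have hsol' : IsPSolvable p (H ⧸ pPrimeCore p H) :=
    Cfsg.Agent.Lib.Helper76.isPSolvable_quotient _ hsol
  have hO' : pPrimeCore p (H ⧸ pPrimeCore p H) = ⊥ :=
    Cfsg.Agent.Lib.Helper30.pPrimeCore_quotient_eq_bot p
  have hMp : IsPGroup p (pCore p (H ⧸ pPrimeCore p H)) := Cfsg.Agent.Lib.Helper55.pCore_isPGroup p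
  -- `Γ = H̄ / O_p(H̄)`
  have hsolΓ : IsPSolvable p ((H ⧸ pPrimeCore p H) ⧸ pCore p (H ⧸ pPrimeCore p H)) :=
    Cfsg.Agent.Lib.Helper76.isPSolvable_quotient _ hsol'
  have hOΓ : pCore p ((H ⧸ pPrimeCore p H) ⧸ pCore p (H ⧸ pPrimeCore p H)) = ⊥ :=
    Cfsg.Agent.Lib.Helper47.pCore_quotient_pCore_eq_bot p
  have := isMulCommutative_FQ (pCore p (H ⧸ pPrimeCore p H)) hMp
  have hρ := frActQ_pCore_injective hsol' hO' hMp
  set xb : H ⧸ pPrimeCore p H := QuotientGroup.mk x with hxb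
  set yb : (H ⧸ pPrimeCore p H) ⧸ pCore p (H ⧸ pPrimeCore p H) := QuotientGroup.mk xb with hyb
  have hyb1 : yb ^ p ^ (m + 1) = 1 := by
    rw [hyb, ← QuotientGroup.mk_pow, hxb, ← QuotientGroup.mk_pow, hxm]; rfl
  have hyb2 : ¬ yb ^ p ^ m = 1 := by
    rw [hyb, ← QuotientGroup.mk_pow, QuotientGroup.eq_one_iff]
    intro h
    apply hxL
    show (QuotientGroup.mk' (pPrimeCore p H)) (x ^ p ^ m) ∈ pCore p (H ⧸ pPrimeCore p H)
    rw [map_pow]
    exact h
  have hord : orderOf yb = p ^ (m + 1) := orderOf_eq_prime_pow hyb2 hyb1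
  have : Nontrivial (FQ (pCore p (H ⧸ pPrimeCore p H))) := by
    by_contra hnt
    rw [not_nontrivial_iff_subsingleton] at hnt
    apply hyb2
    apply hρ
    rw [map_one]
    apply MulEquiv.ext
    intro v
    exact Subsingleton.elim _ _
  obtain ⟨v, hv⟩ := exists_twoLevel_ne (fq_pow (pCore p (H ⧸ pPrimeCore p H)) hMp) hB hp2 hsolΓ hOΓ
    (frActQ (pCore p (H ⧸ pPrimeCore p H)) hMp) hρ yb m hord
  obtain ⟨⟨ub, hub⟩, rfl⟩ := QuotientGroup.mk_surjective v
  -- lift `ub` into `T`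
  have hMT : pCore p (H ⧸ pPrimeCore p H) ≤ ((T.mapSurjective hπ : Sylow p (H ⧸ pPrimeCore p H)) :
      Subgroup (H ⧸ pPrimeCore p H)) := Cfsg.Agent.Lib.Helper11.pCore_le_sylow _
  have hub' := hMT hub
  rw [Sylow.coe_mapSurjective] at hub'
  obtain ⟨w, hwT, hw⟩ := hub'
  refine ⟨w, hwT, ?_⟩
  intro hc
  apply hv
  have hwb : (QuotientGroup.mk w : H ⧸ pPrimeCore p H) = ub := hw
  -- the computation in `H̄`
  have hnc : (QuotientGroup.mk (nc w x (p ^ m)) : H ⧸ pPrimeCore p H) = nc ub xb (p ^ m) := by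
    have := map_nc (QuotientGroup.mk' (pPrimeCore p H)) w x (p ^ m)
    rw [QuotientGroup.mk'_apply, QuotientGroup.mk'_apply, QuotientGroup.mk'_apply, hwb] at this
    exact this
  have hconj : xb ^ p ^ m * nc ub xb (p ^ m) * (xb ^ p ^ m)⁻¹ = nc ub xb (p ^ m) := by
    have h1 : ⁅x ^ p ^ m, (w * x) ^ p ^ m⁆ =
        x ^ p ^ m * nc w x (p ^ m) * (x ^ p ^ m)⁻¹ * (nc w x (p ^ m))⁻¹ := by
      rw [mul_pow_eq, commutatorElement_def]
      group
    rw [h1] at hc
    have h2 := (QuotientGroup.eq_one_iff _).2 hc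
    rw [QuotientGroup.mk_mul, QuotientGroup.mk_mul, QuotientGroup.mk_mul, QuotientGroup.mk_inv,
      QuotientGroup.mk_inv, QuotientGroup.mk_pow, hnc] at h2
    exact mul_inv_eq_one.1 h2
  have h3 := mk_nc (pCore p (H ⧸ pPrimeCore p H)) hMp hub xb (p ^ m)
  rw [← h3, hyb, ← QuotientGroup.mk_pow, frActQ_mk]
  congr 1
  apply Subtype.ext
  rw [MulAut.conjNormal_apply]
  exact hconj

end part2

end Cfsg.Agent.Lib.Helper53
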