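import Mathlib
import Cfsg.Prelude.Def_Local
import Cfsg.Agent.Lib.Helper53.HHTwoLevelB
import Cfsg.Agent.Lib.Helper53.HHTwoLevelC
import Cfsg.Agent.Lib.Helper66.HHQuadDefs

/-!
# Hall–Higman `l_p ≤ d_p`: the group-theoretic key lemma

`key_derived`: `G` `p`-solvable with `O_{p'}(G) = 1`, `P` a Sylow `p`-subgroup of derived length at
most `d + 1`: then `P^{(d)} ≤ O_p(G)` (given the quadratic statement `QuadStmt p` of helper66).
-/

set_option autoImplicit false
set_option linter.unusedSectionVars false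

namespace Cfsg.Agent.Lib.Helper53.HHDer

open Cfsg
open scoped IsMulCommutative commutatorElement TensorProduct
open Cfsg.Agent.Lib.Helper53
open Cfsg.Agent.Lib.Helper63.Frob (nrm nc FQ frActQ frActQ_mk mk_nc nc_mem mul_pow_eq
  isMulCommutative_FQ)
open Cfsg.Agent.Lib.Helper66.HHPair (QuadStmt)

universe u

section bridge

variable {p : ℕ} {Γ V : Type u} [Group Γ] [Group V] [IsMulCommutative V]
variable (hV : ∀ v : V, v ^ p = 1)

theorem linEnd_sub_one_of (ρ : Γ →* MulAut V) (g : Γ) (v : V) :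
    (linEnd hV ρ g - 1) (EA.of hV v) = EA.of hV (ρ g v * v⁻¹) := by
  rw [LinearMap.sub_apply, Module.End.one_apply, linEnd_of, ← div_eq_mul_inv]
  rfl

/-- A product of two operators `g - 1` vanishes if the corresponding iterated commutator map
vanishes on a generating "chart" `π : U → V`. -/
theorem lin_quad2_of {U : Type*} (π : U → V) (hπ : Function.Surjective π) (ρ : Γ →* MulAut V)
    (x y : Γ) (cx cy : U → U)
    (hx : ∀ u, ρ x (π u) * (π u)⁻¹ = π (cx u))
    (hy : ∀ u, ρ y (π u) * (π u)⁻¹ = π (cy u))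
    (h : ∀ u, π (cx (cy u)) = 1) :
    (linEnd hV ρ x - 1) * (linEnd hV ρ y - 1) = 0 := by
  apply LinearMap.ext
  intro w
  obtain ⟨u, hu⟩ := hπ (EA.to hV w)
  have hw : w = EA.of hV (π u) := by rw [hu]; rfl
  rw [hw, Module.End.mul_apply, linEnd_sub_one_of, hy, linEnd_sub_one_of, hx, h]
  rfl

theorem lin_quad3_of {U : Type*} (π : U → V) (hπ : Function.Surjective π) (ρ : Γ →* MulAut V)
    (x y z : Γ) (cx cy cz : U → U)
    (hx : ∀ u, ρ x (π u) * (π u)⁻¹ = π (cx u))
    (hy : ∀ u, ρ y (π u) * (π u)⁻¹ = π (cy u))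
    (hz : ∀ u, ρ z (π u) * (π u)⁻¹ = π (cz u))
    (h : ∀ u, π (cx (cy (cz u))) = 1) :
    (linEnd hV ρ x - 1) * ((linEnd hV ρ y - 1) * (linEnd hV ρ z - 1)) = 0 := by
  apply LinearMap.ext
  intro w
  obtain ⟨u, hu⟩ := hπ (EA.to hV w)
  have hw : w = EA.of hV (π u) := by rw [hu]; rfl
  rw [hw, Module.End.mul_apply, Module.End.mul_apply, linEnd_sub_one_of, hz, linEnd_sub_one_of, hy,
    linEnd_sub_one_of, hx, h]
  rfl

variable [hp : Fact p.Prime]

theorem repK_sub_one (ρ : Γ →* MulAut V) (g : Γ) :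
    repK hV ρ g - 1 =
      Module.End.baseChangeHom (ZMod p) (KK p) (EA p V hV) (linEnd hV ρ g - 1) := by
  rw [map_sub, map_one]; rfl

theorem repK_quad2 (ρ : Γ →* MulAut V) (x y : Γ)
    (h : (linEnd hV ρ x - 1) * (linEnd hV ρ y - 1) = 0) :
    (repK hV ρ x - 1) * (repK hV ρ y - 1) = 0 := by
  rw [repK_sub_one, repK_sub_one, ← map_mul, h, map_zero]

theorem repK_quad3 (ρ : Γ →* MulAut V) (x y z : Γ)
    (h : (linEnd hV ρ x - 1) * ((linEnd hV ρ y - 1) * (linEnd hV ρ z - 1)) = 0) :
    (repK hV ρ x - 1) * ((repK hV ρ y - 1) * (repK hV ρ z - 1)) = 0 := by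
  rw [repK_sub_one, repK_sub_one, repK_sub_one, ← map_mul, ← map_mul, h, map_zero]

end bridge

section part1

variable {p : ℕ} [hp : Fact p.Prime]

/-- `H` is `p`-solvable with `O_p(H) = 1`, acting faithfully on the elementary abelian `p`-group
`V`; `T` is a `p`-subgroup whose derived subgroup acts quadratically and kills `[V,T,T]`. Then
(given the quadratic statement) `T' ≤ O_{p'}(H)`. -/
theorem comm_mem_pPrimeCore_of_quad (hC : QuadStmt.{u, 0, u, u} p)
    {H V : Type u} [Group H] [Finite H] [Group V] [IsMulCommutative V] [Finite V]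
    (hV : ∀ v : V, v ^ p = 1)
    (hsol : IsPSolvable p H) (hO : pCore p H = ⊥)
    (ρ : H →* MulAut V) (hρ : Function.Injective ρ)
    (T : Subgroup H) (hT : IsPGroup p T)
    (hq1 : ∀ x ∈ ⁅T, T⁆, (repK hV ρ x - 1) * (repK hV ρ x - 1) = 0)
    (hq2 : ∀ x ∈ ⁅T, T⁆, ∀ g ∈ T, ∀ h ∈ T,
      (repK hV ρ x - 1) * ((repK hV ρ g - 1) * (repK hV ρ h - 1)) = 0)
    (c : H) (hc : c ∈ ⁅T, T⁆) : c ∈ pPrimeCore p H := by
  classical
  have hNn : (pPrimeCore p H).Normal := Cfsg.Agent.Lib.Helper55.pPrimeCore_normal' p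
  have hNcop : (Nat.card (pPrimeCore p H)).Coprime p :=
    Cfsg.Agent.Lib.Helper55.pPrimeCore_card_coprime p
  have hpN : ¬ p ∣ Nat.card (pPrimeCore p H) := by
    intro h
    exact (Nat.Prime.coprime_iff_not_dvd hp.out).mp hNcop.symm h
  have hinj := repK_injective hV ρ hρ
  have hcomm : (commutator ↥T).map T.subtype = ⁅T, T⁆ := by
    rw [commutator_def, Subgroup.map_commutator, ← MonoidHom.range_eq_map, Subgroup.range_subtype]
  have hmem : ∀ x ∈ commutator ↥T, (x : H) ∈ ⁅T, T⁆ := by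
    intro x hx
    rw [← hcomm]
    exact Subgroup.mem_map_of_mem _ hx
  obtain ⟨c', hc', hcc'⟩ : ∃ c' ∈ commutator ↥T, T.subtype c' = c := by
    rw [← hcomm] at hc
    exact hc
  apply Cfsg.Agent.Lib.Helper66.PSolvDual.centralizer_pPrimeCore_le_of_isPSolvable hsol hO
  rw [Subgroup.mem_centralizer_iff]
  have hM : (Subgroup.centralizer ({c} : Set H)).subgroupOf (pPrimeCore p H) = ⊤ := by
    apply Cfsg.Agent.Lib.Helper66.eq_top_of_forall_sylow_le
    intro q hq
    obtain ⟨P, hP⟩ := Cfsg.Agent.Lib.Helper64.exists_invariant_sylow (p := p) (q := q)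
      (pPrimeCore p H) hpN hT
    refine ⟨P, ?_⟩
    intro g hg
    rw [Subgroup.mem_subgroupOf, Subgroup.mem_centralizer_singleton_iff]
    by_cases hqp : q = p
    · subst hqp
      obtain ⟨k, hk⟩ := P.2 ⟨g, hg⟩
      have hk' : g ^ (q ^ k) = 1 := by
        have := congrArg Subtype.val hk
        simpa using this
      have h1 : orderOf g ∣ q ^ k := orderOf_dvd_of_pow_eq_one hk'
      have h2 : orderOf g ∣ Nat.card (pPrimeCore q H) := orderOf_dvd_natCard g
      have hcop' : Nat.Coprime (q ^ k) (Nat.card (pPrimeCore q H)) :=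
        (Nat.Coprime.pow_right k hNcop).symm
      have h3 : orderOf g = 1 := by
        have := Nat.dvd_gcd h1 h2
        rw [hcop'.gcd_eq_one] at this
        exact Nat.dvd_one.mp this
      rw [orderOf_eq_one_iff] at h3
      rw [h3]; simp
    · set Q : Subgroup H := (P : Subgroup (pPrimeCore p H)).map (pPrimeCore p H).subtype with hQdef
      have hQ : IsPGroup q Q := P.2.map _
      have hgQ : (g : H) ∈ Q := ⟨g, hg, rfl⟩
      have hTQ : T ≤ Subgroup.normalizer (Q : Set H) := by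
        intro t ht
        rw [Subgroup.mem_normalizer_iff]
        intro b
        constructor
        · intro hb
          exact hP t ht b hb
        · intro hb
          have := hP t⁻¹ (T.inv_mem ht) _ hb
          simpa [mul_assoc] using this
      let θ : T →* MulAut Q := (Q.normalizerMonoidHom).comp (Subgroup.inclusion hTQ)
      have hθ : ∀ (t : T) (u : Q), ((θ t u : Q) : H) = (t : H) * u * (t : H)⁻¹ := fun t u => rfl
      let r : Q →* Module.End (KK p) (VK hV) := (repK hV ρ).comp Q.subtype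
      let ρT : T →* Module.End (KK p) (VK hV) := (repK hV ρ).comp T.subtype
      have hr : ∀ u : Q, r u = repK hV ρ (u : H) := fun u => rfl
      have hρT : ∀ t : T, ρT t = repK hV ρ (t : H) := fun t => rfl
      have hcompat : ∀ (t : T) (u : Q), ρT t * r u = r (θ t u) * ρT t := by
        intro t u
        rw [hr, hr, hρT, hθ, ← map_mul, ← map_mul]
        congr 1
        group
      have key := hC (KK p) q hq.out hqp Q hQ (VK hV) T hT r θ ρT hcompat
        (fun x hx => hq1 _ (hmem x hx))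
        (fun x hx g h => hq2 _ (hmem x hx) _ g.2 _ h.2) c' hc' ⟨g, hgQ⟩
      rw [hr, hρT, ← map_mul, ← map_mul] at key
      have hcc'' : (c' : H) = c := hcc'
      rw [hcc''] at key
      exact (hinj key).symm
  intro h hh
  have : (⟨h, hh⟩ : pPrimeCore p H) ∈
      (Subgroup.centralizer ({c} : Set H)).subgroupOf (pPrimeCore p H) := by
    rw [hM]; trivial
  rw [Subgroup.mem_subgroupOf, Subgroup.mem_centralizer_singleton_iff] at this
  exact this

end part1

section key

variable {p : ℕ} [hp : Fact p.Prime]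

/-- The commutator map `u ↦ g u g⁻¹ u⁻¹` on a normal subgroup. -/
def cm {G : Type*} [Group G] (N : Subgroup G) [N.Normal] (g : G) (u : ↥N) : ↥N :=
  MulAut.conjNormal g u * u⁻¹

theorem coe_cm {G : Type*} [Group G] (N : Subgroup G) [N.Normal] (g : G) (u : ↥N) :
    ((cm N g u : ↥N) : G) = g * u * g⁻¹ * (u : G)⁻¹ := by
  simp [cm, MulAut.conjNormal_apply]

/-- **Key lemma for `l_p ≤ d_p`.** -/
theorem key_derived (hp2 : p ≠ 2) (hC : QuadStmt.{u, 0, u, u} p) {G : Type u} [Group G]
    [Finite G] (hsol : IsPSolvable p G) (hO : pPrimeCore p G = ⊥) (P : Sylow p G) (d : ℕ)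
    (hd : derivedSeries ↥(P : Subgroup G) (d + 1) = ⊥) :
    (derivedSeries ↥(P : Subgroup G) d).map (P : Subgroup G).subtype ≤ pCore p G := by
  classical
  have hNS : pCore p G ≤ (P : Subgroup G) := Cfsg.Agent.Lib.Helper11.pCore_le_sylow P
  cases d with
  | zero =>
    rw [derivedSeries_zero, ← MonoidHom.range_eq_map, Subgroup.range_subtype]
    refine le_trans ?_ (Cfsg.Agent.Lib.Helper76.centralizer_pCore_le_of_isPSolvable hsol hO)
    intro x hx
    rw [Subgroup.mem_centralizer_iff]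
    intro y hy
    have h1 : ⁅(⟨x, hx⟩ : ↥(P : Subgroup G)), ⟨y, hNS hy⟩⁆ ∈
        derivedSeries ↥(P : Subgroup G) (0 + 1) := by
      rw [derivedSeries_succ, derivedSeries_zero]
      exact Subgroup.commutator_mem_commutator (Subgroup.mem_top _) (Subgroup.mem_top _)
    rw [hd, Subgroup.mem_bot] at h1
    have h2 := commutatorElement_eq_one_iff_mul_comm.1 h1
    have h3 := congrArg Subtype.val h2
    exact h3.symm
  | succ e =>
    have hNp : IsPGroup p (pCore p G) := Cfsg.Agent.Lib.Helper55.pCore_isPGroup p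
    have hsolH : IsPSolvable p (G ⧸ pCore p G) :=
      Cfsg.Agent.Lib.Helper76.isPSolvable_quotient _ hsol
    have hOH : pCore p (G ⧸ pCore p G) = ⊥ := Cfsg.Agent.Lib.Helper47.pCore_quotient_pCore_eq_bot p
    have := isMulCommutative_FQ (pCore p G) hNp
    have hρ := frActQ_pCore_injective hsol hO hNp
    set Bg : Subgroup G :=
      (derivedSeries ↥(P : Subgroup G) e).map (P : Subgroup G).subtype with hBg
    set Ag : Subgroup G :=
      (derivedSeries ↥(P : Subgroup G) (e + 1)).map (P : Subgroup G).subtype with hAg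
    have hAB : Ag = ⁅Bg, Bg⁆ := by
      rw [hAg, hBg, derivedSeries_succ, Subgroup.map_commutator]
    have hBP : Bg ≤ (P : Subgroup G) := Subgroup.map_subtype_le _
    have hnormB : ∀ g ∈ (P : Subgroup G), ∀ y ∈ Bg, g * y * g⁻¹ ∈ Bg := by
      intro g hg y hy
      obtain ⟨y', hy', rfl⟩ := hy
      have hn : (derivedSeries ↥(P : Subgroup G) e).Normal := derivedSeries_normal _ e
      exact ⟨⟨g, hg⟩ * y' * ⟨g, hg⟩⁻¹, hn.conj_mem y' hy' ⟨g, hg⟩, rfl⟩
    have hnormA : ∀ g ∈ (P : Subgroup G), ∀ y ∈ Ag, g * y * g⁻¹ ∈ Ag := by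
      intro g hg y hy
      obtain ⟨y', hy', rfl⟩ := hy
      have hn : (derivedSeries ↥(P : Subgroup G) (e + 1)).Normal := derivedSeries_normal _ (e + 1)
      exact ⟨⟨g, hg⟩ * y' * ⟨g, hg⟩⁻¹, hn.conj_mem y' hy' ⟨g, hg⟩, rfl⟩
    have hAcomm : ∀ a ∈ Ag, ∀ b ∈ Ag, a * b = b * a := by
      intro a ha b hb
      obtain ⟨a', ha', rfl⟩ := ha
      obtain ⟨b', hb', rfl⟩ := hb
      have h1 : ⁅a', b'⁆ ∈ derivedSeries ↥(P : Subgroup G) (e + 1 + 1) := by
        rw [derivedSeries_succ]
        exact Subgroup.commutator_mem_commutator ha' hb'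
      rw [hd, Subgroup.mem_bot] at h1
      have h2 := commutatorElement_eq_one_iff_mul_comm.1 h1
      exact congrArg Subtype.val h2
    -- commutator facts
    have c1 : ∀ h ∈ Bg, ∀ u : ↥(pCore p G), ((cm (pCore p G) h u : ↥(pCore p G)) : G) ∈ Bg := by
      intro h hh u
      rw [coe_cm]
      have h1 := hnormB (u : G) (hNS u.2) h⁻¹ (Bg.inv_mem hh)
      have h2 := Bg.mul_mem hh h1
      have : h * u * h⁻¹ * (u : G)⁻¹ = h * ((u : G) * h⁻¹ * (u : G)⁻¹) := by group
      rw [this]
      exact h2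
    have c2 : ∀ g ∈ Bg, ∀ w : ↥(pCore p G), (w : G) ∈ Bg →
        ((cm (pCore p G) g w : ↥(pCore p G)) : G) ∈ Ag := by
      intro g hg w hw
      rw [coe_cm, hAB]
      have := Subgroup.commutator_mem_commutator hg hw
      rw [commutatorElement_def] at this
      exact this
    have c4 : ∀ x ∈ Ag, ∀ u : ↥(pCore p G), ((cm (pCore p G) x u : ↥(pCore p G)) : G) ∈ Ag := by
      intro x hx u
      rw [coe_cm]
      have h1 := hnormA (u : G) (hNS u.2) x⁻¹ (Ag.inv_mem hx)
      have h2 := Ag.mul_mem hx h1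
      have : x * u * x⁻¹ * (u : G)⁻¹ = x * ((u : G) * x⁻¹ * (u : G)⁻¹) := by group
      rw [this]
      exact h2
    have c3 : ∀ x ∈ Ag, ∀ z : ↥(pCore p G), (z : G) ∈ Ag → cm (pCore p G) x z = 1 := by
      intro x hx z hz
      apply Subtype.ext
      rw [coe_cm, hAcomm x hx z hz]
      simp
    -- the action
    have hact : ∀ (g : G) (u : ↥(pCore p G)),
        frActQ (pCore p G) hNp (QuotientGroup.mk g) (QuotientGroup.mk u) *
          (QuotientGroup.mk u : FQ (pCore p G))⁻¹ =
        QuotientGroup.mk (cm (pCore p G) g u) := by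
      intro g u
      rw [frActQ_mk]
      rfl
    have hsurj : Function.Surjective
        (QuotientGroup.mk : ↥(pCore p G) → FQ (pCore p G)) := QuotientGroup.mk_surjective
    set T : Subgroup (G ⧸ pCore p G) := Bg.map (QuotientGroup.mk' (pCore p G)) with hTdef
    have hT : IsPGroup p T := (P.isPGroup'.to_le hBP).map _
    have hTT : ⁅T, T⁆ = Ag.map (QuotientGroup.mk' (pCore p G)) := by
      rw [hAB, Subgroup.map_commutator]
    have hq1 : ∀ x ∈ ⁅T, T⁆,
        (repK (fq_pow (pCore p G) hNp) (frActQ (pCore p G) hNp) x - 1) *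
          (repK (fq_pow (pCore p G) hNp) (frActQ (pCore p G) hNp) x - 1) = 0 := by
      intro x hx
      rw [hTT] at hx
      obtain ⟨a, ha, rfl⟩ := hx
      apply repK_quad2
      apply lin_quad2_of (fq_pow (pCore p G) hNp) QuotientGroup.mk hsurj
        (frActQ (pCore p G) hNp) _ _ (cm (pCore p G) a) (cm (pCore p G) a)
        (hact a) (hact a)
      intro u
      rw [c3 a ha _ (c4 a ha u)]
      rfl
    have hq2 : ∀ x ∈ ⁅T, T⁆, ∀ g ∈ T, ∀ h ∈ T,
        (repK (fq_pow (pCore p G) hNp) (frActQ (pCore p G) hNp) x - 1) *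
          ((repK (fq_pow (pCore p G) hNp) (frActQ (pCore p G) hNp) g - 1) *
            (repK (fq_pow (pCore p G) hNp) (frActQ (pCore p G) hNp) h - 1)) = 0 := by
      intro x hx g hg h hh
      rw [hTT] at hx
      obtain ⟨a, ha, rfl⟩ := hx
      obtain ⟨g₀, hg₀, rfl⟩ := hg
      obtain ⟨h₀, hh₀, rfl⟩ := hh
      apply repK_quad3
      apply lin_quad3_of (fq_pow (pCore p G) hNp) QuotientGroup.mk hsurj
        (frActQ (pCore p G) hNp) _ _ _ (cm (pCore p G) a) (cm (pCore p G) g₀) (cm (pCore p G) h₀)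
        (hact a) (hact g₀) (hact h₀)
      intro u
      rw [c3 a ha _ (c2 g₀ hg₀ _ (c1 h₀ hh₀ u))]
      rfl
    have hmain : ∀ c ∈ ⁅T, T⁆, c = 1 := by
      intro c hc
      have h1 := comm_mem_pPrimeCore_of_quad hC (fq_pow (pCore p G) hNp) hsolH hOH
        (frActQ (pCore p G) hNp) hρ T hT hq1 hq2 c hc
      have hcT : c ∈ T := by
        have hle : ⁅T, T⁆ ≤ T := by
          rw [Subgroup.commutator_le]
          intro g₁ h₁ g₂ h₂
          rw [commutatorElement_def]
          exact T.mul_mem (T.mul_mem (T.mul_mem h₁ h₂) (T.inv_mem h₁)) (T.inv_mem h₂)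
        exact hle hc
      obtain ⟨k, hk⟩ := hT ⟨c, hcT⟩
      have hk' : c ^ (p ^ k) = 1 := by
        have := congrArg Subtype.val hk
        simpa using this
      have h2 : orderOf c ∣ p ^ k := orderOf_dvd_of_pow_eq_one hk'
      have h3 : orderOf c ∣ Nat.card (pPrimeCore p (G ⧸ pCore p G)) :=
        Subgroup.orderOf_dvd_natCard _ h1
      have hcop : (Nat.card (pPrimeCore p (G ⧸ pCore p G))).Coprime p :=
        Cfsg.Agent.Lib.Helper55.pPrimeCore_card_coprime p
      have hcop' : Nat.Coprime (p ^ k) (Nat.card (pPrimeCore p (G ⧸ pCore p G))) :=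
        (Nat.Coprime.pow_right k hcop).symm
      have h4 : orderOf c = 1 := by
        have := Nat.dvd_gcd h2 h3
        rw [hcop'.gcd_eq_one] at this
        exact Nat.dvd_one.mp this
      exact orderOf_eq_one_iff.1 h4
    intro a ha
    have h1 : (QuotientGroup.mk' (pCore p G)) a ∈ ⁅T, T⁆ := by
      rw [hTT]
      exact Subgroup.mem_map_of_mem _ ha
    have h2 := hmain _ h1
    exact (QuotientGroup.eq_one_iff a).1 h2

end key

end Cfsg.Agent.Lib.Helper53.HHDer
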