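import Mathlib
import Cfsg.Prelude.Def_Local
import Cfsg.Agent.Lib.Helper53.HHTwoLevelB
import Cfsg.Agent.Lib.Helper53.HHTwoLevelC

/-!
# The two-level Hall–Higman lemma

`G` `p`-solvable (`p` odd) with `O_{p'}(G) = 1` whose Sylow `p`-subgroups have exponent dividing
`p ^ (m + 1)`: then in `H = G / O_p(G)` every `p`-element `x` has `x ^ p ^ m ∈ O_{p',p}(H)`
(given Theorem B and the pair statement).
-/

set_option autoImplicit false
set_option linter.unusedSectionVars false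

namespace Cfsg.Agent.Lib.Helper53

open Cfsg
open scoped IsMulCommutative commutatorElement
open Cfsg.Agent.Lib.Helper63.Frob (nrm nc FQ frActQ frActQ_mk mk_nc nc_mem mul_pow_eq
  isMulCommutative_FQ)
open Cfsg.Agent.Lib.Helper66.HHPair (PairStmt)

universe u

theorem two_level {p : ℕ} [hp : Fact p.Prime] (hp2 : p ≠ 2) (hB : ThmB.{u} p)
    (hC : PairStmt.{u, 0, u, u} p) {G : Type u} [Group G] [Finite G] (hsol : IsPSolvable p G)
    (hO : pPrimeCore p G = ⊥) {m : ℕ}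
    (hexp : ∀ S : Sylow p G, ∀ x ∈ (S : Subgroup G), x ^ p ^ (m + 1) = 1)
    (S : Sylow p (G ⧸ pCore p G)) (x : G ⧸ pCore p G)
    (hx : x ∈ (S : Subgroup (G ⧸ pCore p G))) :
    x ^ p ^ m ∈ pPrimePCore p (G ⧸ pCore p G) := by
  classical
  by_contra hxL
  have hπ : Function.Surjective (QuotientGroup.mk' (pCore p G)) := QuotientGroup.mk'_surjective _
  have hNp : IsPGroup p (pCore p G) := Cfsg.Agent.Lib.Helper55.pCore_isPGroup p
  have hsolH : IsPSolvable p (G ⧸ pCore p G) := Cfsg.Agent.Lib.Helper76.isPSolvable_quotient _ hsol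
  have hOH : pCore p (G ⧸ pCore p G) = ⊥ := Cfsg.Agent.Lib.Helper47.pCore_quotient_pCore_eq_bot p
  have := isMulCommutative_FQ (pCore p G) hNp
  have hρ := frActQ_pCore_injective hsol hO hNp
  obtain ⟨S₀, rfl⟩ := Sylow.mapSurjective_surjective hπ p S
  have hNS : pCore p G ≤ (S₀ : Subgroup G) := Cfsg.Agent.Lib.Helper11.pCore_le_sylow S₀
  have hTexp : ∀ h ∈ ((S₀.mapSurjective hπ : Sylow p (G ⧸ pCore p G)) : Subgroup (G ⧸ pCore p G)),
      h ^ p ^ (m + 1) = 1 ∧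
        ∀ v : FQ (pCore p G), nrm (frActQ (pCore p G) hNp) h (p ^ (m + 1)) v = 1 := by
    intro h hh
    rw [Sylow.coe_mapSurjective] at hh
    obtain ⟨g, hg, rfl⟩ := hh
    have hgm : g ^ p ^ (m + 1) = 1 := hexp S₀ g hg
    refine ⟨by rw [← map_pow, hgm, map_one], ?_⟩
    intro v
    obtain ⟨⟨u, hu⟩, rfl⟩ := QuotientGroup.mk_surjective v
    have h1 := mk_nc (pCore p G) hNp hu g (p ^ (m + 1))
    have h2 := mul_pow_eq u g (p ^ (m + 1))
    rw [hgm, mul_one, hexp S₀ (u * g) (mul_mem (hNS hu) hg)] at h2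
    rw [QuotientGroup.mk'_apply, ← h1]
    have : (⟨nc u g (p ^ (m + 1)), nc_mem (pCore p G) hu g (p ^ (m + 1))⟩ : ↥(pCore p G)) = 1 :=
      Subtype.ext h2.symm
    rw [this]; rfl
  have hxm : x ^ p ^ (m + 1) = 1 := (hTexp x hx).1
  obtain ⟨w, hwS, hw⟩ := exists_comm_notMem hB hp2 hsolH (S₀.mapSurjective hπ) x m hxm hxL
  apply hw
  exact comm_pow_mem_pPrimeCore hC (fq_pow (pCore p G) hNp) hsolH hOH (frActQ (pCore p G) hNp) hρ
    _ (S₀.mapSurjective hπ).isPGroup' m hTexp x (w * x) hx (mul_mem hwS hx)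

end Cfsg.Agent.Lib.Helper53
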