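import Mathlib
import Cfsg.Prelude.Def_Local
import Cfsg.Agent.Lib.Helper53.HHTwoLevel
import Cfsg.Agent.S0635

/-!
# The Hall–Higman bounds `l_p ≤ e` and `l_p ≤ 2 e` from Theorem B (and the pair statement)
-/

set_option autoImplicit false
set_option linter.unusedSectionVars false

namespace Cfsg.Agent.Lib.Helper53.HHPlen

open Cfsg
open scoped IsMulCommutative
open Cfsg.Agent.Lib.Helper53
open Cfsg.Agent.Lib.Helper63 (pLengthLE_iff IsPSeries pLengthLE_of_surjective)
open Cfsg.Agent.Lib.Helper63.Frob (nrm nc FQ frActQ frActQ_mk mk_nc nc_mem mul_pow_eq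
  isMulCommutative_FQ)
open Cfsg.Agent.Lib.Helper66.HHPair (PairStmt)
open Cfsg.Agent.S0635 (liftSeries isPSeries_liftSeries)

universe u

/-- The Sylow `p`-subgroups have exponent dividing `p ^ n`. -/
def Hexp (p n : ℕ) (G : Type*) [Group G] : Prop :=
  ∀ S : Sylow p G, ∀ x ∈ (S : Subgroup G), x ^ p ^ n = 1

/-- `p` is not a Fermat prime, or the Sylow `2`-subgroups are abelian. -/
def H2 (p : ℕ) (G : Type*) [Group G] : Prop :=
  (¬ ∃ k : ℕ, p = 2 ^ k + 1) ∨ ∀ S : Sylow 2 G, IsMulCommutative (S : Subgroup G)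

theorem hexp_of_surjective {G G' : Type*} [Group G] [Finite G] [Group G'] {p n : ℕ}
    [Fact p.Prime] (f : G →* G') (hf : Function.Surjective f) (h : Hexp p n G) : Hexp p n G' := by
  intro S x hx
  obtain ⟨S₀, rfl⟩ := Sylow.mapSurjective_surjective hf p S
  rw [Sylow.coe_mapSurjective] at hx
  obtain ⟨x₀, hx₀, rfl⟩ := hx
  rw [← map_pow, h S₀ x₀ hx₀, map_one]

theorem h2_of_surjective {G G' : Type*} [Group G] [Finite G] [Group G'] {p : ℕ}
    (f : G →* G') (hf : Function.Surjective f) (h : H2 p G) : H2 p G' := by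
  rcases h with h | h
  · exact Or.inl h
  · right
    intro S
    obtain ⟨S₀, rfl⟩ := Sylow.mapSurjective_surjective hf 2 S
    rw [Sylow.coe_mapSurjective]
    exact isMulCommutative_map f _ (h S₀)

variable {p : ℕ} [hp : Fact p.Prime]

/-- `O_{p',p}(G)` is normal (local instance). -/
local instance pPrimePCore_normal_inst {G : Type*} [Group G] : (pPrimePCore p G).Normal :=
  Cfsg.Agent.Lib.Helper32.pPrimePCore_normal p G

/-- Trivial Sylow `p`-subgroups: `p`-length `0`. -/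
theorem pLengthLE_zero_of_hexp {G : Type*} [Group G] [Finite G] (hexp : Hexp p 0 G) :
    PLengthLE p 0 G := by
  obtain ⟨S⟩ : Nonempty (Sylow p G) := inferInstance
  have hcop : (Nat.card G).Coprime p := by
    have hSbot : (S : Subgroup G) = ⊥ := by
      rw [Subgroup.eq_bot_iff_forall]
      intro x hx
      have := hexp S x hx
      simpa using this
    have h1 : Nat.card (S : Subgroup G) = 1 := by rw [hSbot]; exact Subgroup.card_bot
    have h2 := Subgroup.card_mul_index (S : Subgroup G)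
    rw [h1, one_mul] at h2
    rw [← h2, Nat.coprime_comm, Nat.Prime.coprime_iff_not_dvd Fact.out]
    exact S.not_dvd_index
  rw [pLengthLE_iff]
  refine ⟨fun i => if i = 0 then ⊥ else ⊤, ⟨by simp, ?_, ?_, ?_⟩, by simp⟩
  · intro i
    by_cases hi : i = 0
    · simp only [hi, if_true]; infer_instance
    · simp only [hi, if_false]; infer_instance
  · intro i _ x _
    by_cases hi : i = 0
    · refine ⟨Nat.card G, hcop, ?_⟩
      simp only [hi, if_true]
      rw [Subgroup.mem_bot]; exact pow_card_eq_one'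
    · refine ⟨1, Nat.coprime_one_left p, ?_⟩
      simp only [hi, if_false]; trivial
  · intro i hi x _
    have hi0 : i ≠ 0 := by
      rintro rfl; exact hi (by decide)
    refine ⟨0, ?_⟩
    simp only [hi0, if_false]; trivial

/-- Lifting a bound on the `p`-length through `O_{p',p}(G)`. -/
theorem pLengthLE_succ_of_quotient {G : Type*} [Group G] [Finite G] {k : ℕ}
    (h : PLengthLE p k (G ⧸ pPrimePCore p G)) : PLengthLE p (k + 1) G := by
  obtain ⟨N', hN', htop⟩ := pLengthLE_iff.1 h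
  rw [pLengthLE_iff]
  refine ⟨liftSeries (pPrimeCore p G) (pPrimePCore p G) N', isPSeries_liftSeries N' hN', ?_⟩
  show (N' (2 * k + 1)).comap (QuotientGroup.mk' (pPrimePCore p G)) = ⊤
  rw [htop]; rfl

/-- If every `p`-element `x` has `x ^ p ^ n ∈ O_{p',p}(G)` then the quotient by `O_{p',p}(G)` has
Sylow `p`-subgroups of exponent dividing `p ^ n`. -/
theorem hexp_quotient_of_pow_mem {G : Type*} [Group G] [Finite G] {n : ℕ}
    (h : ∀ S : Sylow p G, ∀ x ∈ (S : Subgroup G), x ^ p ^ n ∈ pPrimePCore p G) :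
    Hexp p n (G ⧸ pPrimePCore p G) := by
  have hπ : Function.Surjective (QuotientGroup.mk' (pPrimePCore p G)) :=
    QuotientGroup.mk'_surjective _
  intro S x hx
  obtain ⟨S₀, rfl⟩ := Sylow.mapSurjective_surjective hπ p S
  rw [Sylow.coe_mapSurjective] at hx
  obtain ⟨x₀, hx₀, rfl⟩ := hx
  rw [← map_pow, QuotientGroup.mk'_apply, QuotientGroup.eq_one_iff]
  exact h S₀ x₀ hx₀

/-- **Key step for (a)**: `O_{p'}(G) = 1`, `p` odd, non-Fermat or abelian Sylow `2`-subgroups, Sylow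
`p`-subgroups of exponent dividing `p^(n+1)`: then `x^(p^n) ∈ O_p(G)` for every `p`-element. -/
theorem pow_mem_pCore_a (hp2 : p ≠ 2) (hB : ThmB.{u} p) {G : Type u} [Group G] [Finite G]
    (hsol : IsPSolvable p G) (hO : pPrimeCore p G = ⊥) (h2 : H2 p G) {n : ℕ}
    (hexp : Hexp p (n + 1) G) (S : Sylow p G) (x : G) (hxS : x ∈ (S : Subgroup G)) :
    x ^ p ^ n ∈ pCore p G := by
  classical
  by_contra hcon
  have hπ : Function.Surjective (QuotientGroup.mk' (pCore p G)) := QuotientGroup.mk'_surjective _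
  have hNp : IsPGroup p (pCore p G) := Cfsg.Agent.Lib.Helper55.pCore_isPGroup p
  have hsolΓ : IsPSolvable p (G ⧸ pCore p G) := Cfsg.Agent.Lib.Helper76.isPSolvable_quotient _ hsol
  have hOΓ : pCore p (G ⧸ pCore p G) = ⊥ := Cfsg.Agent.Lib.Helper47.pCore_quotient_pCore_eq_bot p
  have := isMulCommutative_FQ (pCore p G) hNp
  have hρ := frActQ_pCore_injective hsol hO hNp
  have hNS : pCore p G ≤ (S : Subgroup G) := Cfsg.Agent.Lib.Helper11.pCore_le_sylow S
  have hxm : x ^ p ^ (n + 1) = 1 := hexp S x hxS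
  set xb : G ⧸ pCore p G := QuotientGroup.mk x with hxb
  have hx1 : xb ^ p ^ (n + 1) = 1 := by
    rw [hxb, ← QuotientGroup.mk_pow, hxm]; rfl
  have hx2 : ¬ xb ^ p ^ n = 1 := by
    rw [hxb, ← QuotientGroup.mk_pow]
    intro h
    exact hcon ((QuotientGroup.eq_one_iff _).1 h)
  have hord : orderOf xb = p ^ (n + 1) := orderOf_eq_prime_pow hx2 hx1
  have : Nontrivial (FQ (pCore p G)) := by
    by_contra hnt
    rw [not_nontrivial_iff_subsingleton] at hnt
    apply hx2
    apply hρ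
    rw [map_one]
    apply MulEquiv.ext
    intro v
    exact Subsingleton.elim _ _
  have hodd : Odd p := hp.out.odd_of_ne_two hp2
  have h2Γ : H2 p (G ⧸ pCore p G) := h2_of_surjective _ hπ h2
  have hne : ∀ n₀ q m : ℕ, 1 ≤ n₀ → n₀ ≤ n + 1 → q.Prime → 1 ≤ m → p ^ n₀ - 1 = q ^ m →
      ∃ Q : Sylow q (G ⧸ pCore p G), IsMulCommutative (Q : Subgroup (G ⧸ pCore p G)) := by
    intro n₀ q m h1 _ hq hm h
    have hpos : 1 ≤ p ^ n₀ := Nat.one_le_pow _ _ hp.out.pos
    have h' : p ^ n₀ = q ^ m + 1 := by omega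
    have hq2 : q = 2 := by
      obtain ⟨t, ht⟩ := Odd.pow hodd (n := n₀)
      have hev : 2 ∣ q ^ m := ⟨t, by omega⟩
      have := Nat.Prime.dvd_of_dvd_pow Nat.prime_two hev
      exact ((Nat.prime_dvd_prime_iff_eq Nat.prime_two hq).1 this).symm
    subst hq2
    rcases h2Γ with hnf | hab
    · exfalso
      rcases Cfsg.Agent.S3784.result p 2 n₀ m hp.out hq h1 hm h' with
        ⟨h2', _⟩ | ⟨_, _, _, h3⟩ | ⟨h4, _⟩
      · exact hp2 h2'
      · exact hnf ⟨m, h3⟩
      · have h9 : p ∣ 3 ^ 2 := by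
          rw [show (3 : ℕ) ^ 2 = 9 by norm_num, ← h4]
          exact dvd_pow_self p (by omega)
        have h3 := Nat.Prime.dvd_of_dvd_pow hp.out h9
        have hp3 : p = 3 := (Nat.prime_dvd_prime_iff_eq hp.out Nat.prime_three).1 h3
        exact hnf ⟨1, hp3.trans (by norm_num)⟩
    · obtain ⟨Q⟩ : Nonempty (Sylow 2 (G ⧸ pCore p G)) := inferInstance
      exact ⟨Q, hab Q⟩
  obtain ⟨v, hv⟩ := exists_nrm_ne_one (fq_pow (pCore p G) hNp) hB hsolΓ hOΓ
    (frActQ (pCore p G) hNp) hρ xb (n + 1) hord hne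
  obtain ⟨⟨u, hu⟩, rfl⟩ := QuotientGroup.mk_surjective v
  have h1 := mk_nc (pCore p G) hNp hu x (p ^ (n + 1))
  have hnc : nc u x (p ^ (n + 1)) ≠ 1 := by
    intro h
    apply hv
    rw [hxb, ← h1]
    have : (⟨nc u x (p ^ (n + 1)), nc_mem (pCore p G) hu x (p ^ (n + 1))⟩ : ↥(pCore p G)) = 1 :=
      Subtype.ext h
    rw [this]; rfl
  have h2' := mul_pow_eq u x (p ^ (n + 1))
  rw [hxm, mul_one] at h2'
  have h3 := hexp S (u * x) (mul_mem (hNS hu) hxS)
  rw [h2'] at h3
  exact hnc h3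

/-- **Part (a)**: `l_p(G) ≤ e` when `p` is odd, and non-Fermat or the Sylow `2`-subgroups are
abelian (given Theorem B). -/
theorem plen_a_aux (hp2 : p ≠ 2) (hB : ThmB.{u} p) (e : ℕ) :
    ∀ (G : Type u) [Group G] [Finite G], IsPSolvable p G → Hexp p e G → H2 p G →
      PLengthLE p e G := by
  induction e with
  | zero =>
    intro G _ _ _ hexp _
    exact pLengthLE_zero_of_hexp hexp
  | succ n ih =>
    intro G _ _ hsol hexp h2
    have hπ : Function.Surjective (QuotientGroup.mk' (pPrimePCore p G)) :=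
      QuotientGroup.mk'_surjective _
    have hπ₁ : Function.Surjective (QuotientGroup.mk' (pPrimeCore p G)) :=
      QuotientGroup.mk'_surjective _
    have hsol' : IsPSolvable p (G ⧸ pPrimePCore p G) :=
      Cfsg.Agent.Lib.Helper76.isPSolvable_quotient _ hsol
    have h2' : H2 p (G ⧸ pPrimePCore p G) := h2_of_surjective _ hπ h2
    have hsol₁ : IsPSolvable p (G ⧸ pPrimeCore p G) :=
      Cfsg.Agent.Lib.Helper76.isPSolvable_quotient _ hsol
    have h2₁ : H2 p (G ⧸ pPrimeCore p G) := h2_of_surjective _ hπ₁ h2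
    have hexp₁ : Hexp p (n + 1) (G ⧸ pPrimeCore p G) := hexp_of_surjective _ hπ₁ hexp
    have hO₁ : pPrimeCore p (G ⧸ pPrimeCore p G) = ⊥ :=
      Cfsg.Agent.Lib.Helper30.pPrimeCore_quotient_eq_bot p
    have hexp' : Hexp p n (G ⧸ pPrimePCore p G) := by
      apply hexp_quotient_of_pow_mem
      intro S₀ x₀ hx₀
      show (QuotientGroup.mk' (pPrimeCore p G)) (x₀ ^ p ^ n) ∈ pCore p (G ⧸ pPrimeCore p G)
      rw [map_pow]
      apply pow_mem_pCore_a hp2 hB hsol₁ hO₁ h2₁ hexp₁ (S₀.mapSurjective hπ₁)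
      rw [Sylow.coe_mapSurjective]
      exact Subgroup.mem_map_of_mem _ hx₀
    exact pLengthLE_succ_of_quotient (ih (G ⧸ pPrimePCore p G) hsol' hexp' h2')

/-- Part (a) in the form asked for. -/
theorem plen_a (hp2 : p ≠ 2) (hB : ThmB.{u} p) (e : ℕ) :
    ∀ (G : Type u) [Group G] [Finite G], IsPSolvable p G →
      (∀ S : Sylow p G, ∀ x ∈ (S : Subgroup G), x ^ p ^ e = 1) →
      ((¬ ∃ k : ℕ, p = 2 ^ k + 1) ∨ ∀ S : Sylow 2 G, IsMulCommutative (S : Subgroup G)) →
      PLengthLE p e G :=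
  fun G _ _ hsol hexp h2 => plen_a_aux hp2 hB e G hsol hexp h2

/-- The canonical surjection `(G / O_{p'}(G)) / O_p(G / O_{p'}(G)) → G / O_{p',p}(G)`. -/
theorem exists_surj_quotient (p : ℕ) [Fact p.Prime] (G : Type*) [Group G] :
    ∃ f : ((G ⧸ pPrimeCore p G) ⧸ pCore p (G ⧸ pPrimeCore p G)) →* G ⧸ pPrimePCore p G,
      Function.Surjective f := by
  have hle : pPrimeCore p G ≤ (pPrimePCore p G).comap (MonoidHom.id G) := by
    rw [Subgroup.comap_id]
    exact Cfsg.Agent.Lib.Helper32.pPrimeCore_le_pPrimePCore p G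
  let φ : G ⧸ pPrimeCore p G →* G ⧸ pPrimePCore p G :=
    QuotientGroup.map (pPrimeCore p G) (pPrimePCore p G) (MonoidHom.id G) hle
  have hφ : ∀ g : G, φ (QuotientGroup.mk g) = QuotientGroup.mk g := fun g => rfl
  have hker : ∀ x ∈ pCore p (G ⧸ pPrimeCore p G), φ x = 1 := by
    intro x hx
    obtain ⟨g, rfl⟩ := QuotientGroup.mk_surjective x
    rw [hφ, QuotientGroup.eq_one_iff]
    exact hx
  refine ⟨QuotientGroup.lift (pCore p (G ⧸ pPrimeCore p G)) φ hker, ?_⟩
  intro y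
  obtain ⟨g, rfl⟩ := QuotientGroup.mk_surjective y
  exact ⟨QuotientGroup.mk (QuotientGroup.mk g), rfl⟩

/-- **Part (b)**: `l_p(G) ≤ 2 e` for `p` odd (given Theorem B and the pair statement). -/
theorem plen_b (hp2 : p ≠ 2) (hB : ThmB.{u} p) (hC : PairStmt.{u, 0, u, u} p) (e : ℕ) :
    ∀ (G : Type u) [Group G] [Finite G], IsPSolvable p G →
      (∀ S : Sylow p G, ∀ x ∈ (S : Subgroup G), x ^ p ^ e = 1) → PLengthLE p (2 * e) G := by
  induction e with
  | zero =>
    intro G _ _ _ hexp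
    exact pLengthLE_zero_of_hexp hexp
  | succ m ih =>
    intro G _ _ hsol hexp
    have hπ₁ : Function.Surjective (QuotientGroup.mk' (pPrimeCore p G)) :=
      QuotientGroup.mk'_surjective _
    have hsol₁ : IsPSolvable p (G ⧸ pPrimeCore p G) :=
      Cfsg.Agent.Lib.Helper76.isPSolvable_quotient _ hsol
    have hexp₁ : Hexp p (m + 1) (G ⧸ pPrimeCore p G) := hexp_of_surjective _ hπ₁ hexp
    have hO₁ : pPrimeCore p (G ⧸ pPrimeCore p G) = ⊥ :=
      Cfsg.Agent.Lib.Helper30.pPrimeCore_quotient_eq_bot p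
    have hsolH : IsPSolvable p ((G ⧸ pPrimeCore p G) ⧸ pCore p (G ⧸ pPrimeCore p G)) :=
      Cfsg.Agent.Lib.Helper76.isPSolvable_quotient _ hsol₁
    have hsolH' : IsPSolvable p
        (((G ⧸ pPrimeCore p G) ⧸ pCore p (G ⧸ pPrimeCore p G)) ⧸
          pPrimePCore p ((G ⧸ pPrimeCore p G) ⧸ pCore p (G ⧸ pPrimeCore p G))) :=
      Cfsg.Agent.Lib.Helper76.isPSolvable_quotient _ hsolH
    have hexpH' : Hexp p m
        (((G ⧸ pPrimeCore p G) ⧸ pCore p (G ⧸ pPrimeCore p G)) ⧸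
          pPrimePCore p ((G ⧸ pPrimeCore p G) ⧸ pCore p (G ⧸ pPrimeCore p G))) :=
      hexp_quotient_of_pow_mem (fun S x hx => two_level hp2 hB hC hsol₁ hO₁ hexp₁ S x hx)
    have h1 := pLengthLE_succ_of_quotient (ih _ hsolH' hexpH')
    obtain ⟨f, hf⟩ := exists_surj_quotient p G
    have h2 := pLengthLE_succ_of_quotient (pLengthLE_of_surjective h1 f hf)
    have : 2 * (m + 1) = 2 * m + 1 + 1 := by ring
    rw [this]
    exact h2

/-- The statement of `S3786` from the pair statement (Theorem B is `S0633`). -/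
theorem hallHigman_of_pair {G : Type u} [Group G] [Finite G] (hB : ThmB.{u} p)
    (hC : PairStmt.{u, 0, u, u} p) (hp2 : p ≠ 2) (hG : Cfsg.IsPSolvable p G) (e : ℕ)
    (hexp : ∀ (P : Sylow p G), ∀ x ∈ (P : Subgroup G), x ^ p ^ e = 1) :
    (((¬ ∃ k : ℕ, p = 2 ^ k + 1) ∨ ∀ S : Sylow 2 G, IsMulCommutative (S : Subgroup G)) →
      Cfsg.PLengthLE p e G) ∧ Cfsg.PLengthLE p (2 * e) G :=
  ⟨fun h2 => plen_a hp2 hB e G hG hexp h2, plen_b hp2 hB hC e G hG hexp⟩

end Cfsg.Agent.Lib.Helper53.HHPlen
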