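import Mathlib
import Cfsg.Prelude.Def_Local
import Cfsg.Agent.Lib.Helper53.HHDerA
import Cfsg.Agent.Lib.Helper53.HHPlenA

/-!
# Hall–Higman `l_p ≤ d_p`: the induction skeleton

`plen_d`: for `p` odd and `G` `p`-solvable whose Sylow `p`-subgroups have derived length at most `d`,
the `p`-length of `G` is at most `d` (given the quadratic statement `QuadStmt p` of helper66).
-/

set_option autoImplicit false
set_option linter.unusedSectionVars false

namespace Cfsg.Agent.Lib.Helper53.HHDer

open Cfsg
open scoped IsMulCommutative commutatorElement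
open Cfsg.Agent.Lib.Helper53
open Cfsg.Agent.Lib.Helper53.HHPlen
open Cfsg.Agent.Lib.Helper63 (pLengthLE_iff IsPSeries pLengthLE_of_surjective)
open Cfsg.Agent.Lib.Helper66.HHPair (QuadStmt)

universe u

/-- The Sylow `p`-subgroups have derived length at most `d`. -/
def Hder (p d : ℕ) (G : Type*) [Group G] : Prop :=
  ∀ P : Sylow p G, derivedSeries ↥(P : Subgroup G) d = ⊥

/-- If the `d`-th derived subgroups of the Sylow `p`-subgroups lie in the normal subgroup `N` then
the Sylow `p`-subgroups of `G / N` have derived length at most `d`. -/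
theorem hder_of_surjective_of_le {G G' : Type*} [Group G] [Finite G] [Group G'] {p d : ℕ}
    [Fact p.Prime] (f : G →* G') (hf : Function.Surjective f)
    (h : ∀ P : Sylow p G, (derivedSeries ↥(P : Subgroup G) d).map (P : Subgroup G).subtype ≤ f.ker) :
    Hder p d G' := by
  intro S
  obtain ⟨S₀, rfl⟩ := Sylow.mapSurjective_surjective hf p S
  rw [Subgroup.eq_bot_iff_forall]
  intro x hx
  have hsurj : Function.Surjective (f.subgroupMap (S₀ : Subgroup G)) :=
    f.subgroupMap_surjective _
  have hx' : x ∈ derivedSeries ↥((S₀ : Subgroup G).map f) d := hx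
  rw [← map_derivedSeries_eq hsurj d] at hx'
  obtain ⟨y, hy, rfl⟩ := hx'
  have h1 : ((y : ↥(S₀ : Subgroup G)) : G) ∈ f.ker := h S₀ ⟨y, hy, rfl⟩
  apply Subtype.ext
  exact h1

theorem hder_of_surjective {G G' : Type*} [Group G] [Finite G] [Group G'] {p d : ℕ}
    [Fact p.Prime] (f : G →* G') (hf : Function.Surjective f) (h : Hder p d G) : Hder p d G' := by
  apply hder_of_surjective_of_le f hf
  intro P
  rw [h P, Subgroup.map_bot]
  exact bot_le

variable {p : ℕ} [hp : Fact p.Prime]

/-- `O_{p',p}(G)` is normal (local instance). -/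
local instance pPrimePCore_normal_inst {G : Type*} [Group G] : (pPrimePCore p G).Normal :=
  Cfsg.Agent.Lib.Helper32.pPrimePCore_normal p G

/-- `l_p ≤ d_p`: induction skeleton. -/
theorem plen_d_aux (hp2 : p ≠ 2) (hC : QuadStmt.{u, 0, u, u} p) (d : ℕ) :
    ∀ (G : Type u) [Group G] [Finite G], IsPSolvable p G → Hder p d G → PLengthLE p d G := by
  induction d with
  | zero =>
    intro G _ _ _ hder
    apply pLengthLE_zero_of_hexp
    intro S x hx
    have h1 := hder S
    rw [derivedSeries_zero] at h1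
    have h2 : (⟨x, hx⟩ : ↥(S : Subgroup G)) ∈ (⊤ : Subgroup ↥(S : Subgroup G)) := Subgroup.mem_top _
    rw [h1, Subgroup.mem_bot] at h2
    have h3 := congrArg Subtype.val h2
    simp only [pow_zero, pow_one]
    exact h3
  | succ d ih =>
    intro G _ _ hsol hder
    have hπ₁ : Function.Surjective (QuotientGroup.mk' (pPrimeCore p G)) :=
      QuotientGroup.mk'_surjective _
    have hsol₁ : IsPSolvable p (G ⧸ pPrimeCore p G) :=
      Cfsg.Agent.Lib.Helper76.isPSolvable_quotient _ hsol
    have hder₁ : Hder p (d + 1) (G ⧸ pPrimeCore p G) := hder_of_surjective _ hπ₁ hder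
    have hO₁ : pPrimeCore p (G ⧸ pPrimeCore p G) = ⊥ :=
      Cfsg.Agent.Lib.Helper30.pPrimeCore_quotient_eq_bot p
    have hπ₂ : Function.Surjective (QuotientGroup.mk' (pCore p (G ⧸ pPrimeCore p G))) :=
      QuotientGroup.mk'_surjective _
    have hder₂ : Hder p d ((G ⧸ pPrimeCore p G) ⧸ pCore p (G ⧸ pPrimeCore p G)) := by
      apply hder_of_surjective_of_le _ hπ₂
      intro P
      rw [QuotientGroup.ker_mk']
      exact key_derived hp2 hC hsol₁ hO₁ P d (hder₁ P)
    obtain ⟨f, hf⟩ := exists_surj_quotient p G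
    have hder₃ : Hder p d (G ⧸ pPrimePCore p G) := hder_of_surjective f hf hder₂
    have hsol₃ : IsPSolvable p (G ⧸ pPrimePCore p G) :=
      Cfsg.Agent.Lib.Helper76.isPSolvable_quotient _ hsol
    exact pLengthLE_succ_of_quotient (ih _ hsol₃ hder₃)

/-- `l_p ≤ d_p` in the form asked for. -/
theorem plen_d (hp2 : p ≠ 2) (hC : QuadStmt.{u, 0, u, u} p) (d : ℕ) :
    ∀ (G : Type u) [Group G] [Finite G], IsPSolvable p G →
      (∀ P : Sylow p G, derivedSeries ↥(P : Subgroup G) d = ⊥) → PLengthLE p d G :=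
  fun G _ _ hsol hder => plen_d_aux hp2 hC d G hsol hder

end Cfsg.Agent.Lib.Helper53.HHDer
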