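import Mathlib
import Cfsg.Agent.Lib.Helper94.Iso8Defs
import Cfsg.Agent.Lib.Helper53.Iso8BLKPM

/-!
# Iso8 hive (helper94, S3589), leaf ISO8-BLKPP: orthogonal sum (plus) ⊥ (plus) = (plus)
-/

set_option autoImplicit false

namespace Cfsg.Agent.Lib.Helper94.Iso8

open Matrix

/-- the index equivalence for (plus) ⊥ (plus) -/
def blkpp_equiv (k k' : ℕ) :
    (Fin k ⊕ Fin k) ⊕ (Fin k' ⊕ Fin k') ≃ Fin (k + k') ⊕ Fin (k + k') :=
  (Equiv.sumSumSumComm (Fin k) (Fin k) (Fin k') (Fin k')).trans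
    (Equiv.sumCongr finSumFinEquiv finSumFinEquiv)

theorem blkpp_equiv_ll (k k' : ℕ) (i : Fin k) :
    blkpp_equiv k k' (Sum.inl (Sum.inl i)) = Sum.inl (Fin.castAdd k' i) := rfl

theorem blkpp_equiv_lr (k k' : ℕ) (i : Fin k) :
    blkpp_equiv k k' (Sum.inl (Sum.inr i)) = Sum.inr (Fin.castAdd k' i) := rfl

theorem blkpp_equiv_rl (k k' : ℕ) (j : Fin k') :
    blkpp_equiv k k' (Sum.inr (Sum.inl j)) = Sum.inl (Fin.natAdd k j) := rfl

theorem blkpp_equiv_rr (k k' : ℕ) (j : Fin k') :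
    blkpp_equiv k k' (Sum.inr (Sum.inr j)) = Sum.inr (Fin.natAdd k j) := rfl

/-- ISO8-BLKPP: block sum (plus) ⊥ (plus) = (plus) -/
theorem blk_pp {F : Type*} [Field F] (k k' N₁ N₂ : ℕ)
    (h₁ : HasPlus F k N₁) (h₂ : HasPlus F k' N₂) :
    HasPlus F (k + k') (Nat.lcm N₁ N₂) := by
  obtain ⟨g₁, rfl⟩ := h₁
  obtain ⟨g₂, rfl⟩ := h₂
  refine blkpm_general (blkpp_equiv k k') (Cfsg.quadFormPlus k F) (Cfsg.quadFormPlus k' F)
    (Cfsg.quadFormPlus (k + k') F) ?_ g₁ g₂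
  intro v
  unfold Cfsg.quadFormPlus
  rw [Fin.sum_univ_add]
  simp only [blkpp_equiv_ll, blkpp_equiv_lr, blkpp_equiv_rl, blkpp_equiv_rr]

end Cfsg.Agent.Lib.Helper94.Iso8
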