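import Mathlib
import Cfsg.Agent.Lib.Helper94.Iso8Defs

/-!
# Iso8 hive (helper94, S3589), leaf ISO8-C4: an isometry of order 4 of `H ⊥ H`
-/

set_option autoImplicit false

namespace Cfsg.Agent.Lib.Helper94.Iso8

open Matrix

/-- the matrix of `v ↦ v ∘ τ` -/
def c4_M (F : Type*) [Field F] {ι : Type} [DecidableEq ι] (τ : Equiv.Perm ι) : Matrix ι ι F :=
  Matrix.of fun i j => if τ i = j then 1 else 0

theorem c4_M_mulVec {F : Type*} [Field F] {ι : Type} [Fintype ι] [DecidableEq ι]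
    (τ : Equiv.Perm ι) (v : ι → F) : c4_M F τ *ᵥ v = v ∘ τ := by
  funext i
  simp [Matrix.mulVec, dotProduct, c4_M]

theorem c4_ext_mulVec {F : Type*} [Field F] {ι : Type} [Fintype ι] [DecidableEq ι]
    {A B : Matrix ι ι F} (h : ∀ v : ι → F, A *ᵥ v = B *ᵥ v) : A = B := by
  ext i j
  have := congrFun (h (Pi.single j 1)) i
  simpa [Matrix.mulVec_single_one] using this

theorem c4_M_mul {F : Type*} [Field F] {ι : Type} [Fintype ι] [DecidableEq ι]
    (τ τ' : Equiv.Perm ι) : c4_M F τ * c4_M F τ' = c4_M F (τ' * τ) := by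
  apply c4_ext_mulVec
  intro v
  rw [← Matrix.mulVec_mulVec, c4_M_mulVec, c4_M_mulVec, c4_M_mulVec]
  rfl

theorem c4_M_one {F : Type*} [Field F] {ι : Type} [Fintype ι] [DecidableEq ι] :
    c4_M F (1 : Equiv.Perm ι) = 1 := by
  apply c4_ext_mulVec
  intro v
  rw [c4_M_mulVec, Matrix.one_mulVec]
  rfl

/-- the permutation matrix as an element of `GL` -/
def c4_gl (F : Type*) [Field F] {ι : Type} [Fintype ι] [DecidableEq ι] (τ : Equiv.Perm ι) :
    GL ι F :=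
  ⟨c4_M F τ, c4_M F τ⁻¹, by rw [c4_M_mul, inv_mul_cancel, c4_M_one],
    by rw [c4_M_mul, mul_inv_cancel, c4_M_one]⟩

theorem c4_gl_pow {F : Type*} [Field F] {ι : Type} [Fintype ι] [DecidableEq ι]
    (τ : Equiv.Perm ι) (k : ℕ) : c4_gl F τ ^ k = c4_gl F (τ ^ k) := by
  induction k with
  | zero =>
    apply Units.ext
    show (1 : Matrix ι ι F) = c4_M F (τ ^ 0)
    rw [pow_zero, c4_M_one]
  | succ k ih =>
    rw [pow_succ, ih]
    apply Units.ext
    show c4_M F (τ ^ k) * c4_M F τ = c4_M F (τ ^ (k + 1))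
    rw [c4_M_mul, pow_succ']

/-- the four-cycle `inl 0 → inl 1 → inr 0 → inr 1 → inl 0` -/
def c4_sigma : Equiv.Perm (Fin 2 ⊕ Fin 2) where
  toFun x := match x with
    | Sum.inl i => if i = 0 then Sum.inl 1 else Sum.inr 0
    | Sum.inr i => if i = 0 then Sum.inr 1 else Sum.inl 0
  invFun x := match x with
    | Sum.inl i => if i = 0 then Sum.inr 1 else Sum.inl 0
    | Sum.inr i => if i = 0 then Sum.inl 1 else Sum.inr 0
  left_inv := by decide
  right_inv := by decide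

theorem c4_sigma_pow_four : c4_sigma ^ 4 = 1 := by decide

/-- ISO8-C4: the 4-cycle `e₁ → e₂ → f₁ → f₂ → e₁` on `H ⊥ H` -/
theorem has_C4 {F : Type*} [Field F] : HasPlus F 2 4 := by
  have hmem : c4_gl F c4_sigma ∈ Cfsg.isometryGroup F (Cfsg.quadFormPlus 2 F) := by
    intro u _
    show Cfsg.quadFormPlus 2 F (c4_M F c4_sigma *ᵥ u) = Cfsg.quadFormPlus 2 F u
    rw [c4_M_mulVec]
    unfold Cfsg.quadFormPlus
    rw [Fin.sum_univ_two, Fin.sum_univ_two]
    simp only [Function.comp_apply]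
    have e1 : c4_sigma (Sum.inl 0) = Sum.inl 1 := rfl
    have e2 : c4_sigma (Sum.inl 1) = Sum.inr 0 := rfl
    have e3 : c4_sigma (Sum.inr 0) = Sum.inr 1 := rfl
    have e4 : c4_sigma (Sum.inr 1) = Sum.inl 0 := rfl
    rw [e1, e2, e3, e4]
    ring
  refine ⟨⟨c4_gl F c4_sigma, hmem⟩, ?_⟩
  rw [Subgroup.orderOf_mk]
  have : Fact (Nat.Prime 2) := ⟨Nat.prime_two⟩
  have h4 : c4_gl F c4_sigma ^ 2 ^ (1 + 1) = 1 := by
    rw [c4_gl_pow]
    have : (2 : ℕ) ^ (1 + 1) = 4 := by norm_num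
    rw [this, c4_sigma_pow_four]
    apply Units.ext
    show c4_M F (1 : Equiv.Perm (Fin 2 ⊕ Fin 2)) = 1
    exact c4_M_one
  have h2 : ¬ c4_gl F c4_sigma ^ 2 ^ 1 = 1 := by
    intro h
    rw [c4_gl_pow] at h
    have h' : c4_M F (c4_sigma ^ 2 ^ 1) = (1 : Matrix (Fin 2 ⊕ Fin 2) (Fin 2 ⊕ Fin 2) F) :=
      congrArg Units.val h
    have h'' := congrArg (fun A : Matrix (Fin 2 ⊕ Fin 2) (Fin 2 ⊕ Fin 2) F =>
      (A *ᵥ Pi.single (Sum.inl 0) 1) (Sum.inl 0)) h'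
    simp only [c4_M_mulVec, Matrix.one_mulVec, Function.comp_apply] at h''
    have e : (c4_sigma ^ 2 ^ 1) (Sum.inl 0) = Sum.inr 0 := by decide
    rw [e] at h''
    simp at h''
  have := orderOf_eq_prime_pow h2 h4
  rw [this]
  norm_num

end Cfsg.Agent.Lib.Helper94.Iso8
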