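import Mathlib
import Cfsg.Agent.Lib.Helper94.Iso8Defs

/-!
# Iso8 hive (helper94, S3589), leaf ISO8-RF: the reflection `z₁ ↦ z₁ + a z₂` of the binary form
-/

set_option autoImplicit false

namespace Cfsg.Agent.Lib.Helper94.Iso8

open Matrix

/-- the matrix of the reflection -/
def rf_M {F : Type*} [Field F] (a : F) :
    Matrix ((Fin 0 ⊕ Fin 0) ⊕ Fin 2) ((Fin 0 ⊕ Fin 0) ⊕ Fin 2) F :=
  Matrix.transvection (Sum.inr 0) (Sum.inr 1) a

theorem rf_M_mul_self {F : Type*} [Field F] [CharP F 2] (a : F) : rf_M a * rf_M a = 1 := by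
  unfold rf_M
  have h := Matrix.transvection_mul_transvection_same (R := F)
    (i := (Sum.inr 0 : (Fin 0 ⊕ Fin 0) ⊕ Fin 2)) (j := Sum.inr 1) (by decide) a a
  rw [CharTwo.add_self_eq_zero, Matrix.transvection_zero] at h
  convert h

theorem rf_M_mulVec_zero {F : Type*} [Field F] (a : F) (v : (Fin 0 ⊕ Fin 0) ⊕ Fin 2 → F) :
    (rf_M a *ᵥ v) (Sum.inr 0) = v (Sum.inr 0) + a * v (Sum.inr 1) := by
  simp [rf_M, Matrix.transvection, Matrix.mulVec, dotProduct,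
    Fintype.sum_sum_type, Matrix.single_apply]

theorem rf_M_mulVec_one {F : Type*} [Field F] (a : F) (v : (Fin 0 ⊕ Fin 0) ⊕ Fin 2 → F) :
    (rf_M a *ᵥ v) (Sum.inr 1) = v (Sum.inr 1) := by
  simp [rf_M, Matrix.transvection, Matrix.mulVec, dotProduct,
    Fintype.sum_sum_type]

/-- ISO8-RF: the reflection `z₁ ↦ z₁ + a z₂` on the binary form -/
theorem has_RF {F : Type*} [Field F] [CharP F 2] (a b : F) (ha : a ≠ 0) :
    HasMinus F a b 0 2 := by
  let g : GL ((Fin 0 ⊕ Fin 0) ⊕ Fin 2) F := ⟨rf_M a, rf_M a, rf_M_mul_self a, rf_M_mul_self a⟩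
  have hmem : g ∈ Cfsg.isometryGroup F (Cfsg.quadFormMinus 0 F a b) := by
    intro u _
    show Cfsg.quadFormMinus 0 F a b (rf_M a *ᵥ u) = Cfsg.quadFormMinus 0 F a b u
    unfold Cfsg.quadFormMinus
    rw [rf_M_mulVec_zero, rf_M_mulVec_one]
    simp only [Finset.univ_eq_empty, Finset.sum_empty, zero_add]
    have h2 : (2 : F) = 0 := CharTwo.two_eq_zero
    linear_combination (a * u (Sum.inr 0) * u (Sum.inr 1) + a ^ 2 * u (Sum.inr 1) ^ 2) * h2
  refine ⟨⟨g, hmem⟩, ?_⟩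
  rw [Subgroup.orderOf_mk]
  have : Fact (Nat.Prime 2) := ⟨Nat.prime_two⟩
  apply orderOf_eq_prime
  · apply Units.ext
    rw [pow_two]
    exact rf_M_mul_self a
  · intro h
    have h' : rf_M a = (1 : Matrix ((Fin 0 ⊕ Fin 0) ⊕ Fin 2) ((Fin 0 ⊕ Fin 0) ⊕ Fin 2) F) :=
      congrArg Units.val h
    have h'' := congrArg (fun A : Matrix ((Fin 0 ⊕ Fin 0) ⊕ Fin 2) ((Fin 0 ⊕ Fin 0) ⊕ Fin 2) F =>
      A (Sum.inr 0) (Sum.inr 1)) h'
    simp [rf_M, Matrix.transvection] at h''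
    exact ha h''

end Cfsg.Agent.Lib.Helper94.Iso8
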