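import Mathlib
import Cfsg.Agent.Lib.Helper94.Iso8bDefs
import Cfsg.Agent.Lib.Helper53.Iso8BLKPM

/-!
# Iso8b hive (helper94, S3590), leaf ISO8B-C1: block sum with the fixed space and the norm sums tracked
-/

set_option autoImplicit false

namespace Cfsg.Agent.Lib.Helper94.Iso8

open Matrix Module

section gen
variable {F : Type*} [Field F] {ι₁ ι₂ ι : Type} [Fintype ι₁] [DecidableEq ι₁]
    [Fintype ι₂] [DecidableEq ι₂] [Fintype ι] [DecidableEq ι]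

theorem c1_hom_add (e : ι₁ ⊕ ι₂ ≃ ι) (p q : Matrix ι₁ ι₁ F × Matrix ι₂ ι₂ F) :
    blkpm_hom e (p + q) = blkpm_hom e p + blkpm_hom e q := by
  show Matrix.reindex e e (Matrix.fromBlocks (p + q).1 0 0 (p + q).2) =
    Matrix.reindex e e (Matrix.fromBlocks p.1 0 0 p.2) + Matrix.reindex e e (Matrix.fromBlocks q.1 0 0 q.2)
  rw [Matrix.reindex_apply, Matrix.reindex_apply, Matrix.reindex_apply]
  ext i j
  simp only [Matrix.submatrix_apply, Matrix.add_apply]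
  rcases e.symm i with i' | i' <;> rcases e.symm j with j' | j' <;> simp

theorem c1_hom_zero (e : ι₁ ⊕ ι₂ ≃ ι) :
    blkpm_hom (F := F) e (0 : Matrix ι₁ ι₁ F × Matrix ι₂ ι₂ F) = 0 := by
  show Matrix.reindex e e (Matrix.fromBlocks (0 : Matrix ι₁ ι₁ F) 0 0 (0 : Matrix ι₂ ι₂ F)) = 0
  rw [Matrix.fromBlocks_zero, Matrix.reindex_apply, Matrix.submatrix_zero]
  rfl

theorem c1_hom_sum (e : ι₁ ⊕ ι₂ ≃ ι) (N : ℕ) (f : ℕ → Matrix ι₁ ι₁ F × Matrix ι₂ ι₂ F) :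
    blkpm_hom e (∑ i ∈ Finset.range N, f i) = ∑ i ∈ Finset.range N, blkpm_hom e (f i) := by
  induction N with
  | zero => simp [c1_hom_zero]
  | succ N ih => rw [Finset.sum_range_succ, Finset.sum_range_succ, c1_hom_add, ih]

theorem c1_nsum (e : ι₁ ⊕ ι₂ ≃ ι) (p : Matrix ι₁ ι₁ F × Matrix ι₂ ι₂ F) (N : ℕ) :
    nsum (blkpm_hom e p) N = blkpm_hom e (nsum p.1 N, nsum p.2 N) := by
  unfold nsum
  have h1 : ((∑ i ∈ Finset.range N, p.1 ^ i, ∑ i ∈ Finset.range N, p.2 ^ i) :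
      Matrix ι₁ ι₁ F × Matrix ι₂ ι₂ F) = ∑ i ∈ Finset.range N, p ^ i := by
    ext1
    · rw [Prod.fst_sum]; rfl
    · rw [Prod.snd_sum]; rfl
  rw [h1, c1_hom_sum]
  exact Finset.sum_congr rfl (fun i _ => (map_pow (blkpm_hom e) p i).symm)

theorem c1_nsum_eq_zero (e : ι₁ ⊕ ι₂ ≃ ι) (p : Matrix ι₁ ι₁ F × Matrix ι₂ ι₂ F) (N : ℕ) :
    nsum (blkpm_hom e p) N = 0 ↔ nsum p.1 N = 0 ∧ nsum p.2 N = 0 := by
  rw [c1_nsum, ← c1_hom_zero (F := F) e, (blkpm_hom_injective (F := F) e).eq_iff, Prod.ext_iff]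
  rfl

theorem c1_mem_ker (A : Matrix ι ι F) (v : ι → F) :
    v ∈ LinearMap.ker (Matrix.toLin' A - 1) ↔ A *ᵥ v = v := by
  rw [LinearMap.mem_ker, LinearMap.sub_apply, Module.End.one_apply, sub_eq_zero, Matrix.toLin'_apply]

/-- the fixed space of a block sum is the product of the fixed spaces -/
theorem c1_fixdim (e : ι₁ ⊕ ι₂ ≃ ι) (p : Matrix ι₁ ι₁ F × Matrix ι₂ ι₂ F) :
    fixdim (blkpm_hom e p) = fixdim p.1 + fixdim p.2 := by
  unfold fixdim
  set K := LinearMap.ker (Matrix.toLin' (blkpm_hom e p) - 1) with hK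
  set K₁ := LinearMap.ker (Matrix.toLin' p.1 - 1) with hK₁
  set K₂ := LinearMap.ker (Matrix.toLin' p.2 - 1) with hK₂
  let r₁ : (ι → F) →ₗ[F] (ι₁ → F) := LinearMap.funLeft F F (fun i => e (Sum.inl i))
  let r₂ : (ι → F) →ₗ[F] (ι₂ → F) := LinearMap.funLeft F F (fun j => e (Sum.inr j))
  have hr₁ : ∀ v : ι → F, r₁ v = fun i => v (e (Sum.inl i)) := fun v => rfl
  have hr₂ : ∀ v : ι → F, r₂ v = fun j => v (e (Sum.inr j)) := fun v => rfl
  have h₁ : ∀ v : K, (r₁.comp K.subtype) v ∈ K₁ := by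
    intro v
    have hv := (c1_mem_ker _ _).1 v.2
    rw [hK₁, c1_mem_ker]
    show p.1 *ᵥ r₁ v.1 = r₁ v.1
    rw [hr₁, ← blkpm_hom_mulVec_inl, hv]
  have h₂ : ∀ v : K, (r₂.comp K.subtype) v ∈ K₂ := by
    intro v
    have hv := (c1_mem_ker _ _).1 v.2
    rw [hK₂, c1_mem_ker]
    show p.2 *ᵥ r₂ v.1 = r₂ v.1
    rw [hr₂, ← blkpm_hom_mulVec_inr, hv]
  let φ : K →ₗ[F] K₁ × K₂ :=
    LinearMap.prod (LinearMap.codRestrict K₁ (r₁.comp K.subtype) h₁)
      (LinearMap.codRestrict K₂ (r₂.comp K.subtype) h₂)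
  have hφ₁ : ∀ v : K, ((φ v).1 : ι₁ → F) = fun i => v.1 (e (Sum.inl i)) := fun v => rfl
  have hφ₂ : ∀ v : K, ((φ v).2 : ι₂ → F) = fun j => v.1 (e (Sum.inr j)) := fun v => rfl
  have hinj : Function.Injective φ := by
    rw [← LinearMap.ker_eq_bot, LinearMap.ker_eq_bot']
    intro v hv
    apply Subtype.ext
    funext x
    obtain ⟨y, rfl⟩ := e.surjective x
    cases y with
    | inl i =>
      have := congrFun (hφ₁ v) i
      rw [hv] at this
      exact this.symm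
    | inr j =>
      have := congrFun (hφ₂ v) j
      rw [hv] at this
      exact this.symm
  have hsurj : Function.Surjective φ := by
    rintro ⟨w₁, w₂⟩
    have hw₁ := (c1_mem_ker _ _).1 w₁.2
    have hw₂ := (c1_mem_ker _ _).1 w₂.2
    let v : ι → F := fun x => Sum.elim w₁.1 w₂.1 (e.symm x)
    have hv₁ : (fun i => v (e (Sum.inl i))) = w₁.1 := by
      funext i
      simp [v]
    have hv₂ : (fun j => v (e (Sum.inr j))) = w₂.1 := by
      funext j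
      simp [v]
    have hvK : v ∈ K := by
      rw [hK, c1_mem_ker]
      funext x
      obtain ⟨y, rfl⟩ := e.surjective x
      cases y with
      | inl i =>
        have := congrFun (blkpm_hom_mulVec_inl e p v) i
        rw [this, hv₁, hw₁]
        exact (congrFun hv₁ i).symm
      | inr j =>
        have := congrFun (blkpm_hom_mulVec_inr e p v) j
        rw [this, hv₂, hw₂]
        exact (congrFun hv₂ j).symm
    refine ⟨⟨v, hvK⟩, ?_⟩
    apply Prod.ext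
    · apply Subtype.ext
      rw [hφ₁]
      exact hv₁
    · apply Subtype.ext
      rw [hφ₂]
      exact hv₂
  rw [(LinearEquiv.ofBijective φ ⟨hinj, hsurj⟩).finrank_eq, Module.finrank_prod]

/-- general block sum with the powers, the fixed space and the norm sums tracked -/
theorem c1_general (e : ι₁ ⊕ ι₂ ≃ ι)
    (Q₁ : (ι₁ → F) → F) (Q₂ : (ι₂ → F) → F) (Q : (ι → F) → F)
    (hQ : ∀ v, Q v = Q₁ (fun i => v (e (Sum.inl i))) + Q₂ (fun j => v (e (Sum.inr j))))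
    (g₁ : ↥(Cfsg.isometryGroup F Q₁)) (g₂ : ↥(Cfsg.isometryGroup F Q₂)) :
    ∃ g : ↥(Cfsg.isometryGroup F Q),
      (∀ N : ℕ, g ^ N = 1 ↔ g₁ ^ N = 1 ∧ g₂ ^ N = 1) ∧
      fixdim (matOf g) = fixdim (matOf g₁) + fixdim (matOf g₂) ∧
      (∀ N : ℕ, nsum (matOf g) N = 0 ↔ nsum (matOf g₁) N = 0 ∧ nsum (matOf g₂) N = 0) := by
  let Φ : GL ι₁ F × GL ι₂ F →* GL ι F :=
    (Units.map (blkpm_hom (F := F) e)).comp (MulEquiv.prodUnits.symm.toMonoidHom)
  have hΦinj : Function.Injective Φ := by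
    intro x y h
    have h1 := Units.map_injective (blkpm_hom_injective (F := F) e) h
    exact MulEquiv.prodUnits.symm.injective h1
  have hΦval : ∀ x : GL ι₁ F × GL ι₂ F,
      ((Φ x : GL ι F) : Matrix ι ι F) = blkpm_hom e ((x.1 : Matrix ι₁ ι₁ F), (x.2 : Matrix ι₂ ι₂ F)) :=
    fun x => rfl
  have hmem : Φ ((g₁ : GL ι₁ F), (g₂ : GL ι₂ F)) ∈ Cfsg.isometryGroup F Q := by
    intro u _
    show Q (((Φ ((g₁ : GL ι₁ F), (g₂ : GL ι₂ F)) : GL ι F) : Matrix ι ι F) *ᵥ u) = Q u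
    rw [hΦval, hQ, hQ u, blkpm_hom_mulVec_inl, blkpm_hom_mulVec_inr]
    congr 1
    · exact g₁.2 _ 0
    · exact g₂.2 _ 0
  have hmat : matOf (⟨Φ ((g₁ : GL ι₁ F), (g₂ : GL ι₂ F)), hmem⟩ : ↥(Cfsg.isometryGroup F Q)) =
      blkpm_hom e (matOf g₁, matOf g₂) := rfl
  refine ⟨⟨Φ ((g₁ : GL ι₁ F), (g₂ : GL ι₂ F)), hmem⟩, ?_, ?_, ?_⟩
  · intro N
    rw [Subtype.ext_iff, Subtype.ext_iff, Subtype.ext_iff, Subgroup.coe_pow, Subgroup.coe_pow,
      Subgroup.coe_pow, Subgroup.coe_one, Subgroup.coe_one, Subgroup.coe_one, ← map_pow,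
      ← map_one Φ, hΦinj.eq_iff, Prod.ext_iff]
    rfl
  · rw [hmat]
    exact c1_fixdim e _
  · intro N
    rw [hmat]
    exact c1_nsum_eq_zero e _ N

end gen

/-- ISO8B-C1 (block sum with the fixed space and the norm sums tracked) -/
theorem blk_pm_rich {F : Type*} [Field F] (a b : F) (k m : ℕ)
    (g₁ : ↥(Cfsg.isometryGroup F (Cfsg.quadFormPlus k F)))
    (g₂ : ↥(Cfsg.isometryGroup F (Cfsg.quadFormMinus m F a b))) :
    ∃ g : ↥(Cfsg.isometryGroup F (Cfsg.quadFormMinus (k + m) F a b)),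
      (∀ N : ℕ, g ^ N = 1 ↔ g₁ ^ N = 1 ∧ g₂ ^ N = 1) ∧
      fixdim (matOf g) =
        fixdim (matOf g₁) +
        fixdim (matOf g₂) ∧
      (∀ N : ℕ, nsum (matOf g) N = 0 ↔
        nsum (matOf g₁) N = 0 ∧
        nsum (matOf g₂) N = 0) := by
  refine c1_general (blkpm_equiv k m) (Cfsg.quadFormPlus k F) (Cfsg.quadFormMinus m F a b)
    (Cfsg.quadFormMinus (k + m) F a b) ?_ g₁ g₂
  intro v
  unfold Cfsg.quadFormPlus Cfsg.quadFormMinus
  rw [Fin.sum_univ_add]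
  simp only [blkpm_equiv_ll, blkpm_equiv_lr, blkpm_equiv_rll, blkpm_equiv_rlr, blkpm_equiv_rr]
  ring

end Cfsg.Agent.Lib.Helper94.Iso8
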