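import Mathlib
import Cfsg.Agent.Lib.Helper94.Iso8bDefs
import Cfsg.Agent.Lib.Helper53.Iso8BLKPP
import Cfsg.Agent.Lib.Helper53.Iso8C4
import Cfsg.Agent.Lib.Helper53.Iso8bC1

/-!
# Iso8b hive (helper94, S3590), leaf ISO8B-C3: `swap ⊕ swap` on `H ⊥ H`
(with the aux shared by ISO8B-C4 / ISO8B-C5: transitive permutation matrices, rich block sum plus ⊥ plus,
the swap on `H`)
-/

set_option autoImplicit false

namespace Cfsg.Agent.Lib.Helper94.Iso8

open Matrix Module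

section perm
variable {F : Type*} [Field F] {ι : Type} [Fintype ι] [DecidableEq ι]

theorem c3_mem_ker_perm (τ : Equiv.Perm ι) (v : ι → F) :
    v ∈ LinearMap.ker (Matrix.toLin' (c4_M F τ) - 1) ↔ v ∘ τ = v := by
  rw [c1_mem_ker, c4_M_mulVec]

/-- the fixed space of a transitive permutation matrix is the line of constants -/
theorem c3_fixdim_cyc (τ : Equiv.Perm ι) (x₀ : ι) (h : ∀ x, ∃ k : ℕ, (τ ^ k) x₀ = x) :
    fixdim (c4_M F τ) = 1 := by
  unfold fixdim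
  set K := LinearMap.ker (Matrix.toLin' (c4_M F τ) - 1) with hK
  have hconst : ∀ v ∈ K, ∀ x, v x = v x₀ := by
    intro v hv x
    rw [hK, c3_mem_ker_perm] at hv
    obtain ⟨k, rfl⟩ := h x
    induction k with
    | zero => rfl
    | succ k ih =>
      rw [pow_succ', Equiv.Perm.mul_apply]
      have := congrFun hv ((τ ^ k) x₀)
      simp only [Function.comp_apply] at this
      rw [this, ih]
  let φ : K →ₗ[F] F := (LinearMap.proj x₀).comp K.subtype
  have hφ : ∀ v : K, φ v = v.1 x₀ := fun v => rfl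
  have hinj : Function.Injective φ := by
    rw [← LinearMap.ker_eq_bot, LinearMap.ker_eq_bot']
    intro v hv
    apply Subtype.ext
    funext x
    rw [hconst v.1 v.2 x, ← hφ, hv]
    rfl
  have hsurj : Function.Surjective φ := by
    intro c
    have hc : (fun _ : ι => c) ∈ K := by
      rw [hK, c3_mem_ker_perm]
      rfl
    exact ⟨⟨fun _ => c, hc⟩, rfl⟩
  rw [(LinearEquiv.ofBijective φ ⟨hinj, hsurj⟩).finrank_eq, Module.finrank_self]

theorem c3_M_pow (τ : Equiv.Perm ι) (k : ℕ) : c4_M F τ ^ k = c4_M F (τ ^ k) := by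
  have := congrArg Units.val (c4_gl_pow (F := F) τ k)
  rw [Units.val_pow_eq_pow_val] at this
  exact this

omit [Fintype ι] in
theorem c3_M_apply (τ : Equiv.Perm ι) (i j : ι) : c4_M F τ i j = if τ i = j then 1 else 0 := rfl

end perm

section pp
variable {F : Type*} [Field F]

/-- rich block sum (plus) ⊥ (plus) = (plus) -/
theorem c3_blk_pp_rich (k k' : ℕ)
    (g₁ : ↥(Cfsg.isometryGroup F (Cfsg.quadFormPlus k F)))
    (g₂ : ↥(Cfsg.isometryGroup F (Cfsg.quadFormPlus k' F))) :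
    ∃ g : ↥(Cfsg.isometryGroup F (Cfsg.quadFormPlus (k + k') F)),
      (∀ N : ℕ, g ^ N = 1 ↔ g₁ ^ N = 1 ∧ g₂ ^ N = 1) ∧
      fixdim (matOf g) = fixdim (matOf g₁) + fixdim (matOf g₂) ∧
      (∀ N : ℕ, nsum (matOf g) N = 0 ↔ nsum (matOf g₁) N = 0 ∧ nsum (matOf g₂) N = 0) := by
  refine c1_general (blkpp_equiv k k') (Cfsg.quadFormPlus k F) (Cfsg.quadFormPlus k' F)
    (Cfsg.quadFormPlus (k + k') F) ?_ g₁ g₂
  intro v
  unfold Cfsg.quadFormPlus
  rw [Fin.sum_univ_add]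
  simp only [blkpp_equiv_ll, blkpp_equiv_lr, blkpp_equiv_rl, blkpp_equiv_rr]

/-- the swap of a hyperbolic plane -/
theorem c3_swap_mem :
    c4_gl F (Equiv.sumComm (Fin 1) (Fin 1)) ∈ Cfsg.isometryGroup F (Cfsg.quadFormPlus 1 F) := by
  intro u _
  show Cfsg.quadFormPlus 1 F (c4_M F (Equiv.sumComm (Fin 1) (Fin 1)) *ᵥ u) = Cfsg.quadFormPlus 1 F u
  rw [c4_M_mulVec]
  unfold Cfsg.quadFormPlus
  simp [mul_comm]

/-- the swap: an involution with a line of fixed vectors and `1 + s ≠ 0` -/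
theorem c3_swap :
    ∃ s : ↥(Cfsg.isometryGroup F (Cfsg.quadFormPlus 1 F)), s ^ 2 = 1 ∧ s ≠ 1 ∧
      fixdim (matOf s) = 1 ∧ nsum (matOf s) 2 ≠ 0 := by
  have hmat : matOf (⟨c4_gl F (Equiv.sumComm (Fin 1) (Fin 1)), c3_swap_mem⟩ :
      ↥(Cfsg.isometryGroup F (Cfsg.quadFormPlus 1 F))) = c4_M F (Equiv.sumComm (Fin 1) (Fin 1)) := rfl
  have hns : nsum (c4_M F (Equiv.sumComm (Fin 1) (Fin 1))) 2 ≠ 0 := by
    intro h
    have h1 := congrFun (congrFun h (Sum.inl 0)) (Sum.inr 0)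
    unfold nsum at h1
    rw [Finset.sum_range_succ, Finset.sum_range_succ, Finset.sum_range_zero, zero_add, pow_zero,
      pow_one, Matrix.add_apply, c3_M_apply] at h1
    simp at h1
  refine ⟨⟨c4_gl F (Equiv.sumComm (Fin 1) (Fin 1)), c3_swap_mem⟩, ?_, ?_, ?_, ?_⟩
  · apply Subtype.ext
    rw [Subgroup.coe_pow, Subgroup.coe_one, c4_gl_pow]
    have : (Equiv.sumComm (Fin 1) (Fin 1) : Equiv.Perm (Fin 1 ⊕ Fin 1)) ^ 2 = 1 := by decide
    rw [this]
    apply Units.ext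
    exact c4_M_one
  · intro h
    apply hns
    have h1 : c4_M F (Equiv.sumComm (Fin 1) (Fin 1)) = 1 := by
      rw [← hmat, h]
      rfl
    exfalso
    have h2 := congrFun (congrFun h1 (Sum.inl 0)) (Sum.inr 0)
    rw [c3_M_apply] at h2
    simp at h2
  · rw [hmat]
    apply c3_fixdim_cyc _ (Sum.inl 0)
    have hb : ∀ x : Fin 1 ⊕ Fin 1, ∃ k < 2,
        ((Equiv.sumComm (Fin 1) (Fin 1) : Equiv.Perm (Fin 1 ⊕ Fin 1)) ^ k) (Sum.inl 0) = x := by
      decide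
    intro x
    obtain ⟨k, -, hk⟩ := hb x
    exact ⟨k, hk⟩
  · rw [hmat]
    exact hns

end pp

/-- ISO8B-C3 (`swap ⊕ swap` on `H ⊥ H`) -/
theorem exists_u_ss {F : Type*} [Field F] [CharP F 2] :
    ∃ u : ↥(Cfsg.isometryGroup F (Cfsg.quadFormPlus 2 F)), orderOf u = 2 ∧
      Even (fixdim (matOf u)) ∧
      nsum (matOf u) 2 ≠ 0 := by
  obtain ⟨s, hs2, hs1, hsf, hsn⟩ := c3_swap (F := F)
  obtain ⟨g, hgN, hgf, hgn⟩ := c3_blk_pp_rich 1 1 s s
  refine ⟨g, ?_, ?_, ?_⟩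
  · have : Fact (Nat.Prime 2) := ⟨Nat.prime_two⟩
    apply orderOf_eq_prime
    · exact (hgN 2).2 ⟨hs2, hs2⟩
    · intro h
      have := (hgN 1).1 (by rw [h, one_pow])
      rw [pow_one] at this
      exact hs1 this.1
  · rw [hgf, hsf]
    exact ⟨1, rfl⟩
  · intro h
    exact hsn ((hgn 2).1 h).1

end Cfsg.Agent.Lib.Helper94.Iso8
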