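import Mathlib
import Cfsg.Agent.Lib.Helper94.Iso8bDefs
import Cfsg.Agent.Lib.Helper53.Iso8bC3

/-!
# Iso8b hive (helper94, S3590), leaf ISO8B-C4: `(4-cycle on H ⊥ H) ⊕ (swap on H)` on `H ⊥ H ⊥ H`
(with the rich 4-cycle element `c4_cyc`, shared with ISO8B-C5)
-/

set_option autoImplicit false

namespace Cfsg.Agent.Lib.Helper94.Iso8

open Matrix Module

section cyc
variable {F : Type*} [Field F]

theorem c4_sigma_mem : c4_gl F c4_sigma ∈ Cfsg.isometryGroup F (Cfsg.quadFormPlus 2 F) := by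
  intro u _
  show Cfsg.quadFormPlus 2 F (c4_M F c4_sigma *ᵥ u) = Cfsg.quadFormPlus 2 F u
  rw [c4_M_mulVec]
  unfold Cfsg.quadFormPlus
  rw [Fin.sum_univ_two, Fin.sum_univ_two]
  simp only [Function.comp_apply]
  have e1 : c4_sigma (Sum.inl 0) = Sum.inl 1 := rfl
  have e2 : c4_sigma (Sum.inl 1) = Sum.inr 0 := rfl
  have e3 : c4_sigma (Sum.inr 0) = Sum.inr 1 := rfl
  have e4 : c4_sigma (Sum.inr 1) = Sum.inl 0 := rfl
  rw [e1, e2, e3, e4]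
  ring

/-- the 4-cycle on `H ⊥ H`: order 4, a line of fixed vectors, nonzero norm sum -/
theorem c4_cyc :
    ∃ c : ↥(Cfsg.isometryGroup F (Cfsg.quadFormPlus 2 F)), c ^ 4 = 1 ∧ c ^ 2 ≠ 1 ∧
      fixdim (matOf c) = 1 ∧ nsum (matOf c) 4 ≠ 0 := by
  have hmat : matOf (⟨c4_gl F c4_sigma, c4_sigma_mem⟩ :
      ↥(Cfsg.isometryGroup F (Cfsg.quadFormPlus 2 F))) = c4_M F c4_sigma := rfl
  refine ⟨⟨c4_gl F c4_sigma, c4_sigma_mem⟩, ?_, ?_, ?_, ?_⟩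
  · apply Subtype.ext
    rw [Subgroup.coe_pow, Subgroup.coe_one, c4_gl_pow, c4_sigma_pow_four]
    apply Units.ext
    exact c4_M_one
  · intro h
    have h1 := congrArg (fun x : ↥(Cfsg.isometryGroup F (Cfsg.quadFormPlus 2 F)) =>
      ((x : GL (Fin 2 ⊕ Fin 2) F) : Matrix (Fin 2 ⊕ Fin 2) (Fin 2 ⊕ Fin 2) F)) h
    simp only [Subgroup.coe_pow, Subgroup.coe_one, Units.val_one] at h1
    rw [c4_gl_pow] at h1
    have h2 : c4_M F (c4_sigma ^ 2) (Sum.inl 0) (Sum.inr 0) =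
        (1 : Matrix (Fin 2 ⊕ Fin 2) (Fin 2 ⊕ Fin 2) F) (Sum.inl 0) (Sum.inr 0) :=
      congrFun (congrFun h1 (Sum.inl 0)) (Sum.inr 0)
    rw [c3_M_apply] at h2
    have e : (c4_sigma ^ 2) (Sum.inl 0) = Sum.inr 0 := by decide
    rw [e] at h2
    simp at h2
  · rw [hmat]
    apply c3_fixdim_cyc _ (Sum.inl 0)
    have hb : ∀ x : Fin 2 ⊕ Fin 2, ∃ k < 4, (c4_sigma ^ k) (Sum.inl 0) = x := by decide
    intro x
    obtain ⟨k, -, hk⟩ := hb x
    exact ⟨k, hk⟩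
  · rw [hmat]
    intro h
    have h1 := congrFun (congrFun h (Sum.inl 0)) (Sum.inl 1)
    unfold nsum at h1
    simp only [Finset.sum_range_succ, Finset.sum_range_zero, zero_add, c3_M_pow, Matrix.add_apply,
      c3_M_apply] at h1
    have e0 : (c4_sigma ^ 0) (Sum.inl 0) = Sum.inl 0 := by decide
    have e1 : (c4_sigma ^ 1) (Sum.inl 0) = Sum.inl 1 := by decide
    have e2 : (c4_sigma ^ 2) (Sum.inl 0) = Sum.inr 0 := by decide
    have e3 : (c4_sigma ^ 3) (Sum.inl 0) = Sum.inr 1 := by decide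
    rw [e0, e1, e2, e3] at h1
    simp at h1

end cyc

/-- ISO8B-C4 (`(4-cycle inl0→inl1→inr0→inr1→inl0 on the first two planes) ⊕ (swap on the third)`
on `H ⊥ H ⊥ H`) -/
theorem exists_u_cs {F : Type*} [Field F] [CharP F 2] :
    ∃ u : ↥(Cfsg.isometryGroup F (Cfsg.quadFormPlus 3 F)), orderOf u = 4 ∧
      Even (fixdim (matOf u)) ∧
      nsum (matOf u) 4 ≠ 0 := by
  obtain ⟨s, hs2, hs1, hsf, hsn⟩ := c3_swap (F := F)
  obtain ⟨c, hc4, hc2, hcf, hcn⟩ := c4_cyc (F := F)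
  obtain ⟨g, hgN, hgf, hgn⟩ := c3_blk_pp_rich 2 1 c s
  refine ⟨g, ?_, ?_, ?_⟩
  · have : Fact (Nat.Prime 2) := ⟨Nat.prime_two⟩
    have h4 : g ^ 2 ^ (1 + 1) = 1 := by
      have : (2 : ℕ) ^ (1 + 1) = 4 := by norm_num
      rw [this]
      refine (hgN 4).2 ⟨hc4, ?_⟩
      have : (4 : ℕ) = 2 * 2 := by norm_num
      rw [this, pow_mul, hs2, one_pow]
    have h2 : ¬ g ^ 2 ^ 1 = 1 := by
      intro h
      rw [pow_one] at h
      exact hc2 ((hgN 2).1 h).1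
    have := orderOf_eq_prime_pow h2 h4
    rw [this]
    norm_num
  · rw [hgf, hcf, hsf]
    exact ⟨1, rfl⟩
  · intro h
    exact hcn ((hgn 4).1 h).1

end Cfsg.Agent.Lib.Helper94.Iso8
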