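import Mathlib
import Cfsg.Agent.Lib.Helper94.Iso8bDefs
import Cfsg.Agent.Lib.Helper53.Iso8bC4

/-!
# Iso8b hive (helper94, S3590), leaf ISO8B-C5: `(4-cycle on H ⊥ H) ⊕ (z₁ ↦ z₁ + a z₂ on the binary form)`
on `H ⊥ H ⊥ A`
-/

set_option autoImplicit false

namespace Cfsg.Agent.Lib.Helper94.Iso8

open Matrix Module

section tv
variable {F : Type*} [Field F]

/-- the index type of the binary form -/
abbrev c5_I : Type := (Fin 0 ⊕ Fin 0) ⊕ Fin 2

theorem c5_ne : (Sum.inr 0 : c5_I) ≠ Sum.inr 1 := by decide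

/-- the action of the transvection `z₁ ↦ z₁ + a z₂` -/
theorem c5_mulVec (a : F) (v : c5_I → F) :
    Matrix.transvection (Sum.inr 0 : c5_I) (Sum.inr 1) a *ᵥ v =
      fun x => if x = Sum.inr 0 then v (Sum.inr 0) + a * v (Sum.inr 1) else v x := by
  funext x
  rw [Matrix.transvection, Matrix.add_mulVec, Matrix.one_mulVec, Pi.add_apply]
  rcases x with x | x
  · rcases x with x | x <;> exact x.elim0
  · fin_cases x
    · simp [Matrix.mulVec, dotProduct]
    · simp [Matrix.mulVec, dotProduct]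

/-- the transvection on the binary form: an involution in characteristic 2 with a line of fixed vectors -/
theorem c5_tv [CharP F 2] (a b : F) (ha : a ≠ 0) :
    ∃ t : ↥(Cfsg.isometryGroup F (Cfsg.quadFormMinus 0 F a b)), t ^ 2 = 1 ∧
      fixdim (matOf t) = 1 := by
  have h2 : (2 : F) = 0 := by
    have := CharP.cast_eq_zero F 2
    exact_mod_cast this
  set T : Matrix c5_I c5_I F := Matrix.transvection (Sum.inr 0 : c5_I) (Sum.inr 1) a with hT
  have hdet : T.det = 1 := Matrix.det_transvection_of_ne _ _ c5_ne a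
  set tg : GL c5_I F := Matrix.GeneralLinearGroup.mkOfDetNeZero T (by rw [hdet]; exact one_ne_zero)
    with htg
  have htgval : (tg : Matrix c5_I c5_I F) = T := rfl
  have hmem : tg ∈ Cfsg.isometryGroup F (Cfsg.quadFormMinus 0 F a b) := by
    intro u _
    show Cfsg.quadFormMinus 0 F a b (T *ᵥ u) = Cfsg.quadFormMinus 0 F a b u
    rw [hT, c5_mulVec]
    unfold Cfsg.quadFormMinus
    simp only [Finset.univ_eq_empty, Finset.sum_empty, zero_add, if_true]
    rw [if_neg (by decide)]
    linear_combination (a * u (Sum.inr 0) * u (Sum.inr 1) + a ^ 2 * u (Sum.inr 1) ^ 2) * h2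
  have hmat : matOf (⟨tg, hmem⟩ : ↥(Cfsg.isometryGroup F (Cfsg.quadFormMinus 0 F a b))) = T := rfl
  refine ⟨⟨tg, hmem⟩, ?_, ?_⟩
  · apply Subtype.ext
    apply Units.ext
    rw [Subgroup.coe_pow, Subgroup.coe_one, Units.val_pow_eq_pow_val, Units.val_one]
    show T ^ 2 = 1
    rw [pow_two, hT, Matrix.transvection_mul_transvection_same _ _ c5_ne, ← two_mul, h2, zero_mul,
      Matrix.transvection_zero]
  · rw [hmat]
    unfold fixdim
    set K := LinearMap.ker (Matrix.toLin' T - 1) with hK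
    have hmemK : ∀ v : c5_I → F, v ∈ K ↔ v (Sum.inr 1) = 0 := by
      intro v
      rw [hK, c1_mem_ker, hT, c5_mulVec]
      constructor
      · intro h
        have h1 := congrFun h (Sum.inr 0)
        simp only [if_true] at h1
        have h3 : a * v (Sum.inr 1) = 0 := by
          have := h1
          linear_combination this
        exact (mul_eq_zero.1 h3).resolve_left ha
      · intro h
        funext x
        by_cases hx : x = Sum.inr 0
        · rw [if_pos hx, h, mul_zero, add_zero, hx]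
        · rw [if_neg hx]
    let φ : K →ₗ[F] F := (LinearMap.proj (Sum.inr 0 : c5_I)).comp K.subtype
    have hφ : ∀ v : K, φ v = v.1 (Sum.inr 0) := fun v => rfl
    have hinj : Function.Injective φ := by
      rw [← LinearMap.ker_eq_bot, LinearMap.ker_eq_bot']
      intro v hv
      apply Subtype.ext
      funext x
      rcases x with x | x
      · rcases x with x | x <;> exact x.elim0
      · fin_cases x
        · change v.1 (Sum.inr 0) = 0
          rw [← hφ, hv]
        · exact (hmemK v.1).1 v.2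
    have hsurj : Function.Surjective φ := by
      intro c
      have hc : (Pi.single (Sum.inr 0 : c5_I) c : c5_I → F) ∈ K := by
        rw [hmemK]
        simp
      refine ⟨⟨_, hc⟩, ?_⟩
      rw [hφ]
      simp
    rw [(LinearEquiv.ofBijective φ ⟨hinj, hsurj⟩).finrank_eq, Module.finrank_self]

end tv

/-- ISO8B-C5 (`(4-cycle on H ⊥ H) ⊕ (z₁ ↦ z₁ + a z₂ on the binary form)` on `H ⊥ H ⊥ A`) -/
theorem exists_u_cr {F : Type*} [Field F] [CharP F 2] (a b : F) (ha : a ≠ 0) :
    ∃ u : ↥(Cfsg.isometryGroup F (Cfsg.quadFormMinus 2 F a b)), orderOf u = 4 ∧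
      Even (fixdim (matOf u)) ∧
      nsum (matOf u) 4 ≠ 0 := by
  obtain ⟨t, ht2, htf⟩ := c5_tv (F := F) a b ha
  obtain ⟨c, hc4, hc2, hcf, hcn⟩ := c4_cyc (F := F)
  obtain ⟨g, hgN, hgf, hgn⟩ := blk_pm_rich a b 2 0 c t
  refine ⟨g, ?_, ?_, ?_⟩
  · have : Fact (Nat.Prime 2) := ⟨Nat.prime_two⟩
    have h4 : g ^ 2 ^ (1 + 1) = 1 := by
      have : (2 : ℕ) ^ (1 + 1) = 4 := by norm_num
      rw [this]
      refine (hgN 4).2 ⟨hc4, ?_⟩
      have : (4 : ℕ) = 2 * 2 := by norm_num
      rw [this, pow_mul, ht2, one_pow]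
    have h2 : ¬ g ^ 2 ^ 1 = 1 := by
      intro h
      rw [pow_one] at h
      exact hc2 ((hgN 2).1 h).1
    have := orderOf_eq_prime_pow h2 h4
    rw [this]
    norm_num
  · rw [hgf, hcf, htf]
    exact ⟨1, rfl⟩
  · intro h
    exact hcn ((hgn 4).1 h).1

end Cfsg.Agent.Lib.Helper94.Iso8
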