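import Mathlib
import Cfsg.Agent.Lib.Helper53.MetaAutB

set_option autoImplicit false
set_option linter.style.haveILetI false
set_option linter.unusedSectionVars false
set_option linter.unusedVariables false
set_option maxHeartbeats 1000000

/-!
# A second characteristic subgroup of order `p ^ 2`

If `Ω₁(L)` is not central in the metacyclic `p`-group `L` (`p` odd, no cyclic maximal subgroup),
then the derived subgroup of `L` is cyclic of order at least `p ^ 2`, hence contains a cyclic
subgroup of order `p ^ 2` invariant under all automorphisms of `L`.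
-/

namespace Cfsg.Agent.Lib.Helper53

open scoped commutatorElement

variable {L : Type*} [Group L] [Finite L] {p : ℕ} [hpf : Fact p.Prime]

theorem ma_commutator_le_of_comm (N : Subgroup L) [N.Normal]
    (h : ∀ a b : L ⧸ N, a * b = b * a) : commutator L ≤ N := by
  rw [_root_.commutator_def, Subgroup.commutator_le]
  intro x _ y _
  rw [← QuotientGroup.eq_one_iff, commutatorElement_def]
  show ((x * y * x⁻¹ * y⁻¹ : L) : L ⧸ N) = 1
  rw [QuotientGroup.mk_mul, QuotientGroup.mk_mul, QuotientGroup.mk_mul, QuotientGroup.mk_inv,
      QuotientGroup.mk_inv, h (x : L ⧸ N) (y : L ⧸ N)]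
  group

/-- The derived subgroup of a metacyclic group is cyclic. -/
theorem ma_isCyclic_commutator (hm : Cfsg.IsMetacyclic L) : IsCyclic ↥(commutator L) := by
  obtain ⟨N, hNn, hNc, hQc⟩ := hm
  haveI := hNn
  haveI := hNc
  haveI := hQc
  have hle : commutator L ≤ N := by
    apply ma_commutator_le_of_comm
    intro a b
    exact (IsCyclic.commGroup (α := L ⧸ N)).mul_comm a b
  exact Subgroup.isCyclic_of_le hle

theorem ma_exists_cyclic_char (hp2 : p ≠ 2) (hL : IsPGroup p L) (hm : Cfsg.IsMetacyclic L)
    (hnc : ∀ C : Subgroup L, IsCyclic C → C.index ≠ p)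
    (E : Subgroup L) (hE : ∀ x : L, x ∈ E ↔ x ^ p = 1) (hEc : Nat.card E = p ^ 2)
    (hncen : ¬ E ≤ Subgroup.center L) :
    ∃ Y : Subgroup L, IsCyclic ↥Y ∧ Nat.card Y = p ^ 2 ∧
      ∀ σ : MulAut L, Y.map σ.toMonoidHom = Y := by
  have hp := hpf.out
  haveI hcyc : IsCyclic ↥(commutator L) := ma_isCyclic_commutator hm
  have hDp : IsPGroup p ↥(commutator L) := hL.to_subgroup _
  obtain ⟨j, hj⟩ := IsPGroup.iff_card.mp hDp
  by_cases hsmall : j ≤ 1
  · exfalso
    have hdvd : Nat.card ↥(commutator L) ∣ p := by
      rw [hj]
      calc p ^ j ∣ p ^ 1 := pow_dvd_pow p hsmall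
        _ = p := pow_one p
    -- class two
    have hct : CTwo p L := by
      constructor
      · intro x y
        have hmem : ⁅x, y⁆ ∈ commutator L := by
          rw [_root_.commutator_def]
          exact Subgroup.commutator_mem_commutator (Subgroup.mem_top x) (Subgroup.mem_top y)
        rcases (Nat.dvd_prime hp).mp hdvd with h1 | h1
        · rw [Subgroup.card_eq_one] at h1
          rw [h1, Subgroup.mem_bot] at hmem
          rw [hmem]
          exact Subgroup.one_mem _
        · haveI : (commutator L).Normal := inferInstance
          exact normal_le_center_of_card_prime hL (commutator L) h1 hmem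
      · intro x y
        have hmem : ⁅x, y⁆ ∈ commutator L := by
          rw [_root_.commutator_def]
          exact Subgroup.commutator_mem_commutator (Subgroup.mem_top x) (Subgroup.mem_top y)
        have h1 : (⟨⁅x, y⁆, hmem⟩ : ↥(commutator L)) ^ Nat.card ↥(commutator L) = 1 :=
          pow_card_eq_one'
        obtain ⟨c, hc⟩ := hdvd
        have h2 : (⟨⁅x, y⁆, hmem⟩ : ↥(commutator L)) ^ p = 1 := by
          rw [hc, pow_mul, h1, one_pow]
        have h3 := congrArg Subtype.val h2
        simpa using h3
    set φ : L →* L := hct.ppow hp hp2 1 with hφ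
    have hφa : ∀ x : L, φ x = x ^ p := by
      intro x
      rw [hφ, CTwo.ppow_apply, pow_one]
    have hker : φ.ker = E := by
      ext x
      rw [MonoidHom.mem_ker, hφa, hE]
    have hMcen : φ.range ≤ Subgroup.center L := by
      rintro _ ⟨x, rfl⟩
      rw [hφa]
      exact hct.pow_mem_center x
    have hMcard : p ^ 2 * Nat.card φ.range = Nat.card L := by
      have h1 := Subgroup.card_mul_index φ.ker
      rwa [Subgroup.index_ker, hker, hEc] at h1
    -- `φ.range` is not cyclic
    have hMnc : ¬ IsCyclic ↥φ.range := by
      intro hMc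
      obtain ⟨q, hq⟩ := hMc.exists_generator
      obtain ⟨g, hg⟩ := q.2
      have hqo : orderOf q = Nat.card ↥φ.range := orderOf_eq_card_of_forall_mem_zpowers hq
      have hgq : g ^ p = (q : L) := by rw [← hφa]; exact hg
      have hqo' : orderOf (g ^ p) = Nat.card ↥φ.range := by
        rw [hgq, Subgroup.orderOf_coe, hqo]
      obtain ⟨k, hk⟩ := IsPGroup.iff_orderOf.mp hL g
      by_cases hk0 : k = 0
      · -- `g = 1`
        rw [hk0, pow_zero, orderOf_eq_one_iff] at hk
        rw [hk, one_pow, orderOf_one] at hqo'
        rw [← hqo', mul_one] at hMcard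
        -- `L = E` is abelian
        apply hncen
        have hLE : E = ⊤ := by
          apply Subgroup.eq_top_of_card_eq
          rw [hEc, hMcard]
        have hcomm : ∀ a b : L, a * b = b * a :=
          IsPGroup.commutative_of_card_eq_prime_sq hMcard.symm
        intro x _
        rw [Subgroup.mem_center_iff]
        intro g'
        exact hcomm g' x
      · have hpd : p ∣ orderOf g := by rw [hk]; exact dvd_pow_self p hk0
        have h1 : orderOf (g ^ p) = orderOf g / p := orderOf_pow_of_dvd hp.ne_zero hpd
        rw [hqo'] at h1
        have h2 : orderOf g = p * Nat.card ↥φ.range := by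
          rw [h1, Nat.mul_div_cancel' hpd]
        apply hnc (Subgroup.zpowers g) inferInstance
        have h3 := Subgroup.card_mul_index (Subgroup.zpowers g)
        rw [Nat.card_zpowers, h2, ← hMcard] at h3
        have h4 : p * Nat.card ↥φ.range * (Subgroup.zpowers g).index =
            p * Nat.card ↥φ.range * p := by rw [h3]; ring
        have hpos : 0 < p * Nat.card ↥φ.range := Nat.mul_pos hp.pos Nat.card_pos
        exact Nat.eq_of_mul_eq_mul_left hpos h4
    have hMp : IsPGroup p ↥φ.range := hL.to_subgroup _
    rcases Cfsg.Agent.Lib.Helper52.normal_rank_two p hMp with ⟨N, hNn, hNc, hNe⟩ | hc | ⟨h2, _⟩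
    · have hle : N.map φ.range.subtype ≤ E := by
        rintro _ ⟨x, hx, rfl⟩
        rw [hE]
        have := hNe x hx
        have h2 := congrArg Subtype.val this
        simpa using h2
      have hcard : Nat.card (N.map φ.range.subtype) = p ^ 2 := by
        rw [Subgroup.card_map_of_injective φ.range.subtype_injective, hNc]
      have heq : N.map φ.range.subtype = E := Subgroup.eq_of_le_of_card_ge hle (by rw [hcard, hEc])
      apply hncen
      rw [← heq]
      rintro _ ⟨x, _, rfl⟩
      exact hMcen x.2
    · exact hMnc hc
    · exact hp2 h2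
  · have hj2 : 2 ≤ j := by omega
    have hdvd : p ^ 2 ∣ Nat.card ↥(commutator L) := by rw [hj]; exact pow_dvd_pow p hj2
    obtain ⟨K, hK⟩ := Sylow.exists_subgroup_card_pow_prime p hdvd
    refine ⟨K.map (commutator L).subtype, ?_, ?_, ?_⟩
    · exact isCyclic_of_surjective ((commutator L).subtype.subgroupMap K)
        ((commutator L).subtype.subgroupMap_surjective K)
    · rw [Subgroup.card_map_of_injective (commutator L).subtype_injective, hK]
    · intro σ
      have hchar : (commutator L).map σ.toMonoidHom = commutator L :=
        Subgroup.characteristic_iff_map_eq.mp inferInstance σ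
      have hle1 : K.map (commutator L).subtype ≤ commutator L := by
        rintro _ ⟨x, _, rfl⟩
        exact x.2
      have hle2 : (K.map (commutator L).subtype).map σ.toMonoidHom ≤ commutator L := by
        exact (Subgroup.map_mono hle1).trans hchar.le
      have hcard2 : Nat.card ↥(((K.map (commutator L).subtype).map σ.toMonoidHom).subgroupOf
          (commutator L)) = Nat.card ↥K := by
        rw [Nat.card_congr (Subgroup.subgroupOfEquivOfLe hle2).toEquiv,
          Subgroup.card_map_of_injective σ.injective,
          Subgroup.card_map_of_injective (commutator L).subtype_injective]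
      have heq := Cfsg.Agent.Lib.Helper70.kk_cyclic_unique _ _ hcard2
      rw [← Subgroup.map_subgroupOf_eq_of_le hle2, heq]

end Cfsg.Agent.Lib.Helper53
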