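import Mathlib
import Cfsg.Agent.Lib.Helper53.MetaAutC
import Cfsg.Agent.Lib.Helper53.MetaAutD
import Cfsg.Agent.Lib.Helper87.MaxClassCenter
import Cfsg.Agent.S0112

set_option autoImplicit false
set_option linter.style.haveILetI false
set_option linter.unusedSectionVars false
set_option linter.unusedVariables false
set_option maxHeartbeats 1000000

/-!
# The semidirect product `L ⋊ ⟨a⟩` for an automorphism `a` of order `p` of a `p`-group `L`
-/

namespace Cfsg.Agent.Lib.Helper53

open scoped commutatorElement

variable {L : Type*} [Group L]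

/-- the semidirect product `L ⋊ ⟨a⟩` -/
abbrev MaG (a : MulAut L) : Type _ :=
  SemidirectProduct L ↥(Subgroup.zpowers a) (Subgroup.zpowers a).subtype

/-- the element `a` of `L ⋊ ⟨a⟩` -/
def maHat (a : MulAut L) : MaG a := SemidirectProduct.inr ⟨a, Subgroup.mem_zpowers a⟩

theorem ma_hat_conj (a : MulAut L) (x : L) :
    maHat a * SemidirectProduct.inl x * (maHat a)⁻¹ = SemidirectProduct.inl (a x) := by
  rw [maHat, ← map_inv, ← SemidirectProduct.inl_aut]
  rfl

/-- subgroups invariant under `a` are invariant under `⟨a⟩` -/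
theorem ma_zpowers_invariant (a : MulAut L) (H : Subgroup L) (ha : ∀ x : L, a x ∈ H ↔ x ∈ H)
    (b : MulAut L) (hb : b ∈ Subgroup.zpowers a) : ∀ x : L, b x ∈ H ↔ x ∈ H := by
  let S : Subgroup (MulAut L) :=
    { carrier := {b | ∀ x : L, b x ∈ H ↔ x ∈ H}
      mul_mem' := by
        intro b c hb hc x
        rw [MulAut.mul_apply, hb, hc]
      one_mem' := by
        intro x
        rw [MulAut.one_apply]
      inv_mem' := by
        intro b hb x
        rw [← hb (b⁻¹ x), MulAut.apply_inv_self] }
  have h1 : Subgroup.zpowers a ≤ S := Subgroup.zpowers_le.2 ha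
  exact h1 hb

theorem ma_zpowers_fix (a : MulAut L) (e : L) (ha : a e = e)
    (b : MulAut L) (hb : b ∈ Subgroup.zpowers a) : b e = e := by
  let S : Subgroup (MulAut L) :=
    { carrier := {b | b e = e}
      mul_mem' := by
        intro b c hb hc
        show (b * c) e = e
        rw [MulAut.mul_apply, hc, hb]
      one_mem' := rfl
      inv_mem' := by
        intro b hb
        show b⁻¹ e = e
        have h1 : b⁻¹ (b e) = e := MulAut.inv_apply_self L b e
        rw [hb] at h1
        exact h1 }
  have h1 : Subgroup.zpowers a ≤ S := Subgroup.zpowers_le.2 ha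
  exact h1 hb

/-- `a`-invariant normal subgroups of `L` are normal in `L ⋊ ⟨a⟩`. -/
theorem ma_normal_map_inl (a : MulAut L) (H : Subgroup L) [hn : H.Normal]
    (ha : ∀ x : L, a x ∈ H ↔ x ∈ H) :
    (H.map (SemidirectProduct.inl : L →* MaG a)).Normal := by
  constructor
  rintro _ ⟨h, hh, rfl⟩ g
  refine ⟨g.left * ((Subgroup.zpowers a).subtype g.right) h * g.left⁻¹, ?_, ?_⟩
  · apply hn.conj_mem
    exact (ma_zpowers_invariant a H ha _ g.right.2 h).2 hh
  · have hg := SemidirectProduct.inl_left_mul_inr_right g
    rw [map_mul, map_mul, map_inv, SemidirectProduct.inl_aut, map_inv]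
    calc SemidirectProduct.inl g.left *
          (SemidirectProduct.inr g.right * SemidirectProduct.inl h *
            (SemidirectProduct.inr g.right)⁻¹) * (SemidirectProduct.inl g.left)⁻¹
        = (SemidirectProduct.inl g.left * SemidirectProduct.inr g.right) *
            SemidirectProduct.inl h *
            (SemidirectProduct.inl g.left * SemidirectProduct.inr g.right)⁻¹ := by group
      _ = g * SemidirectProduct.inl h * g⁻¹ := by rw [hg]

theorem ma_mem_centralizer_hat_iff (a : MulAut L) (x : MaG a) :
    x ∈ Subgroup.centralizer ({maHat a} : Set (MaG a)) ↔ a x.left = x.left := by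
  rw [Subgroup.mem_centralizer_singleton_iff]
  constructor
  · intro h
    have h1 := congrArg SemidirectProduct.left h
    rw [SemidirectProduct.mul_left, SemidirectProduct.mul_left] at h1
    simp only [maHat, SemidirectProduct.left_inr, SemidirectProduct.right_inr, map_one,
      mul_one, one_mul] at h1
    exact h1.symm
  · intro h
    apply SemidirectProduct.ext
    · rw [SemidirectProduct.mul_left, SemidirectProduct.mul_left]
      simp only [maHat, SemidirectProduct.left_inr, SemidirectProduct.right_inr, map_one,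
        mul_one, one_mul]
      exact h.symm
    · rw [SemidirectProduct.mul_right, SemidirectProduct.mul_right]
      exact mul_comm' _ _

/-- the centralizer of `a` in `L ⋊ ⟨a⟩` -/
theorem ma_card_centralizer_hat (a : MulAut L) (F : Subgroup L) (hF : ∀ x : L, x ∈ F ↔ a x = x) :
    Nat.card ↥(Subgroup.centralizer ({maHat a} : Set (MaG a))) =
      Nat.card ↥F * Nat.card ↥(Subgroup.zpowers a) := by
  rw [← Nat.card_prod]
  apply Nat.card_congr
  exact
    { toFun := fun x => (⟨x.1.left, (hF _).2 ((ma_mem_centralizer_hat_iff a x.1).1 x.2)⟩, x.1.right)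
      invFun := fun y => ⟨⟨y.1.1, y.2⟩, (ma_mem_centralizer_hat_iff a _).2 ((hF _).1 y.1.2)⟩
      left_inv := fun x => rfl
      right_inv := fun y => rfl }

section finite

variable [Finite L] {p : ℕ} [hpf : Fact p.Prime]

theorem ma_card (a : MulAut L) (ha : orderOf a = p) (m : ℕ) (hm : Nat.card L = p ^ m) :
    Nat.card (MaG a) = p ^ (m + 1) := by
  rw [SemidirectProduct.card, hm, Nat.card_zpowers, ha, pow_succ]

/-- Suzuki: if `a` has exactly `p` fixed points then `L ⋊ ⟨a⟩` has maximal class. -/
theorem ma_class_of_fixed (a : MulAut L) (ha : orderOf a = p) (m : ℕ) (hm : Nat.card L = p ^ m)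
    (F : Subgroup L) (hF : ∀ x : L, x ∈ F ↔ a x = x) (hFc : Nat.card F = p) :
    Group.nilpotencyClass (MaG a) = m := by
  have hcard := ma_card a ha m hm
  haveI : Finite (MaG a) := Nat.finite_of_card_ne_zero (by
    rw [hcard]; exact (pow_pos hpf.out.pos _).ne')
  set A := Subgroup.centralizer ({maHat a} : Set (MaG a)) with hA
  have hAc : Nat.card ↥A = p ^ 2 := by
    rw [hA, ma_card_centralizer_hat a F hF, hFc, Nat.card_zpowers, ha, pow_two]
  have hAcomm : ∀ x y : ↥A, x * y = y * x := IsPGroup.commutative_of_card_eq_prime_sq hAc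
  have hhat : maHat a ∈ A := by
    rw [hA, Subgroup.mem_centralizer_singleton_iff]
  have hC : Subgroup.centralizer (A : Set (MaG a)) = A := by
    apply le_antisymm
    · intro x hx
      rw [hA, Subgroup.mem_centralizer_singleton_iff]
      exact (hx (maHat a) hhat).symm
    · intro x hx
      rw [Subgroup.mem_centralizer_iff]
      intro y hy
      have := hAcomm ⟨y, hy⟩ ⟨x, hx⟩
      exact congrArg Subtype.val this
  have := Cfsg.Agent.S0112.main p (m + 1) (MaG a) hcard A hAc hC
  rw [this]
  omega

/-- `(a - 1)^2 = 0` on an `a`-invariant normal subgroup of order `p ^ 2`. -/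
theorem ma_N1 (hL : IsPGroup p L) (a : MulAut L) (ha : orderOf a = p)
    (E : Subgroup L) [hEn : E.Normal] (haE : ∀ x : L, a x ∈ E ↔ x ∈ E)
    (hEc : Nat.card E = p ^ 2) : ∀ e ∈ E, a (e⁻¹ * a e) = e⁻¹ * a e := by
  intro e he
  obtain ⟨m, hm⟩ := IsPGroup.iff_card.mp hL
  have hG : IsPGroup p (MaG a) := IsPGroup.of_card (ma_card a ha m hm)
  haveI : Finite (MaG a) := Nat.finite_of_card_ne_zero (by
    rw [ma_card a ha m hm]; exact (pow_pos hpf.out.pos _).ne')
  haveI hn := ma_normal_map_inl a E haE
  have hcard : Nat.card ↥(E.map (SemidirectProduct.inl : L →* MaG a)) = p ^ 2 := by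
    rw [Subgroup.card_map_of_injective SemidirectProduct.inl_injective, hEc]
  have hx : (SemidirectProduct.inl e⁻¹ : MaG a) ∈ E.map (SemidirectProduct.inl : L →* MaG a) :=
    Subgroup.mem_map_of_mem _ (E.inv_mem he)
  have hc := comm_mem_center_of_normal_card_sq hG _ hcard hx (maHat a)
  have hcomp : ⁅(SemidirectProduct.inl e⁻¹ : MaG a), maHat a⁆ =
      SemidirectProduct.inl (e⁻¹ * a e) := by
    rw [commutatorElement_def, map_mul, ← ma_hat_conj, map_inv, inv_inv]
    group
  rw [hcomp, Subgroup.mem_center_iff] at hc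
  have h1 := hc (maHat a)
  have h2 : maHat a * SemidirectProduct.inl (e⁻¹ * a e) * (maHat a)⁻¹ =
      SemidirectProduct.inl (e⁻¹ * a e) := by
    rw [h1, mul_inv_cancel_right]
  rw [ma_hat_conj] at h2
  exact SemidirectProduct.inl_injective h2

/-- the converse: if `a` centralizes `Ω₁(L)` then `L ⋊ ⟨a⟩` is not of maximal class. -/
theorem ma_not_maxClass (hp2 : p ≠ 2) (hL : IsPGroup p L) (hmc : Cfsg.IsMetacyclic L)
    (hnc : ∀ C : Subgroup L, IsCyclic C → C.index ≠ p)
    (a : MulAut L) (ha : orderOf a = p) (m : ℕ) (hm : Nat.card L = p ^ m)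
    (E : Subgroup L) (hE : ∀ x : L, x ∈ E ↔ x ^ p = 1) (hEc : Nat.card E = p ^ 2)
    (hfix : ∀ e ∈ E, a e = e) : Group.nilpotencyClass (MaG a) ≠ m := by
  intro hclass
  have hp := hpf.out
  haveI hEn : E.Normal := ma_normal_of_omega E hE
  have haE : ∀ x : L, a x ∈ E ↔ x ∈ E := by
    intro x
    rw [hE, hE, ← map_pow, MulEquiv.map_eq_one_iff]
  have hcard := ma_card a ha m hm
  have hG : IsPGroup p (MaG a) := IsPGroup.of_card hcard
  haveI : Finite (MaG a) := Nat.finite_of_card_ne_zero (by
    rw [hcard]; exact (pow_pos hp.pos _).ne')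
  haveI hnil : Group.IsNilpotent (MaG a) := hG.isNilpotent
  -- `m ≥ 4`
  obtain ⟨W, hW, hWc⟩ := ma_exists_omega_two hp2 hL hmc hnc E hE hEc
  have hm4 : 4 ≤ m := by
    have h1 : Nat.card ↥W ∣ Nat.card L := Subgroup.card_subgroup_dvd_card W
    rw [hWc, hm] at h1
    exact (Nat.pow_dvd_pow_iff_le_right hp.one_lt).mp h1
  have hmax : (⊤ : Subgroup (MaG a)).lowerCentralSeries (m + 1 - 2) ≠ ⊥ := by
    intro h
    have h1 := _root_.lowerCentralSeries_eq_bot_iff_nilpotencyClass_le.mp h
    omega
  obtain ⟨hZ1, hZ2⟩ := Cfsg.Agent.Lib.Helper87.card_center_of_maxClass (m + 1) (by omega)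
    hcard hmax
  -- `E` gives the second centre
  haveI hEGn := ma_normal_map_inl a E haE
  have hEGc : Nat.card ↥(E.map (SemidirectProduct.inl : L →* MaG a)) = p ^ 2 := by
    rw [Subgroup.card_map_of_injective SemidirectProduct.inl_injective, hEc]
  have hEG2 : E.map (SemidirectProduct.inl : L →* MaG a) = Subgroup.upperCentralSeries (MaG a) 2 :=
    Subgroup.eq_of_le_of_card_ge (normal_le_ucs_of_card_le_p hG _ 2 hEGc.le) (by rw [hEGc, hZ2])
  by_cases hcen : E ≤ Subgroup.center L
  · -- then `E ≤ Z(G)`
    have hle : E.map (SemidirectProduct.inl : L →* MaG a) ≤ Subgroup.upperCentralSeries (MaG a) 1 := by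
      rw [Subgroup.upperCentralSeries_one]
      rintro _ ⟨e, he, rfl⟩
      rw [Subgroup.mem_center_iff]
      intro g
      have hg := SemidirectProduct.inl_left_mul_inr_right g
      have h1 : SemidirectProduct.inl g.left * (SemidirectProduct.inl e : MaG a) =
          SemidirectProduct.inl e * SemidirectProduct.inl g.left := by
        rw [← map_mul, ← map_mul]
        congr 1
        exact (Subgroup.mem_center_iff.mp (hcen he) g.left)
      have h2 : SemidirectProduct.inr g.right * (SemidirectProduct.inl e : MaG a) =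
          SemidirectProduct.inl e * SemidirectProduct.inr g.right := by
        have h3 := SemidirectProduct.inl_aut (φ := (Subgroup.zpowers a).subtype) g.right e
        have h4 : ((Subgroup.zpowers a).subtype g.right) e = e :=
          ma_zpowers_fix a e (hfix e he) _ g.right.2
        rw [h4, map_inv] at h3
        calc SemidirectProduct.inr g.right * (SemidirectProduct.inl e : MaG a)
            = (SemidirectProduct.inr g.right * SemidirectProduct.inl e *
                (SemidirectProduct.inr g.right)⁻¹) * SemidirectProduct.inr g.right := by group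
          _ = SemidirectProduct.inl e * SemidirectProduct.inr g.right := by rw [← h3]
      rw [← hg, mul_assoc, h2, ← mul_assoc, h1, mul_assoc]
    have := Subgroup.card_le_of_le hle
    rw [hEGc, hZ1] at this
    have h2 : p < p ^ 2 := by
      calc p = p ^ 1 := (pow_one p).symm
        _ < p ^ 2 := Nat.pow_lt_pow_right hp.one_lt (by norm_num)
    omega
  · obtain ⟨Y, hYc, hYcard, hYinv⟩ := ma_exists_cyclic_char hp2 hL hmc hnc E hE hEc hcen
    haveI hYn : Y.Normal := by
      constructor
      intro n hn g
      have h1 := hYinv (MulAut.conj g)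
      have h2 : (MulAut.conj g) n ∈ Y.map (MulAut.conj g).toMonoidHom :=
        Subgroup.mem_map_of_mem _ hn
      rw [h1] at h2
      simpa [MulAut.conj_apply] using h2
    have haY : ∀ x : L, a x ∈ Y ↔ x ∈ Y := by
      intro x
      constructor
      · intro h
        have h1 := hYinv a
        rw [← h1] at h
        obtain ⟨y, hy, hyx⟩ := h
        have : y = x := a.injective hyx
        rw [← this]
        exact hy
      · intro h
        have h1 := hYinv a
        rw [← h1]
        exact Subgroup.mem_map_of_mem _ h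
    haveI hYGn := ma_normal_map_inl a Y haY
    have hYGc : Nat.card ↥(Y.map (SemidirectProduct.inl : L →* MaG a)) = p ^ 2 := by
      rw [Subgroup.card_map_of_injective SemidirectProduct.inl_injective, hYcard]
    have hYG2 : Y.map (SemidirectProduct.inl : L →* MaG a) =
        Subgroup.upperCentralSeries (MaG a) 2 :=
      Subgroup.eq_of_le_of_card_ge (normal_le_ucs_of_card_le_p hG _ 2 hYGc.le) (by rw [hYGc, hZ2])
    have hYE : Y = E :=
      Subgroup.map_injective SemidirectProduct.inl_injective (hYG2.trans hEG2.symm)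
    -- but `Y` is cyclic of order `p ^ 2`
    haveI := hYc
    obtain ⟨g, hg⟩ := IsCyclic.exists_ofOrder_eq_natCard (α := ↥Y)
    rw [hYcard] at hg
    have hgE : (g : L) ∈ E := by rw [← hYE]; exact g.2
    have h1 : (g : L) ^ p = 1 := (hE _).1 hgE
    have h2 : orderOf (g : L) = p ^ 2 := by rw [Subgroup.orderOf_coe, hg]
    have h3 : orderOf (g : L) ∣ p := orderOf_dvd_of_pow_eq_one h1
    rw [h2] at h3
    have h4 := Nat.le_of_dvd hp.pos h3
    have h5 : p < p ^ 2 := by
      calc p = p ^ 1 := (pow_one p).symm
        _ < p ^ 2 := Nat.pow_lt_pow_right hp.one_lt (by norm_num)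
    omega

end finite

end Cfsg.Agent.Lib.Helper53
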