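import Mathlib
import Cfsg.Agent.Lib.Helper53.MetaAb3
import Cfsg.Agent.Lib.Helper53.MetaOmega
import Cfsg.Agent.Lib.Helper24.Coprime
import Cfsg.Agent.Lib.Helper24.CoprimeAbelian
import Cfsg.Agent.Lib.Helper52.NormalRankTwo

set_option autoImplicit false
set_option linter.unusedSectionVars false
set_option linter.style.haveILetI false
set_option maxHeartbeats 1000000

/-!
Coprime action on a metacyclic `p`-subgroup, `p` odd (subgroup-level statements).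
-/

namespace Cfsg.Agent.Lib.Helper53

open scoped commutatorElement
open Subgroup

variable {G : Type*} [Group G] [Finite G]

/-- `[R, A]` is commutative for a metacyclic `p`-subgroup `R`, `p` odd, and a `p'`-subgroup `A`
normalizing `R`. -/
theorem isMulCommutative_commutator_of_metacyclic (p : ℕ) [hpf : Fact p.Prime] (hp : p ≠ 2)
    (R A : Subgroup G) (hR : IsPGroup p R) (hRm : Cfsg.IsMetacyclic R)
    (hA : A ≤ normalizer (R : Set G)) (hcop : (Nat.card A).Coprime p) :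
    IsMulCommutative ↥⁅R, A⁆ := by
  obtain ⟨B, hB⟩ : ∃ B : Subgroup G, B = ⁅R, A⁆ := ⟨_, rfl⟩
  rw [← hB]
  have hBR : B ≤ R := hB ▸ Cfsg.Agent.Lib.Helper24.commutator_le_of_le_normalizer R A hA
  have hAB : A ≤ normalizer (B : Set G) :=
    hB ▸ Cfsg.Agent.Lib.Helper24.le_normalizer_commutator_right R A hA
  have hcopR : (Nat.card A).Coprime (Nat.card R) := by
    obtain ⟨n, hn⟩ := IsPGroup.iff_card.1 hR
    rw [hn]
    exact Nat.Coprime.pow_right n hcop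
  haveI : Group.IsNilpotent R := hR.isNilpotent
  have hsolv : Group.IsSolvable A ∨ Group.IsSolvable R := Or.inr inferInstance
  have hBA : ⁅B, A⁆ = B := by
    rw [hB]
    exact Cfsg.Agent.Lib.Helper24.commutator_commutator_eq A R hA hcopR hsolv
  have hBp : IsPGroup p B := hR.to_le hBR
  have hBm : Cfsg.IsMetacyclic B :=
    Cfsg.Agent.S4419.isMetacyclic_of_injective (Subgroup.inclusion hBR)
      (Subgroup.inclusion_injective hBR) hRm
  obtain ⟨θ, hθ⟩ : ∃ θ : ↥A →* MulAut ↥B,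
      θ = B.normalizerMonoidHom.comp (Subgroup.inclusion hAB) := ⟨_, rfl⟩
  have hθapp : ∀ (a : A) (b : B), ((θ a b : B) : G) = (a : G) * b * (a : G)⁻¹ := by
    intro a b
    rw [hθ]
    rfl
  have hcop𝒜 : (Nat.card θ.range).Coprime p :=
    Nat.Coprime.coprime_dvd_left (Subgroup.card_range_dvd θ) hcop
  have hgen : Subgroup.closure {x : ↥B | ∃ α ∈ θ.range, ∃ y : ↥B, x = α y * y⁻¹} = ⊤ := by
    apply Subgroup.map_injective B.subtype_injective
    rw [MonoidHom.map_closure, ← MonoidHom.range_eq_map, Subgroup.range_subtype]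
    apply le_antisymm
    · rw [Subgroup.closure_le]
      rintro _ ⟨x, _, rfl⟩
      exact x.2
    · conv_lhs => rw [← hBA]
      rw [Subgroup.commutator_le]
      intro b hb a ha
      have h1 : ⁅a, b⁆ ∈ (B.subtype '' {x : ↥B | ∃ α ∈ θ.range, ∃ y : ↥B, x = α y * y⁻¹}) := by
        refine ⟨θ ⟨a, ha⟩ ⟨b, hb⟩ * (⟨b, hb⟩ : B)⁻¹, ⟨θ ⟨a, ha⟩, ⟨_, rfl⟩, ⟨b, hb⟩, rfl⟩, ?_⟩
        rw [Subgroup.subtype_apply, Subgroup.coe_mul, hθapp, Subgroup.coe_inv, commutatorElement_def]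
      have h2 : ⁅b, a⁆ = ⁅a, b⁆⁻¹ := (commutatorElement_inv a b).symm
      rw [h2]
      exact Subgroup.inv_mem _ (Subgroup.subset_closure h1)
  have hcomm := comm_of_metacyclic_action hp hBp hBm θ.range hcop𝒜 hgen
  exact ⟨⟨hcomm⟩⟩

/-- If the elements of order dividing `p` of the `p`-group `R` form a subgroup of order at most
`p ^ 2`, and `X`, `Y` are subgroups of `R` meeting trivially with `Y ≠ 1`, then `X` is cyclic. -/
theorem isCyclic_of_omega_le (p : ℕ) [hpf : Fact p.Prime] (hp2 : p ≠ 2) (R X Y : Subgroup G)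
    (hR : IsPGroup p R) (W : Subgroup ↥R) (hW : ∀ x : ↥R, x ∈ W ↔ x ^ p = 1)
    (hWc : Nat.card W ≤ p ^ 2) (hX : X ≤ R) (hY : Y ≤ R) (hXY : X ⊓ Y = ⊥) (hY1 : Y ≠ ⊥) :
    IsCyclic ↥X := by
  have hXp : IsPGroup p X := hR.to_le hX
  have hYp : IsPGroup p Y := hR.to_le hY
  rcases Cfsg.Agent.Lib.Helper52.normal_rank_two p hXp with h | h | h
  · exfalso
    obtain ⟨N, -, hNcard, hNexp⟩ := h
    have hNW : N.map (Subgroup.inclusion hX) ≤ W := by
      rintro _ ⟨n, hn, rfl⟩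
      rw [hW, ← map_pow, hNexp n hn, map_one]
    have hcard : Nat.card (N.map (Subgroup.inclusion hX)) = p ^ 2 := by
      rw [Subgroup.card_map_of_injective (Subgroup.inclusion_injective hX), hNcard]
    have hEq : N.map (Subgroup.inclusion hX) = W :=
      Subgroup.eq_of_le_of_card_ge hNW (by rw [hcard]; exact hWc)
    -- an element of order `p` in `Y`
    have hpY : p ∣ Nat.card Y := by
      obtain ⟨m, hm⟩ := IsPGroup.iff_card.1 hYp
      rcases Nat.eq_zero_or_pos m with h0 | hpos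
      · rw [h0, pow_zero, Subgroup.card_eq_one] at hm
        exact absurd hm hY1
      · rw [hm]
        exact dvd_pow_self p (Nat.pos_iff_ne_zero.1 hpos)
    obtain ⟨y, hy⟩ := exists_prime_orderOf_dvd_card' p hpY
    have hyW : (⟨(y : G), hY y.2⟩ : R) ∈ W := by
      rw [hW]
      apply Subtype.ext
      rw [Subgroup.coe_pow, Subgroup.coe_one]
      have := congrArg (fun w : Y => (w : G)) (hy ▸ pow_orderOf_eq_one y)
      simpa using this
    rw [← hEq] at hyW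
    obtain ⟨n, -, hn⟩ := hyW
    have hyX : (y : G) ∈ X := by
      have := congrArg (fun w : R => (w : G)) hn
      simp only [Subgroup.coe_inclusion] at this
      rw [← this]
      exact n.2
    have hy1 : (y : G) ∈ X ⊓ Y := ⟨hyX, y.2⟩
    rw [hXY, Subgroup.mem_bot] at hy1
    have hy1' : y = 1 := Subtype.ext hy1
    rw [hy1', orderOf_one] at hy
    exact hpf.out.one_lt.ne hy
  · exact h
  · exact absurd h.1 hp2

/-- The full coprime-action statement for metacyclic `p`-subgroups, `p` odd. -/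
theorem metacyclic_coprime_action (p : ℕ) [hpf : Fact p.Prime] (hp : p ≠ 2)
    (R A : Subgroup G) (hR : IsPGroup p R) (hRm : Cfsg.IsMetacyclic R)
    (hA : A ≤ normalizer (R : Set G)) (hcop : (Nat.card A).Coprime p) :
    IsMulCommutative ↥⁅R, A⁆ ∧ ⁅R, A⁆ ⊔ (R ⊓ centralizer (A : Set G)) = R ∧
      ⁅R, A⁆ ⊓ (R ⊓ centralizer (A : Set G)) = ⊥ ∧
      (¬ IsMulCommutative R → ¬ A ≤ centralizer (R : Set G) →
        ⁅R, A⁆ ≠ ⊥ ∧ IsCyclic ↥⁅R, A⁆ ∧ (R ⊓ centralizer (A : Set G)) ≠ ⊥ ∧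
          IsCyclic ↥(R ⊓ centralizer (A : Set G)) ∧ ⁅R, R⁆ ≤ ⁅R, A⁆) := by
  have h1 := isMulCommutative_commutator_of_metacyclic p hp R A hR hRm hA hcop
  have hcopR : (Nat.card A).Coprime (Nat.card R) := by
    obtain ⟨n, hn⟩ := IsPGroup.iff_card.1 hR
    rw [hn]
    exact Nat.Coprime.pow_right n hcop
  haveI : Group.IsNilpotent R := hR.isNilpotent
  have hsolv : Group.IsSolvable A ∨ Group.IsSolvable R := Or.inr inferInstance
  have h2 := Cfsg.Agent.Lib.Helper24.commutator_sup_centralizer_eq A R hA hcopR hsolv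
  have hBR : ⁅R, A⁆ ≤ R := Cfsg.Agent.Lib.Helper24.commutator_le_of_le_normalizer R A hA
  have hAB : A ≤ normalizer ((⁅R, A⁆ : Subgroup G) : Set G) :=
    Cfsg.Agent.Lib.Helper24.le_normalizer_commutator_right R A hA
  have hRB : R ≤ normalizer ((⁅R, A⁆ : Subgroup G) : Set G) :=
    Cfsg.Agent.Lib.Helper24.le_normalizer_commutator_left R A
  have hBA : ⁅⁅R, A⁆, A⁆ = ⁅R, A⁆ :=
    Cfsg.Agent.Lib.Helper24.commutator_commutator_eq A R hA hcopR hsolv
  have h3 : ⁅R, A⁆ ⊓ (R ⊓ centralizer (A : Set G)) = ⊥ := by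
    haveI := h1
    have hcopB : (Nat.card A).Coprime (Nat.card (⁅R, A⁆ : Subgroup G)) :=
      Nat.Coprime.coprime_dvd_right (Subgroup.card_dvd_of_le hBR) hcopR
    have := Cfsg.Agent.Lib.Helper24.commutator_inf_centralizer_eq_bot_of_abelian ⁅R, A⁆ A hAB hcopB
    rw [hBA] at this
    rw [eq_bot_iff, ← this]
    exact inf_le_inf_left _ inf_le_right
  refine ⟨h1, h2, h3, ?_⟩
  intro hRnc hAnc
  have hB1 : ⁅R, A⁆ ≠ ⊥ := by
    intro h
    rw [Subgroup.commutator_eq_bot_iff_le_centralizer] at h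
    exact hAnc (Subgroup.le_centralizer_iff.1 h)
  have hC1 : (R ⊓ centralizer (A : Set G)) ≠ ⊥ := by
    intro h
    rw [h, sup_bot_eq] at h2
    apply hRnc
    rw [← h2]
    exact h1
  obtain ⟨W, hW, hWc⟩ := exists_omega_of_metacyclic hp hR hRm
  have hBc : IsCyclic ↥⁅R, A⁆ :=
    isCyclic_of_omega_le p hp R ⁅R, A⁆ (R ⊓ centralizer (A : Set G)) hR W hW hWc hBR inf_le_left
      h3 hC1
  have hCc : IsCyclic ↥(R ⊓ centralizer (A : Set G)) :=
    isCyclic_of_omega_le p hp R (R ⊓ centralizer (A : Set G)) ⁅R, A⁆ hR W hW hWc inf_le_left hBR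
      (by rw [inf_comm]; exact h3) hB1
  refine ⟨hB1, hBc, hC1, hCc, ?_⟩
  -- `R / [R, A]` is a quotient of the cyclic group `C_R(A)`
  have hCcomm : ∀ x ∈ R ⊓ centralizer (A : Set G), ∀ y ∈ R ⊓ centralizer (A : Set G),
      x * y = y * x := by
    intro x hx y hy
    haveI := hCc
    have := (IsCyclic.isMulCommutative (α := ↥(R ⊓ centralizer (A : Set G)))).is_comm.comm
      ⟨x, hx⟩ ⟨y, hy⟩
    exact congrArg (fun w : ↥(R ⊓ centralizer (A : Set G)) => (w : G)) this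
  have hCB : R ⊓ centralizer (A : Set G) ≤ normalizer ((⁅R, A⁆ : Subgroup G) : Set G) :=
    inf_le_left.trans hRB
  have hdec : ∀ x ∈ R, ∃ b ∈ ⁅R, A⁆, ∃ c ∈ R ⊓ centralizer (A : Set G), x = b * c := by
    intro x hx
    have hx' : x ∈ ((⁅R, A⁆ ⊔ (R ⊓ centralizer (A : Set G)) : Subgroup G) : Set G) := by
      rw [h2]; exact hx
    rw [Subgroup.coe_mul_of_right_le_normalizer_left _ _ hCB] at hx'
    obtain ⟨b, hb, c, hc, rfl⟩ := Set.mem_mul.1 hx'
    exact ⟨b, hb, c, hc, rfl⟩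
  rw [Subgroup.commutator_le]
  intro x hx y hy
  obtain ⟨b₁, hb₁, c₁, hc₁, rfl⟩ := hdec x hx
  obtain ⟨b₂, hb₂, c₂, hc₂, rfl⟩ := hdec y hy
  have hcc := hCcomm c₁ hc₁ c₂ hc₂
  have hconj : ∀ c ∈ R ⊓ centralizer (A : Set G), ∀ b ∈ ⁅R, A⁆, c * b * c⁻¹ ∈ ⁅R, A⁆ :=
    fun c hc b hb => (Subgroup.mem_normalizer_iff.1 (hCB hc) b).1 hb
  have hid : ⁅b₁ * c₁, b₂ * c₂⁆ = b₁ * (c₁ * b₂ * c₁⁻¹) * (c₂ * b₁⁻¹ * c₂⁻¹) * b₂⁻¹ := by
    rw [commutatorElement_def]
    calc b₁ * c₁ * (b₂ * c₂) * (b₁ * c₁)⁻¹ * (b₂ * c₂)⁻¹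
        = b₁ * (c₁ * b₂ * c₁⁻¹) * ((c₁ * c₂) * c₁⁻¹) * b₁⁻¹ * c₂⁻¹ * b₂⁻¹ := by group
      _ = b₁ * (c₁ * b₂ * c₁⁻¹) * ((c₂ * c₁) * c₁⁻¹) * b₁⁻¹ * c₂⁻¹ * b₂⁻¹ := by rw [hcc]
      _ = b₁ * (c₁ * b₂ * c₁⁻¹) * (c₂ * b₁⁻¹ * c₂⁻¹) * b₂⁻¹ := by group
  rw [hid]
  exact Subgroup.mul_mem _ (Subgroup.mul_mem _ (Subgroup.mul_mem _ hb₁ (hconj c₁ hc₁ b₂ hb₂))
    (hconj c₂ hc₂ _ (Subgroup.inv_mem _ hb₁))) (Subgroup.inv_mem _ hb₂)

end Cfsg.Agent.Lib.Helper53
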