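import Mathlib
import Cfsg.Agent.Lib.Helper59.MiDsDefs

/-! # Mi hive (S2140, owner helper81), sub-hive MI-DS (owner helper59), leaf MI-DS-MULT -/

set_option autoImplicit false

namespace Cfsg.Agent.Lib.Helper81.Mi

open Matrix

variable {F : Type*} [Field F] {n : ℕ}

/-- two transvections with centre `e0` commute -/
theorem dsmult_comm (φ ψ : dsPhi F n) :
    tv (e0 F n) (φ : Fin n → F) * tv (e0 F n) (ψ : Fin n → F) =
      tv (e0 F n) (ψ : Fin n → F) * tv (e0 F n) (φ : Fin n → F) := by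
  rw [tv_mul _ _ _ φ.2 ψ.2, tv_mul _ _ _ ψ.2 φ.2, add_comm]

/-- `A` is constant along the `Q`-orbit -/
theorem dsmult_dsA_smul (H : Subgroup (SLn n F)) (ω : SLn n F ⧸ H) (φ : dsPhi F n) :
    dsA H (tv (e0 F n) (φ : Fin n → F) • ω) = dsA H ω := by
  ext ψ
  rw [mem_dsA, mem_dsA, ← mul_smul, ← dsmult_comm, mul_smul]
  exact smul_left_cancel_iff _

/-- the stabiliser criterion -/
theorem dsmult_eq_iff (H : Subgroup (SLn n F)) (ω : SLn n F ⧸ H) (φ ψ : dsPhi F n) :
    tv (e0 F n) (φ : Fin n → F) • ω = tv (e0 F n) (ψ : Fin n → F) • ω ↔ -φ + ψ ∈ dsA H ω := by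
  rw [mem_dsA, Submodule.coe_add, Submodule.coe_neg,
    ← tv_mul _ _ _ (by rw [neg_dotProduct, φ.2, neg_zero]) ψ.2, ← tv_inv, mul_smul,
    inv_smul_eq_iff]
  exact eq_comm

/-- MI-DS-MULT (M): the `Q`-orbit of `ω` has `|dsPhi : A_ω|` points, all with the same `A` (`Q` is abelian):
`φ ↦ T(e0, φ) • ω` induces an injection `dsPhi ⧸ A_ω → {ω' | A_ω' = A_ω}`. -/
theorem ds_mult [Finite F] (H : Subgroup (SLn n F)) (ω : SLn n F ⧸ H) :
    (dsA H ω).index ≤ Nat.card {ω' : SLn n F ⧸ H // dsA H ω' = dsA H ω} := by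
  have : Finite (SLn n F ⧸ H) := inferInstance
  unfold AddSubgroup.index
  let Φ : dsPhi F n ⧸ dsA H ω → {ω' : SLn n F ⧸ H // dsA H ω' = dsA H ω} :=
    fun x => Quotient.liftOn' x
      (fun φ => (⟨tv (e0 F n) (φ : Fin n → F) • ω, dsmult_dsA_smul H ω φ⟩ :
        {ω' : SLn n F ⧸ H // dsA H ω' = dsA H ω}))
      (fun a b hab => by
        rw [QuotientAddGroup.leftRel_apply] at hab
        exact Subtype.ext ((dsmult_eq_iff H ω a b).2 hab))
  apply Nat.card_le_card_of_injective Φ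
  intro x y
  refine Quotient.inductionOn₂' x y ?_
  intro a b hab
  have h1 : tv (e0 F n) (a : Fin n → F) • ω = tv (e0 F n) (b : Fin n → F) • ω :=
    congrArg Subtype.val hab
  exact Quotient.sound' (by
    rw [QuotientAddGroup.leftRel_apply]
    exact (dsmult_eq_iff H ω a b).1 h1)

end Cfsg.Agent.Lib.Helper81.Mi
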