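import Mathlib
import Cfsg.Agent.Lib.Helper59.MiDsDefs
import Cfsg.Agent.Lib.Helper69.MiQV

/-! # Mi hive (S2140, owner helper81), sub-hive MI-DS (owner helper59), leaf MI-DS-RIDX -/

set_option autoImplicit false

namespace Cfsg.Agent.Lib.Helper81.Mi

open Matrix

variable {F : Type*} [Field F] {n : ℕ}

theorem dsridx_e0_ne (hn : 1 ≤ n) : e0 F n ≠ 0 := by
  intro h
  have h1 := congrFun h ⟨0, by omega⟩
  simp [e0] at h1

/-- `φ ↦ T(e0, φ)` as a bijection `dsPhi ≃ Qv e0` -/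
theorem dsridx_bij (hn : 1 ≤ n) : Function.Bijective (fun φ : dsPhi F n =>
    (⟨tv (e0 F n) φ.1, (mem_Qv_iff (e0 F n) _).2 ⟨φ.1, φ.2, rfl⟩⟩ : Qv (e0 F n))) := by
  constructor
  · intro φ ψ h
    have h' : tv (e0 F n) φ.1 = tv (e0 F n) ψ.1 := congrArg Subtype.val h
    exact Subtype.ext (qv_tv_inj (e0 F n) (dsridx_e0_ne hn) φ.1 ψ.1 φ.2 ψ.2 h')
  · rintro ⟨t, ht⟩
    obtain ⟨φ, h1, rfl⟩ := (mem_Qv_iff (e0 F n) t).1 ht
    exact ⟨⟨φ, h1⟩, rfl⟩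

/-- `T(e0, φ)` fixes the coset `g H` iff it lies in `g H g⁻¹` -/
theorem dsridx_fix_iff (H : Subgroup (SLn n F)) (g t : SLn n F) :
    t • (g : SLn n F ⧸ H) = (g : SLn n F ⧸ H) ↔ t ∈ cj g H := by
  rw [MulAction.Quotient.smul_mk, mem_cj, QuotientGroup.eq, smul_eq_mul, ← H.inv_mem_iff]
  have : ((t * g)⁻¹ * g)⁻¹ = g⁻¹ * t * g := by group
  rw [this]

/-- MI-DS-RIDX (M): the index of `A_ω` in `dsPhi` is the relative index of the coset stabiliser in `Qv e0`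
(`φ ↦ T(e0, φ)` is an isomorphism `Multiplicative (dsPhi F n) ≃* Qv (e0 F n)`: `tv_mul`, `tv_eq_one_iff`, and
`Qset e0` is already a subgroup; it carries `dsA H (g H)` to `(cj g H).subgroupOf (Qv e0)`; `mem_cj`). -/
theorem ds_index_A [Finite F] (hn : 1 ≤ n) (H : Subgroup (SLn n F)) (g : SLn n F) :
    (dsA H (g : SLn n F ⧸ H)).index = (cj g H).relIndex (Qv (e0 F n)) := by
  have hV : Nat.card (dsPhi F n) = Nat.card (Qv (e0 F n)) :=
    Nat.card_congr (Equiv.ofBijective _ (dsridx_bij hn))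
  -- the restricted bijection
  have hbij : Function.Bijective (fun φ : dsA H (g : SLn n F ⧸ H) =>
      (⟨⟨tv (e0 F n) φ.1.1, (mem_Qv_iff (e0 F n) _).2 ⟨φ.1.1, φ.1.2, rfl⟩⟩,
        by
          rw [Subgroup.mem_subgroupOf]
          exact (dsridx_fix_iff H g _).1 φ.2⟩ : (cj g H).subgroupOf (Qv (e0 F n)))) := by
    constructor
    · intro φ ψ h
      have h' : tv (e0 F n) φ.1.1 = tv (e0 F n) ψ.1.1 :=
        congrArg (fun x : (cj g H).subgroupOf (Qv (e0 F n)) => (x.1.1 : SLn n F)) h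
      exact Subtype.ext (Subtype.ext
        (qv_tv_inj (e0 F n) (dsridx_e0_ne hn) φ.1.1 ψ.1.1 φ.1.2 ψ.1.2 h'))
    · rintro ⟨⟨t, ht⟩, htH⟩
      obtain ⟨φ, h1, rfl⟩ := (mem_Qv_iff (e0 F n) t).1 ht
      rw [Subgroup.mem_subgroupOf] at htH
      exact ⟨⟨⟨φ, h1⟩, (dsridx_fix_iff H g _).2 htH⟩, rfl⟩
  have hA : Nat.card (dsA H (g : SLn n F ⧸ H)) =
      Nat.card ((cj g H).subgroupOf (Qv (e0 F n))) :=
    Nat.card_congr (Equiv.ofBijective _ hbij)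
  have h1 := (dsA H (g : SLn n F ⧸ H)).index_mul_card
  have h2 := ((cj g H).subgroupOf (Qv (e0 F n))).index_mul_card
  rw [← hV, ← hA] at h2
  have hpos : 0 < Nat.card (dsA H (g : SLn n F ⧸ H)) := Nat.card_pos
  unfold Subgroup.relIndex
  exact Nat.eq_of_mul_eq_mul_right hpos (h1.trans h2.symm)

end Cfsg.Agent.Lib.Helper81.Mi
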