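import Mathlib

set_option autoImplicit false
set_option linter.style.haveILetI false
set_option linter.unnecessarySimpa false

namespace Cfsg.Agent.Lib.Helper53

open Subgroup

/-- Data of a modular 2-group `S = ⟨a, b⟩` of order `2^(n+1)` inside a group. -/
structure ModData {G : Type*} [Group G] (S : Subgroup G) (n : ℕ) (a b : G) : Prop where
  hn : 3 ≤ n
  hS : Nat.card ↥S = 2 ^ (n + 1)
  ha : a ∈ S
  hb : b ∈ S
  hao : orderOf a = 2 ^ n
  hbo : orderOf b = 2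
  hrel : b * a * b⁻¹ = a ^ (2 ^ (n - 1) + 1)

namespace ModData

variable {G : Type*} [Group G] {S : Subgroup G} {n : ℕ} {a b : G}

theorem two_pow_eq (h : ModData S n a b) : 2 ^ n = 2 ^ (n - 1) * 2 := by
  have := h.hn
  rw [← pow_succ]; congr 1; omega

theorem two_pow_eq' (h : ModData S n a b) : 2 ^ (n - 1) = 2 ^ (n - 2) * 2 := by
  have := h.hn
  rw [← pow_succ]; congr 1; omega

theorem z_sq (h : ModData S n a b) : (a ^ 2 ^ (n - 1)) ^ 2 = 1 := by
  rw [← pow_mul, ← h.two_pow_eq, ← h.hao, pow_orderOf_eq_one]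

theorem z_ne_one (h : ModData S n a b) : a ^ 2 ^ (n - 1) ≠ 1 := by
  intro h1
  have h2 := orderOf_dvd_of_pow_eq_one h1
  rw [h.hao] at h2
  have h3 := Nat.le_of_dvd (by positivity) h2
  have h4 : 2 ^ (n - 1) < 2 ^ n := Nat.pow_lt_pow_right (by norm_num) (by have := h.hn; omega)
  omega

theorem z_pow_cases (h : ModData S n a b) (i : ℕ) :
    (a ^ 2 ^ (n - 1)) ^ i = 1 ∨ (a ^ 2 ^ (n - 1)) ^ i = a ^ 2 ^ (n - 1) := by
  rcases Nat.even_or_odd' i with ⟨k, hk | hk⟩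
  · left; rw [hk, pow_mul, h.z_sq, one_pow]
  · right; rw [hk, pow_succ, pow_mul, h.z_sq, one_pow, one_mul]

theorem z_pow_even (h : ModData S n a b) (i : ℕ) (hi : Even i) :
    (a ^ 2 ^ (n - 1)) ^ i = 1 := by
  obtain ⟨k, hk⟩ := hi
  rw [hk, ← two_mul, pow_mul, h.z_sq, one_pow]

theorem b_mul_self (h : ModData S n a b) : b * b = 1 := by
  have := pow_orderOf_eq_one b
  rwa [h.hbo, pow_two] at this

theorem b_inv (h : ModData S n a b) : b⁻¹ = b := inv_eq_of_mul_eq_one_left h.b_mul_self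

theorem conj_a_pow (h : ModData S n a b) (i : ℕ) :
    b * a ^ i * b⁻¹ = a ^ i * (a ^ 2 ^ (n - 1)) ^ i := by
  rw [← conj_pow, h.hrel, ← pow_mul, ← pow_mul, ← pow_add]
  congr 1; ring

theorem z_mem (h : ModData S n a b) : a ^ 2 ^ (n - 1) ∈ S := pow_mem h.ha _

theorem z_comm_b (h : ModData S n a b) : b * a ^ 2 ^ (n - 1) = a ^ 2 ^ (n - 1) * b := by
  have h1 := h.conj_a_pow (2 ^ (n - 1))
  have h2 : Even (2 ^ (n - 1)) := by
    rw [h.two_pow_eq']; exact even_two.mul_left _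
  rw [h.z_pow_even _ h2, mul_one] at h1
  calc b * a ^ 2 ^ (n - 1) = (b * a ^ 2 ^ (n - 1) * b⁻¹) * b := by group
    _ = a ^ 2 ^ (n - 1) * b := by rw [h1]

theorem z_comm_a_pow (_h : ModData S n a b) (i : ℕ) :
    a ^ i * a ^ 2 ^ (n - 1) = a ^ 2 ^ (n - 1) * a ^ i := by
  rw [← pow_add, ← pow_add, add_comm]

theorem b_not_mem (h : ModData S n a b) : b ∉ Subgroup.zpowers a := by
  intro hb
  obtain ⟨k, hk⟩ := Subgroup.mem_zpowers_iff.1 hb
  have hcomm : b * a = a * b := by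
    rw [← hk, ← zpow_add_one, ← zpow_one_add, add_comm]
  have h1 : b * a * b⁻¹ = a := by rw [hcomm]; group
  rw [h.hrel, pow_succ] at h1
  have h2 : a ^ 2 ^ (n - 1) = 1 := by
    calc a ^ 2 ^ (n - 1) = (a ^ 2 ^ (n - 1) * a) * a⁻¹ := by group
      _ = 1 := by rw [h1]; group
  exact h.z_ne_one h2

theorem zpowers_le (h : ModData S n a b) : Subgroup.zpowers a ≤ S :=
  (Subgroup.zpowers_le).2 h.ha

theorem relIndex_zpowers (h : ModData S n a b) : (Subgroup.zpowers a).relIndex S = 2 := by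
  have h1 : (⊥ : Subgroup G).relIndex (Subgroup.zpowers a) * (Subgroup.zpowers a).relIndex S =
      (⊥ : Subgroup G).relIndex S :=
    Subgroup.relIndex_mul_relIndex _ _ _ bot_le h.zpowers_le
  rw [Subgroup.relIndex_bot_left, Subgroup.relIndex_bot_left, Nat.card_zpowers, h.hao, h.hS,
    pow_succ] at h1
  exact Nat.eq_of_mul_eq_mul_left (by positivity) h1

theorem mul_mem_iff_of_relIndex_two {H K : Subgroup G} (hHK : H.relIndex K = 2) {x y : G}
    (hx : x ∈ K) (hy : y ∈ K) : x * y ∈ H ↔ (x ∈ H ↔ y ∈ H) := by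
  have := Subgroup.mul_mem_iff_of_index_two (H := H.subgroupOf K) hHK (a := ⟨x, hx⟩) (b := ⟨y, hy⟩)
  simpa [Subgroup.mem_subgroupOf] using this

theorem exists_nat_pow_of_mem_zpowers (h : ModData S n a b) (x : G) (hx : x ∈ Subgroup.zpowers a) :
    ∃ i : ℕ, x = a ^ i := by
  obtain ⟨k, hk⟩ := Subgroup.mem_zpowers_iff.1 hx
  refine ⟨(k % (orderOf a : ℤ)).toNat, ?_⟩
  have hpos : (0 : ℤ) < (orderOf a : ℤ) := by
    rw [h.hao]; positivity
  have h1 : ((k % (orderOf a : ℤ)).toNat : ℤ) = k % (orderOf a : ℤ) :=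
    Int.toNat_of_nonneg (Int.emod_nonneg _ hpos.ne')
  rw [← zpow_natCast, h1, zpow_mod_orderOf, hk]

/-- every element of `S` is `a^i` or `a^i * b` -/
theorem exists_rep (h : ModData S n a b) (s : G) (hs : s ∈ S) :
    ∃ i : ℕ, s = a ^ i ∨ s = a ^ i * b := by
  by_cases hsA : s ∈ Subgroup.zpowers a
  · obtain ⟨i, hi⟩ := h.exists_nat_pow_of_mem_zpowers s hsA
    exact ⟨i, Or.inl hi⟩
  · have h1 : s * b ∈ Subgroup.zpowers a := by
      rw [mul_mem_iff_of_relIndex_two h.relIndex_zpowers hs h.hb]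
      exact ⟨fun h' => absurd h' hsA, fun h' => absurd h' h.b_not_mem⟩
    obtain ⟨i, hi⟩ := h.exists_nat_pow_of_mem_zpowers _ h1
    refine ⟨i, Or.inr ?_⟩
    rw [← hi, mul_assoc, h.b_mul_self, mul_one]

/-- key dichotomy: conjugation by `b` multiplies by `z^i`, and the `2^(n-1)`-th power is `z^i` -/
theorem key (h : ModData S n a b) (s : G) (hs : s ∈ S) :
    ∃ i : ℕ, b * s * b⁻¹ = s * (a ^ 2 ^ (n - 1)) ^ i ∧ s ^ 2 ^ (n - 1) = (a ^ 2 ^ (n - 1)) ^ i ∧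
      s ^ 2 ∈ Subgroup.zpowers a := by
  obtain ⟨i, hi | hi⟩ := h.exists_rep s hs
  · refine ⟨i, ?_, ?_, ?_⟩
    · rw [hi]; exact h.conj_a_pow i
    · rw [hi, ← pow_mul, ← pow_mul, mul_comm]
    · rw [hi]; exact pow_mem (pow_mem (Subgroup.mem_zpowers a) _) _
  · have hzi : (a ^ 2 ^ (n - 1)) ^ i * b = b * (a ^ 2 ^ (n - 1)) ^ i := by
      have : Commute b (a ^ 2 ^ (n - 1)) := h.z_comm_b
      exact ((this.pow_right i).eq).symm
    have hzai : (a ^ 2 ^ (n - 1)) ^ i * a ^ i = a ^ i * (a ^ 2 ^ (n - 1)) ^ i := by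
      rw [← pow_mul, ← pow_add, ← pow_add, add_comm]
    have hsq : s ^ 2 = a ^ (2 * i) * (a ^ 2 ^ (n - 1)) ^ i := by
      rw [hi, pow_two]
      calc a ^ i * b * (a ^ i * b) = a ^ i * (b * a ^ i * b⁻¹) * (b * b) := by group
        _ = a ^ i * (a ^ i * (a ^ 2 ^ (n - 1)) ^ i) * 1 := by rw [h.conj_a_pow, h.b_mul_self]
        _ = a ^ (2 * i) * (a ^ 2 ^ (n - 1)) ^ i := by
          rw [mul_one, ← mul_assoc, ← pow_add, two_mul]
    refine ⟨i, ?_, ?_, ?_⟩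
    · rw [hi]
      calc b * (a ^ i * b) * b⁻¹ = (b * a ^ i * b⁻¹) * b := by group
        _ = a ^ i * (a ^ 2 ^ (n - 1)) ^ i * b := by rw [h.conj_a_pow]
        _ = a ^ i * b * (a ^ 2 ^ (n - 1)) ^ i := by rw [mul_assoc, hzi, ← mul_assoc]
    · have hcomm : Commute (a ^ (2 * i)) ((a ^ 2 ^ (n - 1)) ^ i) := by
        unfold Commute SemiconjBy
        rw [← pow_mul, ← pow_add, ← pow_add, add_comm]
      rw [h.two_pow_eq', mul_comm (2 ^ (n - 2)) 2, pow_mul, hsq, hcomm.mul_pow, ← pow_mul a,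
        ← pow_mul (a ^ 2 ^ (n - 1))]
      have hev : Even (i * 2 ^ (n - 2)) := by
        have h3 := h.hn
        have : 2 ^ (n - 2) = 2 ^ (n - 3) * 2 := by
          rw [← pow_succ]; congr 1; omega
        rw [this, ← mul_assoc]; exact even_two.mul_left _
      rw [h.z_pow_even _ hev, mul_one, ← pow_mul]
      congr 1
      ring
    · rw [hsq]
      exact mul_mem (pow_mem (Subgroup.mem_zpowers a) _) (pow_mem (pow_mem (Subgroup.mem_zpowers a) _) _)

/-- the maximal subgroup `M₁ = C_S(b)` -/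
def M1 (S : Subgroup G) (b : G) : Subgroup G := S ⊓ Subgroup.centralizer ({b} : Set G)

theorem mem_M1 {s : G} : s ∈ M1 S b ↔ s ∈ S ∧ s * b = b * s := by
  unfold M1
  rw [Subgroup.mem_inf, Subgroup.mem_centralizer_singleton_iff]

theorem M1_le : M1 S b ≤ S := inf_le_left

theorem z_central (h : ModData S n a b) (s : G) (hs : s ∈ S) :
    s * a ^ 2 ^ (n - 1) = a ^ 2 ^ (n - 1) * s := by
  obtain ⟨i, hi | hi⟩ := h.exists_rep s hs
  · rw [hi]; exact h.z_comm_a_pow i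
  · rw [hi, mul_assoc, h.z_comm_b, ← mul_assoc, h.z_comm_a_pow i, mul_assoc]

theorem pow_of_mem_M1 (h : ModData S n a b) (s : G) (hs : s ∈ M1 S b) : s ^ 2 ^ (n - 1) = 1 := by
  obtain ⟨hsS, hcomm⟩ := mem_M1.1 hs
  obtain ⟨i, h1, h2, _⟩ := h.key s hsS
  have h3 : b * s * b⁻¹ = s := by rw [← hcomm]; group
  rw [h3] at h1
  have h4 : (a ^ 2 ^ (n - 1)) ^ i = 1 := by
    calc (a ^ 2 ^ (n - 1)) ^ i = s⁻¹ * (s * (a ^ 2 ^ (n - 1)) ^ i) := by group
      _ = 1 := by rw [← h1]; group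
  rw [h2, h4]

theorem pow_of_not_mem_M1 (h : ModData S n a b) (s : G) (hs : s ∈ S) (hs' : s ∉ M1 S b) :
    s ^ 2 ^ (n - 1) = a ^ 2 ^ (n - 1) := by
  obtain ⟨i, h1, h2, _⟩ := h.key s hs
  rcases h.z_pow_cases i with h3 | h3
  · exfalso
    apply hs'
    rw [mem_M1]
    refine ⟨hs, ?_⟩
    rw [h3, mul_one] at h1
    calc s * b = (b * s * b⁻¹) * b := by rw [h1]
      _ = b * s := by group
  · rw [h2, h3]

theorem a_not_mem_M1 (h : ModData S n a b) : a ∉ M1 S b := by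
  intro ha
  have h1 := h.pow_of_mem_M1 a ha
  exact h.z_ne_one h1

theorem relIndex_M1 (h : ModData S n a b) : (M1 S b).relIndex S = 2 := by
  rw [Subgroup.relIndex_eq_two_iff_exists_notMem_and]
  refine ⟨a, h.ha, h.a_not_mem_M1, fun s hs => ?_⟩
  by_cases hsM : s ∈ M1 S b
  · exact Or.inr hsM
  · left
    rw [mem_M1]
    refine ⟨mul_mem hs h.ha, ?_⟩
    obtain ⟨i, h1, h2, _⟩ := h.key s hs
    have h3 : (a ^ 2 ^ (n - 1)) ^ i = a ^ 2 ^ (n - 1) := by
      rcases h.z_pow_cases i with h3 | h3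
      · exfalso
        apply hsM
        rw [mem_M1]
        refine ⟨hs, ?_⟩
        rw [h3, mul_one] at h1
        calc s * b = (b * s * b⁻¹) * b := by rw [h1]
          _ = b * s := by group
      · exact h3
    rw [h3] at h1
    have h4 : b * a * b⁻¹ = a * a ^ 2 ^ (n - 1) := by
      have := h.conj_a_pow 1
      simpa using this
    have h5 : a ^ 2 ^ (n - 1) * a = a * a ^ 2 ^ (n - 1) := by
      rw [← pow_succ, ← pow_succ']
    have h6 : a ^ 2 ^ (n - 1) * a ^ 2 ^ (n - 1) = 1 := by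
      rw [← pow_two]; exact h.z_sq
    have h7 : b * (s * a) * b⁻¹ = s * a := by
      calc b * (s * a) * b⁻¹ = (b * s * b⁻¹) * (b * a * b⁻¹) := by group
        _ = (s * a ^ 2 ^ (n - 1)) * (a * a ^ 2 ^ (n - 1)) := by rw [h1, h4]
        _ = s * (a ^ 2 ^ (n - 1) * a) * a ^ 2 ^ (n - 1) := by group
        _ = s * (a * a ^ 2 ^ (n - 1)) * a ^ 2 ^ (n - 1) := by rw [h5]
        _ = s * a * (a ^ 2 ^ (n - 1) * a ^ 2 ^ (n - 1)) := by group
        _ = s * a := by rw [h6, mul_one]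
    calc s * a * b = (b * (s * a) * b⁻¹) * b := by rw [h7]
      _ = b * (s * a) := by group

theorem isPGroup (h : ModData S n a b) : IsPGroup 2 ↥S := IsPGroup.of_card h.hS

theorem order_gt (h : ModData S n a b) (y : G) (hy : y ∈ S) (hy' : y ∉ M1 S b) :
    2 ^ (n - 1) < orderOf y := by
  have h1 := h.pow_of_not_mem_M1 y hy hy'
  obtain ⟨k0, hk0⟩ := h.isPGroup ⟨y, hy⟩
  have hk0' : y ^ 2 ^ k0 = 1 := by
    have := congrArg Subtype.val hk0
    simpa using this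
  obtain ⟨k, _, hk⟩ := (Nat.dvd_prime_pow Nat.prime_two).1 (orderOf_dvd_of_pow_eq_one hk0')
  rw [hk]
  apply Nat.pow_lt_pow_right (by norm_num)
  by_contra hle
  push_neg at hle
  have h2 : y ^ 2 ^ (n - 1) = 1 := by
    apply orderOf_dvd_iff_pow_eq_one.1
    rw [hk]; exact pow_dvd_pow 2 hle
  rw [h1] at h2
  exact h.z_ne_one h2

theorem invol_mem_M1 (h : ModData S n a b) (x : G) (hx : x ∈ S) (hx2 : x ^ 2 = 1) :
    x ∈ M1 S b := by
  by_contra hx'
  have h1 := h.pow_of_not_mem_M1 x hx hx'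
  have hx3 : x ^ 2 ^ (n - 1) = 1 := by
    rw [h.two_pow_eq', mul_comm, pow_mul, hx2, one_pow]
  rw [hx3] at h1
  exact h.z_ne_one h1.symm

theorem invol_zpowers (h : ModData S n a b) (x : G) (hx : x ∈ Subgroup.zpowers a) (hx2 : x ^ 2 = 1) :
    x = 1 ∨ x = a ^ 2 ^ (n - 1) := by
  obtain ⟨i, hi⟩ := h.exists_nat_pow_of_mem_zpowers x hx
  rw [hi, ← pow_mul] at hx2
  have h1 := orderOf_dvd_of_pow_eq_one hx2
  rw [h.hao, h.two_pow_eq] at h1
  have h2 : 2 ^ (n - 1) ∣ i := (Nat.mul_dvd_mul_iff_right (by norm_num)).1 h1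
  obtain ⟨j, hj⟩ := h2
  rw [hi, hj, pow_mul]
  exact h.z_pow_cases j

theorem pow_mem_zpowers (h : ModData S n a b) (s : G) (hs : s ∈ S) (k : ℕ) (hk : 1 ≤ k) :
    s ^ 2 ^ k ∈ Subgroup.zpowers a := by
  obtain ⟨i, _, _, h3⟩ := h.key s hs
  obtain ⟨k', rfl⟩ : ∃ k', k = k' + 1 := ⟨k - 1, by omega⟩
  rw [pow_succ', pow_mul]
  exact pow_mem h3 _

theorem a_sq_mem_M1 (h : ModData S n a b) : a ^ 2 ∈ M1 S b := by
  rw [mem_M1]
  refine ⟨pow_mem h.ha _, ?_⟩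
  have h1 := h.conj_a_pow 2
  rw [h.z_sq, mul_one] at h1
  calc a ^ 2 * b = (b * a ^ 2 * b⁻¹) * b := by rw [h1]
    _ = b * a ^ 2 := by group

theorem b_mem_M1 (h : ModData S n a b) : b ∈ M1 S b := mem_M1.2 ⟨h.hb, rfl⟩

theorem z_mem_M1 (h : ModData S n a b) : a ^ 2 ^ (n - 1) ∈ M1 S b :=
  mem_M1.2 ⟨h.z_mem, h.z_comm_b.symm⟩

theorem a_sq_pow (h : ModData S n a b) : (a ^ 2) ^ 2 ^ (n - 2) = a ^ 2 ^ (n - 1) := by
  rw [← pow_mul, h.two_pow_eq', mul_comm]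

end ModData

end Cfsg.Agent.Lib.Helper53
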