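import Mathlib

set_option autoImplicit false
set_option linter.style.haveILetI false
set_option linter.unnecessarySimpa false

namespace Cfsg.Agent.Lib.Helper53

open Subgroup

/-- An element whose order is prime to the index of a normal subgroup lies in it. -/
theorem mem_of_coprime_order {K : Type*} [Group K] [Finite K] (N : Subgroup K) [N.Normal] (y : K)
    (hy : (orderOf y).Coprime N.index) : y ∈ N := by
  rw [← QuotientGroup.eq_one_iff]
  have h1 : (y : K ⧸ N) ^ orderOf y = 1 := by
    rw [← QuotientGroup.mk_pow, pow_orderOf_eq_one]; rfl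
  have h2 : (y : K ⧸ N) ^ N.index = 1 := by
    rw [Subgroup.index_eq_card]; exact pow_card_eq_one'
  have h3 : orderOf (y : K ⧸ N) ∣ Nat.gcd (orderOf y) N.index :=
    Nat.dvd_gcd (orderOf_dvd_of_pow_eq_one h1) (orderOf_dvd_of_pow_eq_one h2)
  rw [hy.gcd_eq_one, Nat.dvd_one, orderOf_eq_one_iff] at h3
  exact h3

/-- A normal `p`-complement of a normal subgroup of `p`-power index is a normal `p`-complement of the
whole group. -/
theorem normal_complement_lift {G : Type*} [Group G] [Finite G] {p : ℕ} [hp : Fact p.Prime]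
    (S : Sylow p G) (K : Subgroup G) [hK : K.Normal] (m : ℕ) (hidx : K.index = p ^ m)
    (N' : Subgroup ↥K) [hN' : N'.Normal] (P' : Sylow p ↥K)
    (hc : N'.IsComplement' (P' : Subgroup ↥K)) :
    (N'.map K.subtype).Normal ∧ (N'.map K.subtype).IsComplement' (S : Subgroup G) := by
  classical
  obtain ⟨j, hj⟩ := P'.2.exists_card_eq
  have hNidx : N'.index = p ^ j := by
    rw [← hj]; exact hc.symm.index_eq_card
  have hNcard : Nat.card ↥N' = (P' : Subgroup ↥K).index := hc.index_eq_card.symm
  have hNcop : (Nat.card ↥N').Coprime p := by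
    rw [hNcard, Nat.coprime_comm, Nat.Prime.coprime_iff_not_dvd hp.1]
    exact P'.not_dvd_index
  have hmul : Nat.card ↥N' * p ^ j = Nat.card ↥K := by
    rw [← hj]; exact hc.card_mul_card
  have hcardmap : Nat.card ↥(N'.map K.subtype) = Nat.card ↥N' :=
    Subgroup.card_map_of_injective K.subtype_injective
  constructor
  · -- normality
    refine ⟨fun x hx g => ?_⟩
    obtain ⟨x', hx', rfl⟩ := hx
    have hmemK : g * (x' : G) * g⁻¹ ∈ K := hK.conj_mem _ x'.2 g
    refine ⟨⟨g * (x' : G) * g⁻¹, hmemK⟩, ?_, rfl⟩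
    apply mem_of_coprime_order
    have ho : orderOf (⟨g * (x' : G) * g⁻¹, hmemK⟩ : ↥K) = orderOf x' := by
      rw [← Subgroup.orderOf_coe, ← Subgroup.orderOf_coe]
      have hsc : SemiconjBy g (x' : G) (g * (x' : G) * g⁻¹) := by
        unfold SemiconjBy; group
      exact (hsc.orderOf_eq).symm
    rw [ho, hNidx]
    apply Nat.Coprime.pow_right
    have h1 : orderOf x' ∣ Nat.card ↥N' := by
      have := orderOf_dvd_natCard (⟨x', hx'⟩ : ↥N')
      rwa [Subgroup.orderOf_mk] at this
    exact Nat.Coprime.coprime_dvd_left h1 hNcop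
  · -- complement
    obtain ⟨s, hs⟩ := S.2.exists_card_eq
    have hG : Nat.card G = Nat.card ↥N' * p ^ (j + m) := by
      rw [← Subgroup.card_mul_index K, hidx, ← hmul, pow_add, mul_assoc]
    have hG' : p ^ s * (S : Subgroup G).index = Nat.card G := by
      rw [← hs]; exact Subgroup.card_mul_index _
    have hScop : ((S : Subgroup G).index).Coprime p := by
      rw [Nat.coprime_comm, Nat.Prime.coprime_iff_not_dvd hp.1]
      exact S.not_dvd_index
    have hsle : s ≤ j + m := by
      have h1 : p ^ s ∣ Nat.card ↥N' * p ^ (j + m) := by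
        rw [← hG, ← hG']; exact dvd_mul_right _ _
      have h2 : (p ^ s).Coprime (Nat.card ↥N') := (Nat.Coprime.pow_left s hNcop.symm)
      have h3 := h2.dvd_of_dvd_mul_left h1
      exact (Nat.pow_dvd_pow_iff_le_right hp.1.one_lt).1 h3
    have hjle : j + m ≤ s := by
      have h1 : p ^ (j + m) ∣ p ^ s * (S : Subgroup G).index := by
        rw [hG', hG]; exact dvd_mul_left _ _
      have h2 : (p ^ (j + m)).Coprime ((S : Subgroup G).index) := (Nat.Coprime.pow_left _ hScop.symm)
      have h3 := h2.dvd_of_dvd_mul_right h1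
      exact (Nat.pow_dvd_pow_iff_le_right hp.1.one_lt).1 h3
    have hseq : s = j + m := le_antisymm hsle hjle
    apply Subgroup.isComplement'_of_coprime
    · rw [hcardmap, hs, hseq, hG]
    · rw [hcardmap, hs]
      exact Nat.Coprime.pow_right _ hNcop

end Cfsg.Agent.Lib.Helper53
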