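import Cfsg.Agent.Lib.Helper77.BlockIdem
import Cfsg.Agent.Lib.Helper16.LocalS
import Cfsg.Agent.Lib.Helper3.Ortho
import Cfsg.Agent.Lib.Helper79.Basic
import Cfsg.Agent.Lib.Helper74.Osima5
import Cfsg.Agent.Lib.Helper56.P3Defs
import Mathlib

set_option autoImplicit false

/-! S4427 hive (architect helper56), leaf P3-L5: the character of the projective lattice as a class sum of `ε`. -/

namespace Cfsg.Agent.Lib.P3

open Cfsg Cfsg.Agent.Lib.Helper77 Cfsg.Agent.Lib.Helper16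
open scoped ComplexConjugate
open Polynomial

universe u

section

variable {G : Type u} [Group G] [Fintype G]

/-- the class function `w ↦ ∑ h, ε (h w⁻¹ h⁻¹)` -/
noncomputable def p3_L5_E (ε : G → ℂ) : G → ℂ := fun w => ∑ h : G, ε (h * w⁻¹ * h⁻¹)

theorem p3_L5_E_class (ε : G → ℂ) : IsClassFunction G (p3_L5_E ε) := by
  intro w x
  unfold p3_L5_E
  refine Fintype.sum_equiv (Equiv.mulRight x) _ _ ?_
  intro h
  simp only [Equiv.coe_mulRight]
  congr 1
  group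

theorem p3_L5_inner (ε : G → ℂ) {χ : G → ℂ} (hχ : IsCharacter G χ) :
    classInner (p3_L5_E ε) χ = ∑ z, ε z * χ z := by
  have hcl := Cfsg.Agent.Lib.Helper3.IsCharacter.isClassFunction hχ
  have hcard : (Nat.card G : ℂ) ≠ 0 := by exact_mod_cast Nat.card_pos.ne'
  unfold classInner p3_L5_E
  have h1 : ∀ w : G, (∑ h : G, ε (h * w⁻¹ * h⁻¹)) * conj (χ w) =
      ∑ h : G, ε (h * w⁻¹ * h⁻¹) * χ (h * w⁻¹ * h⁻¹) := by
    intro w
    rw [Finset.sum_mul]
    refine Finset.sum_congr rfl fun h _ => ?_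
    rw [← Cfsg.Agent.Lib.Helper3.IsCharacter.inv hχ w, hcl w⁻¹ h]
  simp_rw [h1]
  rw [Finset.sum_comm]
  have h2 : ∀ h : G, ∑ w : G, ε (h * w⁻¹ * h⁻¹) * χ (h * w⁻¹ * h⁻¹) = ∑ z, ε z * χ z := by
    intro h
    refine Fintype.sum_equiv ((Equiv.inv G).trans (MulAut.conj h).toEquiv) _ _ ?_
    intro w
    simp [MulAut.conj_apply]
  simp_rw [h2]
  rw [Finset.sum_const, Finset.card_univ, nsmul_eq_mul, ← Nat.card_eq_fintype_card, ← mul_assoc,
    inv_mul_cancel₀ hcard, one_mul]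

/-- P3-L5 -/
theorem p3_L5_phi_eq [Fintype (IrrCharacter G)] (ε : G → ℂ) (g : G) :
    ∑ χ : IrrCharacter G, (∑ z, ε z * (χ : G → ℂ) z) * (χ : G → ℂ) g =
      ∑ h : G, ε (h * g⁻¹ * h⁻¹) := by
  have hexp := Cfsg.Agent.Lib.Helper3.classFunction_eq_sum (p3_L5_E_class ε)
  have hg := congrFun hexp g
  simp only [Finset.sum_apply, Pi.smul_apply, smul_eq_mul] at hg
  have : ∑ h : G, ε (h * g⁻¹ * h⁻¹) = p3_L5_E ε g := rfl
  rw [this, hg]
  refine Finset.sum_congr rfl fun χ _ => ?_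
  rw [p3_L5_inner ε (Cfsg.Agent.Lib.Helper3.IsIrrCharacter.isCharacter χ.2)]

end

end Cfsg.Agent.Lib.P3
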