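import Cfsg.Agent.Lib.Helper53.P3_L5

set_option autoImplicit false

/-! S4427 hive (architect helper56), leaf P3-L6: the Mackey count `∑_χ A_χ B_χ = |G| / (|Q| |R|)` for subgroups of
coprime orders (from P3-L5 with `ε = avgCoeff Q`). -/

namespace Cfsg.Agent.Lib.P3

open Cfsg Cfsg.Agent.Lib.Helper77 Cfsg.Agent.Lib.Helper16
open scoped ComplexConjugate
open Polynomial

universe u

section

variable {G : Type u} [Group G] [Fintype G]

theorem p3_L6_avg_mem (Q : Subgroup G) {g : G} (hg : g ∈ Q) : avgCoeff Q g = (Nat.card Q : ℂ)⁻¹ := by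
  unfold avgCoeff
  rw [if_pos hg]

theorem p3_L6_avg_not_mem (Q : Subgroup G) {g : G} (hg : g ∉ Q) : avgCoeff Q g = 0 := by
  unfold avgCoeff
  rw [if_neg hg]

/-- an element of `R` with a conjugate of its inverse in `Q` is trivial when the orders are coprime -/
theorem p3_L6_eq_one (Q R : Subgroup G) (hcop : (Nat.card Q).Coprime (Nat.card R)) {g h : G}
    (hg : g ∈ R) (hq : h * g⁻¹ * h⁻¹ ∈ Q) : g = 1 := by
  have h1 : orderOf g ∣ Nat.card R := Subgroup.orderOf_dvd_natCard R hg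
  have h2 : orderOf (h * g⁻¹ * h⁻¹) ∣ Nat.card Q := Subgroup.orderOf_dvd_natCard Q hq
  have h3 : orderOf (h * g⁻¹ * h⁻¹) = orderOf g := by
    rw [← MulAut.conj_apply, MulEquiv.orderOf_eq, orderOf_inv]
  rw [h3] at h2
  have h4 : orderOf g ∣ 1 := by
    have := Nat.dvd_gcd h2 h1
    rwa [Nat.Coprime.gcd_eq_one hcop] at this
  exact orderOf_eq_one_iff.mp (Nat.dvd_one.mp h4)

theorem p3_L6_term [DecidableEq G] (Q R : Subgroup G) (hcop : (Nat.card Q).Coprime (Nat.card R)) (g : G) :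
    avgCoeff R g * ∑ h : G, avgCoeff Q (h * g⁻¹ * h⁻¹) =
      if g = 1 then (Nat.card R : ℂ)⁻¹ * ((Nat.card G : ℂ) * (Nat.card Q : ℂ)⁻¹) else 0 := by
  by_cases hg1 : g = 1
  · subst hg1
    rw [if_pos rfl, p3_L6_avg_mem R (one_mem R)]
    congr 1
    have : ∀ h : G, avgCoeff Q (h * (1 : G)⁻¹ * h⁻¹) = (Nat.card Q : ℂ)⁻¹ := by
      intro h
      have : h * (1 : G)⁻¹ * h⁻¹ = 1 := by group
      rw [this, p3_L6_avg_mem Q (one_mem Q)]
    simp_rw [this]
    rw [Finset.sum_const, Finset.card_univ, nsmul_eq_mul, ← Nat.card_eq_fintype_card]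
  · rw [if_neg hg1]
    by_cases hgR : g ∈ R
    · have : ∀ h : G, avgCoeff Q (h * g⁻¹ * h⁻¹) = 0 := by
        intro h
        apply p3_L6_avg_not_mem
        intro hq
        exact hg1 (p3_L6_eq_one Q R hcop hgR hq)
      simp_rw [this]
      rw [Finset.sum_const_zero, mul_zero]
    · rw [p3_L6_avg_not_mem R hgR, zero_mul]

/-- P3-L6 -/
theorem p3_L6_sum_AB [Fintype (IrrCharacter G)] (Q R : Subgroup G)
    (hcop : (Nat.card Q).Coprime (Nat.card R)) :
    ∑ χ : IrrCharacter G, (∑ g, avgCoeff Q g * (χ : G → ℂ) g) * (∑ g, avgCoeff R g * (χ : G → ℂ) g) =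
      (Nat.card G : ℂ) / ((Nat.card Q : ℂ) * (Nat.card R : ℂ)) := by
  classical
  have h1 : ∀ χ : IrrCharacter G,
      (∑ g, avgCoeff Q g * (χ : G → ℂ) g) * (∑ g, avgCoeff R g * (χ : G → ℂ) g) =
        ∑ g, avgCoeff R g * ((∑ z, avgCoeff Q z * (χ : G → ℂ) z) * (χ : G → ℂ) g) := by
    intro χ
    rw [Finset.mul_sum]
    refine Finset.sum_congr rfl fun g _ => ?_
    ring
  simp_rw [h1]
  rw [Finset.sum_comm]
  simp_rw [← Finset.mul_sum, p3_L5_phi_eq, p3_L6_term Q R hcop]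
  rw [Finset.sum_ite_eq' Finset.univ (1 : G), if_pos (Finset.mem_univ _)]
  rw [div_eq_mul_inv, mul_inv]
  ring

end

end Cfsg.Agent.Lib.P3
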