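import Mathlib
import Cfsg.Agent.Lib.Helper41.PSLnDefs

set_option autoImplicit false

/-! Leaf T1 of the S5163 project (owner helper41): the upper unitriangular subgroup of `SL_n(K)`
is a `p`-group when `K` has characteristic `p`. -/

namespace Cfsg.Agent.Lib.Helper53.PSLnAux

open Matrix

variable {n : ℕ} {K : Type*} [Field K]

theorem strictUpper_pow {N : Matrix (Fin n) (Fin n) K}
    (hN : ∀ i j : Fin n, j ≤ i → N i j = 0) (k : ℕ) :
    ∀ i j : Fin n, (j : ℕ) < (i : ℕ) + k → (N ^ k) i j = 0 := by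
  induction k with
  | zero =>
    intro i j hij
    rw [pow_zero, Matrix.one_apply_ne]
    intro h
    subst h
    omega
  | succ k ih =>
    intro i j hij
    rw [pow_succ, Matrix.mul_apply]
    apply Finset.sum_eq_zero
    intro l _
    by_cases hl : (l : ℕ) < (i : ℕ) + k
    · rw [ih i l hl, zero_mul]
    · rw [hN l j (by rw [Fin.le_def]; omega), mul_zero]

theorem strictUpper_pow_eq_zero {N : Matrix (Fin n) (Fin n) K}
    (hN : ∀ i j : Fin n, j ≤ i → N i j = 0) {k : ℕ} (hk : n ≤ k) : N ^ k = 0 := by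
  ext i j
  rw [strictUpper_pow hN k i j (by have := j.2; omega)]
  rfl

end Cfsg.Agent.Lib.Helper53.PSLnAux

namespace Cfsg.Agent.Lib.Helper53.PSLnAux

open Cfsg.Agent.Lib.Helper41.PSLn

open Matrix

variable {n : ℕ} {K : Type*} [Field K] [Fintype K]

theorem isPGroup_UU (p : ℕ) [Fact p.Prime] [CharP K p] : IsPGroup p (UU n K) := by
  rintro ⟨u, hu⟩
  refine ⟨n, ?_⟩
  apply Subtype.ext
  show u ^ (p ^ n) = 1
  apply Subtype.ext
  show (u : Matrix (Fin n) (Fin n) K) ^ (p ^ n) = 1
  rcases Nat.eq_zero_or_pos n with hn | hn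
  · subst hn
    exact Subsingleton.elim _ _
  · have : Nonempty (Fin n) := ⟨⟨0, hn⟩⟩
    have : CharP (Matrix (Fin n) (Fin n) K) p := Matrix.charP p
    have hN : ∀ i j : Fin n, j ≤ i →
        ((u : Matrix (Fin n) (Fin n) K) - 1) i j = 0 := by
      intro i j hji
      rw [Matrix.sub_apply]
      rcases lt_or_eq_of_le hji with h | h
      · rw [hu.1 i j h, Matrix.one_apply_ne (ne_of_gt h), sub_zero]
      · subst h
        rw [hu.2 j, Matrix.one_apply_eq, sub_self]
    have h0 : ((u : Matrix (Fin n) (Fin n) K) - 1) ^ (p ^ n) = 0 :=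
      Cfsg.Agent.Lib.Helper53.PSLnAux.strictUpper_pow_eq_zero hN
        (le_of_lt (Nat.lt_pow_self (Fact.out : p.Prime).one_lt))
    have hc : Commute ((u : Matrix (Fin n) (Fin n) K) - 1) 1 := Commute.one_right _
    have h1 := add_pow_char_pow_of_commute (p := p) (n := n) (x := (u : Matrix (Fin n) (Fin n) K) - 1)
      (y := 1) hc
    rw [sub_add_cancel, h0, one_pow, zero_add] at h1
    exact h1

end Cfsg.Agent.Lib.Helper53.PSLnAux
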