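import Mathlib
import Cfsg.Agent.Lib.Helper41.PSLnDefs

set_option autoImplicit false

/-! Leaf T15 of the S5163 project (owner helper41): the centre of `SL_n(K)` has order prime to the
characteristic. -/

namespace Cfsg.Agent.Lib.Helper53.PSLnAux

open Cfsg.Agent.Lib.Helper41.PSLn

open Matrix

variable {n : ℕ} {K : Type*} [Field K] [Fintype K]

theorem card_center_coprime (p : ℕ) [Fact p.Prime] [CharP K p] :
    (Nat.card (Subgroup.center (SLn n K))).Coprime p := by
  classical
  have e := Matrix.SpecialLinearGroup.center_equiv_rootsOfUnity (n := Fin n) (R := K)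
  rw [Nat.card_congr e.toEquiv]
  have hdvd : Nat.card (rootsOfUnity (max (Fintype.card (Fin n)) 1) K) ∣ Nat.card Kˣ :=
    Subgroup.card_subgroup_dvd_card _
  apply Nat.Coprime.coprime_dvd_left hdvd
  rw [Nat.card_eq_fintype_card, Fintype.card_units]
  obtain ⟨k, hp, hcard⟩ := FiniteField.card K p
  rw [hcard]
  apply Nat.Coprime.symm
  rw [Nat.Prime.coprime_iff_not_dvd hp]
  intro hdvd2
  have hpos : 1 ≤ p ^ (k : ℕ) := Nat.one_le_pow _ _ hp.pos
  have h2 : p ∣ (p ^ (k : ℕ) - 1) + 1 := by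
    rw [Nat.sub_add_cancel hpos]
    exact dvd_pow_self p k.ne_zero
  have h3 : p ∣ 1 := (Nat.dvd_add_right hdvd2).1 h2
  exact hp.one_lt.ne' (Nat.dvd_one.mp h3)

end Cfsg.Agent.Lib.Helper53.PSLnAux
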