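import Mathlib
import Cfsg.Agent.Lib.Helper41.PSLnDefs

set_option autoImplicit false

/-! Leaf T3 of the S5163 project (owner helper41): an upper triangular matrix whose `p`-th power
is unitriangular is unitriangular (characteristic `p`). -/

namespace Cfsg.Agent.Lib.Helper53.PSLnAux

open Cfsg.Agent.Lib.Helper41.PSLn

open Matrix

variable {n : ℕ} {K : Type*} [Field K] [Fintype K]

theorem mem_UU_of_pow_mem (p : ℕ) [Fact p.Prime] [CharP K p] {b : SLn n K} (hb : b ∈ BB n K)
    (h : b ^ p ∈ UU n K) : b ∈ UU n K := by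
  have hd : ∀ k : ℕ, ∀ i : Fin n, (b ^ k).1 i i = (b.1 i i) ^ k := by
    intro k
    induction k with
    | zero =>
      intro i
      rw [pow_zero, pow_zero]
      exact Matrix.one_apply_eq i
    | succ k ih =>
      intro i
      rw [pow_succ, BB_diag_mul ((BB n K).pow_mem hb k) hb, ih, pow_succ]
  refine ⟨hb, fun i => ?_⟩
  have h1 : (b.1 i i) ^ p = 1 := by
    rw [← hd]
    exact h.2 i
  apply frobenius_inj K p
  rw [frobenius_def, frobenius_def, h1, one_pow]

end Cfsg.Agent.Lib.Helper53.PSLnAux
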