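import Mathlib
import Cfsg.Agent.Lib.Helper81.Q4Defs

/-!
# S6002 hive, leaf Q4-I2B: elements of `Sp_4(F)` with square `-1` are conjugate in `Sp_4(F)`
-/

set_option autoImplicit false

namespace Cfsg.Agent.Lib.Helper81.Q4

open Matrix

variable {F : Type*} [Field F] [Fintype F]

/-! ### the symplectic form -/

omit [Fintype F] in
theorem i2b_f_add_left (u u' v : I4 → F) :
    Cfsg.sympForm 2 F (u + u') v = Cfsg.sympForm 2 F u v + Cfsg.sympForm 2 F u' v := by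
  simp [Cfsg.sympForm, add_dotProduct]

omit [Fintype F] in
theorem i2b_f_smul_left (c : F) (u v : I4 → F) :
    Cfsg.sympForm 2 F (c • u) v = c * Cfsg.sympForm 2 F u v := by
  simp [Cfsg.sympForm, smul_dotProduct]

omit [Fintype F] in
theorem i2b_f_add_right (u v v' : I4 → F) :
    Cfsg.sympForm 2 F u (v + v') = Cfsg.sympForm 2 F u v + Cfsg.sympForm 2 F u v' := by
  simp [Cfsg.sympForm, mulVec_add, dotProduct_add]

omit [Fintype F] in
theorem i2b_f_smul_right (c : F) (u v : I4 → F) :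
    Cfsg.sympForm 2 F u (c • v) = c * Cfsg.sympForm 2 F u v := by
  simp [Cfsg.sympForm, mulVec_smul, dotProduct_smul]

omit [Fintype F] in
theorem i2b_f_neg_left (u v : I4 → F) :
    Cfsg.sympForm 2 F (-u) v = - Cfsg.sympForm 2 F u v := by
  simp [Cfsg.sympForm, neg_dotProduct]

omit [Fintype F] in
theorem i2b_f_neg_right (u v : I4 → F) :
    Cfsg.sympForm 2 F u (-v) = - Cfsg.sympForm 2 F u v := by
  simp [Cfsg.sympForm, mulVec_neg, dotProduct_neg]

omit [Fintype F] in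
theorem i2b_f_swap (u v : I4 → F) : Cfsg.sympForm 2 F v u = - Cfsg.sympForm 2 F u v := by
  unfold Cfsg.sympForm
  rw [dotProduct_mulVec, ← mulVec_transpose, J_transpose, neg_mulVec, neg_dotProduct,
    dotProduct_comm]

omit [Fintype F] in
theorem i2b_f_self (h2 : (2 : F) ≠ 0) (u : I4 → F) : Cfsg.sympForm 2 F u u = 0 := by
  have h := i2b_f_swap u u
  have h' : (2 : F) * Cfsg.sympForm 2 F u u = 0 := by linear_combination h
  rcases mul_eq_zero.mp h' with h'' | h''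
  · exact absurd h'' h2
  · exact h''

omit [Fintype F] in
theorem i2b_f_nondeg (u : I4 → F) (h : ∀ v, Cfsg.sympForm 2 F u v = 0) : u = 0 := by
  funext i
  have h1 := h (J (Fin 2) F *ᵥ Pi.single i 1)
  unfold Cfsg.sympForm at h1
  rw [mulVec_mulVec, J_squared, neg_mulVec, one_mulVec, dotProduct_neg, dotProduct_single,
    mul_one, neg_eq_zero] at h1
  simpa using h1

/-! ### the symmetric form `β(u, v) = f(x u, v)` -/

/-- the symmetric form attached to `X` -/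
def i2b_beta (X : Matrix I4 I4 F) (u v : I4 → F) : F := Cfsg.sympForm 2 F (X *ᵥ u) v

omit [Fintype F] in
theorem i2b_XX (X : Matrix I4 I4 F) (hX2 : X * X = -1) (u : I4 → F) :
    X *ᵥ (X *ᵥ u) = -u := by
  rw [mulVec_mulVec, hX2, neg_mulVec, one_mulVec]

omit [Fintype F] in
theorem i2b_beta_add_left (X : Matrix I4 I4 F) (u u' v : I4 → F) :
    i2b_beta X (u + u') v = i2b_beta X u v + i2b_beta X u' v := by
  unfold i2b_beta
  rw [mulVec_add, i2b_f_add_left]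

omit [Fintype F] in
theorem i2b_beta_smul_left (X : Matrix I4 I4 F) (c : F) (u v : I4 → F) :
    i2b_beta X (c • u) v = c * i2b_beta X u v := by
  unfold i2b_beta
  rw [mulVec_smul, i2b_f_smul_left]

omit [Fintype F] in
theorem i2b_beta_add_right (X : Matrix I4 I4 F) (u v v' : I4 → F) :
    i2b_beta X u (v + v') = i2b_beta X u v + i2b_beta X u v' := by
  unfold i2b_beta
  rw [i2b_f_add_right]

omit [Fintype F] in
theorem i2b_beta_smul_right (X : Matrix I4 I4 F) (c : F) (u v : I4 → F) :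
    i2b_beta X u (c • v) = c * i2b_beta X u v := by
  unfold i2b_beta
  rw [i2b_f_smul_right]

omit [Fintype F] in
theorem i2b_beta_symm (X : Matrix I4 I4 F) (hX2 : X * X = -1)
    (hXf : ∀ u v, Cfsg.sympForm 2 F (X *ᵥ u) (X *ᵥ v) = Cfsg.sympForm 2 F u v)
    (u v : I4 → F) : i2b_beta X u v = i2b_beta X v u := by
  unfold i2b_beta
  rw [← hXf (X *ᵥ u) v, i2b_XX X hX2, i2b_f_neg_left, i2b_f_swap (X *ᵥ v) u, neg_neg]

omit [Fintype F] in
theorem i2b_beta_XX (X : Matrix I4 I4 F)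
    (hXf : ∀ u v, Cfsg.sympForm 2 F (X *ᵥ u) (X *ᵥ v) = Cfsg.sympForm 2 F u v)
    (u v : I4 → F) : i2b_beta X (X *ᵥ u) (X *ᵥ v) = i2b_beta X u v := by
  unfold i2b_beta
  rw [hXf]

omit [Fintype F] in
theorem i2b_beta_self_X (h2 : (2 : F) ≠ 0) (X : Matrix I4 I4 F) (u : I4 → F) :
    i2b_beta X u (X *ᵥ u) = 0 := i2b_f_self h2 _

omit [Fintype F] in
/-- `β(u, X v) = f(u, v)` -/
theorem i2b_beta_X_right (X : Matrix I4 I4 F)
    (hXf : ∀ u v, Cfsg.sympForm 2 F (X *ᵥ u) (X *ᵥ v) = Cfsg.sympForm 2 F u v)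
    (u v : I4 → F) : i2b_beta X u (X *ᵥ v) = Cfsg.sympForm 2 F u v := hXf u v

omit [Fintype F] in
/-- `β(X u, v) = -f(u, v)` -/
theorem i2b_beta_X_left (X : Matrix I4 I4 F) (hX2 : X * X = -1)
    (u v : I4 → F) : i2b_beta X (X *ᵥ u) v = - Cfsg.sympForm 2 F u v := by
  unfold i2b_beta
  rw [i2b_XX X hX2, i2b_f_neg_left]

omit [Fintype F] in
theorem i2b_beta_nondeg (X : Matrix I4 I4 F) (hX2 : X * X = -1) (u : I4 → F)
    (h : ∀ v, i2b_beta X u v = 0) : u = 0 := by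
  have h1 : X *ᵥ u = 0 := i2b_f_nondeg _ h
  have h2 := i2b_XX X hX2 u
  rw [h1, mulVec_zero] at h2
  exact neg_eq_zero.mp h2.symm

omit [Fintype F] in
/-- polarisation: an anisotropic vector among `v`, `t`, `v + t` -/
theorem i2b_aniso_of_ne (h2 : (2 : F) ≠ 0) (X : Matrix I4 I4 F) (hX2 : X * X = -1)
    (hXf : ∀ u v, Cfsg.sympForm 2 F (X *ᵥ u) (X *ᵥ v) = Cfsg.sympForm 2 F u v)
    (v t : I4 → F) (hvt : i2b_beta X v t ≠ 0) :
    i2b_beta X v v ≠ 0 ∨ i2b_beta X t t ≠ 0 ∨ i2b_beta X (v + t) (v + t) ≠ 0 := by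
  by_contra hcon
  push Not at hcon
  obtain ⟨h1, h3, h4⟩ := hcon
  rw [i2b_beta_add_left, i2b_beta_add_right, i2b_beta_add_right, h1, h3,
    i2b_beta_symm X hX2 hXf t v] at h4
  have : (2 : F) * i2b_beta X v t = 0 := by linear_combination h4
  rcases mul_eq_zero.mp this with h | h
  · exact h2 h
  · exact hvt h

/-- sums of two squares in a finite field of odd characteristic -/
theorem i2b_sq_add_sq (h2 : (2 : F) ≠ 0) (c : F) : ∃ a b : F, a * a + b * b = c := by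
  classical
  have hchar : ringChar F ≠ 2 := by
    intro h
    apply h2
    have := CharP.cast_eq_zero F (ringChar F)
    rw [h] at this
    exact_mod_cast this
  have hodd : Fintype.card F % 2 = 1 := FiniteField.odd_card_of_char_ne_two hchar
  let f : Polynomial F := Polynomial.X ^ 2
  let g : Polynomial F := Polynomial.X ^ 2 - Polynomial.C c
  obtain ⟨a, b, hab⟩ : ∃ a b, f.eval a + g.eval b = 0 :=
    FiniteField.exists_root_sum_quadratic (f := f) (g := g) (Polynomial.degree_X_pow 2)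
      (Polynomial.degree_X_pow_sub_C (by decide) _) hodd
  refine ⟨a, b, ?_⟩
  simp only [f, g, Polynomial.eval_C, Polynomial.eval_X, Polynomial.eval_pow,
    Polynomial.eval_sub] at hab
  linear_combination hab

/-- rescaling an anisotropic vector inside `⟨u, X u⟩` -/
theorem i2b_normalize (h2 : (2 : F) ≠ 0) (X : Matrix I4 I4 F) (hX2 : X * X = -1)
    (hXf : ∀ u v, Cfsg.sympForm 2 F (X *ᵥ u) (X *ᵥ v) = Cfsg.sympForm 2 F u v)
    (u : I4 → F) (hu : i2b_beta X u u ≠ 0) :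
    ∃ a b : F, i2b_beta X (a • u + b • X *ᵥ u) (a • u + b • X *ᵥ u) = 1 := by
  obtain ⟨a, b, hab⟩ := i2b_sq_add_sq h2 (i2b_beta X u u)⁻¹
  refine ⟨a, b, ?_⟩
  have h1 : i2b_beta X u (X *ᵥ u) = 0 := i2b_beta_self_X h2 X u
  have h3 : i2b_beta X (X *ᵥ u) u = 0 := by rw [i2b_beta_symm X hX2 hXf]; exact h1
  have h4 : i2b_beta X (X *ᵥ u) (X *ᵥ u) = i2b_beta X u u := i2b_beta_XX X hXf u u
  simp only [i2b_beta_add_left, i2b_beta_add_right, i2b_beta_smul_left, i2b_beta_smul_right,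
    h1, h3, h4]
  have h5 : (i2b_beta X u u)⁻¹ * i2b_beta X u u = 1 := inv_mul_cancel₀ hu
  linear_combination (i2b_beta X u u) * hab + h5

omit [Fintype F] in
/-- an anisotropic vector exists -/
theorem i2b_exists_aniso (h2 : (2 : F) ≠ 0) (X : Matrix I4 I4 F) (hX2 : X * X = -1)
    (hXf : ∀ u v, Cfsg.sympForm 2 F (X *ᵥ u) (X *ᵥ v) = Cfsg.sympForm 2 F u v) :
    ∃ u : I4 → F, i2b_beta X u u ≠ 0 := by
  classical
  have hne : (Pi.single (Sum.inl 0) 1 : I4 → F) ≠ 0 := by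
    intro h
    have := congrFun h (Sum.inl 0)
    simp at this
  have : ∃ t, i2b_beta X (Pi.single (Sum.inl 0) 1) t ≠ 0 := by
    by_contra hcon
    push Not at hcon
    exact hne (i2b_beta_nondeg X hX2 _ hcon)
  obtain ⟨t, ht⟩ := this
  rcases i2b_aniso_of_ne h2 X hX2 hXf _ t ht with h | h | h
  · exact ⟨_, h⟩
  · exact ⟨_, h⟩
  · exact ⟨_, h⟩

omit [Fintype F] in
/-- a non-zero vector orthogonal to two given ones -/
theorem i2b_exists_ker (X : Matrix I4 I4 F) (w w2 : I4 → F) :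
    ∃ v : I4 → F, v ≠ 0 ∧ i2b_beta X v w = 0 ∧ i2b_beta X v w2 = 0 := by
  let φ1 : (I4 → F) →ₗ[F] F :=
    { toFun := fun v => i2b_beta X v w
      map_add' := fun a b => i2b_beta_add_left X a b w
      map_smul' := fun c a => by simp [i2b_beta_smul_left] }
  let φ2 : (I4 → F) →ₗ[F] F :=
    { toFun := fun v => i2b_beta X v w2
      map_add' := fun a b => i2b_beta_add_left X a b w2
      map_smul' := fun c a => by simp [i2b_beta_smul_left] }
  have hker : LinearMap.ker (φ1.prod φ2) ≠ ⊥ := by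
    apply LinearMap.ker_ne_bot_of_finrank_lt
    simp [I4]
  obtain ⟨v, hv, hv0⟩ := (Submodule.ne_bot_iff _).mp hker
  rw [LinearMap.mem_ker, LinearMap.prod_apply] at hv
  have hv' := Prod.mk_eq_zero.mp hv
  exact ⟨v, hv0, hv'.1, hv'.2⟩

/-- the second vector of the orthonormal pair -/
theorem i2b_exists_second (h2 : (2 : F) ≠ 0) (X : Matrix I4 I4 F) (hX2 : X * X = -1)
    (hXf : ∀ u v, Cfsg.sympForm 2 F (X *ᵥ u) (X *ᵥ v) = Cfsg.sympForm 2 F u v)
    (w : I4 → F) (hw : i2b_beta X w w = 1) :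
    ∃ w' : I4 → F, i2b_beta X w' w' = 1 ∧ i2b_beta X w w' = 0 ∧ i2b_beta X (X *ᵥ w) w' = 0 := by
  have hsym := i2b_beta_symm X hX2 hXf
  obtain ⟨v, hv0, hv1, hv2⟩ := i2b_exists_ker X w (X *ᵥ w)
  have : ∃ t, i2b_beta X v t ≠ 0 := by
    by_contra hcon
    push Not at hcon
    exact hv0 (i2b_beta_nondeg X hX2 _ hcon)
  obtain ⟨t, ht⟩ := this
  have hwX : i2b_beta X w (X *ᵥ w) = 0 := i2b_beta_self_X h2 X w
  have hXw : i2b_beta X (X *ᵥ w) w = 0 := by rw [hsym]; exact hwX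
  have hXX : i2b_beta X (X *ᵥ w) (X *ᵥ w) = 1 := by rw [i2b_beta_XX X hXf]; exact hw
  set t' : I4 → F := t + ((-(i2b_beta X w t)) • w + (-(i2b_beta X (X *ᵥ w) t)) • X *ᵥ w) with ht'
  have ht1 : i2b_beta X t' w = 0 := by
    rw [ht']
    simp only [i2b_beta_add_left, i2b_beta_smul_left, hw, hXw, hsym t w]
    ring
  have ht2 : i2b_beta X t' (X *ᵥ w) = 0 := by
    rw [ht']
    simp only [i2b_beta_add_left, i2b_beta_smul_left, hwX, hXX, hsym t (X *ᵥ w)]
    ring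
  have ht3 : i2b_beta X v t' ≠ 0 := by
    rw [ht']
    simp only [i2b_beta_add_right, i2b_beta_smul_right, hv1, hv2]
    simpa using ht
  -- an anisotropic vector orthogonal to `w`, `X w`
  obtain ⟨u', hu1, hu2, hu3⟩ : ∃ u' : I4 → F, i2b_beta X u' w = 0 ∧
      i2b_beta X u' (X *ᵥ w) = 0 ∧ i2b_beta X u' u' ≠ 0 := by
    rcases i2b_aniso_of_ne h2 X hX2 hXf v t' ht3 with h | h | h
    · exact ⟨v, hv1, hv2, h⟩
    · exact ⟨t', ht1, ht2, h⟩
    · refine ⟨v + t', ?_, ?_, h⟩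
      · rw [i2b_beta_add_left, hv1, ht1, add_zero]
      · rw [i2b_beta_add_left, hv2, ht2, add_zero]
  obtain ⟨a, b, hab⟩ := i2b_normalize h2 X hX2 hXf u' hu3
  have hf0 : Cfsg.sympForm 2 F u' w = 0 := by
    rw [← i2b_beta_X_right X hXf]; exact hu2
  have h5 : i2b_beta X (X *ᵥ u') w = 0 := by
    rw [i2b_beta_X_left X hX2, hf0, neg_zero]
  have h6 : i2b_beta X (X *ᵥ u') (X *ᵥ w) = 0 := by
    rw [i2b_beta_XX X hXf]; exact hu1
  refine ⟨a • u' + b • X *ᵥ u', hab, ?_, ?_⟩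
  · rw [hsym]
    simp only [i2b_beta_add_left, i2b_beta_smul_left, hu1, h5]
    ring
  · rw [hsym]
    simp only [i2b_beta_add_left, i2b_beta_smul_left, hu2, h6]
    ring

omit [Fintype F] in
/-- Gram matrix of the columns -/
theorem i2b_gram (c : I4 → I4 → F) :
    (Matrix.of c * J (Fin 2) F * (Matrix.of c)ᵀ) =
      Matrix.of fun i j => Cfsg.sympForm 2 F (c i) (c j) := by
  ext i j
  simp only [mul_apply, transpose_apply, of_apply, Cfsg.sympForm, dotProduct, mulVec,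
    Finset.sum_mul, Finset.mul_sum, mul_assoc]
  exact Finset.sum_comm

omit [Fintype F] in
/-- matrices with `Pᵀ J P = J` are symplectic -/
theorem i2b_mem_spGL (P : GL I4 F)
    (hP : (P : Matrix I4 I4 F)ᵀ * J (Fin 2) F * (P : Matrix I4 I4 F) = J (Fin 2) F) :
    P ∈ Cfsg.spGL 2 F := by
  intro u v
  show Cfsg.sympForm 2 F ((P : Matrix I4 I4 F) *ᵥ u) ((P : Matrix I4 I4 F) *ᵥ v) =
    Cfsg.sympForm 2 F u v
  unfold Cfsg.sympForm
  rw [← vecMul_transpose, ← dotProduct_mulVec, mulVec_mulVec, mulVec_mulVec, hP]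

omit [Fintype F] in
/-- the standard form: `x P = P J` with `P` symplectic -/
theorem i2b_standard_of_pair (X : Matrix I4 I4 F) (hX2 : X * X = -1)
    (hXf : ∀ u v, Cfsg.sympForm 2 F (X *ᵥ u) (X *ᵥ v) = Cfsg.sympForm 2 F u v)
    (h2 : (2 : F) ≠ 0) (w w' : I4 → F) (hw : i2b_beta X w w = 1) (hw' : i2b_beta X w' w' = 1)
    (h0 : i2b_beta X w w' = 0) (h1 : i2b_beta X (X *ᵥ w) w' = 0) :
    ∃ P ∈ Cfsg.spGL 2 F, X * (P : Matrix I4 I4 F) = (P : Matrix I4 I4 F) * J (Fin 2) F := by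
  have hsym := i2b_beta_symm X hX2 hXf
  -- values of `f`
  have fXl : ∀ u v, Cfsg.sympForm 2 F (X *ᵥ u) v = i2b_beta X u v := fun u v => rfl
  have fXr : ∀ u v, Cfsg.sympForm 2 F u (X *ᵥ v) = - i2b_beta X v u := by
    intro u v
    rw [i2b_f_swap (X *ᵥ v) u]
    rfl
  have fww' : Cfsg.sympForm 2 F w w' = 0 := by
    have := i2b_beta_X_left X hX2 w w'
    rw [h1] at this
    exact neg_eq_zero.mp this.symm
  have fw'w : Cfsg.sympForm 2 F w' w = 0 := by rw [i2b_f_swap w w', fww', neg_zero]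
  have h0' : i2b_beta X w' w = 0 := by rw [hsym]; exact h0
  set c : I4 → I4 → F := Sum.elim ![w, w'] ![X *ᵥ w, X *ᵥ w'] with hc
  have hgram : (Matrix.of c * J (Fin 2) F * (Matrix.of c)ᵀ) = J (Fin 2) F := by
    rw [i2b_gram]
    ext i j
    rcases i with i | i <;> rcases j with j | j <;> fin_cases i <;> fin_cases j <;>
      simp [hc, J, fXl, fXr, i2b_f_self h2, hw, hw', h0, h0', fww', fw'w,
        i2b_beta_X_right X hXf]
  have hdet : ((Matrix.of c)ᵀ).det ≠ 0 := by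
    intro h
    have h3 := congrArg Matrix.det hgram
    rw [det_mul, det_mul, h, mul_zero] at h3
    exact (isUnit_det_J (Fin 2) F).ne_zero h3.symm
  refine ⟨Matrix.GeneralLinearGroup.mkOfDetNeZero _ hdet, ?_, ?_⟩
  · apply i2b_mem_spGL
    show ((Matrix.of c)ᵀ)ᵀ * J (Fin 2) F * (Matrix.of c)ᵀ = J (Fin 2) F
    rw [transpose_transpose]
    exact hgram
  · show X * (Matrix.of c)ᵀ = (Matrix.of c)ᵀ * J (Fin 2) F
    ext i j
    have hl : (X * (Matrix.of c)ᵀ) i j = (X *ᵥ c j) i := by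
      simp [mul_apply, mulVec, dotProduct]
    rw [hl]
    rcases j with j | j <;> fin_cases j <;>
      simp [hc, J, mul_apply, Fintype.sum_sum_type, i2b_XX X hX2]

/-- every `x ∈ Sp_4(F)` with `x² = -1` is `Sp`-conjugate to `J` -/
theorem i2b_standard (h2 : (2 : F) ≠ 0) (x : GL I4 F) (hx : x ∈ Cfsg.spGL 2 F)
    (hx2 : (x : Matrix I4 I4 F) * (x : Matrix I4 I4 F) = -1) :
    ∃ P ∈ Cfsg.spGL 2 F,
      (x : Matrix I4 I4 F) * (P : Matrix I4 I4 F) = (P : Matrix I4 I4 F) * J (Fin 2) F := by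
  have hXf : ∀ u v, Cfsg.sympForm 2 F ((x : Matrix I4 I4 F) *ᵥ u) ((x : Matrix I4 I4 F) *ᵥ v) =
      Cfsg.sympForm 2 F u v := fun u v => hx u v
  obtain ⟨u, hu⟩ := i2b_exists_aniso h2 _ hx2 hXf
  obtain ⟨a, b, hw⟩ := i2b_normalize h2 _ hx2 hXf u hu
  obtain ⟨w', hw', h0, h1⟩ := i2b_exists_second h2 _ hx2 hXf _ hw
  exact i2b_standard_of_pair _ hx2 hXf h2 _ w' hw hw' h0 h1

/-- Q4-I2B.  Elements of `Sp_4(F)` with square `-1` are conjugate in `Sp_4(F)` (`F` finite, odd). -/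
theorem conj_of_sq_eq_neg_one (h2 : (2 : F) ≠ 0) (x y : GL I4 F)
    (hx : x ∈ Cfsg.spGL 2 F) (hy : y ∈ Cfsg.spGL 2 F)
    (hx2 : (x : Matrix I4 I4 F) * (x : Matrix I4 I4 F) = -1)
    (hy2 : (y : Matrix I4 I4 F) * (y : Matrix I4 I4 F) = -1) :
    ∃ g ∈ Cfsg.spGL 2 F, g⁻¹ * x * g = y := by
  obtain ⟨P, hP, hxP⟩ := i2b_standard h2 x hx hx2
  obtain ⟨Q, hQ, hyQ⟩ := i2b_standard h2 y hy hy2
  refine ⟨P * Q⁻¹, (Cfsg.spGL 2 F).mul_mem hP ((Cfsg.spGL 2 F).inv_mem hQ), ?_⟩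
  have hJQ : J (Fin 2) F * ((Q⁻¹ : GL I4 F) : Matrix I4 I4 F) =
      ((Q⁻¹ : GL I4 F) : Matrix I4 I4 F) * (y : Matrix I4 I4 F) := by
    have hQi : ((Q⁻¹ : GL I4 F) : Matrix I4 I4 F) * (Q : Matrix I4 I4 F) = 1 := by
      rw [← Units.val_mul, inv_mul_cancel, Units.val_one]
    have hQi' : (Q : Matrix I4 I4 F) * ((Q⁻¹ : GL I4 F) : Matrix I4 I4 F) = 1 := by
      rw [← Units.val_mul, mul_inv_cancel, Units.val_one]
    calc J (Fin 2) F * ((Q⁻¹ : GL I4 F) : Matrix I4 I4 F)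
        = ((Q⁻¹ : GL I4 F) : Matrix I4 I4 F) * ((Q : Matrix I4 I4 F) * J (Fin 2) F) *
            ((Q⁻¹ : GL I4 F) : Matrix I4 I4 F) := by
          rw [← Matrix.mul_assoc, hQi, Matrix.one_mul]
      _ = ((Q⁻¹ : GL I4 F) : Matrix I4 I4 F) * ((y : Matrix I4 I4 F) * (Q : Matrix I4 I4 F)) *
            ((Q⁻¹ : GL I4 F) : Matrix I4 I4 F) := by rw [hyQ]
      _ = ((Q⁻¹ : GL I4 F) : Matrix I4 I4 F) * (y : Matrix I4 I4 F) := by
          rw [Matrix.mul_assoc, Matrix.mul_assoc, hQi', Matrix.mul_one]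
  have hcomm : x * (P * Q⁻¹) = (P * Q⁻¹) * y := by
    apply Units.ext
    simp only [Units.val_mul]
    rw [← Matrix.mul_assoc, hxP, Matrix.mul_assoc, hJQ, Matrix.mul_assoc]
  rw [mul_assoc, hcomm, ← mul_assoc, inv_mul_cancel, one_mul]

end Cfsg.Agent.Lib.Helper81.Q4
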