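import Mathlib

/-! # Rm hive (S2343, owner helper6), leaf RM-INVCONJ: involutions are conjugate when a Sylow 2-subgroup `S`
is elementary abelian of order 8, self-centralizing, with `|N(S)| = 168`. -/

set_option autoImplicit false

namespace Cfsg.Agent.Lib.Helper6.Rm

open scoped Pointwise

section abstract

variable {G : Type*} [Group G]

/-- an element of order 2 is conjugate into a given Sylow 2-subgroup -/
theorem rminvconj_into [Finite G] (S : Sylow 2 G) (a : G) (ha : orderOf a = 2) :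
    ∃ g : G, g * a * g⁻¹ ∈ (S : Subgroup G) := by
  have : Fact (Nat.Prime 2) := ⟨Nat.prime_two⟩
  have hP : IsPGroup 2 (Subgroup.zpowers a) := by
    apply IsPGroup.of_card (n := 1)
    rw [Nat.card_zpowers, ha, pow_one]
  obtain ⟨Q, hQ⟩ := hP.exists_le_sylow
  obtain ⟨g, hg⟩ := MulAction.exists_smul_eq G Q S
  refine ⟨g, ?_⟩
  have haQ : a ∈ (Q : Subgroup G) := hQ (Subgroup.mem_zpowers a)
  have h1 : MulAut.conj g • a ∈ MulAut.conj g • (Q : Subgroup G) :=
    Subgroup.smul_mem_pointwise_smul a (MulAut.conj g) (Q : Subgroup G) haQ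
  rw [← Sylow.coe_subgroup_smul, hg] at h1
  simpa [MulAut.smul_def] using h1

/-- the core: inside `S`, via an element `y ∈ N(S)` of order 7 -/
theorem rminvconj_core [Finite G] (S : Subgroup G) (hS8 : Nat.card S = 8)
    (hexp : ∀ x ∈ S, x * x = 1)
    (hC : Subgroup.centralizer (S : Set G) = S)
    (y : G) (hyN : y ∈ Subgroup.normalizer (S : Set G)) (hy7 : orderOf y = 7)
    (a b : G) (haS : a ∈ S) (hbS : b ∈ S) (ha1 : a ≠ 1) (hb1 : b ≠ 1) :
    ∃ g : G, g * a * g⁻¹ = b := by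
  classical
  have : Fact (Nat.Prime 7) := ⟨by norm_num⟩
  have : Fintype S := Fintype.ofFinite S
  have hyN' : ∀ h, h ∈ S ↔ y * h * y⁻¹ ∈ S := Subgroup.mem_normalizer_iff.mp hyN
  have hyN'' : ∀ h, h ∈ S ↔ y⁻¹ * h * y ∈ S := Subgroup.mem_normalizer_iff''.mp hyN
  have hy7' : y ^ 7 = 1 := by rw [← hy7]; exact pow_orderOf_eq_one y
  -- conjugation by `y` as a permutation of `S`
  let σ : Equiv.Perm S :=
    { toFun := fun s => ⟨y * s * y⁻¹, (hyN' s).1 s.2⟩
      invFun := fun s => ⟨y⁻¹ * s * y, (hyN'' s).1 s.2⟩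
      left_inv := fun s => Subtype.ext (by simp [mul_assoc])
      right_inv := fun s => Subtype.ext (by simp [mul_assoc]) }
  have hσpow : ∀ (k : ℕ) (s : S), (((σ ^ k) s : S) : G) = y ^ k * s * (y ^ k)⁻¹ := by
    intro k
    induction k with
    | zero => intro s; simp
    | succ k ih =>
      intro s
      rw [pow_succ', Equiv.Perm.mul_apply]
      show y * ((σ ^ k) s : G) * y⁻¹ = _
      rw [ih s, pow_succ']
      group
  have hσ7 : σ ^ 7 ^ 1 = 1 := by
    ext s
    rw [pow_one, hσpow 7 s, hy7']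
    simp
  -- fixed points
  have hmod := Equiv.Perm.card_compl_support_modEq hσ7
  have hcardS : Fintype.card S = 8 := by rw [← Nat.card_eq_fintype_card, hS8]
  rw [hcardS] at hmod
  have hle : σ.supportᶜ.card ≤ 8 := by
    rw [← hcardS]; exact Finset.card_le_univ _
  have hone_fixed : (1 : S) ∈ σ.supportᶜ := by
    rw [Finset.mem_compl, Equiv.Perm.mem_support, not_not]
    exact Subtype.ext (by show y * 1 * y⁻¹ = 1; simp)
  have hcases : σ.supportᶜ.card = 1 ∨ σ.supportᶜ.card = 8 := by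
    have h := hmod
    unfold Nat.ModEq at h
    have hpos : 0 < σ.supportᶜ.card := Finset.card_pos.mpr ⟨1, hone_fixed⟩
    omega
  have hnot8 : σ.supportᶜ.card ≠ 8 := by
    intro h8
    have huniv : σ.supportᶜ = Finset.univ := by
      apply Finset.eq_univ_of_card
      rw [h8, hcardS]
    have hyC : y ∈ Subgroup.centralizer (S : Set G) := by
      rw [Subgroup.mem_centralizer_iff]
      intro s hs
      have hmem : (⟨s, hs⟩ : S) ∈ σ.supportᶜ := by rw [huniv]; exact Finset.mem_univ _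
      rw [Finset.mem_compl, Equiv.Perm.mem_support, not_not] at hmem
      have h1 : y * s * y⁻¹ = s := congrArg Subtype.val hmem
      rw [mul_inv_eq_iff_eq_mul] at h1
      exact h1.symm
    rw [hC] at hyC
    have hy2 : y ^ 2 = 1 := by rw [pow_two]; exact hexp y hyC
    have hdvd : orderOf y ∣ 2 := orderOf_dvd_of_pow_eq_one hy2
    rw [hy7] at hdvd
    omega
  have hcard1 : σ.supportᶜ.card = 1 := hcases.resolve_right hnot8
  have hfix_only : ∀ s : S, σ s = s → s = 1 := by
    intro s hs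
    have hmem : s ∈ σ.supportᶜ := by
      rw [Finset.mem_compl, Equiv.Perm.mem_support, not_not]; exact hs
    obtain ⟨z, hz⟩ := Finset.card_eq_one.mp hcard1
    rw [hz, Finset.mem_singleton] at hmem hone_fixed
    rw [hmem, hone_fixed]
  -- no power `y ^ d`, `0 < d < 7`, commutes with `a`
  have hno : ∀ d : ℕ, 0 < d → d < 7 → y ^ d * a * (y ^ d)⁻¹ ≠ a := by
    intro d hd0 hd7 hcomm
    have hcop : Nat.Coprime d 7 :=
      Nat.Coprime.symm ((Nat.Prime.coprime_iff_not_dvd (by norm_num : Nat.Prime 7)).2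
        (fun h => by have := Nat.le_of_dvd hd0 h; omega))
    have hc : Commute (y ^ d) a := by
      rw [mul_inv_eq_iff_eq_mul] at hcomm
      exact hcomm
    have hbez := Int.gcd_eq_gcd_ab (d : ℤ) 7
    have hg1 : Int.gcd (d : ℤ) 7 = 1 := by
      have : Int.gcd (d : ℤ) (7 : ℕ) = Nat.gcd d 7 := Int.gcd_natCast_natCast d 7
      simpa [hcop.gcd_eq_one] using this
    rw [hg1] at hbez
    have hyz : y = (y ^ d) ^ (Int.gcdA d 7) := by
      have h1 : y ^ ((d : ℤ) * Int.gcdA d 7 + 7 * Int.gcdB d 7) = y := by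
        rw [← hbez]; simp
      rw [zpow_add, zpow_mul, zpow_mul, zpow_natCast] at h1
      have h7 : y ^ (7 : ℤ) = 1 := by
        have : y ^ ((7 : ℕ) : ℤ) = 1 := by rw [zpow_natCast]; exact hy7'
        simpa using this
      rw [h7, one_zpow, mul_one] at h1
      exact h1.symm
    have hcy : Commute y a := by
      rw [hyz]; exact hc.zpow_left _
    have hfix : σ ⟨a, haS⟩ = ⟨a, haS⟩ := by
      apply Subtype.ext
      show y * a * y⁻¹ = a
      rw [hcy.eq, mul_inv_cancel_right]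
    exact ha1 (congrArg Subtype.val (hfix_only _ hfix))
  -- the orbit of `a`
  have hinj : Set.InjOn (fun i : ℕ => y ^ i * a * (y ^ i)⁻¹) (Finset.range 7 : Set ℕ) := by
    intro i hi j hj hij
    simp only [Finset.coe_range, Set.mem_Iio] at hi hj
    by_contra hne
    rcases Nat.lt_or_gt_of_ne hne with hlt | hlt
    · refine hno (j - i) (by omega) (by omega) ?_
      have : y ^ (j - i) = (y ^ i)⁻¹ * y ^ j := by
        rw [eq_inv_mul_iff_mul_eq, ← pow_add]; congr 1; omega
      have hij' : y ^ i * a * (y ^ i)⁻¹ = y ^ j * a * (y ^ j)⁻¹ := hij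
      rw [this, mul_inv_rev, inv_inv]
      calc (y ^ i)⁻¹ * y ^ j * a * ((y ^ j)⁻¹ * y ^ i)
          = (y ^ i)⁻¹ * (y ^ j * a * (y ^ j)⁻¹) * y ^ i := by group
        _ = (y ^ i)⁻¹ * (y ^ i * a * (y ^ i)⁻¹) * y ^ i := by rw [hij']
        _ = a := by group
    · refine hno (i - j) (by omega) (by omega) ?_
      have : y ^ (i - j) = (y ^ j)⁻¹ * y ^ i := by
        rw [eq_inv_mul_iff_mul_eq, ← pow_add]; congr 1; omega
      have hij' : y ^ i * a * (y ^ i)⁻¹ = y ^ j * a * (y ^ j)⁻¹ := hij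
      rw [this, mul_inv_rev, inv_inv]
      calc (y ^ j)⁻¹ * y ^ i * a * ((y ^ i)⁻¹ * y ^ j)
          = (y ^ j)⁻¹ * (y ^ i * a * (y ^ i)⁻¹) * y ^ j := by group
        _ = (y ^ j)⁻¹ * (y ^ j * a * (y ^ j)⁻¹) * y ^ j := by rw [hij']
        _ = a := by group
  -- the seven conjugates inside `S \ {1}`
  have hmemS : ∀ i : ℕ, y ^ i * a * (y ^ i)⁻¹ ∈ S := by
    intro i
    have := hσpow i ⟨a, haS⟩
    rw [← this]
    exact ((σ ^ i) ⟨a, haS⟩).2
  let T : Finset S := (Finset.univ : Finset S).erase 1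
  have hT : T.card = 7 := by
    rw [Finset.card_erase_of_mem (Finset.mem_univ _), Finset.card_univ, hcardS]
  let O : Finset S := (Finset.range 7).image
    (fun i : ℕ => (⟨y ^ i * a * (y ^ i)⁻¹, hmemS i⟩ : S))
  have hO : O.card = 7 := by
    rw [Finset.card_image_of_injOn, Finset.card_range]
    intro i hi j hj hij
    exact hinj hi hj (congrArg Subtype.val hij)
  have hOT : O ⊆ T := by
    intro s hs
    obtain ⟨i, -, rfl⟩ := Finset.mem_image.mp hs
    refine Finset.mem_erase.mpr ⟨?_, Finset.mem_univ _⟩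
    intro h1
    have h2 : y ^ i * a * (y ^ i)⁻¹ = 1 := congrArg Subtype.val h1
    apply ha1
    have : a = (y ^ i)⁻¹ * (y ^ i * a * (y ^ i)⁻¹) * y ^ i := by group
    rw [this, h2]; group
  have hOeq : O = T := Finset.eq_of_subset_of_card_le hOT (by rw [hT, hO])
  have hbT : (⟨b, hbS⟩ : S) ∈ T :=
    Finset.mem_erase.mpr ⟨fun h => hb1 (congrArg Subtype.val h), Finset.mem_univ _⟩
  rw [← hOeq] at hbT
  obtain ⟨i, -, hi⟩ := Finset.mem_image.mp hbT
  exact ⟨y ^ i, congrArg Subtype.val hi⟩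

/-- RM-INVCONJ (Mathlib).  By Sylow, `a, b` may be taken in `S`.  `7 ∣ 168`: take `x ∈ N(S)` of order 7 (Cauchy);
`x ∉ C(S) = S` (elements of `S` have order `≤ 2`).  `⟨x⟩` acts on `S` (8 elements) by conjugation with `≡ 8 ≡ 1 (mod 7)`
fixed points (`IsPGroup.card_modEq_card_fixedPoints`), not all 8, so only `1` is fixed; the orbit of `a` has 7 elements,
none equal to `1`, so it is `S \ {1}` and contains `b`. -/
theorem involutions_conj_of_sylow [Finite G] (S : Sylow 2 G) (hS8 : Nat.card S = 8)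
    (hexp : ∀ x ∈ S, x * x = 1)
    (hC : Subgroup.centralizer ((S : Subgroup G) : Set G) = S)
    (hN : Nat.card (Subgroup.normalizer ((S : Subgroup G) : Set G)) = 168)
    (a b : G) (ha : orderOf a = 2) (hb : orderOf b = 2) : ∃ g : G, g * a * g⁻¹ = b := by
  have : Fact (Nat.Prime 7) := ⟨by norm_num⟩
  obtain ⟨x, hx⟩ := exists_prime_orderOf_dvd_card'
    (G := Subgroup.normalizer ((S : Subgroup G) : Set G)) 7 (by rw [hN]; norm_num)
  have hx7 : orderOf (x : G) = 7 := by rw [Subgroup.orderOf_coe, hx]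
  obtain ⟨g1, h1⟩ := rminvconj_into S a ha
  obtain ⟨g2, h2⟩ := rminvconj_into S b hb
  have hne : ∀ (g c : G), orderOf c = 2 → g * c * g⁻¹ ≠ 1 := by
    intro g c hc h
    have : c = 1 := by
      have h' : c = g⁻¹ * (g * c * g⁻¹) * g := by group
      rw [h', h]; group
    rw [this, orderOf_one] at hc
    omega
  obtain ⟨g, hg⟩ := rminvconj_core (S : Subgroup G) hS8 hexp hC (x : G) x.2 hx7
    (g1 * a * g1⁻¹) (g2 * b * g2⁻¹) h1 h2 (hne g1 a ha) (hne g2 b hb)
  refine ⟨g2⁻¹ * g * g1, ?_⟩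
  have : g2⁻¹ * g * g1 * a * (g2⁻¹ * g * g1)⁻¹ = g2⁻¹ * (g * (g1 * a * g1⁻¹) * g⁻¹) * g2 := by
    group
  rw [this, hg]
  group

end abstract

end Cfsg.Agent.Lib.Helper6.Rm
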