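import Mathlib
import Cfsg.Agent.Lib.Helper47.Frattini
import Cfsg.Agent.Lib.Helper2.PGroup
import Cfsg.Agent.Lib.Helper1.PFrattini

set_option autoImplicit false
set_option linter.style.haveILetI false
set_option linter.unnecessarySimpa false
set_option linter.unusedVariables false

/-!
# Counting step for an involution acting on an elementary abelian 2-group, and the
"Frattini engine" for groups in which the Frattini subgroup lies in all subgroups of small index.
-/

namespace Cfsg.Agent.Lib.Helper53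

section step

variable {Γ : Type*} [Group Γ]

/-- the map `a ↦ a⁻¹ * (g a g⁻¹)` on an abelian subgroup normalized by `g` -/
noncomputable def stepHom (A : Subgroup Γ) (hc : ∀ a ∈ A, ∀ b ∈ A, a * b = b * a) (g : Γ)
    (hg : ∀ a ∈ A, g * a * g⁻¹ ∈ A) : ↥A →* ↥A :=
  MonoidHom.mk' (fun a => ⟨(a : Γ)⁻¹ * (g * a * g⁻¹), A.mul_mem (A.inv_mem a.2) (hg a a.2)⟩) (by
    intro a b
    apply Subtype.ext
    show ((a * b : ↥A) : Γ)⁻¹ * (g * ((a * b : ↥A) : Γ) * g⁻¹) =
      ((a : Γ)⁻¹ * (g * a * g⁻¹)) * ((b : Γ)⁻¹ * (g * b * g⁻¹))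
    have h1 : (b : Γ)⁻¹ * ((a : Γ)⁻¹ * (g * a * g⁻¹)) = ((a : Γ)⁻¹ * (g * a * g⁻¹)) * (b : Γ)⁻¹ :=
      hc _ (A.inv_mem b.2) _ (A.mul_mem (A.inv_mem a.2) (hg a a.2))
    calc ((a * b : ↥A) : Γ)⁻¹ * (g * ((a * b : ↥A) : Γ) * g⁻¹)
        = ((b : Γ)⁻¹ * ((a : Γ)⁻¹ * (g * a * g⁻¹))) * (g * b * g⁻¹) := by
          simp only [Subgroup.coe_mul]; group
      _ = (((a : Γ)⁻¹ * (g * a * g⁻¹)) * (b : Γ)⁻¹) * (g * b * g⁻¹) := by rw [h1]
      _ = _ := by group)

theorem stepHom_apply (A : Subgroup Γ) (hc : ∀ a ∈ A, ∀ b ∈ A, a * b = b * a) (g : Γ)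
    (hg : ∀ a ∈ A, g * a * g⁻¹ ∈ A) (a : ↥A) :
    ((stepHom A hc g hg a : ↥A) : Γ) = (a : Γ)⁻¹ * (g * a * g⁻¹) := rfl

/-- the image of the step map lies in the centralizer of `g` -/
theorem step_range (A : Subgroup Γ)
    (hc : ∀ a ∈ A, ∀ b ∈ A, a * b = b * a) (h2 : ∀ a ∈ A, a * a = 1) (g : Γ)
    (hg : ∀ a ∈ A, g * a * g⁻¹ ∈ A) (hg2 : ∀ a ∈ A, g * g * a = a * (g * g)) (a : Γ) (ha : a ∈ A) :
    a⁻¹ * (g * a * g⁻¹) ∈ A ⊓ Subgroup.centralizer {g} := by
  have hinv : ∀ a ∈ A, a⁻¹ = a := fun a ha => inv_eq_of_mul_eq_one_left (h2 a ha)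
  rw [Subgroup.mem_inf, Subgroup.mem_centralizer_singleton_iff]
  have hb : g * a * g⁻¹ ∈ A := hg a ha
  refine ⟨A.mul_mem (A.inv_mem ha) hb, ?_⟩
  have e1 : (a : Γ)⁻¹ = a := hinv a ha
  have e2 : (g * a * g⁻¹)⁻¹ = g * a * g⁻¹ := hinv _ hb
  have e3 : g * g * a * (g * g)⁻¹ = a := by
    rw [hg2 a ha]; group
  have e4 : g * ((a : Γ)⁻¹ * (g * a * g⁻¹)) * g⁻¹ = (a : Γ)⁻¹ * (g * a * g⁻¹) := by
    calc g * ((a : Γ)⁻¹ * (g * a * g⁻¹)) * g⁻¹
        = (g * a * g⁻¹)⁻¹ * (g * g * a * (g * g)⁻¹) := by group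
      _ = (g * a * g⁻¹) * a := by rw [e2, e3]
      _ = a * (g * a * g⁻¹) := hc _ hb _ ha
      _ = (a : Γ)⁻¹ * (g * a * g⁻¹) := by rw [e1]
  calc (a : Γ)⁻¹ * (g * a * g⁻¹) * g
      = (g * ((a : Γ)⁻¹ * (g * a * g⁻¹)) * g⁻¹) * g := by rw [e4]
    _ = _ := by group

/-- **Counting step.** Let `A` be an elementary abelian 2-subgroup normalized by `g`, with `g²`
centralizing `A`. Then `|A| ≤ |C_A(g)|²`, and in case of equality every element of `C_A(g)` has
the form `a⁻¹ (g a g⁻¹)`. -/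
theorem step_card (A : Subgroup Γ) [Finite ↥A]
    (hc : ∀ a ∈ A, ∀ b ∈ A, a * b = b * a) (h2 : ∀ a ∈ A, a * a = 1) (g : Γ)
    (hg : ∀ a ∈ A, g * a * g⁻¹ ∈ A) (hg2 : ∀ a ∈ A, g * g * a = a * (g * g)) :
    Nat.card ↥A ≤ Nat.card ↥(A ⊓ Subgroup.centralizer {g}) ^ 2 ∧
      (Nat.card ↥A = Nat.card ↥(A ⊓ Subgroup.centralizer {g}) ^ 2 →
        ∀ c ∈ A ⊓ Subgroup.centralizer {g}, ∃ a ∈ A, c = a⁻¹ * (g * a * g⁻¹)) := by
  classical
  set C := A ⊓ Subgroup.centralizer {g} with hC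
  set φ := stepHom A hc g hg with hφ
  have hinv : ∀ a ∈ A, a⁻¹ = a := fun a ha => inv_eq_of_mul_eq_one_left (h2 a ha)
  -- kernel
  have hker : φ.ker = C.subgroupOf A := by
    ext a
    rw [MonoidHom.mem_ker, Subgroup.mem_subgroupOf, hC, Subgroup.mem_inf,
      Subgroup.mem_centralizer_singleton_iff]
    constructor
    · intro h
      have h1 : (a : Γ)⁻¹ * (g * a * g⁻¹) = 1 := by
        have := congrArg Subtype.val h
        simpa [hφ, stepHom_apply] using this
      refine ⟨a.2, ?_⟩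
      have h3 : g * a * g⁻¹ = a := by
        have := congrArg (fun x => (a : Γ) * x) h1
        simpa [mul_assoc] using this
      calc (a : Γ) * g = (g * a * g⁻¹) * g := by rw [h3]
        _ = g * a := by group
    · rintro ⟨_, h⟩
      apply Subtype.ext
      show (a : Γ)⁻¹ * (g * a * g⁻¹) = 1
      rw [← h]
      group
  -- range
  have hrange : φ.range ≤ C.subgroupOf A := by
    rintro _ ⟨a, rfl⟩
    rw [Subgroup.mem_subgroupOf, hC, Subgroup.mem_inf, Subgroup.mem_centralizer_singleton_iff]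
    refine ⟨(φ a).2, ?_⟩
    show (a : Γ)⁻¹ * (g * a * g⁻¹) * g = g * ((a : Γ)⁻¹ * (g * a * g⁻¹))
    have ha := a.2
    have hb : g * a * g⁻¹ ∈ A := hg a ha
    have e1 : (a : Γ)⁻¹ = a := hinv a ha
    have e2 : (g * a * g⁻¹)⁻¹ = g * a * g⁻¹ := hinv _ hb
    have e3 : g * g * a * (g * g)⁻¹ = a := by
      rw [hg2 a ha]; group
    -- g (a⁻¹ g a g⁻¹) g⁻¹ = (g a g⁻¹)⁻¹ * (g² a g⁻²) = (g a g⁻¹) * a = a * (g a g⁻¹)
    have e4 : g * ((a : Γ)⁻¹ * (g * a * g⁻¹)) * g⁻¹ = (a : Γ)⁻¹ * (g * a * g⁻¹) := by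
      calc g * ((a : Γ)⁻¹ * (g * a * g⁻¹)) * g⁻¹
          = (g * a * g⁻¹)⁻¹ * (g * g * a * (g * g)⁻¹) := by group
        _ = (g * a * g⁻¹) * a := by rw [e2, e3]
        _ = a * (g * a * g⁻¹) := hc _ hb _ ha
        _ = (a : Γ)⁻¹ * (g * a * g⁻¹) := by rw [e1]
    calc (a : Γ)⁻¹ * (g * a * g⁻¹) * g
        = (g * ((a : Γ)⁻¹ * (g * a * g⁻¹)) * g⁻¹) * g := by rw [e4]
      _ = _ := by group
  have hcardC : Nat.card ↥(C.subgroupOf A) = Nat.card ↥C :=
    Nat.card_congr (Subgroup.subgroupOfEquivOfLe (inf_le_left : C ≤ A)).toEquiv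
  have hprod : Nat.card ↥(C.subgroupOf A) * Nat.card ↥φ.range = Nat.card ↥A := by
    rw [← hker, ← Subgroup.index_ker]
    exact Subgroup.card_mul_index _
  have hrle : Nat.card ↥φ.range ≤ Nat.card ↥(C.subgroupOf A) := Subgroup.card_le_of_le hrange
  refine ⟨?_, ?_⟩
  · rw [← hprod, ← hcardC, sq]
    exact Nat.mul_le_mul_left _ hrle
  · intro heq c hc'
    have h1 : Nat.card ↥φ.range = Nat.card ↥(C.subgroupOf A) := by
      rw [← hprod, ← hcardC, sq] at heq
      have hpos : 0 < Nat.card ↥(C.subgroupOf A) := Nat.card_pos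
      exact Nat.eq_of_mul_eq_mul_left hpos heq
    have h3 : φ.range = C.subgroupOf A := Subgroup.eq_of_le_of_card_ge hrange h1.ge
    have hcA : c ∈ A := hc'.1
    have h4 : (⟨c, hcA⟩ : ↥A) ∈ φ.range := by
      rw [h3, Subgroup.mem_subgroupOf]
      exact hc'
    obtain ⟨a, ha⟩ := h4
    refine ⟨a, a.2, ?_⟩
    have := congrArg Subtype.val ha
    simpa [hφ, stepHom_apply] using this.symm

end step

section gen

variable {G : Type*} [Group G]

/-- a subgroup of relative index at most two is generated over the small group by one element -/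
theorem exists_gen_of_relIndex_le_two [Finite G] (A B : Subgroup G)
    (h : B.relIndex A ≤ 2) : ∃ g ∈ A, ∀ a ∈ A, a ∈ B ∨ a * g⁻¹ ∈ B := by
  by_cases hAB : A ≤ B
  · exact ⟨1, A.one_mem, fun a ha => Or.inl (hAB ha)⟩
  · obtain ⟨g, hgA, hgB⟩ := SetLike.not_le_iff_exists.mp hAB
    refine ⟨g, hgA, ?_⟩
    have h1 : B.relIndex A ≠ 1 := fun h1 => hAB (Subgroup.relIndex_eq_one.mp h1)
    have h0 : B.relIndex A ≠ 0 := Subgroup.index_ne_zero_of_finite
    have h2 : (B.subgroupOf A).index = 2 := by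
      have : B.relIndex A = 2 := by omega
      exact this
    intro a ha
    by_cases haB : a ∈ B
    · exact Or.inl haB
    · right
      have := (Subgroup.mul_mem_iff_of_index_two h2 (a := (⟨a, ha⟩ : ↥A))
        (b := (⟨g, hgA⟩ : ↥A)⁻¹))
      have h3 : (⟨a, ha⟩ : ↥A) ∉ B.subgroupOf A := by
        rw [Subgroup.mem_subgroupOf]; exact haB
      have h4 : (⟨g, hgA⟩ : ↥A)⁻¹ ∉ B.subgroupOf A := by
        rw [Subgroup.inv_mem_iff, Subgroup.mem_subgroupOf]; exact hgB
      have h5 : (⟨a, ha⟩ : ↥A) * (⟨g, hgA⟩ : ↥A)⁻¹ ∈ B.subgroupOf A :=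
        this.mpr ⟨fun h => absurd h h3, fun h => absurd h h4⟩
      rw [Subgroup.mem_subgroupOf] at h5
      simpa using h5

/-- if generators pairwise commute modulo the normal subgroup `N` and have squares in `N`,
so do all elements of the generated subgroup -/
theorem closure_elementary_mod (N : Subgroup G) [hN : N.Normal] (S : Set G)
    (hsq : ∀ s ∈ S, s * s ∈ N) (hcomm : ∀ s ∈ S, ∀ s' ∈ S, s * s' * s⁻¹ * s'⁻¹ ∈ N) :
    (∀ x ∈ Subgroup.closure S, x * x ∈ N) ∧
      (∀ x ∈ Subgroup.closure S, ∀ y ∈ Subgroup.closure S, x * y * x⁻¹ * y⁻¹ ∈ N) := by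
  set π := QuotientGroup.mk' N with hπ
  have hker : ∀ x : G, x ∈ N ↔ π x = 1 := fun x => (QuotientGroup.eq_one_iff x).symm
  -- images of generators commute
  have h1 : ∀ s ∈ S, ∀ s' ∈ S, π s * π s' = π s' * π s := by
    intro s hs s' hs'
    have := (hker _).mp (hcomm s hs s' hs')
    rw [map_mul, map_mul, map_mul, map_inv, map_inv] at this
    calc π s * π s' = (π s * π s' * (π s)⁻¹ * (π s')⁻¹) * (π s' * π s) := by group
      _ = π s' * π s := by rw [this, one_mul]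
  have hcl : (Subgroup.closure S).map π = Subgroup.closure (π '' S) :=
    MonoidHom.map_closure π S
  have h2 : ∀ a ∈ Subgroup.closure (π '' S), ∀ b ∈ Subgroup.closure (π '' S), a * b = b * a := by
    have hcomm' : ∀ a ∈ π '' S, ∀ b ∈ π '' S, a * b = b * a := by
      rintro _ ⟨s, hs, rfl⟩ _ ⟨s', hs', rfl⟩
      exact h1 s hs s' hs'
    intro a ha b hb
    have key : Commute a b := by
      refine Subgroup.closure_induction₂ (k := π '' S)
        (p := fun x y _ _ => Commute x y) ?_ ?_ ?_ ?_ ?_ ?_ ?_ ha hb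
      · intro x y hx hy
        exact hcomm' x hx y hy
      · intro x _
        exact Commute.one_left x
      · intro x _
        exact Commute.one_right x
      · intro x y z _ _ _ h1 h2
        exact h1.mul_left h2
      · intro y z x _ _ _ h1 h2
        exact h1.mul_right h2
      · intro x y _ _ h
        exact h.inv_left
      · intro x y _ _ h
        exact h.inv_right
    exact key.eq
  have h5 : ∀ a ∈ Subgroup.closure (π '' S), a * a = 1 := by
    intro a ha
    induction ha using Subgroup.closure_induction with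
    | mem x hx =>
      obtain ⟨s, hs, rfl⟩ := hx
      rw [← map_mul]
      exact (hker _).mp (hsq s hs)
    | one => simp
    | mul x y hx hy ihx ihy =>
      have := h2 x hx y hy
      calc x * y * (x * y) = x * (y * x) * y := by group
        _ = x * (x * y) * y := by rw [this]
        _ = (x * x) * (y * y) := by group
        _ = 1 := by rw [ihx, ihy, one_mul]
    | inv x hx ih =>
      have : x⁻¹ = x := inv_eq_of_mul_eq_one_left ih
      rw [this, ih]
  refine ⟨?_, ?_⟩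
  · intro x hx
    rw [hker, map_mul]
    apply h5
    rw [← hcl]
    exact Subgroup.mem_map_of_mem π hx
  · intro x hx y hy
    rw [hker, map_mul, map_mul, map_mul, map_inv, map_inv]
    have hx' : π x ∈ Subgroup.closure (π '' S) := by
      rw [← hcl]; exact Subgroup.mem_map_of_mem π hx
    have hy' : π y ∈ Subgroup.closure (π '' S) := by
      rw [← hcl]; exact Subgroup.mem_map_of_mem π hy
    rw [h2 _ hx' _ hy']
    group

end gen

section engine

/-- **Frattini engine.** Let `W` be a finite 2-group whose Frattini subgroup lies in every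
subgroup of index at most 16. If `M` is a subgroup of index at most 8 all of whose squares and
commutators lie in `N`, then `Φ(W) ≤ N`. -/
theorem frattini_le_of_elementary_section {W : Type*} [Group W] [Finite W] (hW : IsPGroup 2 W)
    (hd : ∀ U : Subgroup W, U.index ≤ 16 → frattini W ≤ U)
    (M N : Subgroup W) (hM : M.index ≤ 8)
    (hsq : ∀ x ∈ M, x * x ∈ N) (hcomm : ∀ x ∈ M, ∀ y ∈ M, x * y * x⁻¹ * y⁻¹ ∈ N) :
    frattini W ≤ N := by
  haveI : Fact (Nat.Prime 2) := ⟨Nat.prime_two⟩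
  intro f hf
  by_contra hfN
  have hfM : f ∈ M := hd M (by omega) hf
  have hMp : IsPGroup 2 ↥M := hW.to_subgroup M
  have h1 : frattini ↥M ≤ N.subgroupOf M := by
    apply Cfsg.Agent.Lib.Helper47.frattini_le_of_elementary_abelian_quotient 2
    · intro x y
      rw [Subgroup.mem_subgroupOf, commutatorElement_def]
      simpa using hcomm x x.2 y y.2
    · intro x
      rw [Subgroup.mem_subgroupOf, pow_two]
      simpa using hsq x x.2
  have h2 : (⟨f, hfM⟩ : ↥M) ∉ frattini ↥M := by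
    intro h
    have := h1 h
    rw [Subgroup.mem_subgroupOf] at this
    exact hfN this
  rw [Cfsg.Agent.Lib.Helper2.mem_frattini_iff] at h2
  push Not at h2
  obtain ⟨U', hU', hfU'⟩ := h2
  haveI : U'.Normal := Cfsg.Agent.Lib.Helper1.coatom_normal_of_isPGroup hMp U' hU'
  have h3 : U'.index = 2 := by
    rw [Subgroup.index_eq_card]
    exact Cfsg.Agent.Lib.Helper1.card_quotient_coatom_of_isPGroup hMp U' hU'
  have h4 : (U'.map M.subtype).index ≤ 16 := by
    rw [Subgroup.index_map_subtype, h3]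
    omega
  have h5 := hd _ h4 hf
  obtain ⟨u, hu, hu'⟩ := h5
  apply hfU'
  have : u = ⟨f, hfM⟩ := Subtype.ext hu'
  rwa [← this]

end engine

end Cfsg.Agent.Lib.Helper53
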