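import Mathlib
import Cfsg.Agent.Lib.Helper53.RuUCS
import Cfsg.Agent.Lib.Helper53.RuStep

set_option autoImplicit false
set_option linter.style.haveILetI false
set_option linter.unnecessarySimpa false
set_option linter.unusedVariables false
set_option linter.unusedSectionVars false

/-!
# The chain `C_T(Z₃) ≤ L₁ ≤ L₂ ≤ T` in a 2-group with `|Z_i| = 2^i` for `i ≤ 3`
-/

namespace Cfsg.Agent.Lib.Helper53

section

variable {T : Type*} [Group T]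

local notation "𝐙" => Subgroup.upperCentralSeries T

theorem ucs_comm_mem {n : ℕ} {x : T} (hx : x ∈ 𝐙 (n + 1)) (t : T) :
    x * t * x⁻¹ * t⁻¹ ∈ 𝐙 n := by
  have := (Subgroup.mem_upperCentralSeries_succ_iff.mp hx) t
  rwa [commutatorElement_def] at this

theorem ucs_comm_mem' {n : ℕ} {x : T} (hx : x ∈ 𝐙 (n + 1)) (t : T) :
    t * x * t⁻¹ * x⁻¹ ∈ 𝐙 n := by
  have h := (𝐙 n).inv_mem (ucs_comm_mem hx t)
  have e : (x * t * x⁻¹ * t⁻¹)⁻¹ = t * x * t⁻¹ * x⁻¹ := by group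
  rwa [e] at h

theorem ucs_one_comm {x : T} (hx : x ∈ 𝐙 1) (t : T) : t * x = x * t := by
  have h := ucs_comm_mem' (n := 0) hx t
  rw [Subgroup.upperCentralSeries_zero, Subgroup.mem_bot] at h
  calc t * x = (t * x * t⁻¹ * x⁻¹) * (x * t) := by group
    _ = x * t := by rw [h, one_mul]

/-- `L₂ = C_T(Z₂)` -/
def ruL2 (T : Type*) [Group T] : Subgroup T :=
  Subgroup.centralizer (Subgroup.upperCentralSeries T 2 : Set T)

instance ruL2_normal : (ruL2 T).Normal := by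
  unfold ruL2
  infer_instance

theorem mem_ruL2 {t : T} : t ∈ ruL2 T ↔ ∀ n ∈ 𝐙 2, n * t = t * n := by
  unfold ruL2
  rw [Subgroup.mem_centralizer_iff]
  rfl

/-- `L₁`: the elements of `L₂` acting trivially on `Z₃/Z₁` -/
def ruL1 (T : Type*) [Group T] : Subgroup T where
  carrier := {t | t ∈ ruL2 T ∧ ∀ f ∈ Subgroup.upperCentralSeries T 3,
    t * f * t⁻¹ * f⁻¹ ∈ Subgroup.upperCentralSeries T 1}
  one_mem' := by
    refine ⟨Subgroup.one_mem _, ?_⟩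
    intro f _
    simp
  mul_mem' := by
    rintro a b ⟨ha2, ha⟩ ⟨hb2, hb⟩
    refine ⟨Subgroup.mul_mem _ ha2 hb2, ?_⟩
    intro f hf
    have h1 := hb f hf
    have h2 := ha f hf
    have h3 : a * (b * f * b⁻¹ * f⁻¹) = (b * f * b⁻¹ * f⁻¹) * a := ucs_one_comm h1 a
    have e : a * b * f * (a * b)⁻¹ * f⁻¹ = (a * (b * f * b⁻¹ * f⁻¹)) * a⁻¹ * (a * f * a⁻¹ * f⁻¹) := by
      group
    rw [e, h3]
    have e2 : b * f * b⁻¹ * f⁻¹ * a * a⁻¹ * (a * f * a⁻¹ * f⁻¹) =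
        (b * f * b⁻¹ * f⁻¹) * (a * f * a⁻¹ * f⁻¹) := by group
    rw [e2]
    exact Subgroup.mul_mem _ h1 h2
  inv_mem' := by
    rintro a ⟨ha2, ha⟩
    refine ⟨Subgroup.inv_mem _ ha2, ?_⟩
    intro f hf
    have h2 := Subgroup.inv_mem _ (ha f hf)
    have h3 : a * (a * f * a⁻¹ * f⁻¹)⁻¹ = (a * f * a⁻¹ * f⁻¹)⁻¹ * a := ucs_one_comm h2 a
    have e : a⁻¹ * f * a⁻¹⁻¹ * f⁻¹ = a⁻¹ * ((a * f * a⁻¹ * f⁻¹)⁻¹ * a) := by group
    rw [e, ← h3]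
    have e2 : a⁻¹ * (a * (a * f * a⁻¹ * f⁻¹)⁻¹) = (a * f * a⁻¹ * f⁻¹)⁻¹ := by group
    rw [e2]
    exact h2

theorem mem_ruL1 {t : T} : t ∈ ruL1 T ↔ t ∈ ruL2 T ∧ ∀ f ∈ 𝐙 3, t * f * t⁻¹ * f⁻¹ ∈ 𝐙 1 :=
  Iff.rfl

instance ruL1_normal : (ruL1 T).Normal := by
  constructor
  intro t ht g
  rw [mem_ruL1] at ht ⊢
  refine ⟨(ruL2_normal (T := T)).conj_mem t ht.1 g, ?_⟩
  intro f hf
  have hf' : g⁻¹ * f * g ∈ 𝐙 3 := by
    have := (inferInstance : (𝐙 3).Normal).conj_mem f hf g⁻¹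
    simpa using this
  have h1 := ht.2 _ hf'
  have h2 := (inferInstance : (𝐙 1).Normal).conj_mem _ h1 g
  have e : g * (t * (g⁻¹ * f * g) * t⁻¹ * (g⁻¹ * f * g)⁻¹) * g⁻¹ =
      g * t * g⁻¹ * f * (g * t * g⁻¹)⁻¹ * f⁻¹ := by group
  rwa [e] at h2

theorem ruL1_le_ruL2 : ruL1 T ≤ ruL2 T := fun t ht => ht.1

theorem centralizer_le_ruL1 :
    Subgroup.centralizer (𝐙 3 : Set T) ≤ ruL1 T := by
  intro t ht
  rw [Subgroup.mem_centralizer_iff] at ht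
  rw [mem_ruL1, mem_ruL2]
  refine ⟨fun n hn => ht n (Subgroup.upperCentralSeries_mono T (by norm_num) hn), ?_⟩
  intro f hf
  have := ht f hf
  have e : t * f * t⁻¹ * f⁻¹ = 1 := by
    rw [← this]; group
  rw [e]
  exact Subgroup.one_mem _

end

section counting

variable {T : Type*} [Group T] [Finite T]

local notation "𝐙" => Subgroup.upperCentralSeries T

/-- coset description of a subgroup pair with relative index two -/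
theorem exists_coset_rep (A B : Subgroup T) (hBA : B ≤ A)
    (h : Nat.card ↥A = 2 * Nat.card ↥B) :
    ∃ g ∈ A, g ∉ B ∧ ∀ a ∈ A, a ∈ B ∨ a * g⁻¹ ∈ B := by
  have h1 : B.relIndex A = 2 := by
    have h2 : B.relIndex A * Nat.card ↥B = Nat.card ↥A := by
      rw [Subgroup.relIndex, ← Subgroup.index_mul_card (B.subgroupOf A)]
      congr 1
      exact (Nat.card_congr (Subgroup.subgroupOfEquivOfLe hBA).toEquiv).symm
    have hpos : 0 < Nat.card ↥B := Nat.card_pos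
    rw [h] at h2
    exact Nat.eq_of_mul_eq_mul_right hpos h2
  obtain ⟨g, hgA, hg⟩ := exists_gen_of_relIndex_le_two A B h1.le
  refine ⟨g, hgA, ?_, hg⟩
  intro hgB
  have : A ≤ B := by
    intro a ha
    rcases hg a ha with h2 | h2
    · exact h2
    · have := B.mul_mem h2 hgB
      simpa using this
  have := Subgroup.relIndex_eq_one.mpr this
  omega

theorem relIndex_mul_card' (A B : Subgroup T) (hBA : B ≤ A) :
    B.relIndex A * Nat.card ↥B = Nat.card ↥A := by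
  rw [Subgroup.relIndex, ← Subgroup.index_mul_card (B.subgroupOf A)]
  congr 1
  exact (Nat.card_congr (Subgroup.subgroupOfEquivOfLe hBA).toEquiv).symm

theorem ucs_one_cases (c1 : Nat.card ↥(𝐙 1) = 2) :
    ∃ a1 ∈ 𝐙 1, a1 ≠ 1 ∧ ∀ n ∈ 𝐙 1, n = 1 ∨ n = a1 := by
  obtain ⟨g, hg, hgb, h⟩ := exists_coset_rep (𝐙 1) ⊥ bot_le (by
    rw [c1, Subgroup.card_bot])
  refine ⟨g, hg, fun h1 => hgb (by rw [h1]; exact Subgroup.one_mem _), ?_⟩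
  intro n hn
  rcases h n hn with h1 | h1
  · left; simpa using h1
  · right
    rw [Subgroup.mem_bot] at h1
    calc n = (n * g⁻¹) * g := by group
      _ = g := by rw [h1, one_mul]

/-- `|T : L₂| ≤ 2` -/
theorem index_ruL2_le (c1 : Nat.card ↥(𝐙 1) = 2) (c2 : Nat.card ↥(𝐙 2) = 4) :
    (ruL2 T).relIndex ⊤ ≤ 2 := by
  classical
  obtain ⟨a1, ha1, ha1ne, hZ1⟩ := ucs_one_cases c1
  obtain ⟨a2, ha2, ha2n, hZ2⟩ := exists_coset_rep (𝐙 2) (𝐙 1)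
    (Subgroup.upperCentralSeries_mono T (by norm_num)) (by rw [c1, c2])
  have hb : Nat.card Bool = 2 := by simp
  rw [← hb]
  apply relIndex_le_of_fun ⊤ (ruL2 T) (fun t => decide (t * a2 * t⁻¹ * a2⁻¹ = 1))
  intro t _ s _ hts
  have hp : t * a2 * t⁻¹ * a2⁻¹ ∈ 𝐙 1 := ucs_comm_mem' ha2 t
  have hq : s * a2 * s⁻¹ * a2⁻¹ ∈ 𝐙 1 := ucs_comm_mem' ha2 s
  have heq : t * a2 * t⁻¹ * a2⁻¹ = s * a2 * s⁻¹ * a2⁻¹ := by
    have h1 : (t * a2 * t⁻¹ * a2⁻¹ = 1) ↔ (s * a2 * s⁻¹ * a2⁻¹ = 1) := by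
      simpa using hts
    rcases hZ1 _ hp with h2 | h2
    · rw [h2, h1.mp h2]
    · rcases hZ1 _ hq with h3 | h3
      · rw [h3, h1.mpr h3]
      · rw [h2, h3]
  -- t⁻¹ s centralizes a2
  have hc : (t⁻¹ * s) * a2 = a2 * (t⁻¹ * s) := by
    have h1 : t * a2 * t⁻¹ = s * a2 * s⁻¹ := by
      have := congrArg (fun x => x * a2) heq
      simpa [mul_assoc] using this
    calc (t⁻¹ * s) * a2 = t⁻¹ * (s * a2 * s⁻¹) * s := by group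
      _ = t⁻¹ * (t * a2 * t⁻¹) * s := by rw [h1]
      _ = a2 * (t⁻¹ * s) := by group
  rw [mem_ruL2]
  intro n hn
  rcases hZ2 n hn with h1 | h1
  · exact (ucs_one_comm h1 _).symm
  · have h2 := ucs_one_comm h1 (t⁻¹ * s)
    calc n * (t⁻¹ * s) = (n * a2⁻¹) * (a2 * (t⁻¹ * s)) := by group
      _ = (n * a2⁻¹) * ((t⁻¹ * s) * a2) := by rw [hc]
      _ = ((n * a2⁻¹) * (t⁻¹ * s)) * a2 := by group
      _ = ((t⁻¹ * s) * (n * a2⁻¹)) * a2 := by rw [← h2]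
      _ = (t⁻¹ * s) * n := by group

/-- an element of `L₂` whose commutator with `a₃` lies in `Z₁` belongs to `L₁` -/
theorem mem_ruL1_of_comm {a3 : T} (hZ3 : ∀ a ∈ 𝐙 3, a ∈ 𝐙 2 ∨ a * a3⁻¹ ∈ 𝐙 2)
    {u : T} (hu : u ∈ ruL2 T) (h : u * a3 * u⁻¹ * a3⁻¹ ∈ 𝐙 1) : u ∈ ruL1 T := by
  rw [mem_ruL1]
  refine ⟨hu, ?_⟩
  have hu2 := mem_ruL2.mp hu
  intro f hf
  rcases hZ3 f hf with h1 | h1
  · have := hu2 f h1
    have e : u * f * u⁻¹ * f⁻¹ = 1 := by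
      rw [← this]; group
    rw [e]; exact Subgroup.one_mem _
  · have h2 := hu2 _ h1
    have h3 := ucs_one_comm h (f * a3⁻¹)
    have e : u * f * u⁻¹ * f⁻¹ =
        (u * (f * a3⁻¹)) * (a3 * u⁻¹ * a3⁻¹) * (f * a3⁻¹)⁻¹ := by group
    rw [e, ← h2]
    have e2 : f * a3⁻¹ * u * (a3 * u⁻¹ * a3⁻¹) * (f * a3⁻¹)⁻¹ =
        ((f * a3⁻¹) * (u * a3 * u⁻¹ * a3⁻¹)) * (f * a3⁻¹)⁻¹ := by group
    rw [e2, h3]
    have e3 : u * a3 * u⁻¹ * a3⁻¹ * (f * a3⁻¹) * (f * a3⁻¹)⁻¹ = u * a3 * u⁻¹ * a3⁻¹ := by group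
    rw [e3]
    exact h

/-- `|L₂ : L₁| ≤ 2` -/
theorem relIndex_ruL1_le (c1 : Nat.card ↥(𝐙 1) = 2) (c2 : Nat.card ↥(𝐙 2) = 4)
    (c3 : Nat.card ↥(𝐙 3) = 8) : (ruL1 T).relIndex (ruL2 T) ≤ 2 := by
  classical
  obtain ⟨a2, ha2, ha2n, hZ2⟩ := exists_coset_rep (𝐙 2) (𝐙 1)
    (Subgroup.upperCentralSeries_mono T (by norm_num)) (by rw [c1, c2])
  obtain ⟨a3, ha3, ha3n, hZ3⟩ := exists_coset_rep (𝐙 3) (𝐙 2)
    (Subgroup.upperCentralSeries_mono T (by norm_num)) (by rw [c2, c3])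
  have hb : Nat.card Bool = 2 := by simp
  rw [← hb]
  apply relIndex_le_of_fun (ruL2 T) (ruL1 T) (fun t => decide (t * a3 * t⁻¹ * a3⁻¹ ∈ 𝐙 1))
  intro t ht s hs hts
  have hp : t * a3 * t⁻¹ * a3⁻¹ ∈ 𝐙 2 := ucs_comm_mem' ha3 t
  have hq : s * a3 * s⁻¹ * a3⁻¹ ∈ 𝐙 2 := ucs_comm_mem' ha3 s
  have h1 : t * a3 * t⁻¹ * a3⁻¹ ∈ 𝐙 1 ↔ s * a3 * s⁻¹ * a3⁻¹ ∈ 𝐙 1 := by simpa using hts
  have hqp : (s * a3 * s⁻¹ * a3⁻¹) * (t * a3 * t⁻¹ * a3⁻¹)⁻¹ ∈ 𝐙 1 := by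
    by_cases hp1 : t * a3 * t⁻¹ * a3⁻¹ ∈ 𝐙 1
    · exact Subgroup.mul_mem _ (h1.mp hp1) (Subgroup.inv_mem _ hp1)
    · have hq1 : s * a3 * s⁻¹ * a3⁻¹ ∉ 𝐙 1 := fun h => hp1 (h1.mpr h)
      have h2 := (hZ2 _ hp).resolve_left hp1
      have h3 := (hZ2 _ hq).resolve_left hq1
      have e : (s * a3 * s⁻¹ * a3⁻¹) * (t * a3 * t⁻¹ * a3⁻¹)⁻¹ =
          ((s * a3 * s⁻¹ * a3⁻¹) * a2⁻¹) * ((t * a3 * t⁻¹ * a3⁻¹) * a2⁻¹)⁻¹ := by group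
      rw [e]
      exact Subgroup.mul_mem _ h3 (Subgroup.inv_mem _ h2)
  have hu2 : t⁻¹ * s ∈ ruL2 T := Subgroup.mul_mem _ (Subgroup.inv_mem _ ht) hs
  apply mem_ruL1_of_comm hZ3 hu2
  have e : (t⁻¹ * s) * a3 * (t⁻¹ * s)⁻¹ * a3⁻¹ =
      t⁻¹ * ((s * a3 * s⁻¹ * a3⁻¹) * (t * a3 * t⁻¹ * a3⁻¹)⁻¹) * t := by group
  rw [e]
  have := (inferInstance : (𝐙 1).Normal).conj_mem _ hqp t⁻¹
  simpa using this

/-- `|L₁ : W| ≤ 2` -/
theorem relIndex_centralizer_le (c1 : Nat.card ↥(𝐙 1) = 2) (c2 : Nat.card ↥(𝐙 2) = 4)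
    (c3 : Nat.card ↥(𝐙 3) = 8) :
    (Subgroup.centralizer (𝐙 3 : Set T)).relIndex (ruL1 T) ≤ 2 := by
  classical
  obtain ⟨a1, ha1, ha1ne, hZ1⟩ := ucs_one_cases c1
  obtain ⟨a3, ha3, ha3n, hZ3⟩ := exists_coset_rep (𝐙 3) (𝐙 2)
    (Subgroup.upperCentralSeries_mono T (by norm_num)) (by rw [c2, c3])
  have hb : Nat.card Bool = 2 := by simp
  rw [← hb]
  apply relIndex_le_of_fun (ruL1 T) _ (fun t => decide (t * a3 * t⁻¹ * a3⁻¹ = 1))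
  intro t ht s hs hts
  have hp : t * a3 * t⁻¹ * a3⁻¹ ∈ 𝐙 1 := (mem_ruL1.mp ht).2 a3 ha3
  have hq : s * a3 * s⁻¹ * a3⁻¹ ∈ 𝐙 1 := (mem_ruL1.mp hs).2 a3 ha3
  have heq : t * a3 * t⁻¹ * a3⁻¹ = s * a3 * s⁻¹ * a3⁻¹ := by
    have h1 : (t * a3 * t⁻¹ * a3⁻¹ = 1) ↔ (s * a3 * s⁻¹ * a3⁻¹ = 1) := by
      simpa using hts
    rcases hZ1 _ hp with h2 | h2
    · rw [h2, h1.mp h2]
    · rcases hZ1 _ hq with h3 | h3
      · rw [h3, h1.mpr h3]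
      · rw [h2, h3]
  have hc : (t⁻¹ * s) * a3 = a3 * (t⁻¹ * s) := by
    have h1 : t * a3 * t⁻¹ = s * a3 * s⁻¹ := by
      have := congrArg (fun x => x * a3) heq
      simpa [mul_assoc] using this
    calc (t⁻¹ * s) * a3 = t⁻¹ * (s * a3 * s⁻¹) * s := by group
      _ = t⁻¹ * (t * a3 * t⁻¹) * s := by rw [h1]
      _ = a3 * (t⁻¹ * s) := by group
  have hu2 : t⁻¹ * s ∈ ruL2 T :=
    Subgroup.mul_mem _ (Subgroup.inv_mem _ (ruL1_le_ruL2 ht)) (ruL1_le_ruL2 hs)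
  have hu := mem_ruL2.mp hu2
  rw [Subgroup.mem_centralizer_iff]
  intro n hn
  rcases hZ3 n hn with h1 | h1
  · exact hu n h1
  · have h2 := hu _ h1
    calc n * (t⁻¹ * s) = (n * a3⁻¹) * (a3 * (t⁻¹ * s)) := by group
      _ = (n * a3⁻¹) * ((t⁻¹ * s) * a3) := by rw [hc]
      _ = ((n * a3⁻¹) * (t⁻¹ * s)) * a3 := by group
      _ = ((t⁻¹ * s) * (n * a3⁻¹)) * a3 := by rw [h2]
      _ = (t⁻¹ * s) * n := by group

end counting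

end Cfsg.Agent.Lib.Helper53
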