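import Mathlib
import Cfsg.Agent.Lib.Helper53.CenterMeet
import Cfsg.Agent.Lib.Helper53.RuL

/-!
# Automorphisms of odd order stabilising a chain (helper53)

General lemmas used to show that a `2`-group of Rudvalis type has no nontrivial
automorphisms of odd order.
-/

set_option autoImplicit false
set_option linter.style.haveILetI false
set_option linter.unnecessarySimpa false

namespace Cfsg.Agent.Lib.Helper53

section general

variable {T : Type*} [Group T]

/-- membership in a characteristic subgroup is preserved and reflected by automorphisms -/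
theorem char_mem_iff (H : Subgroup T) [hH : H.Characteristic] (α : T ≃* T) (x : T) :
    α x ∈ H ↔ x ∈ H := by
  have h := (Subgroup.characteristic_iff_comap_eq.1 hH) α
  constructor
  · intro hx
    rw [← h]
    exact hx
  · intro hx
    rw [← h] at hx
    exact hx

/-- coprime powers in a subgroup -/
theorem mem_of_pow_mem_coprime (S : Subgroup T) {r : T} {m n : ℕ} (h : Nat.Coprime m n)
    (hm : r ^ m ∈ S) (hn : r ^ n ∈ S) : r ∈ S := by
  have h1 : r ^ ((m : ℤ) * Nat.gcdA m n + (n : ℤ) * Nat.gcdB m n) = r := by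
    rw [← Nat.gcd_eq_gcd_ab, h]
    simp
  rw [← h1, zpow_add, zpow_mul, zpow_mul]
  apply S.mul_mem
  · apply S.zpow_mem
    simpa using hm
  · apply S.zpow_mem
    simpa using hn

/-- **Stability step, elementwise.** If `α` has odd order `m`, `α t = d * t` and `α d ≡ d` modulo the
characteristic subgroup `K`, then `d ∈ K` (for `d` a `2`-element). -/
theorem ts_elem (hT : IsPGroup 2 T) (α : T ≃* T) (m : ℕ) (hm : Odd m)
    (hα : ∀ t, (α^[m]) t = t) (K : Subgroup T) [hK : K.Characteristic] (t d : T)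
    (hd : α t = d * t) (hk : α d * d⁻¹ ∈ K) : d ∈ K := by
  have hcomap : K ≤ K.comap α.toMonoidHom := by
    intro x hx
    rw [Subgroup.mem_comap]
    exact (char_mem_iff K α x).2 hx
  set π := QuotientGroup.mk' K with hπ
  set αb := QuotientGroup.map K K α.toMonoidHom hcomap with hαb
  have hπα : ∀ y : T, π (α y) = αb (π y) := by
    intro y
    rfl
  have hπd : π (α d) = π d := by
    have : α d = (α d * d⁻¹) * d := by group
    rw [this, map_mul]
    have h1 : π (α d * d⁻¹) = 1 := (QuotientGroup.eq_one_iff _).2 hk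
    rw [h1, one_mul]
  have key : ∀ j : ℕ, π ((α^[j]) t) = (π d) ^ j * π t := by
    intro j
    induction j with
    | zero => simp
    | succ j ih =>
      rw [Function.iterate_succ_apply', hπα, ih, map_mul, map_pow, ← hπα, ← hπα, hπd, hd, map_mul,
        pow_succ, mul_assoc]
  have h1 := key m
  rw [hα] at h1
  have h2 : (π d) ^ m = 1 := by
    have : (π d) ^ m * π t = 1 * π t := by rw [one_mul]; exact h1.symm
    exact mul_right_cancel this
  have h3 : d ^ m ∈ K := by
    rw [← map_pow] at h2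
    exact (QuotientGroup.eq_one_iff _).1 h2
  obtain ⟨k, hk2⟩ := hT d
  have h4 : d ^ (2 ^ k) ∈ K := by rw [hk2]; exact K.one_mem
  have hcop : Nat.Coprime m (2 ^ k) := by
    apply Nat.Coprime.pow_right
    exact Nat.coprime_two_right.2 hm
  exact mem_of_pow_mem_coprime K hcop h3 h4

/-- **Stability step.** -/
theorem ts_rel (hT : IsPGroup 2 T) (α : T ≃* T) (m : ℕ) (hm : Odd m)
    (hα : ∀ t, (α^[m]) t = t) (K : Subgroup T) [hK : K.Characteristic] (D X : Subgroup T)
    (h1 : ∀ t ∈ X, α t * t⁻¹ ∈ D) (h2 : ∀ d ∈ D, α d * d⁻¹ ∈ K) : ∀ t ∈ X, α t * t⁻¹ ∈ K := by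
  intro t ht
  apply ts_elem hT α m hm hα K t (α t * t⁻¹)
  · group
  · exact h2 _ (h1 t ht)

/-- an automorphism acts trivially on a characteristic section of order two -/
theorem i2 [Finite T] (α : T ≃* T) (D X : Subgroup T) [hD : D.Characteristic]
    [hX : X.Characteristic] (hDX : D ≤ X) (h2 : Nat.card X = 2 * Nat.card D) :
    ∀ t ∈ X, α t * t⁻¹ ∈ D := by
  obtain ⟨g, hgX, hgD, hg⟩ := exists_coset_rep X D hDX h2
  intro t ht
  have hαt : α t ∈ X := (char_mem_iff X α t).2 ht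
  by_cases htD : t ∈ D
  · exact D.mul_mem ((char_mem_iff D α t).2 htD) (D.inv_mem htD)
  · have h3 : α t ∉ D := fun h => htD ((char_mem_iff D α t).1 h)
    have h4 : t * g⁻¹ ∈ D := (hg t ht).resolve_left htD
    have h5 : α t * g⁻¹ ∈ D := (hg _ hαt).resolve_left h3
    have : α t * t⁻¹ = (α t * g⁻¹) * (t * g⁻¹)⁻¹ := by group
    rw [this]
    exact D.mul_mem h5 (D.inv_mem h4)

/-- **Chain step**: a characteristic section of order two on which the lower part is already
centralised modulo `K`. -/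
theorem ts_step [Finite T] (hT : IsPGroup 2 T) (α : T ≃* T) (m : ℕ) (hm : Odd m)
    (hα : ∀ t, (α^[m]) t = t) (K D X : Subgroup T) [hK : K.Characteristic]
    [hD : D.Characteristic] [hX : X.Characteristic] (hDX : D ≤ X)
    (h2 : Nat.card X = 2 * Nat.card D) (h3 : ∀ d ∈ D, α d * d⁻¹ ∈ K) :
    ∀ t ∈ X, α t * t⁻¹ ∈ K :=
  ts_rel hT α m hm hα K D X (i2 α D X hDX h2) h3

end general

section ab

variable {Q : Type*} [Group Q] [Finite Q]

/-- **Abelian normal subgroup lemma.** Let `β` be an automorphism of odd order of a finite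
`2`-group `Q`, and `A` an abelian normal subgroup such that `β` is trivial on `Q / A` and on
`A ∩ Z(Q)`. Then `β` is trivial on `A`. -/
theorem ab_trivial (hQ : IsPGroup 2 Q) (β : Q ≃* Q) (m : ℕ) (hm : Odd m)
    (hβ : ∀ q, (β^[m]) q = q) (A : Subgroup Q) [hA : A.Normal]
    (hab : ∀ a ∈ A, ∀ b ∈ A, a * b = b * a)
    (h1 : ∀ q, β q * q⁻¹ ∈ A) (h2 : ∀ a ∈ A, a ∈ Subgroup.center Q → β a = a) :
    ∀ a ∈ A, β a = a := by
  haveI : Fact (Nat.Prime 2) := ⟨Nat.prime_two⟩
  have hβA : ∀ a ∈ A, β a ∈ A := by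
    intro a ha
    have : β a = (β a * a⁻¹) * a := by group
    rw [this]
    exact A.mul_mem (h1 a) ha
  -- the subgroup of all `a⁻¹ β(a)`
  let δ : ↥A →* Q := MonoidHom.mk' (fun a : ↥A => (a : Q)⁻¹ * β (a : Q)) (by
    intro a b
    show ((a * b : ↥A) : Q)⁻¹ * β ((a * b : ↥A) : Q) = ((a : Q)⁻¹ * β a) * ((b : Q)⁻¹ * β b)
    rw [Subgroup.coe_mul, map_mul, mul_inv_rev]
    have hc : ((a : Q)⁻¹ * β a) * (b : Q)⁻¹ = (b : Q)⁻¹ * ((a : Q)⁻¹ * β a) :=
      hab _ (A.mul_mem (A.inv_mem a.2) (hβA _ a.2)) _ (A.inv_mem b.2)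
    calc (b : Q)⁻¹ * (a : Q)⁻¹ * (β a * β b) = ((b : Q)⁻¹ * ((a : Q)⁻¹ * β a)) * β b := by group
      _ = (((a : Q)⁻¹ * β a) * (b : Q)⁻¹) * β b := by rw [hc]
      _ = ((a : Q)⁻¹ * β a) * ((b : Q)⁻¹ * β b) := by group)
  have hδ : ∀ a : ↥A, δ a = (a : Q)⁻¹ * β (a : Q) := fun a => rfl
  set D := δ.range with hDdef
  have hDA : D ≤ A := by
    rintro x ⟨a, rfl⟩
    rw [hδ]
    exact A.mul_mem (A.inv_mem a.2) (hβA _ a.2)
  haveI hDn : D.Normal := by
    constructor
    rintro x ⟨a, rfl⟩ q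
    have hb : q * (a : Q) * q⁻¹ ∈ A := hA.conj_mem _ a.2 q
    refine ⟨⟨q * (a : Q) * q⁻¹, hb⟩, ?_⟩
    rw [hδ, hδ]
    show (q * (a : Q) * q⁻¹)⁻¹ * β (q * (a : Q) * q⁻¹) = q * ((a : Q)⁻¹ * β a) * q⁻¹
    have hc : β q = (β q * q⁻¹) * q := by group
    have h3 : q * β (a : Q) * q⁻¹ ∈ A := hA.conj_mem _ (hβA _ a.2) q
    have h4 : (β q * q⁻¹) * (q * β (a : Q) * q⁻¹) = (q * β (a : Q) * q⁻¹) * (β q * q⁻¹) :=
      hab _ (h1 q) _ h3
    have h5 : β (q * (a : Q) * q⁻¹) = q * β (a : Q) * q⁻¹ := by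
      rw [map_mul, map_mul, map_inv]
      calc β q * β (a : Q) * (β q)⁻¹
          = ((β q * q⁻¹) * (q * β (a : Q) * q⁻¹)) * (β q * q⁻¹)⁻¹ := by group
        _ = ((q * β (a : Q) * q⁻¹) * (β q * q⁻¹)) * (β q * q⁻¹)⁻¹ := by rw [h4]
        _ = q * β (a : Q) * q⁻¹ := by group
    rw [h5]
    group
  by_cases hbot : D = ⊥
  · intro a ha
    have h3 : δ ⟨a, ha⟩ ∈ D := ⟨_, rfl⟩
    rw [hbot, Subgroup.mem_bot, hδ] at h3
    have : β a = a * ((a : Q)⁻¹ * β a) := by group
    rw [this]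
    have h3' : (a : Q)⁻¹ * β a = 1 := h3
    rw [h3', mul_one]
  · exfalso
    obtain ⟨d, hdD, hd1, hdc⟩ := normal_meets_center hQ D hbot
    obtain ⟨a, rfl⟩ := hdD
    set d := δ a with hd
    have hdA : d ∈ A := hDA ⟨a, rfl⟩
    have hβd : β d = d := h2 d hdA hdc
    have hβa : β (a : Q) = (a : Q) * d := by
      rw [hd, hδ]; group
    have key : ∀ j : ℕ, (β^[j]) (a : Q) = (a : Q) * d ^ j := by
      intro j
      induction j with
      | zero => simp
      | succ j ih =>
        rw [Function.iterate_succ_apply', ih, map_mul, map_pow, hβd, hβa, pow_succ', mul_assoc]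
    have h3 := key m
    rw [hβ] at h3
    have h4 : d ^ m = 1 := by
      have : (a : Q) * d ^ m = (a : Q) * 1 := by rw [mul_one]; exact h3.symm
      exact mul_left_cancel this
    obtain ⟨k, hk2⟩ := hQ d
    have hcop : Nat.Coprime m (2 ^ k) := by
      apply Nat.Coprime.pow_right
      exact Nat.coprime_two_right.2 hm
    have h5 : d ∈ (⊥ : Subgroup Q) := by
      apply mem_of_pow_mem_coprime ⊥ hcop
      · rw [h4]; exact Subgroup.one_mem _
      · rw [hk2]; exact Subgroup.one_mem _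
    exact hd1 (Subgroup.mem_bot.1 h5)

end ab

end Cfsg.Agent.Lib.Helper53
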