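import Mathlib
import Cfsg.Agent.Lib.Helper53.RuStep

set_option autoImplicit false
set_option linter.style.haveILetI false
set_option linter.unnecessarySimpa false
set_option linter.unusedVariables false

/-!
# Centralizer chain in an elementary abelian normal 2-subgroup
-/

namespace Cfsg.Agent.Lib.Helper53

section chain

variable {Γ : Type*} [Group Γ]

/-- adding one generator `g` to `L` cuts the centralizer by `C(g)` -/
theorem cen_step (Wh L L' : Subgroup Γ) (hLL' : L ≤ L') (g : Γ) (hg : g ∈ L')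
    (h : ∀ a ∈ L', a ∈ L ∨ a * g⁻¹ ∈ L) :
    (Wh ⊓ Subgroup.centralizer (L : Set Γ)) ⊓ Subgroup.centralizer {g} =
      Wh ⊓ Subgroup.centralizer (L' : Set Γ) := by
  ext x
  simp only [Subgroup.mem_inf, Subgroup.mem_centralizer_iff, Set.mem_singleton_iff,
    SetLike.mem_coe]
  constructor
  · rintro ⟨⟨hxW, hxL⟩, hxg⟩
    refine ⟨hxW, ?_⟩
    intro a ha
    have hg' : g * x = x * g := hxg g rfl
    rcases h a ha with h1 | h1
    · exact hxL a h1
    · have h2 := hxL _ h1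
      calc a * x = (a * g⁻¹) * (g * x) := by group
        _ = (a * g⁻¹) * (x * g) := by rw [hg']
        _ = ((a * g⁻¹) * x) * g := by group
        _ = (x * (a * g⁻¹)) * g := by rw [h2]
        _ = x * a := by group
  · rintro ⟨hxW, hxL⟩
    refine ⟨⟨hxW, fun a ha => hxL a (hLL' ha)⟩, ?_⟩
    rintro _ rfl
    exact hxL _ hg

/-- **Chain step.** -/
theorem cen_step_card (Wh L L' : Subgroup Γ) [hWn : Wh.Normal] [hLn : L.Normal] [Finite ↥Wh]
    (hc : ∀ a ∈ Wh, ∀ b ∈ Wh, a * b = b * a) (h2 : ∀ a ∈ Wh, a * a = 1)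
    (hLL' : L ≤ L') (g : Γ) (hg : g ∈ L') (h : ∀ a ∈ L', a ∈ L ∨ a * g⁻¹ ∈ L) :
    Nat.card ↥(Wh ⊓ Subgroup.centralizer (L : Set Γ)) ≤
        Nat.card ↥(Wh ⊓ Subgroup.centralizer (L' : Set Γ)) ^ 2 ∧
      (Nat.card ↥(Wh ⊓ Subgroup.centralizer (L : Set Γ)) =
        Nat.card ↥(Wh ⊓ Subgroup.centralizer (L' : Set Γ)) ^ 2 →
        ∀ c ∈ Wh ⊓ Subgroup.centralizer (L' : Set Γ),
          ∃ a ∈ Wh ⊓ Subgroup.centralizer (L : Set Γ), c = a⁻¹ * (g * a * g⁻¹)) := by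
  set A := Wh ⊓ Subgroup.centralizer (L : Set Γ) with hA
  haveI : Finite ↥A := Finite.of_injective (Subgroup.inclusion (inf_le_left : A ≤ Wh))
    (Subgroup.inclusion_injective _)
  haveI hAn : A.Normal := by
    rw [hA]
    infer_instance
  have hcA : ∀ a ∈ A, ∀ b ∈ A, a * b = b * a := fun a ha b hb => hc a ha.1 b hb.1
  have h2A : ∀ a ∈ A, a * a = 1 := fun a ha => h2 a ha.1
  have hgA : ∀ a ∈ A, g * a * g⁻¹ ∈ A := fun a ha => hAn.conj_mem a ha g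
  have hggL : g * g ∈ L := by
    rcases h (g * g) (L'.mul_mem hg hg) with h1 | h1
    · exact h1
    · have : g ∈ L := by simpa using h1
      exact L.mul_mem this this
  have hg2 : ∀ a ∈ A, g * g * a = a * (g * g) := by
    intro a ha
    have h3 : a ∈ Subgroup.centralizer (L : Set Γ) := ha.2
    rw [Subgroup.mem_centralizer_iff] at h3
    exact h3 _ hggL
  have key := step_card A hcA h2A g hgA hg2
  rw [cen_step Wh L L' hLL' g hg h] at key
  exact key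

/-- **Three-step chain.** -/
theorem chain3 (Wh L1 L2 : Subgroup Γ) [hWn : Wh.Normal] [hL1n : L1.Normal] [hL2n : L2.Normal]
    [Finite ↥Wh]
    (hc : ∀ a ∈ Wh, ∀ b ∈ Wh, a * b = b * a) (h2 : ∀ a ∈ Wh, a * a = 1)
    (hW1 : Wh ≤ L1) (h12 : L1 ≤ L2) (g0 g1 g2 : Γ)
    (hg0 : g0 ∈ L1) (hgen0 : ∀ a ∈ L1, a ∈ Wh ∨ a * g0⁻¹ ∈ Wh)
    (hg1 : g1 ∈ L2) (hgen1 : ∀ a ∈ L2, a ∈ L1 ∨ a * g1⁻¹ ∈ L1)
    (hgen2 : ∀ a : Γ, a ∈ L2 ∨ a * g2⁻¹ ∈ L2)
    (hcen : Nat.card ↥(Wh ⊓ Subgroup.center Γ) ≤ 2) :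
    Nat.card ↥Wh ≤ 2 ^ 8 ∧ (Nat.card ↥Wh = 2 ^ 8 →
      Nat.card ↥(Wh ⊓ Subgroup.centralizer (L1 : Set Γ)) = 16 ∧
      Nat.card ↥(Wh ⊓ Subgroup.centralizer (L2 : Set Γ)) = 4 ∧
      (∀ c ∈ Wh ⊓ Subgroup.centralizer (L1 : Set Γ), ∃ a ∈ Wh, c = a⁻¹ * (g0 * a * g0⁻¹)) ∧
      (∀ c ∈ Wh ⊓ Subgroup.centralizer (L2 : Set Γ),
        ∃ a ∈ Wh ⊓ Subgroup.centralizer (L1 : Set Γ), c = a⁻¹ * (g1 * a * g1⁻¹)) ∧
      (∀ c ∈ Wh ⊓ Subgroup.center Γ,
        ∃ a ∈ Wh ⊓ Subgroup.centralizer (L2 : Set Γ), c = a⁻¹ * (g2 * a * g2⁻¹))) := by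
  have hB0 : Wh ⊓ Subgroup.centralizer (Wh : Set Γ) = Wh := by
    apply le_antisymm inf_le_left
    intro x hx
    have h3 : x ∈ Subgroup.centralizer (Wh : Set Γ) := by
      rw [Subgroup.mem_centralizer_iff]
      intro y hy
      exact hc y hy x hx
    exact ⟨hx, h3⟩
  have hB3 : Wh ⊓ Subgroup.centralizer ((⊤ : Subgroup Γ) : Set Γ) = Wh ⊓ Subgroup.center Γ := by
    rw [Subgroup.coe_top, Subgroup.centralizer_univ]
  haveI : (⊤ : Subgroup Γ).Normal := inferInstance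
  have s0 := cen_step_card Wh Wh L1 hc h2 hW1 g0 hg0 hgen0
  have s1 := cen_step_card Wh L1 L2 hc h2 h12 g1 hg1 hgen1
  have s2 := cen_step_card Wh L2 ⊤ hc h2 le_top g2 (Subgroup.mem_top _)
    (fun a _ => hgen2 a)
  rw [hB0] at s0
  rw [hB3] at s2
  set b1 := Nat.card ↥(Wh ⊓ Subgroup.centralizer (L1 : Set Γ)) with hb1
  set b2 := Nat.card ↥(Wh ⊓ Subgroup.centralizer (L2 : Set Γ)) with hb2
  set b3 := Nat.card ↥(Wh ⊓ Subgroup.center Γ) with hb3
  set b0 := Nat.card ↥Wh with hb0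
  have i0 := s0.1
  have i1 := s1.1
  have i2 := s2.1
  have hb3le : b3 ^ 2 ≤ 4 := by
    have := Nat.pow_le_pow_left hcen 2
    simpa using this
  have hb2le : b2 ≤ 4 := i2.trans hb3le
  have hb2sq : b2 ^ 2 ≤ 16 := by
    have := Nat.pow_le_pow_left hb2le 2
    simpa using this
  have hb1le : b1 ≤ 16 := i1.trans hb2sq
  have hb1sq : b1 ^ 2 ≤ 256 := by
    have := Nat.pow_le_pow_left hb1le 2
    simpa using this
  refine ⟨by
    have : b0 ≤ 256 := i0.trans hb1sq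
    norm_num
    exact this, ?_⟩
  intro heq
  have heq' : b0 = 256 := by simpa using heq
  -- b1 = 16
  have e1 : b1 = 16 := by
    by_contra hne
    have : b1 ≤ 15 := by omega
    have := Nat.pow_le_pow_left this 2
    omega
  have e2 : b2 = 4 := by
    by_contra hne
    have : b2 ≤ 3 := by omega
    have := Nat.pow_le_pow_left this 2
    omega
  have e3 : b3 = 2 := by
    by_contra hne
    have : b3 ≤ 1 := by omega
    have := Nat.pow_le_pow_left this 2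
    omega
  refine ⟨e1, e2, ?_, ?_, ?_⟩
  · apply s0.2
    rw [heq', e1]
    norm_num
  · apply s1.2
    rw [e1, e2]
    norm_num
  · apply s2.2
    rw [e2, e3]
    norm_num

end chain

end Cfsg.Agent.Lib.Helper53
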