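import Mathlib
import Cfsg.Agent.Lib.Helper53.RuUCS
import Cfsg.Agent.Lib.Helper53.RuStep
import Cfsg.Agent.Lib.Helper53.RuChain
import Cfsg.Agent.Lib.Helper53.RuL

set_option autoImplicit false
set_option linter.style.haveILetI false
set_option linter.unnecessarySimpa false
set_option linter.unusedVariables false
set_option linter.unusedSectionVars false

/-!
# Ru-type 2-groups: the chain bound in `T`
-/

namespace Cfsg.Agent.Lib.Helper53

section frat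

/-- If `|Φ(W)| ≤ 8` and `Φ(W)` lies in all subgroups of index at most 16, then `Φ(W) ≤ Z(W)`. -/
theorem frattini_le_center_of_small {W : Type*} [Group W] [Finite W] (hW : IsPGroup 2 W)
    (hc : Nat.card ↥(frattini W) ≤ 8) (hd : ∀ U : Subgroup W, U.index ≤ 16 → frattini W ≤ U) :
    frattini W ≤ Subgroup.center W := by
  haveI : Fact (Nat.Prime 2) := ⟨Nat.prime_two⟩
  have hcf : commutator W ≤ frattini W := Cfsg.Agent.Lib.Helper2.commutator_le_frattini hW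
  have hmem : ∀ w x : W, w * x * w⁻¹ * x⁻¹ ∈ frattini W := by
    intro w x
    apply hcf
    have := Subgroup.commutator_mem_commutator (Subgroup.mem_top w) (Subgroup.mem_top x)
    rwa [commutatorElement_def] at this
  have hidx : ∀ x : W, (Subgroup.centralizer ({x} : Set W)).index ≤ 16 := by
    intro x
    rw [← Subgroup.relIndex_top_right]
    have h1 : (Subgroup.centralizer ({x} : Set W)).relIndex ⊤ ≤ Nat.card ↥(frattini W) := by
      apply relIndex_le_of_fun ⊤ _ (fun w => (⟨w * x * w⁻¹ * x⁻¹, hmem w x⟩ : ↥(frattini W)))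
      intro a _ a' _ h
      have h2 : a * x * a⁻¹ * x⁻¹ = a' * x * a'⁻¹ * x⁻¹ := congrArg Subtype.val h
      rw [Subgroup.mem_centralizer_singleton_iff]
      have h3 : a * x * a⁻¹ = a' * x * a'⁻¹ := by
        have := congrArg (fun y => y * x) h2
        simpa [mul_assoc] using this
      calc a⁻¹ * a' * x = a⁻¹ * (a' * x * a'⁻¹) * a' := by group
        _ = a⁻¹ * (a * x * a⁻¹) * a' := by rw [h3]
        _ = x * (a⁻¹ * a') := by group
    omega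
  intro f hf
  rw [Subgroup.mem_center_iff]
  intro x
  have := hd _ (hidx x) hf
  rw [Subgroup.mem_centralizer_singleton_iff] at this
  exact this.symm

end frat

section chainT

variable {T : Type*} [Group T] [Finite T]

local notation "𝐙" => Subgroup.upperCentralSeries T

/-- the chain theorem applied in `T ⧸ Z_k` -/
theorem chain_T (hT : IsPGroup 2 T) (k : ℕ) (W : Subgroup T) [hWn : W.Normal]
    (hWL1 : W ≤ ruL1 T)
    (hk1 : Nat.card ↥(𝐙 (k + 1)) = 2 * Nat.card ↥(𝐙 k))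
    (hcomm : ∀ x ∈ W, ∀ y ∈ W, x * y * x⁻¹ * y⁻¹ ∈ 𝐙 k) (hsq : ∀ x ∈ W, x * x ∈ 𝐙 k)
    (g0 g1 g2 : T) (hg0 : g0 ∈ ruL1 T) (hgen0 : ∀ a ∈ ruL1 T, a ∈ W ∨ a * g0⁻¹ ∈ W)
    (hg1 : g1 ∈ ruL2 T) (hgen1 : ∀ a ∈ ruL2 T, a ∈ ruL1 T ∨ a * g1⁻¹ ∈ ruL1 T)
    (hgen2 : ∀ a : T, a ∈ ruL2 T ∨ a * g2⁻¹ ∈ ruL2 T) :
    Nat.card ↥(W.map (QuotientGroup.mk' (𝐙 k))) ≤ 2 ^ 8 ∧
    (Nat.card ↥(W.map (QuotientGroup.mk' (𝐙 k))) = 2 ^ 8 →
      Nat.card ↥(W.map (QuotientGroup.mk' (𝐙 k)) ⊓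
        Subgroup.centralizer (((ruL1 T).map (QuotientGroup.mk' (𝐙 k)) : Subgroup (T ⧸ 𝐙 k)) :
          Set (T ⧸ 𝐙 k))) = 16 ∧
      Nat.card ↥(W.map (QuotientGroup.mk' (𝐙 k)) ⊓
        Subgroup.centralizer (((ruL2 T).map (QuotientGroup.mk' (𝐙 k)) : Subgroup (T ⧸ 𝐙 k)) :
          Set (T ⧸ 𝐙 k))) = 4 ∧
      (∀ c ∈ W.map (QuotientGroup.mk' (𝐙 k)) ⊓
        Subgroup.centralizer (((ruL1 T).map (QuotientGroup.mk' (𝐙 k)) : Subgroup (T ⧸ 𝐙 k)) :
          Set (T ⧸ 𝐙 k)), ∃ a ∈ W.map (QuotientGroup.mk' (𝐙 k)),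
          c = a⁻¹ * (QuotientGroup.mk' (𝐙 k) g0 * a * (QuotientGroup.mk' (𝐙 k) g0)⁻¹)) ∧
      (∀ c ∈ W.map (QuotientGroup.mk' (𝐙 k)) ⊓
        Subgroup.centralizer (((ruL2 T).map (QuotientGroup.mk' (𝐙 k)) : Subgroup (T ⧸ 𝐙 k)) :
          Set (T ⧸ 𝐙 k)), ∃ a ∈ W.map (QuotientGroup.mk' (𝐙 k)) ⊓
        Subgroup.centralizer (((ruL1 T).map (QuotientGroup.mk' (𝐙 k)) : Subgroup (T ⧸ 𝐙 k)) :
          Set (T ⧸ 𝐙 k)),
          c = a⁻¹ * (QuotientGroup.mk' (𝐙 k) g1 * a * (QuotientGroup.mk' (𝐙 k) g1)⁻¹)) ∧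
      (∀ c ∈ W.map (QuotientGroup.mk' (𝐙 k)) ⊓ Subgroup.center (T ⧸ 𝐙 k),
        ∃ a ∈ W.map (QuotientGroup.mk' (𝐙 k)) ⊓
        Subgroup.centralizer (((ruL2 T).map (QuotientGroup.mk' (𝐙 k)) : Subgroup (T ⧸ 𝐙 k)) :
          Set (T ⧸ 𝐙 k)),
          c = a⁻¹ * (QuotientGroup.mk' (𝐙 k) g2 * a * (QuotientGroup.mk' (𝐙 k) g2)⁻¹))) := by
  set π := QuotientGroup.mk' (𝐙 k) with hπ
  have hπs : Function.Surjective π := QuotientGroup.mk'_surjective _
  have hker : ∀ x : T, π x = 1 ↔ x ∈ 𝐙 k := fun x => QuotientGroup.eq_one_iff x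
  haveI : (W.map π).Normal := Subgroup.Normal.map hWn π hπs
  haveI : ((ruL1 T).map π).Normal := Subgroup.Normal.map inferInstance π hπs
  haveI : ((ruL2 T).map π).Normal := Subgroup.Normal.map inferInstance π hπs
  have hc : ∀ a ∈ W.map π, ∀ b ∈ W.map π, a * b = b * a := by
    rintro _ ⟨x, hx, rfl⟩ _ ⟨y, hy, rfl⟩
    have := (hker _).mpr (hcomm x hx y hy)
    rw [map_mul, map_mul, map_mul, map_inv, map_inv] at this
    calc π x * π y = (π x * π y * (π x)⁻¹ * (π y)⁻¹) * (π y * π x) := by group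
      _ = π y * π x := by rw [this, one_mul]
  have h2 : ∀ a ∈ W.map π, a * a = 1 := by
    rintro _ ⟨x, hx, rfl⟩
    rw [← map_mul]
    exact (hker _).mpr (hsq x hx)
  have hcen : Nat.card ↥(W.map π ⊓ Subgroup.center (T ⧸ 𝐙 k)) ≤ 2 := by
    have h3 : W.map π ⊓ Subgroup.center (T ⧸ 𝐙 k) ≤ (𝐙 (k + 1)).map π := by
      rintro x ⟨⟨w, hw, rfl⟩, hxc⟩
      have hxc' : π w ∈ Subgroup.center (T ⧸ 𝐙 k) := hxc
      have hw1 : w ∈ 𝐙 (k + 1) := by
        rw [Subgroup.mem_upperCentralSeries_succ_iff]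
        intro y
        rw [commutatorElement_def, ← hker, map_mul, map_mul, map_mul, map_inv, map_inv]
        rw [Subgroup.mem_center_iff] at hxc'
        rw [← hxc' (π y)]
        group
      exact ⟨w, hw1, rfl⟩
    have h4 : Nat.card ↥((𝐙 (k + 1)).map π) = 2 := by
      rw [← Subgroup.relIndex_ker, hπ, QuotientGroup.ker_mk']
      have h5 := relIndex_mul_card' (𝐙 (k + 1)) (𝐙 k)
        (Subgroup.upperCentralSeries_mono T (Nat.le_succ k))
      rw [hk1] at h5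
      have hpos : 0 < Nat.card ↥(𝐙 k) := Nat.card_pos
      exact Nat.eq_of_mul_eq_mul_right hpos h5
    calc Nat.card ↥(W.map π ⊓ Subgroup.center (T ⧸ 𝐙 k))
        ≤ Nat.card ↥((𝐙 (k + 1)).map π) := Subgroup.card_le_of_le h3
      _ = 2 := h4
  have hmapgen : ∀ (L L' : Subgroup T) (g : T), (∀ a ∈ L', a ∈ L ∨ a * g⁻¹ ∈ L) →
      ∀ a ∈ L'.map π, a ∈ L.map π ∨ a * (π g)⁻¹ ∈ L.map π := by
    intro L L' g h
    rintro _ ⟨a, ha, rfl⟩
    rcases h a ha with h1 | h1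
    · exact Or.inl (Subgroup.mem_map_of_mem π h1)
    · right
      rw [← map_inv, ← map_mul]
      exact Subgroup.mem_map_of_mem π h1
  exact chain3 (W.map π) ((ruL1 T).map π) ((ruL2 T).map π) hc h2
    (Subgroup.map_mono hWL1) (Subgroup.map_mono ruL1_le_ruL2) (π g0) (π g1) (π g2)
    (Subgroup.mem_map_of_mem π hg0) (hmapgen W (ruL1 T) g0 hgen0)
    (Subgroup.mem_map_of_mem π hg1) (hmapgen (ruL1 T) (ruL2 T) g1 hgen1)
    (by
      intro a
      obtain ⟨a, rfl⟩ := hπs a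
      rcases hgen2 a with h1 | h1
      · exact Or.inl (Subgroup.mem_map_of_mem π h1)
      · right
        rw [← map_inv, ← map_mul]
        exact Subgroup.mem_map_of_mem π h1)
    hcen

/-- `|W| = |W Z_k / Z_k| · |Z_k|` -/
theorem card_eq_card_map_mul (k : ℕ) (W : Subgroup T) (hZW : 𝐙 k ≤ W) :
    Nat.card ↥W = Nat.card ↥(W.map (QuotientGroup.mk' (𝐙 k))) * Nat.card ↥(𝐙 k) := by
  rw [← Subgroup.relIndex_ker, QuotientGroup.ker_mk']
  exact (relIndex_mul_card' W (𝐙 k) hZW).symm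

end chainT

end Cfsg.Agent.Lib.Helper53
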