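import Mathlib
import Cfsg.Agent.Lib.Helper53.RuMain

set_option autoImplicit false
set_option linter.style.haveILetI false
set_option linter.unnecessarySimpa false
set_option linter.unusedVariables false
set_option linter.unusedSectionVars false

/-!
# Ru-type 2-groups: the order is exactly `2^14`
-/

namespace Cfsg.Agent.Lib.Helper53

section

variable {T : Type*} [Group T] [Finite T]

local notation "𝐙" => Subgroup.upperCentralSeries T

/-- three bounded factors with maximal product are all maximal -/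
theorem three_factor_eq {a b c : ℕ} (ha : a ≤ 8) (hb : b ≤ 256) (hc : c ≤ 8)
    (h : 16384 ≤ a * (b * c)) : a = 8 ∧ b = 256 ∧ c = 8 := by
  have hbc : b * c ≤ 256 * 8 := Nat.mul_le_mul hb hc
  refine ⟨?_, ?_, ?_⟩
  · by_contra hne
    have h1 : a ≤ 7 := by omega
    have := Nat.mul_le_mul h1 hbc
    omega
  · by_contra hne
    have h1 : b ≤ 255 := by omega
    have h2 : b * c ≤ 255 * 8 := Nat.mul_le_mul h1 hc
    have := Nat.mul_le_mul ha h2
    omega
  · by_contra hne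
    have h1 : c ≤ 7 := by omega
    have h2 : b * c ≤ 256 * 7 := Nat.mul_le_mul hb h1
    have := Nat.mul_le_mul ha h2
    omega

theorem three_two {a b c : ℕ} (ha : a ≤ 2) (hb : b ≤ 2) (hc : c ≤ 2) (h : a * b * c = 8) :
    a = 2 ∧ b = 2 ∧ c = 2 := by
  interval_cases a <;> interval_cases b <;> interval_cases c <;> simp_all

/-- **First part**: orders. -/
theorem ru_first (hT : IsPGroup 2 T) (ha : 2 ^ 14 ≤ Nat.card T)
    (hb : Nat.card ↥(𝐙 4) = 16)
    (hc : Nat.card ↥(frattini ↥(Subgroup.centralizer (𝐙 3 : Set T))) ≤ 8)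
    (hd : ∀ U : Subgroup ↥(Subgroup.centralizer (𝐙 3 : Set T)), U.index ≤ 16 →
      frattini ↥(Subgroup.centralizer (𝐙 3 : Set T)) ≤ U) :
    Nat.card T = 2 ^ 14 ∧
      (frattini ↥(Subgroup.centralizer (𝐙 3 : Set T))).map
        (Subgroup.centralizer (𝐙 3 : Set T)).subtype = 𝐙 3 ∧
      (Subgroup.centralizer (𝐙 3 : Set T)).index = 8 ∧
      Nat.card ↥(Subgroup.centralizer (𝐙 3 : Set T)) = 2 ^ 11 ∧
      Nat.card ↥(𝐙 1) = 2 ∧ Nat.card ↥(𝐙 2) = 4 ∧ Nat.card ↥(𝐙 3) = 8 ∧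
      (ruL2 T).relIndex ⊤ = 2 ∧ (ruL1 T).relIndex (ruL2 T) = 2 ∧
      (Subgroup.centralizer (𝐙 3 : Set T)).relIndex (ruL1 T) = 2 := by
  haveI : Fact (Nat.Prime 2) := ⟨Nat.prime_two⟩
  obtain ⟨c1, c2, c3⟩ := card_ucs_of_card_four hT hb (by
    have : (2 : ℕ) ^ 14 = 16384 := by norm_num
    omega)
  set W := Subgroup.centralizer (𝐙 3 : Set T) with hWdef
  haveI hWn : W.Normal := by
    rw [hWdef]; infer_instance
  have hWp : IsPGroup 2 ↥W := hT.to_subgroup W
  have hcf : commutator ↥W ≤ frattini ↥W := Cfsg.Agent.Lib.Helper2.commutator_le_frattini hWp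
  set F := (frattini ↥W).map W.subtype with hFdef
  haveI hFn : F.Normal := by
    rw [hFdef]
    exact ConjAct.normal_of_characteristic_of_normal
  have hFcard : Nat.card ↥F = Nat.card ↥(frattini ↥W) :=
    Subgroup.card_map_of_injective (Subgroup.subtype_injective W)
  obtain ⟨k, hk⟩ := IsPGroup.iff_card.mp (hT.to_subgroup F)
  have hk3 : k ≤ 3 := by
    have h1 : (2 : ℕ) ^ k ≤ 2 ^ 3 := by
      rw [← hk, hFcard]; simpa using hc
    exact (Nat.pow_le_pow_iff_right (by norm_num)).mp h1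
  have hFle : F ≤ 𝐙 k := normal_le_ucs_of_card_le hT F k hk.le
  have c0 : Nat.card ↥(𝐙 0) = 1 := by
    rw [Subgroup.upperCentralSeries_zero]; exact Subgroup.card_bot
  have hZk : Nat.card ↥(𝐙 k) = 2 ^ k := by
    interval_cases k
    · simpa using c0
    · simpa using c1
    · simpa using c2
    · simpa using c3
  have hFeq : F = 𝐙 k := Subgroup.eq_of_le_of_card_ge hFle (by rw [hZk, hk])
  have hZW : 𝐙 k ≤ W := by
    rw [← hFeq, hFdef]
    exact Subgroup.map_subtype_le _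
  have hcomm : ∀ x ∈ W, ∀ y ∈ W, x * y * x⁻¹ * y⁻¹ ∈ 𝐙 k := by
    intro x hx y hy
    rw [← hFeq]
    refine ⟨(⟨x, hx⟩ : ↥W) * ⟨y, hy⟩ * (⟨x, hx⟩ : ↥W)⁻¹ * (⟨y, hy⟩ : ↥W)⁻¹, ?_, rfl⟩
    apply hcf
    have := Subgroup.commutator_mem_commutator (Subgroup.mem_top (⟨x, hx⟩ : ↥W))
      (Subgroup.mem_top (⟨y, hy⟩ : ↥W))
    rwa [commutatorElement_def] at this
  have hsq : ∀ x ∈ W, x * x ∈ 𝐙 k := by
    intro x hx
    rw [← hFeq]
    refine ⟨(⟨x, hx⟩ : ↥W) * ⟨x, hx⟩, ?_, rfl⟩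
    have := Cfsg.Agent.Lib.Helper2.pow_mem_frattini hWp (⟨x, hx⟩ : ↥W)
    rwa [pow_two] at this
  have hk1 : Nat.card ↥(𝐙 (k + 1)) = 2 * Nat.card ↥(𝐙 k) := by
    interval_cases k
    · simp only [zero_add]; rw [c1, c0]
    · simp only [Nat.reduceAdd]; rw [c2, c1]
    · simp only [Nat.reduceAdd]; rw [c3, c2]
    · simp only [Nat.reduceAdd]; rw [hb, c3]
  have hWL1 : W ≤ ruL1 T := centralizer_le_ruL1
  have i2 := index_ruL2_le (T := T) c1 c2
  have i1 := relIndex_ruL1_le (T := T) c1 c2 c3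
  have i0 := relIndex_centralizer_le (T := T) c1 c2 c3
  obtain ⟨g0, hg0, hgen0⟩ := exists_gen_of_relIndex_le_two (ruL1 T) W i0
  obtain ⟨g1, hg1, hgen1⟩ := exists_gen_of_relIndex_le_two (ruL2 T) (ruL1 T) i1
  obtain ⟨g2, _, hgen2⟩ := exists_gen_of_relIndex_le_two ⊤ (ruL2 T) i2
  have hchain := (chain_T hT k W hWL1 hk1 hcomm hsq g0 g1 g2 hg0 hgen0 hg1 hgen1
    (fun a => hgen2 a (Subgroup.mem_top a))).1
  have hWcard := card_eq_card_map_mul k W hZW
  have hidx : W.index = W.relIndex (ruL1 T) * (ruL1 T).relIndex (ruL2 T) *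
      (ruL2 T).relIndex ⊤ := by
    rw [Subgroup.relIndex_mul_relIndex _ _ _ hWL1 ruL1_le_ruL2,
      Subgroup.relIndex_mul_relIndex _ _ _ (hWL1.trans ruL1_le_ruL2) le_top,
      Subgroup.relIndex_top_right]
  have hTcard : Nat.card T = W.index * Nat.card ↥W := (Subgroup.index_mul_card W).symm
  have hidx8 : W.index ≤ 8 := by
    rw [hidx]
    have := Nat.mul_le_mul (Nat.mul_le_mul i0 i1) i2
    simpa using this
  have h2k : (2 : ℕ) ^ k ≤ 8 := by
    have := Nat.pow_le_pow_right (by norm_num : 0 < 2) hk3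
    simpa using this
  rw [hZk] at hWcard
  have hmain : 16384 ≤ W.index * (Nat.card ↥(W.map (QuotientGroup.mk' (𝐙 k))) * 2 ^ k) := by
    rw [← hWcard, ← hTcard]
    simpa using ha
  obtain ⟨e1, e2, e3⟩ := three_factor_eq hidx8 (by simpa using hchain) h2k hmain
  have hk3' : k = 3 := by
    have : (2 : ℕ) ^ k = 2 ^ 3 := by simpa using e3
    exact Nat.pow_right_injective (le_refl 2) this
  subst hk3'
  have hWc : Nat.card ↥W = 2 ^ 11 := by
    rw [hWcard, e2]; norm_num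
  have i0' : W.relIndex (ruL1 T) ≤ 2 := i0
  have e1' : W.relIndex (ruL1 T) * (ruL1 T).relIndex (ruL2 T) * (ruL2 T).relIndex ⊤ = 8 := by
    rw [← hidx]; exact e1
  obtain ⟨f0, f1, f2⟩ := three_two i0' i1 i2 e1'
  refine ⟨?_, hFeq, e1, hWc, c1, c2, c3, f2, f1, f0⟩
  rw [hTcard, e1, hWc]; norm_num

end

end Cfsg.Agent.Lib.Helper53
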