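import Mathlib
import Cfsg.Agent.Lib.Helper53.RuAut
import Cfsg.Agent.Lib.Helper53.RuFirst

/-!
# A `2`-group of Rudvalis type has no automorphisms of odd order (helper53)
-/

set_option autoImplicit false
set_option linter.style.haveILetI false
set_option linter.unnecessarySimpa false

namespace Cfsg.Agent.Lib.Helper53

section

variable {T : Type*} [Group T]

local notation "𝐙" => Subgroup.upperCentralSeries T

instance ruL2_characteristic : (ruL2 T).Characteristic := by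
  unfold ruL2
  infer_instance

instance ruL1_characteristic : (ruL1 T).Characteristic := by
  rw [Subgroup.characteristic_iff_le_comap]
  intro φ t ht
  rw [Subgroup.mem_comap]
  rw [mem_ruL1] at ht ⊢
  refine ⟨(char_mem_iff (ruL2 T) φ t).2 ht.1, ?_⟩
  intro f hf
  have hf' : φ.symm f ∈ 𝐙 3 := (char_mem_iff (𝐙 3) φ.symm f).2 hf
  have h1 := ht.2 _ hf'
  have h2 : φ (t * φ.symm f * t⁻¹ * (φ.symm f)⁻¹) ∈ 𝐙 1 := (char_mem_iff (𝐙 1) φ _).2 h1
  simpa using h2

end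

section main

variable {T : Type*} [Group T] [Finite T]

local notation "𝐙" => Subgroup.upperCentralSeries T

/-- **Automorphisms of odd order are trivial** on a `2`-group of Rudvalis type. -/
theorem ru_aut_trivial (hT : IsPGroup 2 T) (ha : 2 ^ 14 ≤ Nat.card T)
    (hb : Nat.card ↥(𝐙 4) = 16)
    (hc : Nat.card ↥(frattini ↥(Subgroup.centralizer (𝐙 3 : Set T))) ≤ 8)
    (hd : ∀ U : Subgroup ↥(Subgroup.centralizer (𝐙 3 : Set T)), U.index ≤ 16 →
      frattini ↥(Subgroup.centralizer (𝐙 3 : Set T)) ≤ U)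
    (α : T ≃* T) (m : ℕ) (hm : Odd m) (hα : ∀ t, (α^[m]) t = t) : ∀ t, α t = t := by
  haveI : Fact (Nat.Prime 2) := ⟨Nat.prime_two⟩
  obtain ⟨hcard, hfr, hidx, hWc, c1, c2, c3, r2, r1, r0⟩ := ru_first hT ha hb hc hd
  set W := Subgroup.centralizer (𝐙 3 : Set T) with hWdef
  haveI hWch : W.Characteristic := by
    rw [hWdef]; infer_instance
  have hWp : IsPGroup 2 ↥W := hT.to_subgroup W
  have hcf : commutator ↥W ≤ frattini ↥W := Cfsg.Agent.Lib.Helper2.commutator_le_frattini hWp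
  have hcomm : ∀ x ∈ W, ∀ y ∈ W, x * y * x⁻¹ * y⁻¹ ∈ 𝐙 3 := by
    intro x hx y hy
    rw [← hfr]
    refine ⟨(⟨x, hx⟩ : ↥W) * ⟨y, hy⟩ * (⟨x, hx⟩ : ↥W)⁻¹ * (⟨y, hy⟩ : ↥W)⁻¹, hcf ?_, rfl⟩
    have := Subgroup.commutator_mem_commutator (Subgroup.mem_top (⟨x, hx⟩ : ↥W))
      (Subgroup.mem_top (⟨y, hy⟩ : ↥W))
    rwa [commutatorElement_def] at this
  -- Step A: `α` fixes `Z₄` pointwise
  have A1 : ∀ t ∈ 𝐙 1, α t * t⁻¹ ∈ (⊥ : Subgroup T) :=
    ts_step hT α m hm hα ⊥ ⊥ (𝐙 1) bot_le (by rw [c1, Subgroup.card_bot]) (by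
      intro d hd
      rw [Subgroup.mem_bot] at hd
      subst hd
      simp)
  have A2 : ∀ t ∈ 𝐙 2, α t * t⁻¹ ∈ (⊥ : Subgroup T) :=
    ts_step hT α m hm hα ⊥ (𝐙 1) (𝐙 2) (Subgroup.upperCentralSeries_mono T (by norm_num))
      (by rw [c1, c2]) A1
  have A3 : ∀ t ∈ 𝐙 3, α t * t⁻¹ ∈ (⊥ : Subgroup T) :=
    ts_step hT α m hm hα ⊥ (𝐙 2) (𝐙 3) (Subgroup.upperCentralSeries_mono T (by norm_num))
      (by rw [c2, c3]) A2
  have A4 : ∀ t ∈ 𝐙 4, α t * t⁻¹ ∈ (⊥ : Subgroup T) :=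
    ts_step hT α m hm hα ⊥ (𝐙 3) (𝐙 4) (Subgroup.upperCentralSeries_mono T (by norm_num))
      (by rw [c3, hb]) A3
  have fix4 : ∀ t ∈ 𝐙 4, α t = t := by
    intro t ht
    have := A4 t ht
    rw [Subgroup.mem_bot] at this
    calc α t = (α t * t⁻¹) * t := by group
      _ = t := by rw [this, one_mul]
  -- Step B: `α` acts trivially on `T / W`
  have k0 : Nat.card ↥(ruL1 T) = 2 * Nat.card ↥W := by
    rw [← relIndex_mul_card' (ruL1 T) W centralizer_le_ruL1, r0]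
  have k1 : Nat.card ↥(ruL2 T) = 2 * Nat.card ↥(ruL1 T) := by
    rw [← relIndex_mul_card' (ruL2 T) (ruL1 T) ruL1_le_ruL2, r1]
  have k2 : Nat.card ↥(⊤ : Subgroup T) = 2 * Nat.card ↥(ruL2 T) := by
    rw [← relIndex_mul_card' ⊤ (ruL2 T) le_top, r2]
  have B1 : ∀ t ∈ ruL1 T, α t * t⁻¹ ∈ W :=
    ts_step hT α m hm hα W W (ruL1 T) centralizer_le_ruL1 k0 (by
      intro d hd
      exact W.mul_mem ((char_mem_iff W α d).2 hd) (W.inv_mem hd))
  have B2 : ∀ t ∈ ruL2 T, α t * t⁻¹ ∈ W :=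
    ts_step hT α m hm hα W (ruL1 T) (ruL2 T) ruL1_le_ruL2 k1 B1
  have B3 : ∀ t ∈ (⊤ : Subgroup T), α t * t⁻¹ ∈ W :=
    ts_step hT α m hm hα W (ruL2 T) ⊤ le_top k2 B2
  -- Step C: `α` acts trivially on `W / Z₃`
  have C : ∀ w ∈ W, α w * w⁻¹ ∈ 𝐙 3 := by
    have hmap : (𝐙 3).map α.toMonoidHom = 𝐙 3 :=
      (Subgroup.characteristic_iff_map_eq.1 inferInstance) α
    set β := QuotientGroup.congr (𝐙 3) (𝐙 3) α hmap with hβdef
    have hβmk : ∀ t : T, β (QuotientGroup.mk t) = QuotientGroup.mk (α t) := fun t => rfl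
    have hiter : ∀ (j : ℕ) (t : T), (β^[j]) (QuotientGroup.mk t) = QuotientGroup.mk ((α^[j]) t) := by
      intro j
      induction j with
      | zero => intro t; rfl
      | succ j ih =>
        intro t
        rw [Function.iterate_succ_apply', Function.iterate_succ_apply', ih, hβmk]
    have hβm : ∀ q, (β^[m]) q = q := by
      intro q
      obtain ⟨t, rfl⟩ := QuotientGroup.mk_surjective q
      rw [hiter, hα]
    set A := W.map (QuotientGroup.mk' (𝐙 3)) with hAdef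
    haveI hAn : A.Normal :=
      Subgroup.Normal.map inferInstance _ (QuotientGroup.mk'_surjective _)
    have hQ : IsPGroup 2 (T ⧸ 𝐙 3) := hT.to_quotient _
    have key := ab_trivial hQ β m hm hβm A
      (by
        rintro a ⟨x, hx, rfl⟩ b ⟨y, hy, rfl⟩
        show QuotientGroup.mk' (𝐙 3) x * QuotientGroup.mk' (𝐙 3) y =
          QuotientGroup.mk' (𝐙 3) y * QuotientGroup.mk' (𝐙 3) x
        rw [← map_mul, ← map_mul]
        have h1 : x * y = (x * y * x⁻¹ * y⁻¹) * (y * x) := by group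
        rw [h1, map_mul]
        have h2 : QuotientGroup.mk' (𝐙 3) (x * y * x⁻¹ * y⁻¹) = 1 :=
          (QuotientGroup.eq_one_iff _).2 (hcomm x hx y hy)
        rw [h2, one_mul])
      (by
        intro q
        obtain ⟨t, rfl⟩ := QuotientGroup.mk_surjective q
        rw [hβmk]
        exact ⟨α t * t⁻¹, B3 t (Subgroup.mem_top t), rfl⟩)
      (by
        rintro a ⟨w, hw, rfl⟩ hcen
        have hw4 : w ∈ 𝐙 4 := by
          rw [Subgroup.mem_upperCentralSeries_succ_iff]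
          intro y
          rw [Subgroup.mem_center_iff] at hcen
          have h1 := hcen (QuotientGroup.mk' (𝐙 3) y)
          rw [commutatorElement_def, ← QuotientGroup.eq_one_iff]
          have h2 : ((w * y * w⁻¹ * y⁻¹ : T) : T ⧸ 𝐙 3) =
              QuotientGroup.mk' (𝐙 3) w * QuotientGroup.mk' (𝐙 3) y *
                (QuotientGroup.mk' (𝐙 3) w)⁻¹ * (QuotientGroup.mk' (𝐙 3) y)⁻¹ := rfl
          rw [h2, ← h1]
          group
        show β (QuotientGroup.mk w) = QuotientGroup.mk w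
        rw [hβmk, fix4 w hw4])
    intro w hw
    have h1 := key (QuotientGroup.mk' (𝐙 3) w) ⟨w, hw, rfl⟩
    have h2 : β (QuotientGroup.mk w) = QuotientGroup.mk w := h1
    rw [hβmk] at h2
    rw [← QuotientGroup.eq_one_iff]
    have h3 : ((α w * w⁻¹ : T) : T ⧸ 𝐙 3) =
        (QuotientGroup.mk (α w) : T ⧸ 𝐙 3) * (QuotientGroup.mk w)⁻¹ := rfl
    rw [h3, h2, mul_inv_cancel]
  -- Step D
  have D1 : ∀ w ∈ W, α w * w⁻¹ ∈ (⊥ : Subgroup T) :=
    ts_rel hT α m hm hα ⊥ (𝐙 3) W C (by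
      intro d hd
      rw [fix4 d (Subgroup.upperCentralSeries_mono T (by norm_num) hd), mul_inv_cancel]
      exact Subgroup.one_mem _)
  have D2 : ∀ t ∈ (⊤ : Subgroup T), α t * t⁻¹ ∈ (⊥ : Subgroup T) :=
    ts_rel hT α m hm hα ⊥ W ⊤ B3 D1
  intro t
  have := D2 t (Subgroup.mem_top t)
  rw [Subgroup.mem_bot] at this
  calc α t = (α t * t⁻¹) * t := by group
    _ = t := by rw [this, one_mul]

end main

end Cfsg.Agent.Lib.Helper53
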