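import Mathlib
import Cfsg.Agent.Lib.Helper53.RuL

set_option autoImplicit false
set_option linter.style.haveILetI false
set_option linter.unnecessarySimpa false
set_option linter.unusedVariables false
set_option linter.unusedSectionVars false

/-!
# Ru-type 2-groups: commutator calculus in `W = C_T(Z₃)` modulo `Z₂`
-/

namespace Cfsg.Agent.Lib.Helper53

section

variable {T : Type*} [Group T]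

local notation "𝐙" => Subgroup.upperCentralSeries T
local notation "𝐖" => Subgroup.centralizer (Subgroup.upperCentralSeries T 3 : Set T)

/-- elements of `Z₃` commute with elements of `W` -/
theorem ruW_comm {w f : T} (hw : w ∈ 𝐖) (hf : f ∈ 𝐙 3) : f * w = w * f :=
  (Subgroup.mem_centralizer_iff.mp hw) f hf

theorem ruW_conj_mem {w : T} (hw : w ∈ 𝐖) (t : T) : t * w * t⁻¹ ∈ 𝐖 :=
  (inferInstance : (𝐖).Normal).conj_mem w hw t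

/-- the square of an element of `L₂` lies in `W` -/
theorem sq_mem_ruW (hel : ∀ f ∈ 𝐙 3, f * f = 1) {t : T} (ht : t ∈ ruL2 T) : t * t ∈ 𝐖 := by
  rw [Subgroup.mem_centralizer_iff]
  intro f hf
  have hn : t * f * t⁻¹ * f⁻¹ ∈ 𝐙 2 := ucs_comm_mem' hf t
  have hn3 : t * f * t⁻¹ * f⁻¹ ∈ 𝐙 3 := Subgroup.upperCentralSeries_mono T (by norm_num) hn
  have h1 : (t * f * t⁻¹ * f⁻¹) * t = t * (t * f * t⁻¹ * f⁻¹) := (mem_ruL2.mp ht) _ hn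
  have h2 := hel _ hn3
  have e : t * t * f = (t * (t * f * t⁻¹ * f⁻¹)) * t⁻¹ * (t * f * t⁻¹ * f⁻¹) * f * (t * t) := by
    group
  rw [e, ← h1]
  have e2 : t * f * t⁻¹ * f⁻¹ * t * t⁻¹ * (t * f * t⁻¹ * f⁻¹) * f * (t * t) =
      ((t * f * t⁻¹ * f⁻¹) * (t * f * t⁻¹ * f⁻¹)) * f * (t * t) := by group
  rw [e2, h2, one_mul]

/-- `(*)`: `w` and `t w t⁻¹` commute modulo `Z₂` for `t ∈ L₂` -/
theorem ru_star (hcomm : ∀ x ∈ 𝐖, ∀ y ∈ 𝐖, x * y * x⁻¹ * y⁻¹ ∈ 𝐙 3)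
    (hel : ∀ f ∈ 𝐙 3, f * f = 1) {a3 : T} (hZ3 : ∀ f ∈ 𝐙 3, f ∈ 𝐙 2 ∨ f * a3⁻¹ ∈ 𝐙 2)
    {t w : T} (ht : t ∈ ruL2 T) (hw : w ∈ 𝐖) :
    w * (t * w * t⁻¹) * w⁻¹ * (t * w * t⁻¹)⁻¹ ∈ 𝐙 2 := by
  have hw' : t * w * t⁻¹ ∈ 𝐖 := ruW_conj_mem hw t
  set c := w * (t * w * t⁻¹) * w⁻¹ * (t * w * t⁻¹)⁻¹ with hc
  have hc3 : c ∈ 𝐙 3 := hcomm w hw _ hw'
  have hcc : c * c = 1 := hel c hc3
  have hcinv : c⁻¹ = c := inv_eq_of_mul_eq_one_left hcc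
  have hs : t * t ∈ 𝐖 := sq_mem_ruW hel ht
  -- k := w⁻¹ (t t) w (t t)⁻¹ ∈ Z₃
  have hk : w⁻¹ * (t * t) * w * (t * t)⁻¹ ∈ 𝐙 3 := by
    have := hcomm w⁻¹ (Subgroup.inv_mem _ hw) (t * t) hs
    simpa using this
  have hkw : ∀ x ∈ 𝐖, (w⁻¹ * (t * t) * w * (t * t)⁻¹) * x = x * (w⁻¹ * (t * t) * w * (t * t)⁻¹) :=
    fun x hx => ruW_comm hx hk
  -- t c t⁻¹ = c
  have htc : t * c * t⁻¹ = c := by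
    have e1 : t * c * t⁻¹ = (t * w * t⁻¹) * (w * (w⁻¹ * (t * t) * w * (t * t)⁻¹)) * (t * w * t⁻¹)⁻¹ *
        (w * (w⁻¹ * (t * t) * w * (t * t)⁻¹))⁻¹ := by
      rw [hc]; group
    have h1 := hkw (t * w * t⁻¹)⁻¹ (Subgroup.inv_mem _ hw')
    have e2 : (t * w * t⁻¹) * (w * (w⁻¹ * (t * t) * w * (t * t)⁻¹)) * (t * w * t⁻¹)⁻¹ *
        (w * (w⁻¹ * (t * t) * w * (t * t)⁻¹))⁻¹ =
        (t * w * t⁻¹) * w * ((w⁻¹ * (t * t) * w * (t * t)⁻¹) * (t * w * t⁻¹)⁻¹) *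
        (w⁻¹ * (t * t) * w * (t * t)⁻¹)⁻¹ * w⁻¹ := by group
    rw [e1, e2, h1]
    have e3 : (t * w * t⁻¹) * w * ((t * w * t⁻¹)⁻¹ * (w⁻¹ * (t * t) * w * (t * t)⁻¹)) *
        (w⁻¹ * (t * t) * w * (t * t)⁻¹)⁻¹ * w⁻¹ = c⁻¹ := by
      rw [hc]; group
    rw [e3, hcinv]
  by_contra hcZ2
  -- then t centralizes Z₃
  have hca3 : c * a3⁻¹ ∈ 𝐙 2 := (hZ3 c hc3).resolve_left hcZ2
  have ht2 := mem_ruL2.mp ht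
  have htc' : t * c = c * t := by
    calc t * c = (t * c * t⁻¹) * t := by group
      _ = c * t := by rw [htc]
  have hta3 : a3 * t = t * a3 := by
    have h1 := ht2 _ hca3
    -- a3 = (c a3⁻¹)⁻¹ c
    calc a3 * t = (c * a3⁻¹)⁻¹ * (c * t) := by group
      _ = (c * a3⁻¹)⁻¹ * (t * c) := by rw [htc']
      _ = (c * a3⁻¹)⁻¹ * t * c := by group
      _ = (c * a3⁻¹)⁻¹ * (t * (c * a3⁻¹)) * (c * a3⁻¹)⁻¹ * c := by group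
      _ = (c * a3⁻¹)⁻¹ * ((c * a3⁻¹) * t) * (c * a3⁻¹)⁻¹ * c := by rw [h1]
      _ = t * a3 := by group
  have htW : t ∈ 𝐖 := by
    rw [Subgroup.mem_centralizer_iff]
    intro f hf
    rcases hZ3 f hf with h1 | h1
    · exact ht2 f h1
    · have h2 := ht2 _ h1
      calc f * t = (f * a3⁻¹) * (a3 * t) := by group
        _ = (f * a3⁻¹) * (t * a3) := by rw [hta3]
        _ = ((f * a3⁻¹) * t) * a3 := by group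
        _ = (t * (f * a3⁻¹)) * a3 := by rw [h2]
        _ = t * f := by group
  -- hence c = 1
  have hk' : t * w * t⁻¹ * w⁻¹ ∈ 𝐙 3 := hcomm t htW w hw
  have h1 := ruW_comm (Subgroup.inv_mem _ hw) hk'
  have hc1 : c = 1 := by
    have e1 : c = w * ((t * w * t⁻¹ * w⁻¹) * w⁻¹) * (t * w * t⁻¹ * w⁻¹)⁻¹ := by
      rw [hc]; group
    rw [e1, h1]
    group
  apply hcZ2
  rw [hc1]
  exact Subgroup.one_mem _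

/-- squares of `w⁻¹ (t w t⁻¹)` lie in `Z₂` for `t ∈ L₂` -/
theorem ru_sq (hcomm : ∀ x ∈ 𝐖, ∀ y ∈ 𝐖, x * y * x⁻¹ * y⁻¹ ∈ 𝐙 3)
    (hsq : ∀ x ∈ 𝐖, x * x ∈ 𝐙 3) (hel : ∀ f ∈ 𝐙 3, f * f = 1) {a3 : T} (hZ3 : ∀ f ∈ 𝐙 3, f ∈ 𝐙 2 ∨ f * a3⁻¹ ∈ 𝐙 2)
    {t w : T} (ht : t ∈ ruL2 T) (hw : w ∈ 𝐖) :
    (w⁻¹ * (t * w * t⁻¹)) * (w⁻¹ * (t * w * t⁻¹)) ∈ 𝐙 2 := by
  have hw' : t * w * t⁻¹ ∈ 𝐖 := ruW_conj_mem hw t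
  have hc := ru_star hcomm hel hZ3 ht hw
  have hc3 : w * (t * w * t⁻¹) * w⁻¹ * (t * w * t⁻¹)⁻¹ ∈ 𝐙 3 :=
    Subgroup.upperCentralSeries_mono T (by norm_num) hc
  have hww : w * w ∈ 𝐙 3 := hsq w hw
  have hn : t * (w * w) * t⁻¹ * (w * w)⁻¹ ∈ 𝐙 2 := ucs_comm_mem' hww t
  have hn3 : t * (w * w) * t⁻¹ * (w * w)⁻¹ ∈ 𝐙 3 :=
    Subgroup.upperCentralSeries_mono T (by norm_num) hn
  -- y y = w⁻¹ w⁻¹ c (n (w w)) where everything central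
  have e : (w⁻¹ * (t * w * t⁻¹)) * (w⁻¹ * (t * w * t⁻¹)) =
      w⁻¹ * w⁻¹ * ((w * (t * w * t⁻¹) * w⁻¹ * (t * w * t⁻¹)⁻¹) *
        ((t * (w * w) * t⁻¹ * (w * w)⁻¹) * (w * w))) := by group
  have h1 := ruW_comm (Subgroup.inv_mem _ hw) hc3
  have h2 := ruW_comm (Subgroup.inv_mem _ hw) hn3
  rw [e]
  have e2 : w⁻¹ * w⁻¹ * ((w * (t * w * t⁻¹) * w⁻¹ * (t * w * t⁻¹)⁻¹) *
        ((t * (w * w) * t⁻¹ * (w * w)⁻¹) * (w * w))) =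
      w⁻¹ * (w⁻¹ * (w * (t * w * t⁻¹) * w⁻¹ * (t * w * t⁻¹)⁻¹)) *
        ((t * (w * w) * t⁻¹ * (w * w)⁻¹) * (w * w)) := by group
  rw [e2, ← h1]
  have e3 : w⁻¹ * ((w * (t * w * t⁻¹) * w⁻¹ * (t * w * t⁻¹)⁻¹) * w⁻¹) *
        ((t * (w * w) * t⁻¹ * (w * w)⁻¹) * (w * w)) =
      (w⁻¹ * (w * (t * w * t⁻¹) * w⁻¹ * (t * w * t⁻¹)⁻¹)) * (w⁻¹ *
        (t * (w * w) * t⁻¹ * (w * w)⁻¹)) * (w * w) := by group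
  rw [e3, ← h1, ← h2]
  have e4 : (w * (t * w * t⁻¹) * w⁻¹ * (t * w * t⁻¹)⁻¹) * w⁻¹ *
      ((t * (w * w) * t⁻¹ * (w * w)⁻¹) * w⁻¹) * (w * w) =
      (w * (t * w * t⁻¹) * w⁻¹ * (t * w * t⁻¹)⁻¹) * (w⁻¹ *
      (t * (w * w) * t⁻¹ * (w * w)⁻¹)) * w := by group
  rw [e4, ← h2]
  have e5 : (w * (t * w * t⁻¹) * w⁻¹ * (t * w * t⁻¹)⁻¹) *
      ((t * (w * w) * t⁻¹ * (w * w)⁻¹) * w⁻¹) * w =
      (w * (t * w * t⁻¹) * w⁻¹ * (t * w * t⁻¹)⁻¹) * (t * (w * w) * t⁻¹ * (w * w)⁻¹) := by group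
  rw [e5]
  exact Subgroup.mul_mem _ hc hn

/-- adjointness: if `y⁻¹ t⁻¹ y t` centralizes `W`, then `w⁻¹ (t w t⁻¹)` commutes with `y`
modulo `Z₂` -/
theorem ru_adj (hcomm : ∀ x ∈ 𝐖, ∀ y ∈ 𝐖, x * y * x⁻¹ * y⁻¹ ∈ 𝐙 3) {t y w : T} (hy : y ∈ 𝐖) (hw : w ∈ 𝐖)
    (hk : ∀ x ∈ 𝐖, x * (y⁻¹ * t⁻¹ * y * t) = (y⁻¹ * t⁻¹ * y * t) * x) :
    (w⁻¹ * (t * w * t⁻¹)) * y * (w⁻¹ * (t * w * t⁻¹))⁻¹ * y⁻¹ ∈ 𝐙 2 := by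
  have hf : w * y * w⁻¹ * y⁻¹ ∈ 𝐙 3 := hcomm w hw y hy
  have hn : t * (w * y * w⁻¹ * y⁻¹) * t⁻¹ * (w * y * w⁻¹ * y⁻¹)⁻¹ ∈ 𝐙 2 := ucs_comm_mem' hf t
  have hn3 := Subgroup.upperCentralSeries_mono T (by norm_num : 2 ≤ 3) hn
  have h1 := hk w⁻¹ (Subgroup.inv_mem _ hw)
  -- comm(t w t⁻¹, y) = t f t⁻¹
  have e2 : (t * w * t⁻¹) * y * (t * w * t⁻¹)⁻¹ * y⁻¹ = t * (w * y * w⁻¹ * y⁻¹) * t⁻¹ := by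
    have e3 : (t * w * t⁻¹) * y * (t * w * t⁻¹)⁻¹ * y⁻¹ =
        t * (w * y * ((y⁻¹ * t⁻¹ * y * t) * w⁻¹) * (y⁻¹ * t⁻¹ * y * t)⁻¹ * y⁻¹) * t⁻¹ := by group
    rw [e3, ← h1]
    group
  have e1 : (w⁻¹ * (t * w * t⁻¹)) * y * (w⁻¹ * (t * w * t⁻¹))⁻¹ * y⁻¹ =
      w⁻¹ * (((t * w * t⁻¹) * y * (t * w * t⁻¹)⁻¹ * y⁻¹) * (w * y * w⁻¹ * y⁻¹)⁻¹) * w := by group
  rw [e1, e2]
  have h2 := ruW_comm hw hn3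
  have e4 : w⁻¹ * (t * (w * y * w⁻¹ * y⁻¹) * t⁻¹ * (w * y * w⁻¹ * y⁻¹)⁻¹) * w =
      w⁻¹ * ((t * (w * y * w⁻¹ * y⁻¹) * t⁻¹ * (w * y * w⁻¹ * y⁻¹)⁻¹) * w) := by group
  rw [e4, h2]
  have e5 : w⁻¹ * (w * (t * (w * y * w⁻¹ * y⁻¹) * t⁻¹ * (w * y * w⁻¹ * y⁻¹)⁻¹)) =
      t * (w * y * w⁻¹ * y⁻¹) * t⁻¹ * (w * y * w⁻¹ * y⁻¹)⁻¹ := by group
  rw [e5]
  exact hn

end

end Cfsg.Agent.Lib.Helper53
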