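import Mathlib
import Cfsg.Agent.Lib.Helper53.RuFirst

set_option autoImplicit false
set_option linter.style.haveILetI false
set_option linter.unnecessarySimpa false
set_option linter.unusedVariables false
set_option linter.unusedSectionVars false

/-!
# Ru-type 2-groups: `W' = Φ(W) = Z₃` is elementary abelian
-/

namespace Cfsg.Agent.Lib.Helper53

open scoped commutatorElement

section

variable {T : Type*} [Group T] [Finite T]

local notation "𝐙" => Subgroup.upperCentralSeries T

/-- the commutator subgroup of `W` equals `Z₃` -/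
theorem ru_commutator (hT : IsPGroup 2 T)
    (c1 : Nat.card ↥(𝐙 1) = 2) (c2 : Nat.card ↥(𝐙 2) = 4) (c3 : Nat.card ↥(𝐙 3) = 8)
    (hfr : (frattini ↥(Subgroup.centralizer (𝐙 3 : Set T))).map
        (Subgroup.centralizer (𝐙 3 : Set T)).subtype = 𝐙 3)
    (hd : ∀ U : Subgroup ↥(Subgroup.centralizer (𝐙 3 : Set T)), U.index ≤ 16 →
      frattini ↥(Subgroup.centralizer (𝐙 3 : Set T)) ≤ U) :
    (commutator ↥(Subgroup.centralizer (𝐙 3 : Set T))).map
        (Subgroup.centralizer (𝐙 3 : Set T)).subtype = 𝐙 3 := by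
  classical
  haveI : Fact (Nat.Prime 2) := ⟨Nat.prime_two⟩
  set W := Subgroup.centralizer (𝐙 3 : Set T) with hWdef
  haveI hWn : W.Normal := by
    rw [hWdef]; infer_instance
  have hWp : IsPGroup 2 ↥W := hT.to_subgroup W
  have hcf : commutator ↥W ≤ frattini ↥W := Cfsg.Agent.Lib.Helper2.commutator_le_frattini hWp
  set D := (commutator ↥W).map W.subtype with hDdef
  haveI hDn : D.Normal := by
    rw [hDdef]
    exact ConjAct.normal_of_characteristic_of_normal
  have hDle : D ≤ 𝐙 3 := by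
    rw [← hfr]
    exact Subgroup.map_mono hcf
  obtain ⟨j, hj⟩ := IsPGroup.iff_card.mp (hT.to_subgroup D)
  by_cases hj3 : 3 ≤ j
  · apply Subgroup.eq_of_le_of_card_ge hDle
    rw [c3, hj]
    have := Nat.pow_le_pow_right (by norm_num : 0 < 2) hj3
    simpa using this
  exfalso
  have hj2 : j ≤ 2 := by omega
  have hD2 : D ≤ 𝐙 2 := by
    apply normal_le_ucs_of_card_le hT D 2
    rw [hj]
    exact Nat.pow_le_pow_right (by norm_num) hj2
  set N' := (𝐙 2).subgroupOf W with hN'def
  haveI hN'n : N'.Normal := by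
    rw [hN'def]; infer_instance
  have hcommN : ∀ x y : ↥W, x * y * x⁻¹ * y⁻¹ ∈ N' := by
    intro x y
    rw [hN'def, Subgroup.mem_subgroupOf]
    apply hD2
    refine ⟨x * y * x⁻¹ * y⁻¹, ?_, rfl⟩
    have := Subgroup.commutator_mem_commutator (Subgroup.mem_top x) (Subgroup.mem_top y)
    rwa [commutatorElement_def] at this
  -- squares formula
  have hsqform : ∀ x y : ↥W, (x * x) * (y * y) ∈ N' → (x * y) * (x * y) ∈ N' := by
    intro x y hxy
    have h1 : y⁻¹ * (y⁻¹ * x⁻¹ * y⁻¹⁻¹ * x⁻¹⁻¹) * y⁻¹⁻¹ ∈ N' :=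
      hN'n.conj_mem _ (hcommN y⁻¹ x⁻¹) y⁻¹
    have e : (x * y) * (x * y) = (x * x) * (y * y) * (y⁻¹ * (y⁻¹ * x⁻¹ * y⁻¹⁻¹ * x⁻¹⁻¹) * y⁻¹⁻¹) := by
      group
    rw [e]
    exact N'.mul_mem hxy h1
  let M : Subgroup ↥W :=
    { carrier := {w | w * w ∈ N'}
      one_mem' := by
        show (1 : ↥W) * 1 ∈ N'
        rw [one_mul]; exact N'.one_mem
      mul_mem' := fun {x y} hx hy => hsqform x y (N'.mul_mem hx hy)
      inv_mem' := by
        intro x hx
        show x⁻¹ * x⁻¹ ∈ N'
        have : x⁻¹ * x⁻¹ = (x * x)⁻¹ := by group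
        rw [this]
        exact N'.inv_mem hx }
  have hMmem : ∀ w : ↥W, w ∈ M ↔ w * w ∈ N' := fun w => Iff.rfl
  obtain ⟨a3, ha3, ha3n, hZ3⟩ := exists_coset_rep (𝐙 3) (𝐙 2)
    (Subgroup.upperCentralSeries_mono T (by norm_num)) (by rw [c2, c3])
  have hsqF : ∀ w : ↥W, ((w * w : ↥W) : T) ∈ 𝐙 3 := by
    intro w
    rw [← hfr]
    refine ⟨w * w, ?_, rfl⟩
    have := Cfsg.Agent.Lib.Helper2.pow_mem_frattini hWp w
    rwa [pow_two] at this
  have hMidx : M.index ≤ 8 := by
    have h1 : M.relIndex ⊤ ≤ Nat.card Bool := by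
      apply relIndex_le_of_fun ⊤ M (fun w => decide (w * w ∈ N'))
      intro a _ a' _ h
      have h2 : a * a ∈ N' ↔ a' * a' ∈ N' := by simpa using h
      rw [hMmem]
      have h3 : (a⁻¹ * a⁻¹) * (a' * a') ∈ N' := by
        have e0 : a⁻¹ * a⁻¹ = (a * a)⁻¹ := by group
        rw [e0]
        by_cases ha : a * a ∈ N'
        · exact N'.mul_mem (N'.inv_mem ha) (h2.mp ha)
        · have ha' : a' * a' ∉ N' := fun h => ha (h2.mpr h)
          rw [hN'def, Subgroup.mem_subgroupOf] at ha ha' ⊢
          have q1 := (hZ3 _ (hsqF a)).resolve_left ha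
          have q2 := (hZ3 _ (hsqF a')).resolve_left ha'
          have e : (((a * a)⁻¹ * (a' * a') : ↥W) : T) =
              a3⁻¹ * ((((a * a : ↥W) : T) * a3⁻¹)⁻¹ * (((a' * a' : ↥W) : T) * a3⁻¹)) * a3⁻¹⁻¹ := by
            simp only [Subgroup.coe_mul, Subgroup.coe_inv]
            group
          rw [e]
          exact (inferInstance : (𝐙 2).Normal).conj_mem _
            (Subgroup.mul_mem _ (Subgroup.inv_mem _ q1) q2) a3⁻¹
      exact hsqform a⁻¹ a' h3
    rw [Subgroup.relIndex_top_right] at h1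
    have : Nat.card Bool = 2 := by simp
    omega
  have hengine := frattini_le_of_elementary_section hWp hd M N' hMidx
    (fun x hx => (hMmem x).mp hx) (fun x _ y _ => hcommN x y)
  -- so Φ(W) ≤ Z₂, contradiction with orders
  have h5 : (frattini ↥W).map W.subtype ≤ 𝐙 2 := by
    rintro _ ⟨f, hf, rfl⟩
    have := hengine hf
    rwa [hN'def, Subgroup.mem_subgroupOf] at this
  rw [hfr] at h5
  have := Subgroup.card_le_of_le h5
  omega

/-- in a group whose Frattini subgroup is central, every element of the derived subgroup of a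
2-group squares to one -/
theorem commutator_sq_eq_one {W : Type*} [Group W] [Finite W] (hW : IsPGroup 2 W)
    (hZ : frattini W ≤ Subgroup.center W) : ∀ d ∈ commutator W, d * d = 1 := by
  haveI : Fact (Nat.Prime 2) := ⟨Nat.prime_two⟩
  have hcf : commutator W ≤ frattini W := Cfsg.Agent.Lib.Helper2.commutator_le_frattini hW
  have hcen : ∀ d ∈ commutator W, ∀ x : W, x * d = d * x := by
    intro d hd x
    have := hZ (hcf hd)
    rw [Subgroup.mem_center_iff] at this
    exact this x
  intro d hd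
  have hd' := hd
  rw [commutator_eq_closure] at hd'
  induction hd' using Subgroup.closure_induction with
  | mem c hc =>
    obtain ⟨x, y, rfl⟩ := hc
    have hxx : x * x ∈ Subgroup.center W := by
      apply hZ
      have := Cfsg.Agent.Lib.Helper2.pow_mem_frattini hW x
      rwa [pow_two] at this
    rw [Subgroup.mem_center_iff] at hxx
    have h1 := hcen ⁅x, y⁆ (Subgroup.commutator_mem_commutator (Subgroup.mem_top x)
      (Subgroup.mem_top y)) x
    have h2 := hxx y
    rw [commutatorElement_def] at h1 ⊢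
    calc x * y * x⁻¹ * y⁻¹ * (x * y * x⁻¹ * y⁻¹)
        = (x * y * x⁻¹ * y⁻¹ * x) * (y * x⁻¹ * y⁻¹) := by group
      _ = (x * (x * y * x⁻¹ * y⁻¹)) * (y * x⁻¹ * y⁻¹) := by rw [h1]
      _ = (x * x * y) * (x * x)⁻¹ * y⁻¹ := by group
      _ = (y * (x * x)) * (x * x)⁻¹ * y⁻¹ := by rw [h2]
      _ = 1 := by group
  | one => simp
  | mul a b ha hb iha ihb =>
    have ha' : a ∈ commutator W := by rw [commutator_eq_closure]; exact ha
    have hb' : b ∈ commutator W := by rw [commutator_eq_closure]; exact hb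
    have h1 := hcen a ha' b
    calc a * b * (a * b) = a * (b * a) * b := by group
      _ = a * (a * b) * b := by rw [h1]
      _ = (a * a) * (b * b) := by group
      _ = 1 := by rw [iha ha', ihb hb', one_mul]
  | inv a ha iha =>
    have ha' : a ∈ commutator W := by rw [commutator_eq_closure]; exact ha
    have : a⁻¹ * a⁻¹ = (a * a)⁻¹ := by group
    rw [this, iha ha', inv_one]

end

end Cfsg.Agent.Lib.Helper53
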