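import Mathlib
import Cfsg.Agent.Lib.Helper53.RuSecond
import Cfsg.Agent.Lib.Helper53.RuCalc
import Cfsg.Agent.Lib.Helper53.CenterMap

set_option autoImplicit false
set_option linter.style.haveILetI false
set_option linter.unnecessarySimpa false
set_option linter.unusedVariables false
set_option linter.unusedSectionVars false

/-!
# Ru-type 2-groups: the centre of `W` is `Z₃`
-/

namespace Cfsg.Agent.Lib.Helper53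

section gamma

variable {Γ : Type*} [Group Γ]

/-- the step maps of two elements commuting modulo `Wh` commute -/
theorem step_commute (Wh : Subgroup Γ) [hWn : Wh.Normal]
    (hc : ∀ a ∈ Wh, ∀ b ∈ Wh, a * b = b * a)
    (g h : Γ) (hgh : g * h * g⁻¹ * h⁻¹ ∈ Wh) (a : Γ) (ha : a ∈ Wh) :
    (a⁻¹ * (h * a * h⁻¹))⁻¹ * (g * (a⁻¹ * (h * a * h⁻¹)) * g⁻¹) =
      (a⁻¹ * (g * a * g⁻¹))⁻¹ * (h * (a⁻¹ * (g * a * g⁻¹)) * h⁻¹) := by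
  have hA1 : h * a⁻¹ * h⁻¹ ∈ Wh := hWn.conj_mem _ (Wh.inv_mem ha) h
  have hA3 : g * a⁻¹ * g⁻¹ ∈ Wh := hWn.conj_mem _ (Wh.inv_mem ha) g
  have hA4' : (h * g) * a * (h * g)⁻¹ ∈ Wh := hWn.conj_mem _ ha (h * g)
  have e4 : (g * h) * a * (g * h)⁻¹ = (h * g) * a * (h * g)⁻¹ := by
    have h1 := hc _ hgh _ hA4'
    calc (g * h) * a * (g * h)⁻¹
        = ((g * h * g⁻¹ * h⁻¹) * ((h * g) * a * (h * g)⁻¹)) * (g * h * g⁻¹ * h⁻¹)⁻¹ := by group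
      _ = (((h * g) * a * (h * g)⁻¹) * (g * h * g⁻¹ * h⁻¹)) * (g * h * g⁻¹ * h⁻¹)⁻¹ := by rw [h1]
      _ = _ := by group
  have c1 := hc _ hA1 _ ha
  have c2 := hc _ hA1 _ hA3
  have c3 := hc _ ha _ hA3
  calc (a⁻¹ * (h * a * h⁻¹))⁻¹ * (g * (a⁻¹ * (h * a * h⁻¹)) * g⁻¹)
      = (h * a⁻¹ * h⁻¹) * a * (g * a⁻¹ * g⁻¹) * ((g * h) * a * (g * h)⁻¹) := by group
    _ = (a * (h * a⁻¹ * h⁻¹)) * (g * a⁻¹ * g⁻¹) * ((h * g) * a * (h * g)⁻¹) := by rw [c1, e4]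
    _ = a * ((h * a⁻¹ * h⁻¹) * (g * a⁻¹ * g⁻¹)) * ((h * g) * a * (h * g)⁻¹) := by group
    _ = a * ((g * a⁻¹ * g⁻¹) * (h * a⁻¹ * h⁻¹)) * ((h * g) * a * (h * g)⁻¹) := by rw [c2]
    _ = (a * (g * a⁻¹ * g⁻¹)) * (h * a⁻¹ * h⁻¹) * ((h * g) * a * (h * g)⁻¹) := by group
    _ = ((g * a⁻¹ * g⁻¹) * a) * (h * a⁻¹ * h⁻¹) * ((h * g) * a * (h * g)⁻¹) := by rw [c3]
    _ = _ := by group

end gamma

section

variable {T : Type*} [Group T] [Finite T]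

local notation "𝐙" => Subgroup.upperCentralSeries T
local notation "𝐖" => Subgroup.centralizer (Subgroup.upperCentralSeries T 3 : Set T)

/-- commutators and squares of `W` lie in `Z₃` when `Φ(W) = Z₃` -/
theorem comm_sq_of_frattini (hT : IsPGroup 2 T)
    (hfr : (frattini ↥𝐖).map (𝐖).subtype = 𝐙 3) :
    (∀ x ∈ 𝐖, ∀ y ∈ 𝐖, x * y * x⁻¹ * y⁻¹ ∈ 𝐙 3) ∧ (∀ x ∈ 𝐖, x * x ∈ 𝐙 3) := by
  haveI : Fact (Nat.Prime 2) := ⟨Nat.prime_two⟩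
  have hWp : IsPGroup 2 ↥𝐖 := hT.to_subgroup _
  have hcf : commutator ↥𝐖 ≤ frattini ↥𝐖 := Cfsg.Agent.Lib.Helper2.commutator_le_frattini hWp
  constructor
  · intro x hx y hy
    rw [← hfr]
    refine ⟨(⟨x, hx⟩ : ↥𝐖) * ⟨y, hy⟩ * (⟨x, hx⟩ : ↥𝐖)⁻¹ * (⟨y, hy⟩ : ↥𝐖)⁻¹, ?_, rfl⟩
    apply hcf
    have := Subgroup.commutator_mem_commutator (Subgroup.mem_top (⟨x, hx⟩ : ↥𝐖))
      (Subgroup.mem_top (⟨y, hy⟩ : ↥𝐖))
    rwa [commutatorElement_def] at this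
  · intro x hx
    rw [← hfr]
    refine ⟨(⟨x, hx⟩ : ↥𝐖) * ⟨x, hx⟩, ?_, rfl⟩
    have := Cfsg.Agent.Lib.Helper2.pow_mem_frattini hWp (⟨x, hx⟩ : ↥𝐖)
    rwa [pow_two] at this

end

end Cfsg.Agent.Lib.Helper53
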