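import Mathlib
import Cfsg.Agent.Lib.Helper53.RuThird

set_option autoImplicit false
set_option linter.style.haveILetI false
set_option linter.unnecessarySimpa false
set_option linter.unusedVariables false
set_option linter.unusedSectionVars false

/-!
# Ru-type 2-groups: the centre of `W` is `Z₃`
-/

namespace Cfsg.Agent.Lib.Helper53

section

variable {T : Type*} [Group T] [Finite T]

local notation "𝐙" => Subgroup.upperCentralSeries T
local notation "𝐖" => Subgroup.centralizer (Subgroup.upperCentralSeries T 3 : Set T)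

set_option maxHeartbeats 1600000 in
/-- the contradiction from a central element of `W` in `Z₄ \ Z₃` -/
theorem ru_center_aux (hT : IsPGroup 2 T)
    (c1 : Nat.card ↥(𝐙 1) = 2) (c2 : Nat.card ↥(𝐙 2) = 4) (c3 : Nat.card ↥(𝐙 3) = 8)
    (c4 : Nat.card ↥(𝐙 4) = 16) (hWc : Nat.card ↥𝐖 = 2 ^ 11)
    (r2 : (ruL2 T).relIndex ⊤ = 2) (r1 : (ruL1 T).relIndex (ruL2 T) = 2)
    (r0 : (𝐖).relIndex (ruL1 T) = 2)
    (hfr : (frattini ↥𝐖).map (𝐖).subtype = 𝐙 3)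
    (hel : ∀ f ∈ 𝐙 3, f * f = 1)
    (hd : ∀ U : Subgroup ↥𝐖, U.index ≤ 16 → frattini ↥𝐖 ≤ U)
    (b : T) (hb4 : b ∈ 𝐙 4) (hb3 : b ∉ 𝐙 3) (hbW : b ∈ 𝐖) (hbc : ∀ h ∈ 𝐖, h * b = b * h) :
    False := by
  classical
  haveI : Fact (Nat.Prime 2) := ⟨Nat.prime_two⟩
  set W := 𝐖 with hWdef
  haveI hWn : W.Normal := by
    rw [hWdef]; infer_instance
  have hWp : IsPGroup 2 ↥W := hT.to_subgroup W
  obtain ⟨hcomm, hsq⟩ := comm_sq_of_frattini hT hfr
  have hZ3W : 𝐙 3 ≤ W := by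
    rw [← hfr]; exact Subgroup.map_subtype_le _
  have hZ34 : 𝐙 3 ≤ 𝐙 4 := Subgroup.upperCentralSeries_mono T (by norm_num)
  have hZ23 : 𝐙 2 ≤ 𝐙 3 := Subgroup.upperCentralSeries_mono T (by norm_num)
  -- coset descriptions
  obtain ⟨a3, ha3, ha3n, hZ3⟩ := exists_coset_rep (𝐙 3) (𝐙 2) hZ23 (by rw [c2, c3])
  have hZ4 : ∀ n ∈ 𝐙 4, n ∈ 𝐙 3 ∨ n * b⁻¹ ∈ 𝐙 3 := by
    obtain ⟨g, hg, hgn, hgen⟩ := exists_coset_rep (𝐙 4) (𝐙 3) hZ34 (by rw [c3, c4])
    intro n hn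
    by_cases hn3 : n ∈ 𝐙 3
    · exact Or.inl hn3
    · right
      have h1 := (hgen n hn).resolve_left hn3
      have h2 := (hgen b hb4).resolve_left hb3
      have e : n * b⁻¹ = (n * g⁻¹) * (b * g⁻¹)⁻¹ := by group
      rw [e]
      exact Subgroup.mul_mem _ h1 (Subgroup.inv_mem _ h2)
  have hZ4W : ∀ n ∈ 𝐙 4, ∀ x ∈ W, x * n = n * x := by
    intro n hn x hx
    rcases hZ4 n hn with h1 | h1
    · exact (ruW_comm hx h1).symm
    · have h2 := ruW_comm hx h1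
      have h3 := hbc x hx
      calc x * n = x * ((n * b⁻¹) * b) := by group
        _ = (x * (n * b⁻¹)) * b := by group
        _ = ((n * b⁻¹) * x) * b := by rw [h2]
        _ = (n * b⁻¹) * (x * b) := by group
        _ = (n * b⁻¹) * (b * x) := by rw [h3]
        _ = n * x := by group
  -- generators of the chain
  have hWL1 : W ≤ ruL1 T := centralizer_le_ruL1
  obtain ⟨g0, hg0, hg0n, hgen0⟩ := exists_coset_rep (ruL1 T) W hWL1 (by
    rw [← relIndex_mul_card' (ruL1 T) W hWL1, r0])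
  obtain ⟨g1, hg1, hg1n, hgen1⟩ := exists_coset_rep (ruL2 T) (ruL1 T) ruL1_le_ruL2 (by
    rw [← relIndex_mul_card' (ruL2 T) (ruL1 T) ruL1_le_ruL2, r1])
  obtain ⟨g2, _, hg2n, hgen2⟩ := exists_coset_rep ⊤ (ruL2 T) le_top (by
    rw [← relIndex_mul_card' ⊤ (ruL2 T) le_top, r2])
  have hk1 : Nat.card ↥(𝐙 (3 + 1)) = 2 * Nat.card ↥(𝐙 3) := by
    show Nat.card ↥(𝐙 4) = _
    rw [c4, c3]
  have hchain := chain_T hT 3 W hWL1 hk1 hcomm hsq g0 g1 g2 hg0 hgen0 hg1 hgen1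
    (fun a => hgen2 a (Subgroup.mem_top a))
  set π := QuotientGroup.mk' (𝐙 3) with hπ
  have hker : ∀ x : T, π x = 1 ↔ x ∈ 𝐙 3 := fun x => QuotientGroup.eq_one_iff x
  have hπeq : ∀ x y : T, π x = π y ↔ x⁻¹ * y ∈ 𝐙 3 := fun x y => QuotientGroup.eq
  have hWh : Nat.card ↥(W.map π) = 2 ^ 8 := by
    have := card_eq_card_map_mul 3 W hZ3W
    rw [hWc, c3] at this
    have h2 : (2 : ℕ) ^ 11 = 2 ^ 8 * 8 := by norm_num
    rw [h2] at this
    exact (Nat.eq_of_mul_eq_mul_right (by norm_num) this).symm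
  obtain ⟨hB1, hB2, S0, S1, S2⟩ := hchain.2 hWh
  set Wh := W.map π with hWhdef
  set L1h := (ruL1 T).map π with hL1h
  set L2h := (ruL2 T).map π with hL2h
  have hπs : Function.Surjective π := QuotientGroup.mk'_surjective _
  haveI hWhn : Wh.Normal := Subgroup.Normal.map hWn π hπs
  have hcWh : ∀ a ∈ Wh, ∀ b ∈ Wh, a * b = b * a := by
    rintro _ ⟨x, hx, rfl⟩ _ ⟨y, hy, rfl⟩
    have := (hker _).mpr (hcomm x hx y hy)
    rw [map_mul, map_mul, map_mul, map_inv, map_inv] at this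
    calc π x * π y = (π x * π y * (π x)⁻¹ * (π y)⁻¹) * (π y * π x) := by group
      _ = π y * π x := by rw [this, one_mul]
  have h2Wh : ∀ a ∈ Wh, a * a = 1 := by
    rintro _ ⟨x, hx, rfl⟩
    rw [← map_mul]
    exact (hker _).mpr (hsq x hx)
  -- π b is central
  have hπbc : ∀ y : T ⧸ 𝐙 3, y * π b = π b * y := by
    intro y
    obtain ⟨y, rfl⟩ := hπs y
    have h1 : b * y * b⁻¹ * y⁻¹ ∈ 𝐙 3 := ucs_comm_mem hb4 y
    have := (hker _).mpr h1
    rw [map_mul, map_mul, map_mul, map_inv, map_inv] at this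
    calc π y * π b = (π b * π y * (π b)⁻¹ * (π y)⁻¹)⁻¹ * (π b * π y) := by group
      _ = π b * π y := by rw [this, inv_one, one_mul]
  have hπb2 : π b ∈ Wh ⊓ Subgroup.centralizer (L2h : Set (T ⧸ 𝐙 3)) := by
    have h3 : π b ∈ Subgroup.centralizer (L2h : Set (T ⧸ 𝐙 3)) := by
      rw [Subgroup.mem_centralizer_iff]
      intro y _
      exact hπbc y
    exact ⟨Subgroup.mem_map_of_mem π hbW, h3⟩
  obtain ⟨a1, ha1, hbeq⟩ := S1 (π b) hπb2
  obtain ⟨a0, ha0, ha1eq⟩ := S0 a1 ha1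
  obtain ⟨v, hv, rfl⟩ := ha0
  -- the element u
  have hv' : g1 * v * g1⁻¹ ∈ W := hWn.conj_mem v hv g1
  set u := v⁻¹ * (g1 * v * g1⁻¹) with hu
  have huW : u ∈ W := W.mul_mem (W.inv_mem hv) hv'
  -- g1 g0 g1⁻¹ g0⁻¹ ∈ W
  have hgg : g1 * g0 * g1⁻¹ * g0⁻¹ ∈ W := by
    have h1 : g1 * g0 * g1⁻¹ ∈ ruL1 T := (ruL1_normal (T := T)).conj_mem g0 hg0 g1
    rcases hgen0 _ h1 with h2 | h2
    · exfalso
      apply hg0n
      have := hWn.conj_mem _ h2 g1⁻¹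
      simpa [mul_assoc] using this
    · exact h2
  have hgg' : π g1 * π g0 * (π g1)⁻¹ * (π g0)⁻¹ ∈ Wh := by
    rw [← map_mul, ← map_inv, ← map_mul, ← map_inv, ← map_mul]
    exact Subgroup.mem_map_of_mem π hgg
  -- key equation
  have hkey : π (u⁻¹ * (g0 * u * g0⁻¹)) = π b := by
    have h1 := step_commute Wh hcWh (π g1) (π g0) hgg' (π v) (Subgroup.mem_map_of_mem π hv)
    rw [hbeq, ha1eq, h1, hu]
    simp only [map_mul, map_inv]
  have hc0u4 : u⁻¹ * (g0 * u * g0⁻¹) ∈ 𝐙 4 := by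
    have h1 := (hπeq _ _).mp hkey.symm
    have h2 : u⁻¹ * (g0 * u * g0⁻¹) = b * (b⁻¹ * (u⁻¹ * (g0 * u * g0⁻¹))) := by group
    rw [h2]
    exact Subgroup.mul_mem _ hb4 (hZ34 h1)
  have hc0u3 : u⁻¹ * (g0 * u * g0⁻¹) ∉ 𝐙 3 := by
    intro h
    apply hb3
    have := (hker _).mpr h
    rw [hkey] at this
    exact (hker _).mp this
  -- the subgroup Y1
  set Y1 := W ⊓ (Subgroup.centralizer (L1h : Set (T ⧸ 𝐙 3))).comap π with hY1
  have hY1map : Y1.map π = Wh ⊓ Subgroup.centralizer (L1h : Set (T ⧸ 𝐙 3)) := by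
    ext x
    constructor
    · rintro ⟨y, ⟨hyW, hyc⟩, rfl⟩
      exact ⟨Subgroup.mem_map_of_mem π hyW, hyc⟩
    · rintro ⟨⟨y, hyW, rfl⟩, hyc⟩
      exact ⟨y, ⟨hyW, hyc⟩, rfl⟩
  have hZ3Y1 : 𝐙 3 ≤ Y1 := by
    intro f hf
    have h3 : f ∈ (Subgroup.centralizer (L1h : Set (T ⧸ 𝐙 3))).comap π := by
      rw [Subgroup.mem_comap, (hker f).mpr hf]
      exact Subgroup.one_mem _
    exact ⟨hZ3W hf, h3⟩
  have hY1card : Nat.card ↥Y1 = 128 := by
    rw [card_eq_card_map_mul 3 Y1 hZ3Y1, hY1map, hB1, c3]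
  have hg0L1h : π g0 ∈ L1h := Subgroup.mem_map_of_mem π hg0
  -- g0 * g0 ∈ W
  have hg0sq : g0 * g0 ∈ W := by
    rcases hgen0 (g0 * g0) ((ruL1 T).mul_mem hg0 hg0) with h | h
    · exact h
    · exfalso; apply hg0n; simpa using h
  -- the generating set
  set S : Set T := {x | ∃ w ∈ W, x = w⁻¹ * (g0 * w * g0⁻¹)} ∪ {u} ∪ (𝐙 3 : Set T) with hS
  have hS1W : ∀ w ∈ W, w⁻¹ * (g0 * w * g0⁻¹) ∈ W := fun w hw =>
    W.mul_mem (W.inv_mem hw) (hWn.conj_mem w hw g0)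
  have hSW : S ⊆ W := by
    rintro x ((⟨w, hw, rfl⟩ | hx) | hx)
    · exact hS1W w hw
    · rw [Set.mem_singleton_iff] at hx; rw [hx]; exact huW
    · exact hZ3W hx
  set M := Subgroup.closure S with hM
  have hMW : M ≤ W := (Subgroup.closure_le W).mpr hSW
  have hY1M : Y1 ≤ M := by
    intro y hy
    have h1 : π y ∈ Wh ⊓ Subgroup.centralizer (L1h : Set (T ⧸ 𝐙 3)) := by
      rw [← hY1map]; exact Subgroup.mem_map_of_mem π hy
    obtain ⟨a, ha, hya⟩ := S0 (π y) h1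
    obtain ⟨w, hw, rfl⟩ := ha
    have h2 : π y = π (w⁻¹ * (g0 * w * g0⁻¹)) := by
      rw [hya]; simp only [map_mul, map_inv]
    have h3 := (hπeq _ _).mp h2.symm
    have e : y = (w⁻¹ * (g0 * w * g0⁻¹)) * ((w⁻¹ * (g0 * w * g0⁻¹))⁻¹ * y) := by group
    rw [e]
    apply M.mul_mem
    · apply Subgroup.subset_closure
      exact Or.inl (Or.inl ⟨w, hw, rfl⟩)
    · apply Subgroup.subset_closure
      exact Or.inr h3
  have huM : u ∈ M := Subgroup.subset_closure (Or.inl (Or.inr rfl))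
  have huY1 : u ∉ Y1 := by
    intro h
    have h1 : π u ∈ Subgroup.centralizer (L1h : Set (T ⧸ 𝐙 3)) := h.2
    rw [Subgroup.mem_centralizer_iff] at h1
    have h2 := h1 _ hg0L1h
    apply hc0u3
    rw [← hker, map_mul, map_mul, map_mul, map_inv, map_inv, h2]
    group
  have hMcard : 256 ≤ Nat.card ↥M := by
    obtain ⟨m, hm⟩ := Subgroup.card_dvd_of_le hY1M
    have hm0 : m ≠ 0 := by
      rintro rfl
      rw [mul_zero] at hm
      exact Nat.card_pos.ne' hm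
    have hm1 : m ≠ 1 := by
      rintro rfl
      rw [mul_one] at hm
      have := Subgroup.eq_of_le_of_card_ge hY1M hm.le
      apply huY1
      rw [this]; exact huM
    rw [hm, hY1card]
    have : 2 ≤ m := by omega
    omega
  have hMidx : (M.subgroupOf W).index ≤ 8 := by
    have h1 := Subgroup.index_mul_card (M.subgroupOf W)
    have h2 : Nat.card ↥(M.subgroupOf W) = Nat.card ↥M :=
      Nat.card_congr (Subgroup.subgroupOfEquivOfLe hMW).toEquiv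
    rw [h2, hWc] at h1
    by_contra hcon
    push Not at hcon
    have := Nat.mul_le_mul hcon hMcard
    have h3 : (2 : ℕ) ^ 11 = 2048 := by norm_num
    omega
  -- elementary abelian modulo Z₂
  have hQ : ∀ y ∈ W, y⁻¹ * (g0 * y * g0⁻¹) ∈ 𝐙 4 → ∀ w ∈ W,
      (w⁻¹ * (g0 * w * g0⁻¹)) * y * (w⁻¹ * (g0 * w * g0⁻¹))⁻¹ * y⁻¹ ∈ 𝐙 2 := by
    intro y hy hy4 w hw
    apply ru_adj hcomm hy hw
    intro x hx
    have h1 : y⁻¹ * g0⁻¹ * y * g0 ∈ 𝐙 4 := by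
      have := (inferInstance : (𝐙 4).Normal).conj_mem _ (Subgroup.inv_mem _ hy4) g0⁻¹
      have e : g0⁻¹ * (y⁻¹ * (g0 * y * g0⁻¹))⁻¹ * g0⁻¹⁻¹ = y⁻¹ * g0⁻¹ * y * g0 := by group
      rwa [e] at this
    exact hZ4W _ h1 x hx
  have hQ1 : ∀ w ∈ W, (w⁻¹ * (g0 * w * g0⁻¹))⁻¹ * (g0 * (w⁻¹ * (g0 * w * g0⁻¹)) * g0⁻¹) ∈ 𝐙 4 := by
    intro w hw
    apply hZ34
    rw [← hker]
    have hg2 : ∀ a ∈ Wh, π g0 * π g0 * a = a * (π g0 * π g0) := by
      intro a ha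
      have : π g0 * π g0 ∈ Wh := by
        rw [← map_mul]; exact Subgroup.mem_map_of_mem π hg0sq
      exact hcWh _ this _ ha
    have h1 := step_range Wh hcWh h2Wh (π g0) (fun a ha => hWhn.conj_mem a ha (π g0)) hg2
      (π w) (Subgroup.mem_map_of_mem π hw)
    have h2 : (π w)⁻¹ * (π g0 * π w * (π g0)⁻¹) ∈
        Subgroup.centralizer ({π g0} : Set (T ⧸ 𝐙 3)) := h1.2
    rw [Subgroup.mem_centralizer_singleton_iff] at h2
    simp only [map_mul, map_inv]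
    rw [← h2]
    group
  have hsqS : ∀ s ∈ S, s * s ∈ 𝐙 2 := by
    rintro s ((⟨w, hw, rfl⟩ | hs) | hs)
    · exact ru_sq hcomm hsq hel hZ3 (ruL1_le_ruL2 hg0) hw
    · rw [Set.mem_singleton_iff] at hs
      rw [hs, hu]
      exact ru_sq hcomm hsq hel hZ3 hg1 hv
    · rw [hel s hs]
      exact Subgroup.one_mem _
  have hcommS : ∀ s ∈ S, ∀ s' ∈ S, s * s' * s⁻¹ * s'⁻¹ ∈ 𝐙 2 := by
    have hcase3 : ∀ s ∈ W, ∀ s' ∈ (𝐙 3 : Set T), s * s' * s⁻¹ * s'⁻¹ ∈ 𝐙 2 := by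
      intro s hs s' hs'
      have := ruW_comm hs hs'
      have e : s * s' * s⁻¹ * s'⁻¹ = 1 := by
        rw [← this]; group
      rw [e]; exact Subgroup.one_mem _
    have hcase3' : ∀ s ∈ (𝐙 3 : Set T), ∀ s' ∈ W, s * s' * s⁻¹ * s'⁻¹ ∈ 𝐙 2 := by
      intro s hs s' hs'
      have := ruW_comm hs' hs
      have e : s * s' * s⁻¹ * s'⁻¹ = 1 := by
        rw [this]; group
      rw [e]; exact Subgroup.one_mem _
    rintro s ((⟨w, hw, rfl⟩ | hs) | hs) s' hs'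
    · rcases hs' with (⟨w', hw', rfl⟩ | hs') | hs'
      · exact hQ _ (hS1W w' hw') (hQ1 w' hw') w hw
      · rw [Set.mem_singleton_iff] at hs'
        rw [hs']
        exact hQ u huW hc0u4 w hw
      · exact hcase3 _ (hS1W w hw) _ hs'
    · rw [Set.mem_singleton_iff] at hs
      rw [hs]
      rcases hs' with (⟨w', hw', rfl⟩ | hs') | hs'
      · have h1 := hQ u huW hc0u4 w' hw'
        have := Subgroup.inv_mem _ h1
        have e : ((w'⁻¹ * (g0 * w' * g0⁻¹)) * u * (w'⁻¹ * (g0 * w' * g0⁻¹))⁻¹ * u⁻¹)⁻¹ =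
            u * (w'⁻¹ * (g0 * w' * g0⁻¹)) * u⁻¹ * (w'⁻¹ * (g0 * w' * g0⁻¹))⁻¹ := by group
        rwa [e] at this
      · rw [Set.mem_singleton_iff] at hs'
        rw [hs']
        have e : u * u * u⁻¹ * u⁻¹ = 1 := by group
        rw [e]; exact Subgroup.one_mem _
      · exact hcase3 _ huW _ hs'
    · exact hcase3' _ hs _ (hSW hs')
  obtain ⟨hMsq, hMcomm⟩ := closure_elementary_mod (𝐙 2) S hsqS hcommS
  -- the engine
  have hengine := frattini_le_of_elementary_section hWp hd (M.subgroupOf W)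
    ((𝐙 2).subgroupOf W) hMidx
    (fun x hx => by
      rw [Subgroup.mem_subgroupOf] at hx ⊢
      simpa using hMsq _ hx)
    (fun x hx y hy => by
      rw [Subgroup.mem_subgroupOf] at hx hy ⊢
      simpa using hMcomm _ hx _ hy)
  have h5 : (frattini ↥W).map W.subtype ≤ 𝐙 2 := by
    rintro _ ⟨f, hf, rfl⟩
    have := hengine hf
    rwa [Subgroup.mem_subgroupOf] at this
  rw [hfr] at h5
  have := Subgroup.card_le_of_le h5
  omega

/-- the centre of `W` has order 8 -/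
theorem ru_center (hT : IsPGroup 2 T)
    (c1 : Nat.card ↥(𝐙 1) = 2) (c2 : Nat.card ↥(𝐙 2) = 4) (c3 : Nat.card ↥(𝐙 3) = 8)
    (c4 : Nat.card ↥(𝐙 4) = 16) (hWc : Nat.card ↥𝐖 = 2 ^ 11)
    (r2 : (ruL2 T).relIndex ⊤ = 2) (r1 : (ruL1 T).relIndex (ruL2 T) = 2)
    (r0 : (𝐖).relIndex (ruL1 T) = 2)
    (hfr : (frattini ↥𝐖).map (𝐖).subtype = 𝐙 3)
    (hel : ∀ f ∈ 𝐙 3, f * f = 1)
    (hd : ∀ U : Subgroup ↥𝐖, U.index ≤ 16 → frattini ↥𝐖 ≤ U) :
    Nat.card ↥(Subgroup.center ↥𝐖) = 8 := by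
  set W := 𝐖 with hWdef
  haveI hWn : W.Normal := by
    rw [hWdef]; infer_instance
  set CW := (Subgroup.center ↥W).map W.subtype with hCW
  haveI hCWn : CW.Normal := by
    rw [hCW]
    exact ConjAct.normal_of_characteristic_of_normal
  have hcard : Nat.card ↥CW = Nat.card ↥(Subgroup.center ↥W) :=
    Subgroup.card_map_of_injective (Subgroup.subtype_injective W)
  have hZ3W : 𝐙 3 ≤ W := by
    rw [← hfr]; exact Subgroup.map_subtype_le _
  have hZ3le : 𝐙 3 ≤ CW := by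
    intro f hf
    rw [hCW, mem_map_center]
    exact ⟨hZ3W hf, fun h hh => (ruW_comm hh hf).symm⟩
  by_cases hle : CW ≤ 𝐙 3
  · have := le_antisymm hle hZ3le
    rw [← hcard, this, c3]
  · exfalso
    obtain ⟨b, hbC, hb4, hb3⟩ := exists_mem_ucs_succ_not_mem hT CW 3 hle
    rw [hCW, mem_map_center] at hbC
    exact ru_center_aux hT c1 c2 c3 c4 hWc r2 r1 r0 hfr hel hd b hb4 hb3 hbC.1 hbC.2

end

end Cfsg.Agent.Lib.Helper53
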