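import Mathlib
import Cfsg.Agent.Lib.Helper53.UniqInv2

/-!
A 2-group with several central quotients having a unique involution splits as
(elementary abelian) × (generalized quaternion).
-/

set_option autoImplicit false

namespace Cfsg.Agent.Lib.Helper53

section
variable {G : Type*} [Group G]

theorem not_commute_of_index_two {a b : G} (hidx : (Subgroup.zpowers a).index = 2)
    (hb : b ∉ Subgroup.zpowers a) (hna : ∃ x y : G, x * y ≠ y * x) : a * b ≠ b * a := by
  intro hab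
  obtain ⟨x, y, hxy⟩ := hna
  apply hxy
  have hform : ∀ g : G, ∃ m ∈ Subgroup.zpowers a, g = m ∨ g = m * b := by
    intro g
    by_cases hg : g ∈ Subgroup.zpowers a
    · exact ⟨g, hg, Or.inl rfl⟩
    · refine ⟨g * b⁻¹, ?_, Or.inr (by group)⟩
      have := (Subgroup.mul_mem_iff_of_index_two hidx (a := g) (b := b⁻¹)).2
        ⟨fun h => absurd h hg, fun h => absurd (by simpa using Subgroup.inv_mem _ h) hb⟩
      exact this
  have hmb : ∀ m ∈ Subgroup.zpowers a, Commute m b := by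
    intro m hm
    obtain ⟨i, rfl⟩ := Subgroup.mem_zpowers_iff.1 hm
    exact Commute.zpow_left (show Commute a b from hab) i
  obtain ⟨m₁, hm₁, h₁⟩ := hform x
  obtain ⟨m₂, hm₂, h₂⟩ := hform y
  have c12 : Commute m₁ m₂ := zpowers_comm hm₁ hm₂
  have c1 := hmb m₁ hm₁
  have c2 := hmb m₂ hm₂
  rcases h₁ with rfl | rfl <;> rcases h₂ with rfl | rfl
  · exact c12.eq
  · exact (c12.mul_right c1).eq
  · exact (c12.mul_left c2.symm).eq
  · exact ((c12.mul_left c2.symm).mul_right (c1.mul_left (Commute.refl b))).eq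

/-- A cyclic 2-group has at most one involution. -/
theorem zpowers_involution_unique (hG : IsPGroup 2 G) {a g h : G}
    (hg : g ∈ Subgroup.zpowers a) (hh : h ∈ Subgroup.zpowers a) (hgg : g * g = 1)
    (hhh : h * h = 1) (hg1 : g ≠ 1) (hh1 : h ≠ 1) : g = h := by
  have : Fact (Nat.Prime 2) := ⟨Nat.prime_two⟩
  obtain ⟨m, hm⟩ := (IsPGroup.iff_orderOf.1 hG) a
  have key : ∀ x ∈ Subgroup.zpowers a, x * x = 1 → x ≠ 1 →
      ∃ m', m = m' + 1 ∧ x = a ^ (2 ^ m') := by
    intro x hx hxx hx1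
    have hfin : IsOfFinOrder a := by
      rw [← orderOf_pos_iff, hm]; positivity
    rw [← hfin.mem_powers_iff_mem_zpowers] at hx
    obtain ⟨j, rfl⟩ := (Submonoid.mem_powers_iff _ _).1 hx
    have h2 : orderOf a ∣ 2 * j := by
      rw [orderOf_dvd_iff_pow_eq_one, two_mul, pow_add]; exact hxx
    have h1 : ¬ orderOf a ∣ j := by
      rw [orderOf_dvd_iff_pow_eq_one]; exact hx1
    rw [hm] at h1 h2
    have hm0 : m ≠ 0 := by
      rintro rfl
      exact h1 (by simp)
    obtain ⟨m', rfl⟩ : ∃ m', m = m' + 1 := ⟨m - 1, by omega⟩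
    refine ⟨m', rfl, ?_⟩
    rw [pow_succ, mul_comm] at h2
    have h3 : 2 ^ m' ∣ j := Nat.dvd_of_mul_dvd_mul_left (by norm_num) h2
    obtain ⟨l, rfl⟩ := h3
    have hl : Odd l := by
      rcases Nat.even_or_odd l with ⟨l', hl'⟩ | hl
      · exfalso
        apply h1
        rw [hl', pow_succ]
        exact ⟨l', by ring⟩
      · exact hl
    obtain ⟨l', rfl⟩ := hl
    have ht : (a ^ (2 ^ m')) ^ 2 = 1 := by
      rw [← pow_mul, ← pow_succ, ← hm, pow_orderOf_eq_one]
    rw [pow_mul, pow_succ, pow_mul, ht, one_pow, one_mul]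
  obtain ⟨m₁, hm₁, rfl⟩ := key g hg hgg hg1
  obtain ⟨m₂, hm₂, rfl⟩ := key h hh hhh hh1
  have : m₁ = m₂ := by omega
  rw [this]

end

section split
variable {S : Type*} [Group S] [Finite S]

/-- The splitting theorem. -/
theorem quaternion_times_elementary (hS : IsPGroup 2 S) {ι : Type*} [Nonempty ι]
    (D : ι → Subgroup S) [hDn : ∀ i, (D i).Normal]
    (h1 : ∀ i, D i ≤ Subgroup.center S)
    (h2 : ∀ i, ∀ x ∈ Subgroup.center S, x * x ∈ D i)
    (h3 : ∀ i, ∀ x ∈ Subgroup.center S, ∀ y ∈ Subgroup.center S, x ∉ D i → y ∉ D i →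
      x * y⁻¹ ∈ D i)
    (h4 : ∀ i, ∃ x ∈ Subgroup.center S, x ∉ D i)
    (h5 : ∀ x : S, (∀ i, x ∈ D i) → x = 1)
    (h6 : ∀ i, ¬ IsMulCommutative (S ⧸ D i) ∧ ∃! x : S ⧸ D i, orderOf x = 2) :
    ∃ E Q : Subgroup S, (∀ e ∈ E, ∀ q ∈ Q, e * q = q * e) ∧ E ⊓ Q = ⊥ ∧ E ⊔ Q = ⊤ ∧
      (∀ e ∈ E, e ∈ Subgroup.center S ∧ e * e = 1) ∧
      (∃ a ∈ Q, ∃ b ∈ Q, a * b ≠ b * a) ∧
      ∃ z₀ ∈ Q, z₀ ≠ 1 ∧ z₀ * z₀ = 1 ∧ ∀ t ∈ Q, t * t = 1 → t = 1 ∨ t = z₀ := by
  classical
  have : Fact (Nat.Prime 2) := ⟨Nat.prime_two⟩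
  obtain ⟨i₀⟩ := ‹Nonempty ι›
  -- data for each quotient
  have hQ : ∀ i, IsPGroup 2 (S ⧸ D i) := fun i => hS.to_quotient (D i)
  have hna : ∀ i, ∃ x y : S ⧸ D i, x * y ≠ y * x := by
    intro i
    by_contra hcon
    simp only [not_exists, not_not] at hcon
    exact (h6 i).1 ⟨⟨hcon⟩⟩
  choose zq hzq huq using fun i => (h6 i).2
  have hzq1 : ∀ i, zq i ≠ 1 := fun i => ui_z_ne_one (hzq i)
  have hcent : ∀ d ∈ Subgroup.center S, ∀ g : S, d * g = g * d := fun d hd g =>
    ((Subgroup.mem_center_iff.1 hd) g).symm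
  -- L_a
  have La : ∀ i, ∀ x ∈ Subgroup.center S, x ∉ D i → (x : S ⧸ D i) = zq i := by
    intro i x hx hxD
    apply huq i
    apply orderOf_eq_prime
    · rw [← QuotientGroup.mk_pow, QuotientGroup.eq_one_iff, pow_two]
      exact h2 i x hx
    · rw [Ne, QuotientGroup.eq_one_iff]
      exact hxD
  -- L_b
  have Lb : ∀ i, ∀ t : S, ((t : S ⧸ D i) = 1 ∨ (t : S ⧸ D i) = zq i) →
      t ∈ Subgroup.center S := by
    intro i t ht
    rcases ht with ht | ht
    · exact h1 i ((QuotientGroup.eq_one_iff t).1 ht)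
    · obtain ⟨x₀, hx₀, hx₀D⟩ := h4 i
      have h := La i x₀ hx₀ hx₀D
      rw [← ht] at h
      have h' := QuotientGroup.eq.1 h
      have : t = x₀ * (x₀⁻¹ * t) := by group
      rw [this]
      exact Subgroup.mul_mem _ hx₀ (h1 i h')
  -- L_c
  have Lc : ∀ t : S, t * t = 1 → t ∈ Subgroup.center S := by
    intro t ht
    apply Lb i₀ t
    apply ui_sq_eq_one (huq i₀)
    rw [← QuotientGroup.mk_mul, ht, QuotientGroup.mk_one]
  -- L_d
  have Ld : ∀ x ∈ Subgroup.center S, x * x = 1 := fun x hx => h5 _ (fun i => h2 i x hx)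
  -- choose a, X, b
  obtain ⟨ab, hab⟩ := ui_exists_cyclic_index_two (hQ i₀) (hzq i₀) (huq i₀) (hna i₀)
  obtain ⟨a, rfl⟩ := QuotientGroup.mk_surjective ab
  set X : Subgroup S := (Subgroup.zpowers (a : S ⧸ D i₀)).comap (QuotientGroup.mk' (D i₀))
    with hX
  have hXidx : X.index = 2 := by
    rw [hX, Subgroup.index_comap_of_surjective _ (QuotientGroup.mk'_surjective (D i₀))]
    exact hab
  have hXn : X.Normal := Subgroup.normal_of_index_eq_two hXidx
  have hXform : ∀ x ∈ X, ∃ k : ℤ, ∃ d ∈ D i₀, x = a ^ k * d := by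
    intro x hx
    rw [hX, Subgroup.mem_comap, QuotientGroup.mk'_apply] at hx
    obtain ⟨k, hk⟩ := Subgroup.mem_zpowers_iff.1 hx
    refine ⟨k, (a ^ k)⁻¹ * x, ?_, by group⟩
    rw [← QuotientGroup.eq, ← hk]
    simp
  have hXtop : X ≠ ⊤ := by
    intro h
    rw [h, Subgroup.index_top] at hXidx
    norm_num at hXidx
  obtain ⟨b, -, hb⟩ := SetLike.exists_of_lt (lt_top_iff_ne_top.2 hXtop)
  have haX : a ∈ X := by
    rw [hX, Subgroup.mem_comap, QuotientGroup.mk'_apply]
    exact Subgroup.mem_zpowers _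
  have hbnot₀ : (b : S ⧸ D i₀) ∉ Subgroup.zpowers (a : S ⧸ D i₀) := fun h => hb h
  -- a is not central
  have haZ : a ∉ Subgroup.center S := by
    intro h
    apply not_commute_of_index_two hab hbnot₀ (hna i₀)
    rw [← QuotientGroup.mk_mul, ← QuotientGroup.mk_mul, hcent a h b]
  have haD : ∀ i, (a : S ⧸ D i) ≠ 1 := by
    intro i h
    exact haZ (h1 i ((QuotientGroup.eq_one_iff a).1 h))
  have hzmem : ∀ i, zq i ∈ Subgroup.zpowers (a : S ⧸ D i) := fun i =>
    ui_mem_zpowers (hQ i) (huq i) (haD i)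
  have hZX : Subgroup.center S ≤ X := by
    intro x hx
    rw [hX, Subgroup.mem_comap, QuotientGroup.mk'_apply]
    by_cases hxD : x ∈ D i₀
    · rw [(QuotientGroup.eq_one_iff x).2 hxD]; exact Subgroup.one_mem _
    · rw [La i₀ x hx hxD]; exact hzmem i₀
  -- comap for every i
  have hcomap : ∀ i, (Subgroup.zpowers (a : S ⧸ D i)).comap (QuotientGroup.mk' (D i)) = X := by
    intro i
    ext s
    rw [Subgroup.mem_comap, QuotientGroup.mk'_apply]
    constructor
    · intro hs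
      obtain ⟨k, hk⟩ := Subgroup.mem_zpowers_iff.1 hs
      have h' : ((a ^ k : S) : S ⧸ D i) = (s : S ⧸ D i) := by rw [← hk]; simp
      have h'' := QuotientGroup.eq.1 h'
      have : s = a ^ k * ((a ^ k)⁻¹ * s) := by group
      rw [this]
      exact X.mul_mem (X.zpow_mem haX k) (hZX (h1 i h''))
    · intro hs
      obtain ⟨k, d, hd, rfl⟩ := hXform s hs
      rw [QuotientGroup.mk_mul, QuotientGroup.mk_zpow]
      apply Subgroup.mul_mem _ (Subgroup.zpow_mem _ (Subgroup.mem_zpowers _) k)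
      have hdZ : d ∈ Subgroup.center S := h1 i₀ hd
      by_cases hdD : d ∈ D i
      · rw [(QuotientGroup.eq_one_iff d).2 hdD]; exact Subgroup.one_mem _
      · rw [La i d hdZ hdD]; exact hzmem i
  have hidx : ∀ i, (Subgroup.zpowers (a : S ⧸ D i)).index = 2 := by
    intro i
    rw [← Subgroup.index_comap_of_surjective _ (QuotientGroup.mk'_surjective (D i)), hcomap i]
    exact hXidx
  have hbnot : ∀ i, (b : S ⧸ D i) ∉ Subgroup.zpowers (a : S ⧸ D i) := by
    intro i h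
    apply hb
    rw [← hcomap i, Subgroup.mem_comap, QuotientGroup.mk'_apply]
    exact h
  have hstruct := fun i => ui_struct (hQ i) (hzq i) (huq i) (hna i) (hidx i) (hbnot i)
  -- relations in S
  have hrel1 : b * a * b⁻¹ = a⁻¹ := by
    have : b * a * b⁻¹ * a = 1 := by
      apply h5
      intro i
      rw [← QuotientGroup.eq_one_iff, QuotientGroup.mk_mul, QuotientGroup.mk_mul,
        QuotientGroup.mk_mul, QuotientGroup.mk_inv, (hstruct i).2, inv_mul_cancel]
    exact eq_inv_of_mul_eq_one_left this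
  set z₀ := b * b with hz₀
  have hz₀q : ∀ i, (z₀ : S ⧸ D i) = zq i := by
    intro i
    rw [hz₀, QuotientGroup.mk_mul]; exact (hstruct i).1
  have hz₀Z : z₀ ∈ Subgroup.center S := Lb i₀ z₀ (Or.inr (hz₀q i₀))
  have hz₀D : ∀ i, z₀ ∉ D i := by
    intro i h
    apply hzq1 i
    rw [← hz₀q i, QuotientGroup.eq_one_iff]
    exact h
  have hz₀1 : z₀ ≠ 1 := by
    intro h
    apply hz₀D i₀
    rw [h]; exact Subgroup.one_mem _
  have hz₀sq : z₀ * z₀ = 1 := Ld z₀ hz₀Z
  -- z₀ ∈ zpowers a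
  have stepA : ∀ i, ∃ g ∈ Subgroup.zpowers a, g ∈ Subgroup.center S ∧ g ≠ 1 ∧
      z₀ * g⁻¹ ∈ D i := by
    intro i
    obtain ⟨k, hk⟩ := exists_npow_eq_of_mem_zpowers (hzmem i)
    have hgq : ((a ^ k : S) : S ⧸ D i) = zq i := by rw [← hk]; simp
    have hgZ : a ^ k ∈ Subgroup.center S := Lb i _ (Or.inr hgq)
    have hgD : a ^ k ∉ D i := by
      intro h
      apply hzq1 i
      rw [← hgq, QuotientGroup.eq_one_iff]
      exact h
    refine ⟨a ^ k, Subgroup.pow_mem _ (Subgroup.mem_zpowers a) k, hgZ, ?_, ?_⟩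
    · intro h
      apply hgD
      rw [h]; exact Subgroup.one_mem _
    · exact h3 i z₀ hz₀Z (a ^ k) hgZ (hz₀D i) hgD
  obtain ⟨t₀, ht₀M, ht₀Z, ht₀1, -⟩ := stepA i₀
  have hz₀t₀ : z₀ = t₀ := by
    have : z₀ * t₀⁻¹ = 1 := by
      apply h5
      intro i
      obtain ⟨g, hgM, hgZ, hg1, hgD⟩ := stepA i
      have : g = t₀ := zpowers_involution_unique hS hgM ht₀M (Ld g hgZ) (Ld t₀ ht₀Z) hg1 ht₀1
      rw [← this]; exact hgD
    exact mul_inv_eq_one.1 this
  have hz₀M : z₀ ∈ Subgroup.zpowers a := hz₀t₀ ▸ ht₀M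
  have hAM : ∀ g ∈ Subgroup.zpowers a, g ∈ Subgroup.center S → g = 1 ∨ g = z₀ := by
    intro g hgM hgZ
    by_cases hg1 : g = 1
    · exact Or.inl hg1
    · exact Or.inr (zpowers_involution_unique hS hgM hz₀M (Ld g hgZ) hz₀sq hg1 hz₀1)
  -- b inverts M
  have hbinv : ∀ m ∈ Subgroup.zpowers a, b * m * b⁻¹ = m⁻¹ := by
    intro m hm
    obtain ⟨k, rfl⟩ := Subgroup.mem_zpowers_iff.1 hm
    have : b * a ^ k * b⁻¹ = (b * a * b⁻¹) ^ k := (conj_zpow (a := b) (b := a) (i := k)).symm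
    rw [this, hrel1, inv_zpow]
  have hMX : Subgroup.zpowers a ≤ X := by
    rw [Subgroup.zpowers_le]; exact haX
  have hbinv_eq : b⁻¹ = z₀⁻¹ * b := by rw [hz₀]; group
  -- the subgroup Q
  let Q : Subgroup S :=
    { carrier := {g | g ∈ Subgroup.zpowers a ∨ g * b⁻¹ ∈ Subgroup.zpowers a}
      one_mem' := Or.inl (Subgroup.one_mem _)
      mul_mem' := by
        rintro x y (hx | hx) (hy | hy)
        · exact Or.inl (Subgroup.mul_mem _ hx hy)
        · refine Or.inr ?_
          have : x * y * b⁻¹ = x * (y * b⁻¹) := by group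
          rw [this]
          exact Subgroup.mul_mem _ hx hy
        · refine Or.inr ?_
          have : x * y * b⁻¹ = (x * b⁻¹) * (b * y * b⁻¹) := by group
          rw [this, hbinv y hy]
          exact Subgroup.mul_mem _ hx (Subgroup.inv_mem _ hy)
        · refine Or.inl ?_
          have : x * y = (x * b⁻¹) * (b * (y * b⁻¹) * b⁻¹) * (b * b) := by group
          rw [this, hbinv _ hy]
          exact Subgroup.mul_mem _ (Subgroup.mul_mem _ hx (Subgroup.inv_mem _ hy)) hz₀M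
      inv_mem' := by
        rintro x (hx | hx)
        · exact Or.inl (Subgroup.inv_mem _ hx)
        · refine Or.inr ?_
          have : x⁻¹ * b⁻¹ = (b * b)⁻¹ * (b * (x * b⁻¹) * b⁻¹)⁻¹ := by group
          rw [this, hbinv _ hx, inv_inv]
          exact Subgroup.mul_mem _ (Subgroup.inv_mem _ hz₀M) hx }
  have hQmem : ∀ g, g ∈ Q ↔ (g ∈ Subgroup.zpowers a ∨ g * b⁻¹ ∈ Subgroup.zpowers a) :=
    fun g => Iff.rfl
  have haQ : a ∈ Q := Or.inl (Subgroup.mem_zpowers a)
  have hbQ : b ∈ Q := Or.inr (by rw [mul_inv_cancel]; exact Subgroup.one_mem _)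
  -- elements of Q ∩ X lie in M
  have hQX : ∀ g ∈ Q, g ∈ X → g ∈ Subgroup.zpowers a := by
    intro g hg hgX
    rcases hg with hg | hg
    · exact hg
    · exfalso
      apply hb
      have : b = (g * b⁻¹)⁻¹ * g := by group
      rw [this]
      exact X.mul_mem (X.inv_mem (hMX hg)) hgX
  refine ⟨D i₀, Q, ?_, ?_, ?_, ?_, ⟨a, haQ, b, hbQ, ?_⟩, z₀, Or.inl hz₀M, hz₀1, hz₀sq, ?_⟩
  · intro e he q _
    exact hcent e (h1 i₀ he) q
  · rw [eq_bot_iff]
    rintro g ⟨hgE, hgQ⟩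
    have hgZ : g ∈ Subgroup.center S := h1 i₀ hgE
    have hgM := hQX g hgQ (hZX hgZ)
    rcases hAM g hgM hgZ with h | h
    · exact (Subgroup.mem_bot).2 h
    · exfalso
      apply hz₀D i₀
      rw [← h]; exact hgE
  · rw [eq_top_iff]
    intro s _
    by_cases hs : s ∈ X
    · obtain ⟨k, d, hd, rfl⟩ := hXform s hs
      have : a ^ k * d = d * a ^ k := (hcent d (h1 i₀ hd) _).symm
      rw [this]
      exact Subgroup.mul_mem _ (Subgroup.mem_sup_left hd)
        (Subgroup.mem_sup_right (Or.inl (Subgroup.zpow_mem _ (Subgroup.mem_zpowers a) k)))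
    · have hsb : s * b⁻¹ ∈ X := by
        have := (Subgroup.mul_mem_iff_of_index_two hXidx (a := s) (b := b⁻¹)).2
          ⟨fun h => absurd h hs, fun h => absurd (by simpa using Subgroup.inv_mem _ h) hb⟩
        exact this
      obtain ⟨k, d, hd, hkd⟩ := hXform _ hsb
      have : s = d * (a ^ k * b) := by
        have h' : s = (s * b⁻¹) * b := by group
        rw [h', hkd, (hcent d (h1 i₀ hd) (a ^ k)).symm]
        group
      rw [this]
      refine Subgroup.mul_mem _ (Subgroup.mem_sup_left hd) (Subgroup.mem_sup_right ?_)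
      refine Or.inr ?_
      have : a ^ k * b * b⁻¹ = a ^ k := by group
      rw [this]
      exact Subgroup.zpow_mem _ (Subgroup.mem_zpowers a) k
  · intro e he
    exact ⟨h1 i₀ he, Ld e (h1 i₀ he)⟩
  · intro hab'
    apply haZ
    apply Lc
    have : b * a * b⁻¹ = a := by rw [← hab']; group
    rw [hrel1] at this
    calc a * a = a * a⁻¹ := by rw [this]
      _ = 1 := mul_inv_cancel a
  · intro t htQ htt
    have htZ := Lc t htt
    exact hAM t (hQX t htQ (hZX htZ)) htZ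

end split

end Cfsg.Agent.Lib.Helper53
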