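import Mathlib
import Cfsg.Agent.Lib.Helper53.UniqInv3
import Cfsg.Agent.Lib.Helper61.DihedralLift

set_option autoImplicit false
set_option linter.style.haveILetI false
set_option linter.unnecessarySimpa false
set_option linter.unusedVariables false
set_option linter.unusedSectionVars false

/-!
# Recognition of the dihedral group of order 8
-/

namespace Cfsg.Agent.Lib.Helper53

/-- A nonabelian group of order 8 with two distinct involutions is dihedral. -/
theorem dihedral_of_card_eight {G : Type*} [Group G] (h8 : Nat.card G = 8)
    (hna : ∃ a b : G, a * b ≠ b * a) (s1 s2 : G) (h1 : s1 * s1 = 1) (h2 : s2 * s2 = 1)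
    (h1ne : s1 ≠ 1) (h2ne : s2 ≠ 1) (h12 : s1 ≠ s2) :
    Nonempty (G ≃* DihedralGroup 4) := by
  classical
  haveI : Finite G := Nat.finite_of_card_ne_zero (by rw [h8]; norm_num)
  haveI : Fact (Nat.Prime 2) := ⟨Nat.prime_two⟩
  have hG : IsPGroup 2 G := IsPGroup.of_card (n := 3) (by rw [h8]; norm_num)
  -- an element with nontrivial square
  obtain ⟨x, hx⟩ : ∃ x : G, x * x ≠ 1 := by
    by_contra hcon
    push Not at hcon
    obtain ⟨a, b, hab⟩ := hna
    apply hab
    have ha := hcon a
    have hb := hcon b
    have hab' := hcon (a * b)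
    calc a * b = (b * b) * (a * b) * (a * a) := by rw [ha, hb]; group
      _ = b * (b * a) * (b * a) * a := by group
      _ = b * ((b * a) * (b * a)) * a := by group
      _ = b * a := by rw [hcon (b * a)]; group
  have hx1 : x ≠ 1 := by
    rintro rfl
    exact hx (one_mul 1)
  have hord : orderOf x ∣ 8 := by
    rw [← h8]; exact orderOf_dvd_natCard x
  have hord4 : orderOf x = 4 := by
    have hdiv : orderOf x ∈ Nat.divisors 8 := by
      rw [Nat.mem_divisors]; exact ⟨hord, by norm_num⟩
    have hdivs : Nat.divisors 8 = {1, 2, 4, 8} := by decide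
    rw [hdivs] at hdiv
    simp only [Finset.mem_insert, Finset.mem_singleton] at hdiv
    rcases hdiv with h | h | h | h
    · exact absurd (orderOf_eq_one_iff.mp h) hx1
    · exfalso
      apply hx
      have := pow_orderOf_eq_one x
      rw [h, pow_two] at this
      exact this
    · exact h
    · exfalso
      -- cyclic, hence abelian
      have htop : Subgroup.zpowers x = ⊤ := by
        apply Subgroup.eq_top_of_card_eq
        rw [Nat.card_zpowers, h, h8]
      obtain ⟨a, b, hab⟩ := hna
      apply hab
      have ha : a ∈ Subgroup.zpowers x := by rw [htop]; exact Subgroup.mem_top a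
      have hb : b ∈ Subgroup.zpowers x := by rw [htop]; exact Subgroup.mem_top b
      exact zpowers_comm ha hb
  have hidx : (Subgroup.zpowers x).index = 2 := by
    have := Subgroup.card_mul_index (Subgroup.zpowers x)
    rw [Nat.card_zpowers, hord4, h8] at this
    omega
  -- an involution outside ⟨x⟩
  obtain ⟨s, hs, hsne, hsx⟩ : ∃ s : G, s * s = 1 ∧ s ≠ 1 ∧ s ∉ Subgroup.zpowers x := by
    by_cases hs1 : s1 ∈ Subgroup.zpowers x
    · refine ⟨s2, h2, h2ne, ?_⟩
      intro hs2
      exact h12 (zpowers_involution_unique hG hs1 hs2 h1 h2 h1ne h2ne)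
    · exact ⟨s1, h1, h1ne, hs1⟩
  have hsinv : s⁻¹ = s := inv_eq_of_mul_eq_one_left hs
  haveI hnorm : (Subgroup.zpowers x).Normal := Subgroup.normal_of_index_eq_two hidx
  have hconj : s * x * s⁻¹ ∈ Subgroup.zpowers x :=
    hnorm.conj_mem x (Subgroup.mem_zpowers x) s
  have hnc : x * s ≠ s * x := not_commute_of_index_two hidx hsx hna
  have hx4 : x ^ 4 = 1 := by
    rw [← hord4]; exact pow_orderOf_eq_one x
  have hsxs : s * x * s = x⁻¹ := by
    rw [mem_zpowers_iff_mem_range_orderOf, hord4] at hconj
    simp only [Finset.mem_image, Finset.mem_range] at hconj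
    obtain ⟨k, hk, hkx⟩ := hconj
    rw [hsinv] at hkx
    interval_cases k
    · exfalso
      apply hx1
      have : s * x * s = 1 := by simpa using hkx.symm
      calc x = s * (s * x * s) * s := by
            have e : s * (s * x * s) * s = (s * s) * x * (s * s) := by group
            rw [e, hs]; group
        _ = 1 := by rw [this, mul_one, hs]
    · exfalso
      apply hnc
      have : s * x * s = x := by simpa using hkx.symm
      calc x * s = (s * x * s) * s := by rw [this]
        _ = s * x * (s * s) := by group
        _ = s * x := by rw [hs, mul_one]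
    · exfalso
      apply hx
      have h3 : s * x * s = x ^ 2 := hkx.symm
      have h4 : (s * x * s) * (s * x * s) = s * (x * x) * s := by
        have e : (s * x * s) * (s * x * s) = s * x * (s * s) * x * s := by group
        rw [e, hs]; group
      have h5 : (x ^ 2) * (x ^ 2) = 1 := by
        rw [← pow_add]; exact hx4
      rw [h3, h5] at h4
      calc x * x = s * (s * (x * x) * s) * s := by
            have e : s * (s * (x * x) * s) * s = (s * s) * (x * x) * (s * s) := by group
            rw [e, hs]; group
        _ = 1 := by rw [← h4, mul_one, hs]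
    · rw [← hkx]
      have : x ^ 3 * x = 1 := by
        rw [← pow_succ]; exact hx4
      exact (inv_eq_of_mul_eq_one_left this).symm
  have hgen : Subgroup.closure ({s, x} : Set G) = ⊤ := by
    have hle : Subgroup.zpowers x ≤ Subgroup.closure ({s, x} : Set G) := by
      rw [Subgroup.zpowers_le]
      exact Subgroup.subset_closure (by simp)
    have hsin : s ∈ Subgroup.closure ({s, x} : Set G) := Subgroup.subset_closure (by simp)
    by_contra hne
    have h3 : (Subgroup.closure ({s, x} : Set G)).index ≠ 1 := by
      rwa [Ne, Subgroup.index_eq_one]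
    have h4 := Subgroup.index_dvd_of_le hle
    rw [hidx] at h4
    have h5 : (Subgroup.closure ({s, x} : Set G)).index = 2 := by
      rcases (Nat.dvd_prime Nat.prime_two).mp h4 with h | h
      · exact absurd h h3
      · exact h
    have h6 : Nat.card ↥(Subgroup.closure ({s, x} : Set G)) = 4 := by
      have := Subgroup.card_mul_index (Subgroup.closure ({s, x} : Set G))
      rw [h5, h8] at this
      omega
    have h7 : Subgroup.zpowers x = Subgroup.closure ({s, x} : Set G) := by
      apply Subgroup.eq_of_le_of_card_ge hle
      rw [h6, Nat.card_zpowers, hord4]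
    apply hsx
    rw [h7]; exact hsin
  have e := Cfsg.Agent.Lib.Helper61.dihedralEquiv s x hs hsxs hsx hgen
  rw [hord4] at e
  exact ⟨e.symm⟩

end Cfsg.Agent.Lib.Helper53
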