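import Mathlib
import Cfsg.Agent.Lib.Helper53.RuD8
import Cfsg.Agent.Lib.Helper53.RuCalc

set_option autoImplicit false
set_option linter.style.haveILetI false
set_option linter.unnecessarySimpa false
set_option linter.unusedVariables false
set_option linter.unusedSectionVars false

/-!
# Ru-type 2-groups: `T / W` is dihedral of order 8
-/

namespace Cfsg.Agent.Lib.Helper53

section

variable {T : Type*} [Group T] [Finite T]

local notation "𝐙" => Subgroup.upperCentralSeries T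
local notation "𝐖" => Subgroup.centralizer (Subgroup.upperCentralSeries T 3 : Set T)

/-- `T / W` is dihedral of order 8 -/
theorem ru_quotient_dihedral (hT : IsPGroup 2 T)
    (c1 : Nat.card ↥(𝐙 1) = 2) (c2 : Nat.card ↥(𝐙 2) = 4) (c3 : Nat.card ↥(𝐙 3) = 8)
    (hidx : (𝐖).index = 8)
    (r2 : (ruL2 T).relIndex ⊤ = 2) (r1 : (ruL1 T).relIndex (ruL2 T) = 2)
    (r0 : (𝐖).relIndex (ruL1 T) = 2)
    (hel : ∀ f ∈ 𝐙 3, f * f = 1) [hWn : (𝐖).Normal] :
    Nonempty (T ⧸ 𝐖 ≃* DihedralGroup 4) := by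
  classical
  set W := 𝐖 with hWdef
  have hWL1 : W ≤ ruL1 T := centralizer_le_ruL1
  obtain ⟨g0, hg0, hg0n, hgen0⟩ := exists_coset_rep (ruL1 T) W hWL1 (by
    rw [← relIndex_mul_card' (ruL1 T) W hWL1, r0])
  obtain ⟨g1, hg1, hg1n, hgen1⟩ := exists_coset_rep (ruL2 T) (ruL1 T) ruL1_le_ruL2 (by
    rw [← relIndex_mul_card' (ruL2 T) (ruL1 T) ruL1_le_ruL2, r1])
  obtain ⟨g2, _, hg2n, hgen2⟩ := exists_coset_rep ⊤ (ruL2 T) le_top (by
    rw [← relIndex_mul_card' ⊤ (ruL2 T) le_top, r2])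
  set π := QuotientGroup.mk' W with hπ
  have hker : ∀ x : T, π x = 1 ↔ x ∈ W := fun x => QuotientGroup.eq_one_iff x
  have hπeq : ∀ x y : T, π x = π y ↔ x⁻¹ * y ∈ W := fun x y => QuotientGroup.eq
  have h8 : Nat.card (T ⧸ W) = 8 := by
    rw [← Subgroup.index_eq_card]; exact hidx
  have hg0sq : g0 * g0 ∈ W := by
    rcases hgen0 (g0 * g0) ((ruL1 T).mul_mem hg0 hg0) with h | h
    · exact h
    · exfalso; apply hg0n; simpa using h
  have hg1sq : g1 * g1 ∈ W := sq_mem_ruW hel hg1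
  have hg1W : g1 ∉ W := fun h => hg1n (hWL1 h)
  -- noncommuting pair
  have hna : ∃ a b : T ⧸ W, a * b ≠ b * a := by
    refine ⟨π g2, π g1, ?_⟩
    intro heq
    rw [← map_mul, ← map_mul, hπeq] at heq
    -- f with [g1, f] ∉ Z₁
    have hex : ∃ f ∈ 𝐙 3, g1 * f * g1⁻¹ * f⁻¹ ∉ 𝐙 1 := by
      by_contra hcon
      push Not at hcon
      exact hg1n (mem_ruL1.mpr ⟨hg1, hcon⟩)
    obtain ⟨f, hf, hm1⟩ := hex
    have hm2 : g1 * f * g1⁻¹ * f⁻¹ ∈ 𝐙 2 := ucs_comm_mem' hf g1
    have hm'2 : g2 * f * g2⁻¹ * f⁻¹ ∈ 𝐙 2 := ucs_comm_mem' hf g2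
    set m := g1 * f * g1⁻¹ * f⁻¹ with hm
    set m' := g2 * f * g2⁻¹ * f⁻¹ with hm'
    -- coset description of Z₂ with representative m
    have hZ2 : ∀ n ∈ 𝐙 2, n ∈ 𝐙 1 ∨ n * m⁻¹ ∈ 𝐙 1 := by
      obtain ⟨a2, ha2, ha2n, hgen⟩ := exists_coset_rep (𝐙 2) (𝐙 1)
        (Subgroup.upperCentralSeries_mono T (by norm_num)) (by rw [c1, c2])
      intro n hn
      by_cases hn1 : n ∈ 𝐙 1
      · exact Or.inl hn1
      · right
        have q1 := (hgen n hn).resolve_left hn1
        have q2 := (hgen m hm2).resolve_left hm1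
        have e : n * m⁻¹ = (n * a2⁻¹) * (m * a2⁻¹)⁻¹ := by group
        rw [e]
        exact Subgroup.mul_mem _ q1 (Subgroup.inv_mem _ q2)
    -- g2 does not commute with m
    have hz : g2 * m ≠ m * g2 := by
      intro hc
      apply hg2n
      rw [mem_ruL2]
      intro n hn
      rcases hZ2 n hn with q | q
      · exact (ucs_one_comm q g2).symm
      · have q2 := ucs_one_comm q g2
        calc n * g2 = (n * m⁻¹) * (m * g2) := by group
          _ = (n * m⁻¹) * (g2 * m) := by rw [hc]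
          _ = ((n * m⁻¹) * g2) * m := by group
          _ = (g2 * (n * m⁻¹)) * m := by rw [← q2]
          _ = g2 * n := by group
    -- m and m' commute
    have hmm : m * m' = m' * m := by
      rcases hZ2 m' hm'2 with q | q
      · exact ucs_one_comm q m
      · have q2 := ucs_one_comm q m
        calc m * m' = (m * (m' * m⁻¹)) * m := by group
          _ = ((m' * m⁻¹) * m) * m := by rw [q2]
          _ = m' * m := by group
    -- g1 centralizes m'
    have hg1m' : g1 * m' * g1⁻¹ = m' := by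
      have := (mem_ruL2.mp hg1) m' hm'2
      calc g1 * m' * g1⁻¹ = (g1 * m') * g1⁻¹ := by group
        _ = (m' * g1) * g1⁻¹ := by rw [this]
        _ = m' := by group
    -- the two conjugates of f agree
    have hfW : ∀ w ∈ W, w * f * w⁻¹ = f := by
      intro w hw
      have := ruW_comm hw hf
      calc w * f * w⁻¹ = (w * f) * w⁻¹ := by group
        _ = (f * w) * w⁻¹ := by rw [this]
        _ = f := by group
    have hsame : (g2 * g1) * f * (g2 * g1)⁻¹ = (g1 * g2) * f * (g1 * g2)⁻¹ := by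
      have h1 := hfW _ heq
      calc (g2 * g1) * f * (g2 * g1)⁻¹
          = (g2 * g1) * (((g2 * g1)⁻¹ * (g1 * g2)) * f * ((g2 * g1)⁻¹ * (g1 * g2))⁻¹) *
            (g2 * g1)⁻¹ := by rw [h1]
        _ = _ := by group
    have E1 : (g2 * g1) * f * (g2 * g1)⁻¹ = (g2 * m * g2⁻¹) * m' * f := by
      rw [hm, hm']; group
    have E2 : (g1 * g2) * f * (g1 * g2)⁻¹ = (g1 * m' * g1⁻¹) * m * f := by
      rw [hm, hm']; group
    rw [E1, E2, hg1m'] at hsame
    have h3 : (g2 * m * g2⁻¹) * m' = m' * m := by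
      have := congrArg (fun x => x * f⁻¹) hsame
      simpa [mul_assoc] using this
    apply hz
    have h4 : g2 * m * g2⁻¹ = m := by
      calc g2 * m * g2⁻¹ = ((g2 * m * g2⁻¹) * m') * m'⁻¹ := by group
        _ = (m' * m) * m'⁻¹ := by rw [h3]
        _ = (m * m') * m'⁻¹ := by rw [hmm]
        _ = m := by group
    calc g2 * m = (g2 * m * g2⁻¹) * g2 := by group
      _ = m * g2 := by rw [h4]
  have hs1 : π g0 * π g0 = 1 := by
    rw [← map_mul]; exact (hker _).mpr hg0sq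
  have hs2 : π g1 * π g1 = 1 := by
    rw [← map_mul]; exact (hker _).mpr hg1sq
  have hs1ne : π g0 ≠ 1 := fun h => hg0n ((hker _).mp h)
  have hs2ne : π g1 ≠ 1 := fun h => hg1W ((hker _).mp h)
  have hs12 : π g0 ≠ π g1 := by
    intro h
    have h1 := (hπeq _ _).mp h
    apply hg1n
    have : g1 = g0 * (g0⁻¹ * g1) := by group
    rw [this]
    exact (ruL1 T).mul_mem hg0 (hWL1 h1)
  exact dihedral_of_card_eight h8 hna (π g0) (π g1) hs1 hs2 hs1ne hs2ne hs12

end

end Cfsg.Agent.Lib.Helper53
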