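import Mathlib
import Cfsg.Agent.Lib.Helper53.RuFirst

/-!
# Weak closure of `W = C_T(Z₃)` in a `2`-group of Rudvalis type (helper53)

Any subgroup of `T` isomorphic to `W` equals `W`.
-/

set_option autoImplicit false
set_option linter.style.haveILetI false
set_option linter.unnecessarySimpa false

namespace Cfsg.Agent.Lib.Helper53

section inter

variable {T : Type*} [Group T] [Finite T]

/-- the Frattini engine applied to an intersection of two subgroups -/
theorem frattini_map_le_of_inter (hT : IsPGroup 2 T) (A B : Subgroup T)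
    (hdA : ∀ U : Subgroup ↥A, U.index ≤ 16 → frattini ↥A ≤ U)
    (hidx : (A ⊓ B).relIndex A ≤ 8) :
    (frattini ↥A).map A.subtype ≤ (frattini ↥B).map B.subtype := by
  haveI : Fact (Nat.Prime 2) := ⟨Nat.prime_two⟩
  have hAp : IsPGroup 2 ↥A := hT.to_subgroup A
  have hBp : IsPGroup 2 ↥B := hT.to_subgroup B
  have hcf : commutator ↥B ≤ frattini ↥B := Cfsg.Agent.Lib.Helper2.commutator_le_frattini hBp
  have key := frattini_le_of_elementary_section hAp hdA ((A ⊓ B).subgroupOf A)
    (((frattini ↥B).map B.subtype).subgroupOf A) hidx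
    (by
      intro x hx
      rw [Subgroup.mem_subgroupOf] at hx ⊢
      have hxB : (x : T) ∈ B := hx.2
      have h1 := Cfsg.Agent.Lib.Helper2.pow_mem_frattini hBp (⟨(x : T), hxB⟩ : ↥B)
      refine ⟨_, h1, ?_⟩
      simp [pow_two])
    (by
      intro x hx y hy
      rw [Subgroup.mem_subgroupOf] at hx hy ⊢
      have hxB : (x : T) ∈ B := hx.2
      have hyB : (y : T) ∈ B := hy.2
      have h1 := Subgroup.commutator_mem_commutator (Subgroup.mem_top (⟨(x : T), hxB⟩ : ↥B))
        (Subgroup.mem_top (⟨(y : T), hyB⟩ : ↥B))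
      rw [commutatorElement_def] at h1
      refine ⟨_, hcf h1, ?_⟩
      simp)
  rintro x ⟨f, hf, rfl⟩
  have := key hf
  rwa [Subgroup.mem_subgroupOf] at this

end inter

section weak

variable {T : Type*} [Group T] [Finite T]

local notation "𝐙" => Subgroup.upperCentralSeries T

/-- **Weak closure**: a subgroup of `T` isomorphic to `W = C_T(Z₃)` is equal to `W`. -/
theorem ru_weak_closed (hT : IsPGroup 2 T) (ha : 2 ^ 14 ≤ Nat.card T)
    (hb : Nat.card ↥(𝐙 4) = 16)
    (hc : Nat.card ↥(frattini ↥(Subgroup.centralizer (𝐙 3 : Set T))) ≤ 8)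
    (hd : ∀ U : Subgroup ↥(Subgroup.centralizer (𝐙 3 : Set T)), U.index ≤ 16 →
      frattini ↥(Subgroup.centralizer (𝐙 3 : Set T)) ≤ U)
    (W1 : Subgroup T) (e : ↥(Subgroup.centralizer (𝐙 3 : Set T)) ≃* ↥W1) :
    W1 = Subgroup.centralizer (𝐙 3 : Set T) := by
  haveI : Fact (Nat.Prime 2) := ⟨Nat.prime_two⟩
  obtain ⟨hcard, hfr, hidx, hWc, c1, c2, c3, r2, r1, r0⟩ := ru_first hT ha hb hc hd
  set W := Subgroup.centralizer (𝐙 3 : Set T) with hWdef
  haveI hWn : W.Normal := by
    rw [hWdef]; infer_instance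
  -- transport the Frattini hypothesis
  have hd1 : ∀ U : Subgroup ↥W1, U.index ≤ 16 → frattini ↥W1 ≤ U := by
    intro U hU f hf
    have h1 : (U.comap e.toMonoidHom).index = U.index :=
      Subgroup.index_comap_of_surjective U e.surjective
    have h2 := hd (U.comap e.toMonoidHom) (by rw [h1]; exact hU)
    have h3 : frattini ↥W1 ≤ (frattini ↥W).comap e.symm.toMonoidHom :=
      frattini_le_comap_frattini_of_surjective e.symm.surjective
    have h4 := h2 (h3 hf)
    simpa using h4
  have hcardW1 : Nat.card ↥W1 = Nat.card ↥W := Nat.card_congr e.symm.toEquiv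
  have i1 : (W ⊓ W1).relIndex W1 ≤ 8 := by
    rw [Subgroup.inf_relIndex_right]
    have h1 : W.relIndex W1 ∣ W.index := Subgroup.relIndex_dvd_index_of_normal W W1
    rw [hidx] at h1
    exact Nat.le_of_dvd (by norm_num) h1
  have i2 : (W ⊓ W1).relIndex W ≤ 8 := by
    have e1 := relIndex_mul_card' W (W ⊓ W1) inf_le_left
    have e2 := relIndex_mul_card' W1 (W ⊓ W1) inf_le_right
    have hpos : 0 < Nat.card ↥(W ⊓ W1) := Nat.card_pos
    have : (W ⊓ W1).relIndex W = (W ⊓ W1).relIndex W1 := by
      apply Nat.eq_of_mul_eq_mul_right hpos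
      rw [e1, e2, hcardW1]
    rw [this]
    exact i1
  have F1 := frattini_map_le_of_inter hT W W1 hd i2
  have F2 := frattini_map_le_of_inter hT W1 W hd1 (by rw [inf_comm]; exact i1)
  have hF : (frattini ↥W1).map W1.subtype = 𝐙 3 := by
    rw [← hfr]
    exact le_antisymm F2 F1
  have hc1 : Nat.card ↥(frattini ↥W1) ≤ 8 := by
    have := Subgroup.card_map_of_injective (K := frattini ↥W1) (Subgroup.subtype_injective W1)
    rw [hF, c3] at this
    omega
  have hcen := frattini_le_center_of_small (hT.to_subgroup W1) hc1 hd1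
  have hle : W1 ≤ W := by
    intro w hw
    rw [hWdef, Subgroup.mem_centralizer_iff]
    intro z hz
    have hz' : z ∈ (frattini ↥W1).map W1.subtype := by rw [hF]; exact hz
    obtain ⟨f, hf, rfl⟩ := hz'
    have h1 := hcen hf
    rw [Subgroup.mem_center_iff] at h1
    have h2 := h1 ⟨w, hw⟩
    exact (congrArg Subtype.val h2).symm
  exact Subgroup.eq_of_le_of_card_ge hle (by rw [hcardW1])

end weak

end Cfsg.Agent.Lib.Helper53
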