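import Mathlib

set_option autoImplicit false

/-! Leaf SF-NE of the S2459 hive (owner helper65): a non-scalar endomorphism has a vector `a` with
`a, g a` linearly independent. -/

namespace Cfsg.Agent.Lib.Helper65.SF

variable {K : Type*} [Field K]

section abstract
variable {V : Type*} [AddCommGroup V] [Module K V]

theorem ne_eigen_of_not_li (g : V →ₗ[K] V) {a : V} (ha : a ≠ 0)
    (h : ¬ LinearIndependent K ![a, g a]) : ∃ c : K, g a = c • a := by
  rw [LinearIndependent.pair_iff] at h
  push Not at h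
  obtain ⟨s, t, hst, hne⟩ := h
  have ht : t ≠ 0 := by
    intro ht
    rw [ht, zero_smul, add_zero] at hst
    rcases smul_eq_zero.1 hst with hs | ha'
    · exact hne hs ht
    · exact ha ha'
  refine ⟨-(t⁻¹ * s), ?_⟩
  have h1 : t • g a = -(s • a) := eq_neg_of_add_eq_zero_right hst
  calc g a = t⁻¹ • (t • g a) := by rw [smul_smul, inv_mul_cancel₀ ht, one_smul]
    _ = t⁻¹ • (-(s • a)) := by rw [h1]
    _ = -(t⁻¹ * s) • a := by rw [smul_neg, smul_smul, neg_smul]

theorem ne_const (g : V →ₗ[K] V) (hall : ∀ v : V, v ≠ 0 → ∃ c : K, g v = c • v)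
    {a b : V} (ha : a ≠ 0) (hb : b ≠ 0) {ca cb : K} (hca : g a = ca • a) (hcb : g b = cb • b) :
    ca = cb := by
  by_cases hab : a + b = 0
  · have hb' : b = -a := (neg_eq_of_add_eq_zero_right hab).symm
    have h1 : g b = ca • b := by
      rw [hb', map_neg, hca, smul_neg]
    have h2 : (cb - ca) • b = 0 := by
      rw [sub_smul, ← hcb, ← h1, sub_self]
    rcases smul_eq_zero.1 h2 with h3 | h3
    · exact (sub_eq_zero.1 h3).symm
    · exact absurd h3 hb
  · obtain ⟨c', hc'⟩ := hall (a + b) hab
    rw [map_add, hca, hcb, smul_add] at hc'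
    have h1 : (ca - c') • a = (c' - cb) • b := by
      rw [sub_smul, sub_smul, sub_eq_sub_iff_add_eq_add]
      rw [add_comm (c' • b)]
      exact hc'
    by_cases h2 : ca - c' = 0
    · rw [h2, zero_smul] at h1
      rcases smul_eq_zero.1 h1.symm with h3 | h3
      · rw [sub_eq_zero] at h2 h3
        rw [h2, h3]
      · exact absurd h3 hb
    · have h3 : a = ((ca - c')⁻¹ * (c' - cb)) • b := by
        rw [← smul_smul, ← h1, smul_smul, inv_mul_cancel₀ h2, one_smul]
      have h4 : g a = cb • a := by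
        rw [h3, map_smul, hcb, smul_comm]
      have h5 : (ca - cb) • a = 0 := by
        rw [sub_smul, ← hca, ← h4, sub_self]
      rcases smul_eq_zero.1 h5 with h6 | h6
      · exact sub_eq_zero.1 h6
      · exact absurd h6 ha

/-- (SF-NE) a non-scalar endomorphism has a vector `a` with `a, g a` linearly independent. -/
theorem exists_linearIndependent_pair (g : V →ₗ[K] V) (hns : ¬ ∃ c : K, g = c • LinearMap.id) :
    ∃ a : V, LinearIndependent K ![a, g a] := by
  by_contra hcon
  push Not at hcon
  have hall : ∀ v : V, v ≠ 0 → ∃ c : K, g v = c • v :=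
    fun v hv => ne_eigen_of_not_li g hv (hcon v)
  apply hns
  by_cases hV : ∃ a0 : V, a0 ≠ 0
  · obtain ⟨a0, ha0⟩ := hV
    obtain ⟨c0, hc0⟩ := hall a0 ha0
    refine ⟨c0, ?_⟩
    ext v
    rw [LinearMap.smul_apply, LinearMap.id_apply]
    by_cases hv : v = 0
    · rw [hv, map_zero, smul_zero]
    · obtain ⟨c, hc⟩ := hall v hv
      rw [hc, ne_const g hall hv ha0 hc hc0]
  · push Not at hV
    refine ⟨0, ?_⟩
    ext v
    rw [hV v, map_zero, map_zero]

end abstract

end Cfsg.Agent.Lib.Helper65.SF
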