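import Mathlib
import Cfsg.Agent.Lib.Helper65.RU.Defs
import Cfsg.Agent.Lib.Helper2.RUF1
import Cfsg.Agent.Lib.Helper53.SFNE

set_option autoImplicit false

/-! Leaf SF-PE of the S2459 hive (owner helper65): the peel for an injective non-scalar
endomorphism in dimension at least three. -/

namespace Cfsg.Agent.Lib.Helper65.SF

open Module
open Cfsg.Agent.Lib.Helper65.RU (comp)

variable {K : Type*} [Field K]

section abstract
variable {V : Type*} [AddCommGroup V] [Module K V]

/-- a linearly independent family admits a functional with prescribed values -/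
theorem pe_exists_dual {ι : Type*} (v : ι → V) (hv : LinearIndependent K v) (c : ι → K) :
    ∃ φ : Module.Dual K V, ∀ i, φ (v i) = c i := by
  let b := Basis.span hv
  obtain ⟨φ, hφ⟩ := LinearMap.exists_extend (b.constr K c)
  refine ⟨φ, fun i => ?_⟩
  have h1 : φ (v i) = (φ ∘ₗ (Submodule.span K (Set.range v)).subtype)
      ⟨v i, Submodule.subset_span (Set.mem_range_self i)⟩ := rfl
  have h2 : (⟨v i, Submodule.subset_span (Set.mem_range_self i)⟩ :
      Submodule.span K (Set.range v)) = b i := (Basis.span_apply hv i).symm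
  rw [h1, hφ, h2, Basis.constr_basis]

/-- (SF-PE) peel: for injective non-scalar `g` in dimension `≥ 3` there are `a, φ` with
`φ a = 1`, `φ (g a) = 1` and non-scalar compression `comp g a φ` on `ker φ`. -/
theorem exists_peel_nonscalar [FiniteDimensional K V] (h3 : 3 ≤ finrank K V) (g : V →ₗ[K] V)
    (hg : Function.Injective g) (hns : ¬ ∃ c : K, g = c • LinearMap.id) :
    ∃ (a : V) (φ : Module.Dual K V), φ a = 1 ∧ φ (g a) = 1 ∧
      ¬ ∃ c : K, ∀ v, φ v = 0 → comp g a φ v = c • v := by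
  obtain ⟨a, hli⟩ := exists_linearIndependent_pair g hns
  -- a third independent vector
  have hspan : Submodule.span K (Set.range ![a, g a]) ≠ ⊤ := by
    intro htop
    have h1 : finrank K (Submodule.span K (Set.range ![a, g a])) = Fintype.card (Fin 2) :=
      finrank_span_eq_card hli
    rw [htop, finrank_top, Fintype.card_fin] at h1
    omega
  obtain ⟨w, -, hw⟩ := SetLike.exists_of_lt (lt_top_iff_ne_top.2 hspan)
  have hli3 : LinearIndependent K ![w, a, g a] := by
    have : (![w, a, g a] : Fin 3 → V) = Fin.cons w ![a, g a] := rfl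
    rw [this, linearIndependent_finCons]
    exact ⟨hli, hw⟩
  obtain ⟨φ₀, hφ₀⟩ := pe_exists_dual ![w, a, g a] hli3 ![0, 1, 1]
  obtain ⟨φ₁, hφ₁⟩ := pe_exists_dual ![w, a, g a] hli3 ![1, 1, 1]
  have h0w : φ₀ w = 0 := hφ₀ 0
  have h0a : φ₀ a = 1 := hφ₀ 1
  have h0g : φ₀ (g a) = 1 := hφ₀ 2
  have h1w : φ₁ w = 1 := hφ₁ 0
  have h1a : φ₁ a = 1 := hφ₁ 1
  have h1g : φ₁ (g a) = 1 := hφ₁ 2
  by_cases hs0 : ∃ c : K, ∀ v, φ₀ v = 0 → comp g a φ₀ v = c • v
  · by_cases hs1 : ∃ c : K, ∀ v, φ₁ v = 0 → comp g a φ₁ v = c • v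
    · exfalso
      obtain ⟨c₀, hc₀⟩ := hs0
      obtain ⟨c₁, hc₁⟩ := hs1
      have heq := Cfsg.Agent.Lib.Helper65.RU.scalar_unique g hg a hli φ₀ φ₁ h0a h0g h1a h1g
        c₀ c₁ hc₀ hc₁
      rw [heq, h1w] at h0w
      exact one_ne_zero h0w
    · exact ⟨a, φ₁, h1a, h1g, hs1⟩
  · exact ⟨a, φ₀, h0a, h0g, hs0⟩

end abstract

end Cfsg.Agent.Lib.Helper65.SF
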