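import Mathlib

/-!
Elements of `SL₂(5)`: for an element `x` of order three there is `i` with `i² = -1`
anticommuting with its conjugate by `x`; an element of order five.
-/

set_option autoImplicit false

namespace Cfsg.Agent.Lib.Helper53

open Matrix

set_option maxRecDepth 100000 in
theorem dec5 : ∀ a b c d : ZMod 5, a * d - b * c = 1 →
    (!![a, b; c, d] * !![a, b; c, d] * !![a, b; c, d] = (1 : Matrix (Fin 2) (Fin 2) (ZMod 5))) →
    (!![a, b; c, d] ≠ (1 : Matrix (Fin 2) (Fin 2) (ZMod 5))) →
    ∃ p q r : ZMod 5, p * p + q * r = -1 ∧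
      p * ((a * p + b * r) * d - (a * q - b * p) * c) + q * ((c * p + d * r) * d - (c * q - d * p) * c)
        + r * (-(a * p + b * r) * b + (a * q - b * p) * a)
        - p * (-(c * p + d * r) * b + (c * q - d * p) * a) = 0 := by
  decide

section
variable {K : Type*} [Field K] [Fintype K]

theorem exists_quaternion_elt (hK : Fintype.card K = 5) (x : SpecialLinearGroup (Fin 2) K)
    (hx : orderOf x = 3) :
    ∃ i : SpecialLinearGroup (Fin 2) K, i * i = -1 ∧
      (x * i * x⁻¹) * i = -(i * (x * i * x⁻¹)) := by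
  classical
  let f : ZMod 5 ≃+* K := ZMod.ringEquivOfPrime K (by norm_num) hK
  have hx3 : x * x * x = 1 := by
    have := pow_orderOf_eq_one x
    rw [hx] at this
    rw [← this]; simp [pow_succ]
  have hx1 : x ≠ 1 := by
    intro h; rw [h, orderOf_one] at hx; norm_num at hx
  set a := x.1 0 0 with ha
  set b := x.1 0 1 with hb
  set c := x.1 1 0 with hc
  set d := x.1 1 1 with hd
  have hxM : x.1 = !![a, b; c, d] := Matrix.eta_fin_two x.1
  have hdet : a * d - b * c = 1 := by
    have := x.2
    rw [Matrix.det_fin_two] at this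
    exact this
  -- transfer to ZMod 5
  have hdet0 : f.symm a * f.symm d - f.symm b * f.symm c = 1 := by
    rw [← map_mul, ← map_mul, ← map_sub, hdet, map_one]
  have hM3 : x.1 * x.1 * x.1 = 1 := by
    have := congrArg Subtype.val hx3
    rw [Matrix.SpecialLinearGroup.coe_mul, Matrix.SpecialLinearGroup.coe_mul] at this
    exact this
  have hmap : (f.symm : K →+* ZMod 5).mapMatrix x.1 =
      !![f.symm a, f.symm b; f.symm c, f.symm d] := by
    rw [hxM]
    ext i j
    fin_cases i <;> fin_cases j <;> simp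
  have hcube0 : !![f.symm a, f.symm b; f.symm c, f.symm d] * !![f.symm a, f.symm b; f.symm c, f.symm d]
      * !![f.symm a, f.symm b; f.symm c, f.symm d] = (1 : Matrix (Fin 2) (Fin 2) (ZMod 5)) := by
    rw [← hmap, ← map_mul, ← map_mul, hM3, map_one]
  have hne0 : !![f.symm a, f.symm b; f.symm c, f.symm d] ≠ (1 : Matrix (Fin 2) (Fin 2) (ZMod 5)) := by
    intro h
    apply hx1
    apply Subtype.ext
    rw [Matrix.SpecialLinearGroup.coe_one]
    have h00 := congrFun (congrFun h 0) 0
    have h01 := congrFun (congrFun h 0) 1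
    have h10 := congrFun (congrFun h 1) 0
    have h11 := congrFun (congrFun h 1) 1
    simp at h00 h01 h10 h11
    rw [hxM]
    ext i j
    fin_cases i <;> fin_cases j <;> simp [h00, h01, h10, h11]
  obtain ⟨p0, q0, r0, h1, h2⟩ := dec5 _ _ _ _ hdet0 hcube0 hne0
  have h1' : f p0 * f p0 + f q0 * f r0 = -1 := by
    have := congrArg f h1
    simpa only [map_add, map_mul, map_neg, map_one] using this
  have h2' : f p0 * ((a * f p0 + b * f r0) * d - (a * f q0 - b * f p0) * c)
      + f q0 * ((c * f p0 + d * f r0) * d - (c * f q0 - d * f p0) * c)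
      + f r0 * (-(a * f p0 + b * f r0) * b + (a * f q0 - b * f p0) * a)
      - f p0 * (-(c * f p0 + d * f r0) * b + (c * f q0 - d * f p0) * a) = 0 := by
    have := congrArg f h2
    simpa only [map_add, map_mul, map_neg, map_sub, map_zero, RingEquiv.apply_symm_apply] using this
  set p := f p0
  set q := f q0
  set r := f r0
  have hidet : (!![p, q; r, -p] : Matrix (Fin 2) (Fin 2) K).det = 1 := by
    rw [Matrix.det_fin_two]
    simp only [Matrix.of_apply, Matrix.cons_val', Matrix.cons_val_zero, Matrix.cons_val_one,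
      Matrix.empty_val', Matrix.cons_val_fin_one]
    linear_combination -h1'
  obtain ⟨i, hi⟩ : ∃ i : SpecialLinearGroup (Fin 2) K, i.1 = !![p, q; r, -p] := ⟨⟨_, hidet⟩, rfl⟩
  refine ⟨i, ?_, ?_⟩
  · ext k l
    rw [Matrix.SpecialLinearGroup.coe_mul, hi]
    fin_cases k <;> fin_cases l
    · simp [Matrix.mul_apply, Fin.sum_univ_two]; linear_combination h1'
    · simp [Matrix.mul_apply, Fin.sum_univ_two]; ring
    · simp [Matrix.mul_apply, Fin.sum_univ_two]; ring
    · simp [Matrix.mul_apply, Fin.sum_univ_two]; linear_combination h1'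
  · ext k l
    rw [Matrix.SpecialLinearGroup.coe_neg]
    simp only [Matrix.SpecialLinearGroup.coe_mul, Matrix.SpecialLinearGroup.coe_inv, hi, hxM,
      Matrix.adjugate_fin_two]
    fin_cases k <;> fin_cases l
    · simp [Matrix.mul_apply, Fin.sum_univ_two]; linear_combination h2'
    · simp [Matrix.mul_apply, Fin.sum_univ_two]; ring
    · simp [Matrix.mul_apply, Fin.sum_univ_two]; ring
    · simp [Matrix.mul_apply, Fin.sum_univ_two]; linear_combination h2'

theorem exists_order_five (hK : Fintype.card K = 5) :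
    ∃ y : SpecialLinearGroup (Fin 2) K, y ^ 5 = 1 ∧ y ≠ 1 := by
  have h5 : (5 : K) = 0 := by
    have := FiniteField.cast_card_eq_zero K
    rw [hK] at this
    exact_mod_cast this
  have hdet : (!![1, 1; 0, 1] : Matrix (Fin 2) (Fin 2) K).det = 1 := by
    rw [Matrix.det_fin_two]; simp
  obtain ⟨y, hy⟩ : ∃ y : SpecialLinearGroup (Fin 2) K, y.1 = !![1, 1; 0, 1] := ⟨⟨_, hdet⟩, rfl⟩
  refine ⟨y, ?_, ?_⟩
  · apply Subtype.ext
    rw [Matrix.SpecialLinearGroup.coe_pow, hy, Matrix.SpecialLinearGroup.coe_one]
    have h2 : (!![1, 1; 0, 1] : Matrix (Fin 2) (Fin 2) K) ^ 5 = !![1, 5; 0, 1] := by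
      simp only [pow_succ, pow_zero, one_mul]
      ext k l
      fin_cases k <;> fin_cases l <;> simp [Matrix.mul_apply, Fin.sum_univ_two] <;> norm_num
    rw [h2, h5]
    ext k l
    fin_cases k <;> fin_cases l <;> simp
  · intro h
    have := congrArg (fun m : SpecialLinearGroup (Fin 2) K => m.1 0 1) h
    simp [hy] at this

theorem neg_one_ne_one_sl2 (hK : Fintype.card K = 5) :
    (-1 : SpecialLinearGroup (Fin 2) K) ≠ 1 := by
  have h5 : (5 : K) = 0 := by
    have := FiniteField.cast_card_eq_zero K
    rw [hK] at this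
    exact_mod_cast this
  intro h
  have := congrArg (fun m : SpecialLinearGroup (Fin 2) K => m.1 0 0) h
  simp at this
  -- this : -1 = 1
  have h2 : (2 : K) = 0 := by linear_combination -this
  have h1 : (1 : K) = 0 := by linear_combination h5 - 2 * h2
  exact one_ne_zero h1

end

end Cfsg.Agent.Lib.Helper53
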