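import Mathlib

/-!
# Automorphisms of Schmidt type on a `p`-group

`IsSchAut p q α`: `α` is an automorphism of the finite `p`-group `S` with `α ^ q = 1`, `α ≠ 1`,
`q ≠ p` prime, and every proper `α`-invariant subgroup of `S` is fixed elementwise by `α`.
This is the situation of the normal Sylow subgroup of a minimal non-nilpotent group.
We derive: `S` is abelian, or special with `[x, S] = Z(S)` for all `x ∉ Z(S)`.
-/

set_option autoImplicit false
set_option linter.unusedSectionVars false
set_option linter.style.haveILetI false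

namespace Cfsg.Agent.Lib.Helper53.Sch

open scoped commutatorElement

variable {S : Type*} [Group S]

/-- The Schmidt condition on an automorphism of a `p`-group. -/
structure IsSchAut (p q : ℕ) (α : MulAut S) : Prop where
  pgroup : IsPGroup p S
  qprime : q.Prime
  ne : q ≠ p
  pow : α ^ q = 1
  ne_one : α ≠ 1
  min : ∀ T : Subgroup S, T ≠ ⊤ → (∀ t ∈ T, α t ∈ T) → ∀ t ∈ T, α t = t

theorem pow_apply_of_fix (α : MulAut S) (g n : S) (h1 : α g = g * n) (h2 : α n = n) (k : ℕ) :
    (α ^ k) g = g * n ^ k := by
  induction k with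
  | zero => simp
  | succ k ih =>
    rw [pow_succ', MulAut.mul_apply, ih, map_mul, map_pow, h1, h2, mul_assoc, ← pow_succ']

/-- Transport along an isomorphism. -/
theorem IsSchAut.congr {S' : Type*} [Group S'] {p q : ℕ} {α : MulAut S} (h : IsSchAut p q α)
    (e : S ≃* S') : IsSchAut p q (MulAut.congr e α) := by
  have happ : ∀ x : S', (MulAut.congr e α) x = e (α (e.symm x)) := fun x => rfl
  refine ⟨h.pgroup.of_equiv e, h.qprime, h.ne, ?_, ?_, ?_⟩
  · rw [← map_pow, h.pow, map_one]
  · intro h1
    apply h.ne_one
    have : MulAut.congr e α = MulAut.congr e 1 := by rw [h1, map_one]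
    exact (MulAut.congr e).injective this
  · intro T hT hinv t ht
    have hT' : T.comap e.toMonoidHom ≠ ⊤ := by
      intro htop
      apply hT
      rw [eq_top_iff]
      intro x _
      have : e.symm x ∈ T.comap e.toMonoidHom := by rw [htop]; exact Subgroup.mem_top _
      simpa using this
    have hinv' : ∀ s ∈ T.comap e.toMonoidHom, α s ∈ T.comap e.toMonoidHom := by
      intro s hs
      have hs' : e s ∈ T := hs
      have := hinv (e s) hs'
      rw [happ, e.symm_apply_apply] at this
      exact this
    have hfix := h.min _ hT' hinv' (e.symm t) (by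
      show e (e.symm t) ∈ T
      rw [e.apply_symm_apply]; exact ht)
    rw [happ, hfix, e.apply_symm_apply]

section main

variable [Finite S] {p q : ℕ} [hp : Fact p.Prime] {α : MulAut S}

/-- If `g⁻¹ α(g)` is fixed by `α` then `g` is fixed by `α`. -/
theorem IsSchAut.fix_of_comm_fix (h : IsSchAut p q α) (g : S)
    (hg : α (g⁻¹ * α g) = g⁻¹ * α g) : α g = g := by
  set n := g⁻¹ * α g with hn
  have h1 : α g = g * n := by rw [hn]; group
  have h3 := pow_apply_of_fix α g n h1 hg q
  rw [h.pow, MulAut.one_apply] at h3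
  have hnq : n ^ q = 1 := by
    have h4 : g * 1 = g * n ^ q := by rw [mul_one]; exact h3
    exact (mul_left_cancel h4).symm
  obtain ⟨k, hk⟩ := h.pgroup n
  have hcop : Nat.Coprime q (p ^ k) :=
    Nat.Coprime.pow_right k ((Nat.coprime_primes h.qprime hp.out).mpr h.ne)
  have hn1 : n = 1 := by
    have h1' : orderOf n ∣ Nat.gcd q (p ^ k) :=
      Nat.dvd_gcd (orderOf_dvd_of_pow_eq_one hnq) (orderOf_dvd_of_pow_eq_one hk)
    rw [hcop.gcd_eq_one, Nat.dvd_one] at h1'
    exact orderOf_eq_one_iff.mp h1'
  rw [h1, hn1, mul_one]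

/-- The fixed point subgroup. -/
def fixSub (α : MulAut S) : Subgroup S where
  carrier := {s | α s = s}
  one_mem' := map_one α
  mul_mem' := fun {a b} ha hb => by
    simp only [Set.mem_ofPred_eq] at *
    rw [map_mul, ha, hb]
  inv_mem' := fun {a} ha => by
    simp only [Set.mem_ofPred_eq] at *
    rw [map_inv, ha]

theorem mem_fixSub {α : MulAut S} {s : S} : s ∈ fixSub α ↔ α s = s := Iff.rfl

theorem fixSub_ne_top (h : IsSchAut p q α) : fixSub α ≠ ⊤ := by
  intro htop
  apply h.ne_one
  apply MulEquiv.ext
  intro g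
  rw [MulAut.one_apply]
  have : g ∈ fixSub α := by rw [htop]; exact Subgroup.mem_top _
  exact this

theorem le_fixSub (h : IsSchAut p q α) (T : Subgroup S) (hT : T ≠ ⊤) (hinv : ∀ t ∈ T, α t ∈ T) :
    T ≤ fixSub α := fun t ht => h.min T hT hinv t ht

theorem char_inv (H : Subgroup S) [hH : H.Characteristic] (α : MulAut S) : ∀ t ∈ H, α t ∈ H := by
  intro t ht
  have h1 : H.map α.toMonoidHom = H := Subgroup.characteristic_iff_map_eq.mp hH α
  rw [← h1]
  exact ⟨t, ht, rfl⟩

/-- `[S, α] = S`. -/
theorem IsSchAut.closure_comm_eq_top (h : IsSchAut p q α) :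
    Subgroup.closure {c : S | ∃ g : S, c = g⁻¹ * α g} = ⊤ := by
  by_contra hne
  have hinv : ∀ t ∈ Subgroup.closure {c : S | ∃ g : S, c = g⁻¹ * α g},
      α t ∈ Subgroup.closure {c : S | ∃ g : S, c = g⁻¹ * α g} := by
    intro t ht
    induction ht using Subgroup.closure_induction with
    | mem x hx =>
      obtain ⟨g, rfl⟩ := hx
      apply Subgroup.subset_closure
      exact ⟨α g, by rw [map_mul, map_inv]⟩
    | one => rw [map_one]; exact Subgroup.one_mem _
    | mul x y _ _ hx hy => rw [map_mul]; exact Subgroup.mul_mem _ hx hy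
    | inv x _ hx => rw [map_inv]; exact Subgroup.inv_mem _ hx
  have hfix := h.min _ hne hinv
  apply h.ne_one
  apply MulEquiv.ext
  intro g
  rw [MulAut.one_apply]
  exact h.fix_of_comm_fix g (hfix _ (Subgroup.subset_closure ⟨g, rfl⟩))

/-- A proper `α`-invariant normal subgroup is central. -/
theorem IsSchAut.le_center_of_normal (h : IsSchAut p q α) (N : Subgroup S) [hNn : N.Normal]
    (hN : N ≠ ⊤) (hinv : ∀ t ∈ N, α t ∈ N) : N ≤ Subgroup.center S := by
  have hfix := h.min N hN hinv
  have key : ∀ n ∈ N, ∀ g : S, n * (g⁻¹ * α g) = (g⁻¹ * α g) * n := by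
    intro n hn g
    set n' := g * n * g⁻¹ with hn'
    have hn'N : n' ∈ N := hNn.conj_mem n hn g
    have hmem : n'⁻¹ * g⁻¹ * n' * g ∈ N := by
      have e1 : n'⁻¹ * g⁻¹ * n' * g = n'⁻¹ * (g⁻¹ * n' * g⁻¹⁻¹) := by group
      rw [e1]
      exact N.mul_mem (N.inv_mem hn'N) (hNn.conj_mem n' hn'N g⁻¹)
    have hw := hfix _ hmem
    simp only [map_mul, map_inv, hfix n' hn'N] at hw
    have E : (α g)⁻¹ * n' * α g = g⁻¹ * n' * g := by
      calc (α g)⁻¹ * n' * α g = n' * (n'⁻¹ * (α g)⁻¹ * n' * α g) := by group
        _ = n' * (n'⁻¹ * g⁻¹ * n' * g) := by rw [hw]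
        _ = g⁻¹ * n' * g := by group
    have E2 : g⁻¹ * n' * g = n := by rw [hn']; group
    rw [E2] at E
    calc n * (g⁻¹ * α g) = (g⁻¹ * α g) * ((α g)⁻¹ * n' * α g) := by rw [hn']; group
      _ = (g⁻¹ * α g) * n := by rw [E]
  intro n hn
  rw [Subgroup.mem_center_iff]
  have hle : Subgroup.closure {c : S | ∃ g : S, c = g⁻¹ * α g} ≤
      Subgroup.centralizer ({n} : Set S) := by
    rw [Subgroup.closure_le]
    rintro c ⟨g, rfl⟩
    rw [SetLike.mem_coe, Subgroup.mem_centralizer_iff]
    intro m hm
    rw [Set.mem_singleton_iff] at hm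
    subst hm
    exact key m hn g
  intro g
  have hg : g ∈ Subgroup.centralizer ({n} : Set S) := by
    apply hle
    rw [h.closure_comm_eq_top]
    exact Subgroup.mem_top _
  rw [Subgroup.mem_centralizer_iff] at hg
  exact (hg n rfl).symm

variable (hna : ¬ ∀ a b : S, a * b = b * a)

include hna in
theorem center_ne_top : Subgroup.center S ≠ ⊤ := by
  intro htop
  apply hna
  intro a b
  have : b ∈ Subgroup.center S := by rw [htop]; exact Subgroup.mem_top _
  rw [Subgroup.mem_center_iff] at this
  exact this a

include hna in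
theorem nontrivial_of_na : Nontrivial S := by
  by_contra hnt
  rw [not_nontrivial_iff_subsingleton] at hnt
  exact hna (fun a b => Subsingleton.elim _ _)

include hna in
theorem commutator_ne_top (h : IsSchAut p q α) : commutator S ≠ ⊤ := by
  haveI := nontrivial_of_na hna
  haveI : Group.IsNilpotent S := h.pgroup.isNilpotent
  haveI : Group.IsSolvable S := inferInstance
  exact (Group.IsSolvable.commutator_lt_top_of_nontrivial S).ne

include hna in
/-- Class two. -/
theorem IsSchAut.commutator_le_center (h : IsSchAut p q α) : commutator S ≤ Subgroup.center S :=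
  h.le_center_of_normal (commutator S) (commutator_ne_top hna h) (char_inv (commutator S) α)

include hna in
theorem IsSchAut.commutatorElement_mem_center (h : IsSchAut p q α) (a b : S) :
    ⁅a, b⁆ ∈ Subgroup.center S := by
  apply h.commutator_le_center hna
  rw [commutator_eq_closure]
  exact Subgroup.subset_closure ⟨a, b, rfl⟩

include hna in
/-- The fixed points are the centre. -/
theorem IsSchAut.fixSub_eq_center (h : IsSchAut p q α) : fixSub α = Subgroup.center S := by
  apply le_antisymm
  · have hcl : commutator S ≤ fixSub α :=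
      le_fixSub h _ (commutator_ne_top hna h) (char_inv (commutator S) α)
    haveI : (fixSub α).Normal := by
      refine ⟨fun f hf g => ?_⟩
      have e1 : g * f * g⁻¹ = ⁅g, f⁆ * f := by rw [commutatorElement_def]; group
      rw [e1]
      apply Subgroup.mul_mem _ _ hf
      apply hcl
      rw [commutator_eq_closure]
      exact Subgroup.subset_closure ⟨g, f, rfl⟩
    apply h.le_center_of_normal (fixSub α) (fixSub_ne_top h)
    intro t ht
    rw [mem_fixSub] at ht ⊢
    rw [ht, ht]
  · exact le_fixSub h _ (center_ne_top hna) (char_inv (Subgroup.center S) α)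

include hna in
theorem IsSchAut.fix_of_mem_center (h : IsSchAut p q α) {z : S} (hz : z ∈ Subgroup.center S) :
    α z = z := by
  rw [← h.fixSub_eq_center hna] at hz
  exact hz

include hna in
theorem IsSchAut.mem_center_of_fix (h : IsSchAut p q α) {z : S} (hz : α z = z) :
    z ∈ Subgroup.center S := by
  rw [← h.fixSub_eq_center hna]
  exact hz

include hna in
/-- Invariant subgroups not in the centre are everything. -/
theorem IsSchAut.eq_top_of_not_le_center (h : IsSchAut p q α) (T : Subgroup S)
    (hinv : ∀ t ∈ T, α t ∈ T) {x : S} (hx : x ∈ T) (hxZ : x ∉ Subgroup.center S) : T = ⊤ := by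
  by_contra hT
  apply hxZ
  exact h.mem_center_of_fix hna (h.min T hT hinv x hx)

include hna in
/-- `S / Z(S)` has exponent `p`. -/
theorem IsSchAut.pow_mem_center (h : IsSchAut p q α) (g : S) : g ^ p ∈ Subgroup.center S := by
  classical
  have hcomm : ∀ a b : S, Commute (QuotientGroup.mk' (Subgroup.center S) a)
      (QuotientGroup.mk' (Subgroup.center S) b) := by
    intro a b
    show QuotientGroup.mk' (Subgroup.center S) a * QuotientGroup.mk' (Subgroup.center S) b =
      QuotientGroup.mk' (Subgroup.center S) b * QuotientGroup.mk' (Subgroup.center S) a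
    rw [← map_mul, ← map_mul, QuotientGroup.mk'_apply, QuotientGroup.mk'_apply, QuotientGroup.eq]
    have e1 : (a * b)⁻¹ * (b * a) = ⁅b⁻¹, a⁻¹⁆ := by rw [commutatorElement_def]; group
    rw [e1]
    exact h.commutatorElement_mem_center hna _ _
  let T : Subgroup S :=
    { carrier := {g | g ^ p ∈ Subgroup.center S}
      one_mem' := by
        simp only [Set.mem_ofPred_eq, one_pow]
        exact Subgroup.one_mem _
      mul_mem' := by
        intro a b ha hb
        simp only [Set.mem_ofPred_eq] at *
        rw [← QuotientGroup.eq_one_iff] at ha hb ⊢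
        have e1 : ((a * b) ^ p : S) = ((a * b) ^ p) := rfl
        have := (hcomm a b).mul_pow p
        rw [QuotientGroup.mk'_apply, QuotientGroup.mk'_apply] at this
        rw [QuotientGroup.mk_pow, QuotientGroup.mk_mul, this, ← QuotientGroup.mk_pow,
          ← QuotientGroup.mk_pow, ha, hb, one_mul]
      inv_mem' := by
        intro a ha
        simp only [Set.mem_ofPred_eq] at *
        rw [inv_pow]
        exact Subgroup.inv_mem _ ha }
  have hTmem : ∀ g : S, g ∈ T ↔ g ^ p ∈ Subgroup.center S := fun g => Iff.rfl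
  have hTinv : ∀ t ∈ T, α t ∈ T := by
    intro t ht
    rw [hTmem] at ht ⊢
    rw [← map_pow]
    exact char_inv (Subgroup.center S) α _ ht
  -- an element outside the centre with p-th power inside
  obtain ⟨a, b, hab⟩ : ∃ a b : S, a * b ≠ b * a := by
    by_contra hcon
    push Not at hcon
    exact hna hcon
  have hbZ : b ∉ Subgroup.center S := by
    intro hb
    rw [Subgroup.mem_center_iff] at hb
    exact hab (hb a)
  obtain ⟨k, hk⟩ := h.pgroup b
  have hex : ∃ k : ℕ, b ^ p ^ k ∈ Subgroup.center S := ⟨k, by rw [hk]; exact Subgroup.one_mem _⟩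
  have hk0 : Nat.find hex ≠ 0 := by
    intro h0
    have := Nat.find_spec hex
    rw [h0, pow_zero, pow_one] at this
    exact hbZ this
  obtain ⟨j, hj⟩ := Nat.exists_eq_succ_of_ne_zero hk0
  have hjlt : j < Nat.find hex := by omega
  have h1 : b ^ p ^ j ∉ Subgroup.center S := Nat.find_min hex hjlt
  have h2 : (b ^ p ^ j) ^ p ∈ Subgroup.center S := by
    have := Nat.find_spec hex
    rw [hj, pow_succ, pow_mul] at this
    exact this
  have hTtop : T = ⊤ := h.eq_top_of_not_le_center hna T hTinv ((hTmem _).2 h2) h1
  have : g ∈ T := by rw [hTtop]; exact Subgroup.mem_top _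
  exact (hTmem g).1 this

include hna in
/-- `Z(S) ≤ S'`. -/
theorem IsSchAut.center_le_commutator (h : IsSchAut p q α) :
    Subgroup.center S ≤ commutator S := by
  classical
  let c : S →* Abelianization S :=
    { toFun := fun g => Abelianization.of (g⁻¹ * α g)
      map_one' := by simp
      map_mul' := by
        intro a b
        simp only [map_mul, map_inv, mul_inv_rev]
        rw [mul_comm] 
        simp only [mul_assoc, mul_comm, mul_left_comm] }
  have hcapp : ∀ g : S, c g = Abelianization.of (g⁻¹ * α g) := fun g => rfl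
  have hsurj : Function.Surjective c := by
    rw [← MonoidHom.range_eq_top, eq_top_iff]
    have h1 : (Subgroup.closure {x : S | ∃ g : S, x = g⁻¹ * α g}).map Abelianization.of ≤ c.range := by
      rw [MonoidHom.map_closure, Subgroup.closure_le]
      rintro y ⟨x, ⟨g, rfl⟩, rfl⟩
      exact ⟨g, rfl⟩
    rw [h.closure_comm_eq_top] at h1
    intro y _
    obtain ⟨x, rfl⟩ := QuotientGroup.mk_surjective y
    exact h1 ⟨x, Subgroup.mem_top _, rfl⟩
  have hker1 : commutator S ≤ c.ker := Abelianization.commutator_subset_ker c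
  have hcard1 : Nat.card S = Nat.card c.ker * Nat.card (Abelianization S) := by
    have e := QuotientGroup.quotientKerEquivOfSurjective c hsurj
    rw [← Nat.card_congr e.toEquiv, ← Subgroup.index_eq_card, mul_comm,
      Subgroup.index_mul_card]
  have hcard2 : Nat.card S = Nat.card (commutator S) * Nat.card (Abelianization S) := by
    have : Nat.card (Abelianization S) = (commutator S).index := by
      rw [Subgroup.index_eq_card]; rfl
    rw [this, mul_comm, Subgroup.index_mul_card]
  have hpos : 0 < Nat.card (Abelianization S) := Nat.card_pos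
  have hcardeq : Nat.card c.ker = Nat.card (commutator S) := by
    have := hcard1.symm.trans hcard2
    exact Nat.eq_of_mul_eq_mul_right hpos this
  have hkereq : commutator S = c.ker :=
    Subgroup.eq_of_le_of_card_ge hker1 (le_of_eq hcardeq)
  intro z hz
  rw [hkereq, MonoidHom.mem_ker, hcapp, h.fix_of_mem_center hna hz, inv_mul_cancel, map_one]

include hna in
/-- For `x` outside the centre, `[x, S] = Z(S)`. -/
theorem IsSchAut.exists_commutator_eq (h : IsSchAut p q α) (x : S) (hx : x ∉ Subgroup.center S)
    (z : S) (hz : z ∈ Subgroup.center S) : ∃ g : S, ⁅x, g⁆ = z := by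
  classical
  have hcz : ∀ a b : S, ∀ t : S, ⁅a, b⁆ * t = t * ⁅a, b⁆ := by
    intro a b t
    have := h.commutatorElement_mem_center hna a b
    rw [Subgroup.mem_center_iff] at this
    exact (this t).symm
  have hmulr : ∀ y g k : S, ⁅y, g * k⁆ = ⁅y, g⁆ * ⁅y, k⁆ := by
    intro y g k
    have e1 : ⁅y, g * k⁆ = ⁅y, g⁆ * (g * ⁅y, k⁆ * g⁻¹) := by
      simp only [commutatorElement_def]; group
    rw [e1, ← hcz y k g, mul_inv_cancel_right]
  have hmull : ∀ y y' g : S, ⁅y * y', g⁆ = ⁅y', g⁆ * ⁅y, g⁆ := by
    intro y y' g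
    have e1 : ⁅y * y', g⁆ = (y * ⁅y', g⁆ * y⁻¹) * ⁅y, g⁆ := by
      simp only [commutatorElement_def]; group
    rw [e1, ← hcz y' g y, mul_inv_cancel_right]
  let Z₁ : Subgroup S :=
    { carrier := {w | ∃ g : S, ⁅x, g⁆ = w}
      one_mem' := ⟨1, by simp⟩
      mul_mem' := by
        rintro _ _ ⟨g, rfl⟩ ⟨k, rfl⟩
        exact ⟨g * k, hmulr x g k⟩
      inv_mem' := by
        rintro _ ⟨g, rfl⟩
        refine ⟨g⁻¹, ?_⟩
        have := hmulr x g g⁻¹
        rw [mul_inv_cancel, commutatorElement_one_right] at this
        exact (eq_inv_of_mul_eq_one_right this.symm) }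
  have hZ₁mem : ∀ w : S, w ∈ Z₁ ↔ ∃ g : S, ⁅x, g⁆ = w := fun w => Iff.rfl
  have hZ₁Z : ∀ w ∈ Z₁, w ∈ Subgroup.center S := by
    rintro w ⟨g, rfl⟩
    exact h.commutatorElement_mem_center hna _ _
  let N : Subgroup S :=
    { carrier := {y | ∀ g : S, ⁅y, g⁆ ∈ Z₁}
      one_mem' := by
        intro g
        rw [commutatorElement_one_left]; exact Z₁.one_mem
      mul_mem' := by
        intro a b ha hb g
        rw [hmull]
        exact Z₁.mul_mem (hb g) (ha g)
      inv_mem' := by
        intro a ha g
        have := hmull a a⁻¹ g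
        rw [mul_inv_cancel, commutatorElement_one_left] at this
        have e : ⁅a⁻¹, g⁆ = (⁅a, g⁆)⁻¹ := eq_inv_of_mul_eq_one_left this.symm
        rw [e]
        exact Z₁.inv_mem (ha g) }
  have hNmem : ∀ y : S, y ∈ N ↔ ∀ g : S, ⁅y, g⁆ ∈ Z₁ := fun y => Iff.rfl
  have hNinv : ∀ t ∈ N, α t ∈ N := by
    intro t ht
    rw [hNmem] at ht ⊢
    intro g
    have h1 := ht (α.symm g)
    have h2 : α ⁅t, α.symm g⁆ = ⁅α t, g⁆ := by
      rw [map_commutatorElement, MulEquiv.apply_symm_apply]
    have h3 : α ⁅t, α.symm g⁆ = ⁅t, α.symm g⁆ := h.fix_of_mem_center hna (hZ₁Z _ h1)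
    rw [← h2, h3]
    exact h1
  have hxN : x ∈ N := by
    rw [hNmem]
    intro g
    exact ⟨g, rfl⟩
  have hNtop : N = ⊤ := h.eq_top_of_not_le_center hna N hNinv hxN hx
  have hle : commutator S ≤ Z₁ := by
    rw [commutator_eq_closure, Subgroup.closure_le]
    rintro w ⟨a, b, rfl⟩
    have : a ∈ N := by rw [hNtop]; exact Subgroup.mem_top _
    exact (hNmem a).1 this b
  exact (hZ₁mem z).1 (hle (h.center_le_commutator hna hz))

theorem IsSchAut.card_modEq (h : IsSchAut p q α) :
    Nat.card S ≡ Nat.card (fixSub α) [MOD q] := by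
  classical
  haveI := Fintype.ofFinite S
  haveI : Fact q.Prime := ⟨h.qprime⟩
  let F : Function.End S := fun s => α s
  have hpow : ∀ n : ℕ, ∀ x, (F ^ n) x = (α ^ n) x := by
    intro n
    induction n with
    | zero => intro x; rfl
    | succ n ih =>
      intro x
      rw [pow_succ, pow_succ]
      show (F ^ n) (F x) = (α ^ n) (α x)
      rw [ih]
  have h1 : F ^ q ^ 1 = 1 := by
    rw [pow_one]
    funext x
    rw [hpow, h.pow]; rfl
  have h2 := Equiv.Perm.card_fixedPoints_modEq (f := F) h1
  rw [Nat.card_eq_fintype_card]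
  have h3 : Fintype.card (Function.fixedPoints F) = Nat.card (fixSub α) := by
    rw [← Nat.card_eq_fintype_card]
    rfl
  rw [h3] at h2
  exact h2

theorem mem_centralizer_singleton {x g : S} :
    x ∈ Subgroup.centralizer ({g} : Set S) ↔ g * x = x * g := by
  rw [Subgroup.mem_centralizer_iff]
  constructor
  · intro h; exact h g rfl
  · intro h m hm
    rw [Set.mem_singleton_iff] at hm
    subst hm
    exact h

include hna in
/-- If an invariant subgroup containing `g` centralizes `g`, then `g` is central. -/
theorem IsSchAut.mem_center_of_invariant (h : IsSchAut p q α) (T : Subgroup S)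
    (hinv : ∀ t ∈ T, α t ∈ T) {g : S} (hg : g ∈ T)
    (hc : T ≤ Subgroup.centralizer ({g} : Set S)) : g ∈ Subgroup.center S := by
  by_contra hgZ
  have hTtop := h.eq_top_of_not_le_center hna T hinv hg hgZ
  apply hgZ
  rw [Subgroup.mem_center_iff]
  intro x
  have hx : x ∈ T := by rw [hTtop]; exact Subgroup.mem_top _
  exact (mem_centralizer_singleton.1 (hc hx)).symm

include hna in
/-- `q ≠ 2` for nonabelian `S`. -/
theorem IsSchAut.q_ne_two (h : IsSchAut p q α) : q ≠ 2 := by
  intro hq2
  have hα2 : α ^ 2 = 1 := by rw [← hq2]; exact h.pow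
  have hαα : ∀ g : S, α (α g) = g := by
    intro g
    have := congrArg (fun β : MulAut S => β g) hα2
    simpa [pow_two, MulAut.mul_apply] using this
  have hm : ∀ g : S, g * α g ∈ Subgroup.center S := by
    intro g
    apply h.mem_center_of_fix hna
    apply h.fix_of_comm_fix
    have e1 : (g * α g)⁻¹ * α (g * α g) = ⁅(α g)⁻¹, g⁻¹⁆ := by
      rw [map_mul, hαα, commutatorElement_def]; group
    rw [e1]
    exact h.fix_of_mem_center hna (h.commutatorElement_mem_center hna _ _)
  apply hna
  have hall : ∀ g : S, g ∈ Subgroup.center S := by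
    intro g
    let T : Subgroup S := Subgroup.center S ⊔ Subgroup.zpowers g
    have hgT : g ∈ T := (le_sup_right : Subgroup.zpowers g ≤ T) (Subgroup.mem_zpowers g)
    have hTinv : ∀ t ∈ T, α t ∈ T := by
      intro t ht
      have : T.map α.toMonoidHom ≤ T := by
        rw [Subgroup.map_sup]
        apply sup_le
        · rintro _ ⟨z, hz, rfl⟩
          exact (le_sup_left : Subgroup.center S ≤ T) (char_inv _ α z hz)
        · rw [MonoidHom.map_zpowers, Subgroup.zpowers_le]
          have e2 : α g = g⁻¹ * (g * α g) := by group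
          show α g ∈ T
          rw [e2]
          exact T.mul_mem (T.inv_mem hgT) ((le_sup_left : Subgroup.center S ≤ T) (hm g))
      exact this ⟨t, ht, rfl⟩
    apply h.mem_center_of_invariant hna T hTinv hgT
    apply sup_le
    · intro z hz
      rw [mem_centralizer_singleton]
      rw [Subgroup.mem_center_iff] at hz
      exact hz g
    · rw [Subgroup.zpowers_le, mem_centralizer_singleton]
  intro a b
  have := hall b
  rw [Subgroup.mem_center_iff] at this
  exact this a

include hna in
theorem IsSchAut.card_center_of_card (h : IsSchAut p q α) (hcard : Nat.card S = p ^ 3) :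
    Nat.card (Subgroup.center S) = p := by
  haveI := nontrivial_of_na hna
  haveI : Nontrivial (Subgroup.center S) := h.pgroup.center_nontrivial
  obtain ⟨k, hk⟩ := (IsPGroup.iff_card.mp (h.pgroup.to_subgroup (Subgroup.center S)))
  have hdvd : p ^ k ∣ p ^ 3 := by
    rw [← hk, ← hcard]; exact Subgroup.card_subgroup_dvd_card _
  have hk3 : k ≤ 3 := (Nat.pow_dvd_pow_iff_le_right hp.out.one_lt).mp hdvd
  have hk0 : k ≠ 0 := by
    intro h0
    rw [h0, pow_zero] at hk
    have : 1 < Nat.card (Subgroup.center S) := Finite.one_lt_card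
    omega
  have hk3' : k ≠ 3 := by
    intro h3
    apply center_ne_top hna
    apply Subgroup.eq_top_of_card_eq
    rw [hk, h3, hcard]
  have hk2 : k ≠ 2 := by
    intro h2
    apply hna
    have hidx : (Subgroup.center S).index = p := by
      have := Subgroup.index_mul_card (Subgroup.center S)
      rw [hk, h2, hcard] at this
      have hp0 : 0 < p ^ 2 := pow_pos hp.out.pos 2
      have e : p ^ 3 = p * p ^ 2 := by ring
      rw [e] at this
      exact Nat.eq_of_mul_eq_mul_right hp0 this
    have hcq : Nat.card (S ⧸ Subgroup.center S) = p := by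
      rw [← Subgroup.index_eq_card]; exact hidx
    haveI : IsCyclic (S ⧸ Subgroup.center S) := isCyclic_of_prime_card hcq
    intro a b
    have hcm := MonoidHom.isMulCommutative_of_isCyclic_of_ker_le_center
      (QuotientGroup.mk' (Subgroup.center S)) (by rw [QuotientGroup.ker_mk'])
    exact hcm.is_comm.comm a b
  have : k = 1 := by omega
  rw [hk, this, pow_one]

include hna in
/-- The small case: order `p ^ 3`. -/
theorem IsSchAut.small (h : IsSchAut p q α) (hcard : Nat.card S = p ^ 3) :
    p ≠ 3 ∧ (p = 2 → ∀ r : S, r ^ 2 = 1 → r ∈ Subgroup.center S) := by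
  have hZcard := h.card_center_of_card hna hcard
  have hmod := h.card_modEq
  rw [h.fixSub_eq_center hna, hcard, hZcard] at hmod
  have hle : p ≤ p ^ 3 := by
    calc p = p ^ 1 := (pow_one p).symm
      _ ≤ p ^ 3 := Nat.pow_le_pow_right hp.out.pos (by norm_num)
  have hdvd : q ∣ p ^ 3 - p := (Nat.modEq_iff_dvd' hle).mp hmod.symm
  have hq2 := h.q_ne_two hna
  constructor
  · intro hp3
    rw [hp3] at hdvd
    have h24 : q ∣ 24 := by simpa using hdvd
    have hq3 : q ≠ 3 := by rw [← hp3]; exact h.ne
    have hqle : q ≤ 24 := Nat.le_of_dvd (by norm_num) h24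
    have hqp := h.qprime
    interval_cases q <;> simp_all (config := { decide := true })
  · intro hp2 r hr
    rw [hp2] at hdvd
    have h6 : q ∣ 6 := by simpa using hdvd
    have hq3 : q = 3 := by
      have hqle : q ≤ 6 := Nat.le_of_dvd (by norm_num) h6
      have hqp := h.qprime
      interval_cases q <;> simp_all (config := { decide := true })
    have hα3 : ∀ g : S, α (α (α g)) = g := by
      intro g
      have h3 : α ^ 3 = 1 := by rw [← hq3]; exact h.pow
      have := congrArg (fun β : MulAut S => β g) h3
      simpa [pow_succ, MulAut.mul_apply] using this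
    set a := r with ha
    set b := α r with hb
    set c := α (α r) with hc
    have hαa : α a = b := rfl
    have hαb : α b = c := rfl
    have hαc : α c = a := hα3 r
    have ha2 : a ^ 2 = 1 := hr
    have hb2 : b ^ 2 = 1 := by rw [hb, ← map_pow, hr, map_one]
    have hc2 : c ^ 2 = 1 := by rw [hc, ← map_pow, ← map_pow, hr, map_one, map_one]
    -- n = a b c is central
    have hn : a * b * c ∈ Subgroup.center S := by
      apply h.mem_center_of_fix hna
      apply h.fix_of_comm_fix
      have e1 : (a * b * c)⁻¹ * α (a * b * c) = ⁅(a * b * c)⁻¹, a⁻¹⁆ := by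
        rw [map_mul, map_mul, hαa, hαb, hαc, commutatorElement_def]; group
      rw [e1]
      exact h.fix_of_mem_center hna (h.commutatorElement_mem_center hna _ _)
    have hn2 : (a * b * c) ^ 2 = 1 := by
      have h1 : (⟨a * b * c, hn⟩ : Subgroup.center S) ^ Nat.card (Subgroup.center S) = 1 :=
        pow_card_eq_one'
      rw [hZcard, hp2] at h1
      exact congrArg Subtype.val h1
    -- (a b)^2 = 1
    have hab2 : (a * b) ^ 2 = 1 := by
      have e1 : a * b = (a * b * c) * c⁻¹ := by group
      have hcomm : Commute (a * b * c) c⁻¹ := by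
        rw [Subgroup.mem_center_iff] at hn
        exact (hn c⁻¹).symm
      rw [e1, hcomm.mul_pow, hn2, one_mul, inv_pow, hc2, inv_one]
    have hab : a * b = b * a := by
      have h1 : a * b * (a * b) = 1 := by rw [← pow_two]; exact hab2
      have ha' : a * a = 1 := by rw [← pow_two]; exact ha2
      have hb' : b * b = 1 := by rw [← pow_two]; exact hb2
      have hainv : a⁻¹ = a := inv_eq_of_mul_eq_one_right ha'
      have hbinv : b⁻¹ = b := inv_eq_of_mul_eq_one_right hb'
      have h2 : (a * b)⁻¹ = a * b := inv_eq_of_mul_eq_one_right h1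
      rw [mul_inv_rev, hbinv, hainv] at h2
      exact h2.symm
    have hbc : b * c = c * b := by
      have := congrArg α hab
      rwa [map_mul, map_mul, hαa, hαb] at this
    have hca : c * a = a * c := by
      have := congrArg α hbc
      rwa [map_mul, map_mul, hαb, hαc] at this
    let T : Subgroup S := Subgroup.center S ⊔ Subgroup.closure {a, b, c}
    have hcl : Subgroup.closure ({a, b, c} : Set S) ≤ T := le_sup_right
    have haT : a ∈ T := hcl (Subgroup.subset_closure (by simp))
    have hbT : b ∈ T := hcl (Subgroup.subset_closure (by simp))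
    have hcT : c ∈ T := hcl (Subgroup.subset_closure (by simp))
    have hTinv : ∀ t ∈ T, α t ∈ T := by
      intro t ht
      have : T.map α.toMonoidHom ≤ T := by
        rw [Subgroup.map_sup]
        apply sup_le
        · rintro _ ⟨z, hz, rfl⟩
          exact (le_sup_left : Subgroup.center S ≤ T) (char_inv _ α z hz)
        · rw [MonoidHom.map_closure, Subgroup.closure_le]
          rintro _ ⟨y, hy, rfl⟩
          rcases hy with rfl | rfl | rfl
          · exact hbT
          · exact hcT
          · show α c ∈ T
            rw [hαc]; exact haT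
      exact this ⟨t, ht, rfl⟩
    apply h.mem_center_of_invariant hna T hTinv haT
    apply sup_le
    · intro z hz
      rw [mem_centralizer_singleton]
      rw [Subgroup.mem_center_iff] at hz
      exact hz a
    · rw [Subgroup.closure_le]
      intro y hy
      rw [SetLike.mem_coe, mem_centralizer_singleton]
      rcases hy with rfl | rfl | rfl
      · rfl
      · exact hab
      · exact hca.symm

/-- The intrinsic consequences of the Schmidt condition used in the `p`-length argument. -/
structure Props (p : ℕ) (S : Type*) [Group S] : Prop where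
  comm_mem : ∀ a b : S, ⁅a, b⁆ ∈ Subgroup.center S
  pow_mem : ∀ g : S, g ^ p ∈ Subgroup.center S
  surj : ∀ x : S, x ∉ Subgroup.center S → ∀ z ∈ Subgroup.center S, ∃ g : S, ⁅x, g⁆ = z
  small : Nat.card S = p ^ 3 →
    p ≠ 3 ∧ (p = 2 → ∀ r : S, r ^ 2 = 1 → r ∈ Subgroup.center S)

theorem IsSchAut.props (h : IsSchAut p q α) : (∀ a b : S, a * b = b * a) ∨ Props p S := by
  by_cases hna : ∀ a b : S, a * b = b * a
  · exact Or.inl hna
  · exact Or.inr ⟨h.commutatorElement_mem_center hna, h.pow_mem_center hna,
      h.exists_commutator_eq hna, h.small hna⟩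

end main

end Cfsg.Agent.Lib.Helper53.Sch
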