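import Mathlib
import Cfsg.Prelude.Def_SolvableStructure
import Cfsg.Agent.Lib.Helper96.Schmidt
import Cfsg.Agent.Lib.Helper96.Schmidt3
import Cfsg.Agent.Lib.Helper53.SchA

/-!
# The normal Sylow subgroup of a minimal non-nilpotent group carries a Schmidt automorphism
-/

set_option autoImplicit false
set_option linter.unusedSectionVars false
set_option linter.style.haveILetI false

namespace Cfsg.Agent.Lib.Helper53.Sch

open scoped Pointwise

theorem conj_pow_mem {X : Type*} [Group X] (T : Subgroup X) (y : X)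
    (h : ∀ t ∈ T, y * t * y⁻¹ ∈ T) (n : ℕ) : ∀ t ∈ T, y ^ n * t * (y ^ n)⁻¹ ∈ T := by
  induction n with
  | zero => intro t ht; simpa using ht
  | succ n ih =>
    intro t ht
    have e : y ^ (n + 1) * t * (y ^ (n + 1))⁻¹ = y * (y ^ n * t * (y ^ n)⁻¹) * y⁻¹ := by
      rw [pow_succ']; group
    rw [e]
    exact h _ (ih t ht)

theorem mem_normalizer_of_conj_mem {X : Type*} [Group X] [Finite X] (T : Subgroup X) (y : X)
    (h : ∀ t ∈ T, y * t * y⁻¹ ∈ T) : y ∈ Subgroup.normalizer (T : Set X) := by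
  rw [Subgroup.mem_normalizer_iff]
  intro t
  constructor
  · exact h t
  · intro ht
    have hpos : 0 < orderOf y := orderOf_pos y
    have hinv : y ^ (orderOf y - 1) = y⁻¹ := by
      have h1 : y * y ^ (orderOf y - 1) = 1 := by
        rw [← pow_succ', Nat.sub_add_cancel hpos, pow_orderOf_eq_one]
      exact (inv_eq_of_mul_eq_one_right h1).symm
    have := conj_pow_mem T y h (orderOf y - 1) _ ht
    rw [hinv] at this
    have e : y⁻¹ * (y * t * y⁻¹) * y⁻¹⁻¹ = t := by group
    rw [e] at this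
    exact this

theorem exists_isSchAut {X : Type*} [Group X] [Finite X] (p : ℕ) [hp : Fact p.Prime]
    (hX : Cfsg.IsMinimalNonNilpotent X) (P : Sylow p X) (hPn : (P : Subgroup X).Normal)
    (hP1 : (P : Subgroup X) ≠ ⊥) :
    ∃ (q : ℕ) (α : MulAut ↥(P : Subgroup X)), IsSchAut p q α := by
  classical
  obtain ⟨q, p₀, hq, hp₀, hne, Y, P₀, hYc, hP₀n, hsup, hYn, hnc⟩ :=
    Cfsg.Agent.Lib.Helper96.schmidt_structure hX.1 hX.2
  haveI := Sylow.unique_of_normal P hPn
  -- `p = p₀`
  have hpp : p = p₀ := by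
    obtain ⟨a, b, hcard⟩ := Cfsg.Agent.Lib.Helper96.card_eq_of_sup_eq_top Y P₀ hP₀n hsup
    have hpd : p ∣ Nat.card X := by
      have h1 : p ∣ Nat.card (P : Subgroup X) := by
        obtain ⟨k, hk⟩ := IsPGroup.iff_card.mp P.2
        have hk0 : k ≠ 0 := by
          intro h0
          rw [h0, pow_zero] at hk
          exact hP1 (Subgroup.card_eq_one.mp hk)
        rw [hk]
        exact dvd_pow_self p hk0
      exact h1.trans (Subgroup.card_subgroup_dvd_card _)
    rw [hcard] at hpd
    rcases (Nat.Prime.dvd_mul hp.out).mp hpd with h | h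
    · have hpq : p = q :=
        (Nat.prime_dvd_prime_iff_eq hp.out hq.out).mp (hp.out.dvd_of_dvd_pow h)
      exfalso
      subst hpq
      apply hYn
      have : Y = P := Subsingleton.elim _ _
      rw [this]
      exact hPn
    · exact (Nat.prime_dvd_prime_iff_eq hp.out hp₀.out).mp (hp.out.dvd_of_dvd_pow h)
  subst hpp
  have hPP : P₀ = P := Subsingleton.elim _ _
  subst hPP
  -- generator of `Y`
  obtain ⟨⟨y, hyY⟩, hygen⟩ := hYc.exists_generator
  have hYpow : ∀ x ∈ (Y : Subgroup X), x ∈ Subgroup.zpowers y := by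
    intro x hx
    obtain ⟨k, hk⟩ := Subgroup.mem_zpowers_iff.mp (hygen ⟨x, hx⟩)
    rw [Subgroup.mem_zpowers_iff]
    refine ⟨k, ?_⟩
    have := congrArg Subtype.val hk
    simpa using this
  have hzY : Subgroup.zpowers y ≤ (Y : Subgroup X) := by
    rw [Subgroup.zpowers_le]; exact hyY
  have hdisj : ∀ x : X, x ∈ (P₀ : Subgroup X) → x ∈ (Y : Subgroup X) → x = 1 := by
    intro x hxP hxY
    have := IsPGroup.disjoint_of_ne p q (Ne.symm hne) _ _ P₀.2 Y.2
    rw [Subgroup.disjoint_def] at this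
    exact this hxP hxY
  obtain ⟨l, hyl⟩ : ∃ l : ℕ, y ^ q ^ l = 1 := by
    obtain ⟨l, hl⟩ := Y.2 ⟨y, hyY⟩
    exact ⟨l, by simpa using congrArg Subtype.val hl⟩
  have hPpow : ∀ x ∈ (P₀ : Subgroup X), ∃ k : ℕ, x ^ p ^ k = 1 := by
    intro x hx
    obtain ⟨k, hk⟩ := P₀.2 ⟨x, hx⟩
    exact ⟨k, by simpa using congrArg Subtype.val hk⟩
  -- `y` does not centralize `P`
  have hyP : ¬ ∀ x ∈ (P₀ : Subgroup X), y * x = x * y := by
    intro hcomm
    apply hnc
    intro a ha x hx
    obtain ⟨k, rfl⟩ := Subgroup.mem_zpowers_iff.mp (hYpow a ha)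
    have : Commute y x := hcomm x hx
    exact this.zpow_left k
  have hy1 : y ≠ 1 := by
    intro h1
    apply hyP
    intro x _
    rw [h1, one_mul, mul_one]
  -- `y ^ q` centralizes `P`
  have hyq : ∀ x ∈ (P₀ : Subgroup X), y ^ q * x = x * y ^ q := by
    intro x hx
    have hHne : (P₀ : Subgroup X) ⊔ Subgroup.zpowers (y ^ q) ≠ ⊤ := by
      intro htop
      have hy : y ∈ ((P₀ : Subgroup X) ⊔ Subgroup.zpowers (y ^ q) : Subgroup X) := by
        rw [htop]; exact Subgroup.mem_top _
      rw [← SetLike.mem_coe, Subgroup.normal_mul] at hy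
      obtain ⟨a, ha, b, hb, hab⟩ := hy
      obtain ⟨k, rfl⟩ := Subgroup.mem_zpowers_iff.mp hb
      have hab' : a * (y ^ q) ^ k = y := hab
      have ha' : a = y ^ (1 - (q : ℤ) * k) := by
        have : a = y * ((y ^ q) ^ k)⁻¹ := eq_mul_inv_of_mul_eq hab'
        rw [this, zpow_sub, zpow_one, zpow_mul, zpow_natCast]
      have haY : a ∈ (Y : Subgroup X) := by
        rw [ha']; exact hzY (Subgroup.zpow_mem_zpowers y _)
      have ha1 : a = 1 := hdisj a ha haY
      rw [ha1] at ha'
      have hdvd : (orderOf y : ℤ) ∣ 1 - (q : ℤ) * k := orderOf_dvd_iff_zpow_eq_one.mpr ha'.symm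
      have hdvd2 : orderOf y ∣ q ^ l := orderOf_dvd_of_pow_eq_one hyl
      obtain ⟨j, _, hj⟩ := (Nat.dvd_prime_pow hq.out).mp hdvd2
      have hj0 : j ≠ 0 := by
        intro h0
        rw [h0, pow_zero, orderOf_eq_one_iff] at hj
        exact hy1 hj
      have hqd : (q : ℤ) ∣ (orderOf y : ℤ) := by
        rw [hj]; push_cast; exact dvd_pow_self _ hj0
      have h1 : (q : ℤ) ∣ 1 := by
        have h2 := hqd.trans hdvd
        have h3 : (q : ℤ) ∣ (q : ℤ) * k := dvd_mul_right _ _
        have := dvd_add h2 h3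
        simpa using this
      have := Int.natAbs_dvd_natAbs.mpr h1
      simp at this
      exact hq.out.one_lt.ne' this
    have hnil := hX.2 _ hHne
    obtain ⟨k, hk⟩ := hPpow x hx
    have hyql : (y ^ q) ^ q ^ l = 1 := by rw [← pow_mul, mul_comm, pow_mul, hyl, one_pow]
    have := Cfsg.Agent.Lib.Helper96.commute_of_isNilpotent_subgroup _ hnil hne
      (x := y ^ q) (y := x)
      ((le_sup_right : Subgroup.zpowers (y ^ q) ≤ _) (Subgroup.mem_zpowers _))
      ((le_sup_left : (P₀ : Subgroup X) ≤ _) hx) hyql hk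
    exact this.eq
  haveI := hP₀n
  refine ⟨q, MulAut.conjNormal y, P₀.isPGroup', hq.out, hne, ?_, ?_, ?_⟩
  · -- `α ^ q = 1`
    rw [← map_pow]
    apply MulEquiv.ext
    intro x
    apply Subtype.ext
    rw [MulAut.conjNormal_apply, MulAut.one_apply, hyq x x.2, mul_inv_cancel_right]
  · -- `α ≠ 1`
    intro h1
    apply hyP
    intro x hx
    have := congrArg (fun β : MulAut ↥(P₀ : Subgroup X) => ((β ⟨x, hx⟩ : ↥(P₀ : Subgroup X)) : X)) h1
    simp only [MulAut.conjNormal_apply, MulAut.one_apply] at this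
    calc y * x = y * x * y⁻¹ * y := by group
      _ = x * y := by rw [this]
  · -- minimality
    intro T hT hinv t ht
    set T' : Subgroup X := T.map (P₀ : Subgroup X).subtype with hT'
    have hT'P : T' ≤ (P₀ : Subgroup X) := by
      rintro _ ⟨t, _, rfl⟩
      exact t.2
    have hconj : ∀ t ∈ T', y * t * y⁻¹ ∈ T' := by
      rintro _ ⟨t, ht, rfl⟩
      refine ⟨MulAut.conjNormal y t, hinv t ht, ?_⟩
      simp [MulAut.conjNormal_apply]
    have hynorm : y ∈ Subgroup.normalizer (T' : Set X) := mem_normalizer_of_conj_mem T' y hconj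
    have hzn : Subgroup.zpowers y ≤ Subgroup.normalizer (T' : Set X) := by
      rw [Subgroup.zpowers_le]; exact hynorm
    have hHne : T' ⊔ Subgroup.zpowers y ≠ ⊤ := by
      intro htop
      apply hT
      rw [eq_top_iff]
      intro x _
      have hx : (x : X) ∈ (T' ⊔ Subgroup.zpowers y : Subgroup X) := by
        rw [htop]; exact Subgroup.mem_top _
      rw [← SetLike.mem_coe, Subgroup.coe_mul_of_right_le_normalizer_left T' _ hzn] at hx
      obtain ⟨a, ha, b, hb, hab⟩ := hx
      have hab' : a * b = (x : X) := hab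
      have hbP : b ∈ (P₀ : Subgroup X) := by
        have : b = a⁻¹ * (x : X) := by rw [← hab']; group
        rw [this]
        exact Subgroup.mul_mem _ (Subgroup.inv_mem _ (hT'P ha)) x.2
      have hb1 : b = 1 := hdisj b hbP (hzY hb)
      rw [hb1, mul_one] at hab'
      obtain ⟨t, ht, hta⟩ := ha
      have : t = x := Subtype.ext (by rw [← hab', ← hta]; rfl)
      rw [← this]; exact ht
    have hnil := hX.2 _ hHne
    obtain ⟨k, hk⟩ := hPpow (t : X) t.2
    have htT' : (t : X) ∈ T' := ⟨t, ht, rfl⟩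
    have hc := Cfsg.Agent.Lib.Helper96.commute_of_isNilpotent_subgroup _ hnil hne
      (x := y) (y := (t : X))
      ((le_sup_right : Subgroup.zpowers y ≤ _) (Subgroup.mem_zpowers _))
      ((le_sup_left : T' ≤ _) htT') hyl hk
    apply Subtype.ext
    rw [MulAut.conjNormal_apply, hc.eq, mul_inv_cancel_right]

end Cfsg.Agent.Lib.Helper53.Sch
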