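import Mathlib
import Cfsg.Prelude.Def_Local
import Cfsg.Agent.Lib.Helper53.SchA
import Cfsg.Agent.Lib.Helper53.HHB1
import Cfsg.Agent.Lib.Helper48.CoprimeGen
import Cfsg.Agent.Lib.Helper63.HHDual
import Cfsg.Agent.Lib.Helper63.PLength
import Cfsg.Agent.Lib.Helper11.PConstrained
import Cfsg.Agent.Lib.Helper11.Quad
import Cfsg.Agent.Lib.Helper47.FrakL1
import Cfsg.Agent.Lib.Helper76.PSolvable
import Cfsg.Agent.Lib.Helper55.Cores
import Cfsg.Agent.Lib.Helper55.SolvCore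

/-!
# `p`-solvable groups whose Sylow `p`-subgroup is of Schmidt type: general lemmas
-/

set_option autoImplicit false
set_option linter.unusedSectionVars false
set_option linter.style.haveILetI false

namespace Cfsg.Agent.Lib.Helper53.Sch

open Cfsg
open scoped commutatorElement

universe u

variable {G : Type u} [Group G] {p : ℕ}

theorem eq_one_of_pow_coprime [hp : Fact p.Prime] {x : G} {m k : ℕ} (hm : m.Coprime p)
    (h1 : x ^ m = 1) (h2 : x ^ p ^ k = 1) : x = 1 := by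
  have hcop : Nat.Coprime m (p ^ k) := Nat.Coprime.pow_right k hm
  have h1' : orderOf x ∣ Nat.gcd m (p ^ k) :=
    Nat.dvd_gcd (orderOf_dvd_of_pow_eq_one h1) (orderOf_dvd_of_pow_eq_one h2)
  rw [hcop.gcd_eq_one, Nat.dvd_one] at h1'
  exact orderOf_eq_one_iff.mp h1'

/-- The centre of a subgroup, as a subgroup of the ambient group. -/
def zOf (S : Subgroup G) : Subgroup G := S ⊓ Subgroup.centralizer (S : Set G)

theorem mem_zOf {S : Subgroup G} {z : G} : z ∈ zOf S ↔ z ∈ S ∧ ∀ c ∈ S, c * z = z * c := by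
  unfold zOf
  rw [Subgroup.mem_inf, Subgroup.mem_centralizer_iff]
  rfl

theorem zOf_le (S : Subgroup G) : zOf S ≤ S := inf_le_left

/-- The consequences of the Schmidt condition, for a subgroup of an ambient group. -/
structure GProps (p : ℕ) (S : Subgroup G) : Prop where
  comm_mem : ∀ a ∈ S, ∀ b ∈ S, ⁅a, b⁆ ∈ zOf S
  pow_mem : ∀ g ∈ S, g ^ p ∈ zOf S
  surj : ∀ x ∈ S, x ∉ zOf S → ∀ z ∈ zOf S, ∃ g ∈ S, ⁅x, g⁆ = z
  small : Nat.card S = p ^ 3 → p ≠ 3 ∧ (p = 2 → ∀ r ∈ S, r ^ 2 = 1 → r ∈ zOf S)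

theorem mem_center_iff_zOf (S : Subgroup G) (x : ↥S) :
    x ∈ Subgroup.center ↥S ↔ (x : G) ∈ zOf S := by
  rw [Subgroup.mem_center_iff, mem_zOf]
  constructor
  · intro h
    exact ⟨x.2, fun c hc => congrArg Subtype.val (h ⟨c, hc⟩)⟩
  · rintro ⟨_, h⟩ c
    exact Subtype.ext (h c c.2)

theorem GProps.of_props {S : Subgroup G} (h : Props p ↥S) : GProps p S := by
  refine ⟨?_, ?_, ?_, ?_⟩
  · intro a ha b hb
    have := h.comm_mem ⟨a, ha⟩ ⟨b, hb⟩
    rw [mem_center_iff_zOf] at this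
    exact this
  · intro g hg
    have := h.pow_mem ⟨g, hg⟩
    rw [mem_center_iff_zOf] at this
    exact this
  · intro x hx hxZ z hz
    have hx' : (⟨x, hx⟩ : ↥S) ∉ Subgroup.center ↥S := by
      rw [mem_center_iff_zOf]; exact hxZ
    have hz' : (⟨z, zOf_le S hz⟩ : ↥S) ∈ Subgroup.center ↥S := by
      rw [mem_center_iff_zOf]; exact hz
    obtain ⟨g, hg⟩ := h.surj ⟨x, hx⟩ hx' ⟨z, zOf_le S hz⟩ hz'
    exact ⟨g.1, g.2, congrArg Subtype.val hg⟩
  · intro hcard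
    obtain ⟨h1, h2⟩ := h.small hcard
    refine ⟨h1, fun hp2 r hr hr2 => ?_⟩
    have := h2 hp2 ⟨r, hr⟩ (Subtype.ext hr2)
    rw [mem_center_iff_zOf] at this
    exact this

/-- A subgroup containing a normal self-centralizing `p`-subgroup has trivial `p'`-core. -/
theorem pPrimeCore_subgroup_eq_bot [Finite G] [hp : Fact p.Prime] (R : Subgroup G)
    [hRn : R.Normal] (hRp : IsPGroup p R) (hC : Subgroup.centralizer (R : Set G) ≤ R)
    (H : Subgroup G) (hRH : R ≤ H) : pPrimeCore p ↥H = ⊥ := by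
  haveI hNn : (pPrimeCore p ↥H).Normal := Cfsg.Agent.Lib.Helper55.pPrimeCore_normal' p
  have hNc : (Nat.card (pPrimeCore p ↥H)).Coprime p :=
    Cfsg.Agent.Lib.Helper63.pPrimeCore_card_coprime' p
  have hpowN : ∀ c ∈ pPrimeCore p ↥H, (c : G) ^ Nat.card (pPrimeCore p ↥H) = 1 := by
    intro c hc
    have h1 : (⟨c, hc⟩ : ↥(pPrimeCore p ↥H)) ^ Nat.card (pPrimeCore p ↥H) = 1 := pow_card_eq_one'
    have h2 : c ^ Nat.card (pPrimeCore p ↥H) = 1 := congrArg Subtype.val h1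
    have h3 := congrArg Subtype.val h2
    simpa using h3
  have hpowR : ∀ r ∈ R, ∃ k : ℕ, r ^ p ^ k = 1 := by
    intro r hr
    obtain ⟨k, hk⟩ := hRp ⟨r, hr⟩
    exact ⟨k, by simpa using congrArg Subtype.val hk⟩
  rw [eq_bot_iff]
  intro n hn
  have hcomm : ∀ r ∈ R, (n : G) * r = r * (n : G) := by
    intro r hr
    let r' : ↥H := ⟨r, hRH hr⟩
    have hcN : n * r' * n⁻¹ * r'⁻¹ ∈ pPrimeCore p ↥H := by
      have e : n * r' * n⁻¹ * r'⁻¹ = n * (r' * n⁻¹ * r'⁻¹) := by group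
      rw [e]
      exact Subgroup.mul_mem _ hn (hNn.conj_mem _ (Subgroup.inv_mem _ hn) r')
    have hcR : (n : G) * r * (n : G)⁻¹ * r⁻¹ ∈ R :=
      R.mul_mem (hRn.conj_mem r hr n) (R.inv_mem hr)
    have h1 := hpowN _ hcN
    obtain ⟨k, h2⟩ := hpowR _ hcR
    have hc1 : (n : G) * r * (n : G)⁻¹ * r⁻¹ = 1 := eq_one_of_pow_coprime hNc h1 h2
    calc (n : G) * r = ((n : G) * r * (n : G)⁻¹ * r⁻¹) * (r * n) := by group
      _ = r * n := by rw [hc1, one_mul]
  have hnR : (n : G) ∈ R := by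
    apply hC
    rw [Subgroup.mem_centralizer_iff]
    intro r hr
    exact (hcomm r hr).symm
  obtain ⟨k, h2⟩ := hpowR _ hnR
  have h1 := hpowN n hn
  have : (n : G) = 1 := eq_one_of_pow_coprime hNc h1 h2
  rw [Subgroup.mem_bot]
  exact Subtype.ext this

/-- If a normal subgroup `N` of `G` lies in the centre of the Sylow `p`-subgroup `S`, contains
the commutators of `S`, and `C_G(O_p(G)) ≤ O_p(G)`, then `S = O_p(G)`. -/
theorem sylow_le_pCore_of_normal_central [Finite G] [hp : Fact p.Prime] (S : Sylow p G)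
    (hC : Subgroup.centralizer (pCore p G : Set G) ≤ pCore p G)
    (N : Subgroup G) [hNn : N.Normal] (hNS : N ≤ (S : Subgroup G))
    (hNc : ∀ n ∈ N, ∀ s ∈ (S : Subgroup G), s * n = n * s)
    (hcomm : ∀ a ∈ (S : Subgroup G), ∀ b ∈ (S : Subgroup G), ⁅a, b⁆ ∈ N) :
    (S : Subgroup G) ≤ pCore p G := by
  haveI hRn : (pCore p G).Normal := Cfsg.Agent.Lib.Helper55.pCore_normal' p
  have hRp : IsPGroup p (pCore p G) := Cfsg.Agent.Lib.Helper55.pCore_isPGroup p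
  have hRS : pCore p G ≤ (S : Subgroup G) := Cfsg.Agent.Lib.Helper11.pCore_le_sylow S
  let A : Subgroup G :=
    { carrier := {g | (∀ n ∈ N, g * n = n * g) ∧ ∀ r ∈ pCore p G, ⁅g, r⁆ ∈ N}
      one_mem' := by
        refine ⟨fun n _ => by rw [one_mul, mul_one], fun r _ => ?_⟩
        rw [commutatorElement_one_left]; exact N.one_mem
      mul_mem' := by
        rintro a b ⟨ha1, ha2⟩ ⟨hb1, hb2⟩
        refine ⟨fun n hn => ?_, fun r hr => ?_⟩
        · rw [mul_assoc, hb1 n hn, ← mul_assoc, ha1 n hn, mul_assoc]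
        · have e : ⁅a * b, r⁆ = (a * ⁅b, r⁆ * a⁻¹) * ⁅a, r⁆ := by
            simp only [commutatorElement_def]; group
          rw [e]
          exact N.mul_mem (hNn.conj_mem _ (hb2 r hr) a) (ha2 r hr)
      inv_mem' := by
        rintro a ⟨ha1, ha2⟩
        refine ⟨fun n hn => ?_, fun r hr => ?_⟩
        · have := ha1 n hn
          calc a⁻¹ * n = a⁻¹ * (n * a) * a⁻¹ := by group
            _ = a⁻¹ * (a * n) * a⁻¹ := by rw [this]
            _ = n * a⁻¹ := by group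
        · have e : ⁅a⁻¹, r⁆ = a⁻¹ * (⁅a, r⁆)⁻¹ * a⁻¹⁻¹ := by
            simp only [commutatorElement_def]; group
          rw [e]
          exact hNn.conj_mem _ (N.inv_mem (ha2 r hr)) a⁻¹ }
  have hAmem : ∀ g : G, g ∈ A ↔ (∀ n ∈ N, g * n = n * g) ∧ ∀ r ∈ pCore p G, ⁅g, r⁆ ∈ N :=
    fun g => Iff.rfl
  have hSA : (S : Subgroup G) ≤ A := by
    intro s hs
    rw [hAmem]
    exact ⟨fun n hn => hNc n hn s hs, fun r hr => hcomm s hs r (hRS hr)⟩
  have hAn : A.Normal := by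
    refine ⟨fun g hg x => ?_⟩
    rw [hAmem] at hg ⊢
    obtain ⟨h1, h2⟩ := hg
    refine ⟨fun n hn => ?_, fun r hr => ?_⟩
    · have hn' : x⁻¹ * n * x⁻¹⁻¹ ∈ N := hNn.conj_mem n hn x⁻¹
      have := h1 _ hn'
      calc x * g * x⁻¹ * n = x * (g * (x⁻¹ * n * x⁻¹⁻¹)) * x⁻¹ := by group
        _ = x * ((x⁻¹ * n * x⁻¹⁻¹) * g) * x⁻¹ := by rw [this]
        _ = n * (x * g * x⁻¹) := by group
    · have hr' : x⁻¹ * r * x⁻¹⁻¹ ∈ pCore p G := hRn.conj_mem r hr x⁻¹
      have := h2 _ hr'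
      have e : ⁅x * g * x⁻¹, r⁆ = x * ⁅g, x⁻¹ * r * x⁻¹⁻¹⁆ * x⁻¹ := by
        simp only [commutatorElement_def]; group
      rw [e]
      exact hNn.conj_mem _ this x
  have hNp : ∀ n ∈ N, ∃ k : ℕ, n ^ p ^ k = 1 := by
    intro n hn
    obtain ⟨k, hk⟩ := S.2 ⟨n, hNS hn⟩
    exact ⟨k, by simpa using congrArg Subtype.val hk⟩
  have hAp : IsPGroup p A := by
    rintro ⟨g, hg⟩
    rw [hAmem] at hg
    obtain ⟨h1, h2⟩ := hg
    -- `g ^ k r g ^ (-k) = n ^ k r`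
    have hiter : ∀ r ∈ pCore p G, ∀ k : ℕ, g ^ k * r * (g ^ k)⁻¹ = ⁅g, r⁆ ^ k * r := by
      intro r hr k
      induction k with
      | zero => simp
      | succ k ih =>
        have hn := h2 r hr
        have hgn : g * ⁅g, r⁆ ^ k = ⁅g, r⁆ ^ k * g := by
          have : Commute g (⁅g, r⁆) := h1 _ hn
          exact (this.pow_right k).eq
        calc g ^ (k + 1) * r * (g ^ (k + 1))⁻¹ = g * (g ^ k * r * (g ^ k)⁻¹) * g⁻¹ := by
              rw [pow_succ']; group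
          _ = g * (⁅g, r⁆ ^ k * r) * g⁻¹ := by rw [ih]
          _ = (g * ⁅g, r⁆ ^ k) * r * g⁻¹ := by group
          _ = ⁅g, r⁆ ^ k * g * r * g⁻¹ := by rw [hgn]
          _ = ⁅g, r⁆ ^ k * (⁅g, r⁆ * r) := by simp only [commutatorElement_def]; group
          _ = ⁅g, r⁆ ^ (k + 1) * r := by rw [pow_succ, mul_assoc]
    obtain ⟨i, hi⟩ := IsPGroup.iff_card.mp (S.2.to_le hNS)
    have hgc : g ^ p ^ i ∈ Subgroup.centralizer (pCore p G : Set G) := by
      rw [Subgroup.mem_centralizer_iff]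
      intro r hr
      have h3 := hiter r hr (p ^ i)
      have h4 : ⁅g, r⁆ ^ p ^ i = 1 := by
        have h5 : (⟨⁅g, r⁆, h2 r hr⟩ : ↥N) ^ Nat.card N = 1 := pow_card_eq_one'
        rw [hi] at h5
        exact congrArg Subtype.val h5
      rw [h4, one_mul] at h3
      calc r * g ^ p ^ i = (g ^ p ^ i * r * (g ^ p ^ i)⁻¹) * g ^ p ^ i := by rw [h3]
        _ = g ^ p ^ i * r := by group
    have hgR : g ^ p ^ i ∈ pCore p G := hC hgc
    obtain ⟨j, hj⟩ := hRp ⟨g ^ p ^ i, hgR⟩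
    have hj' : (g ^ p ^ i) ^ p ^ j = 1 := by simpa using congrArg Subtype.val hj
    refine ⟨i + j, Subtype.ext ?_⟩
    show g ^ p ^ (i + j) = 1
    rw [pow_add, pow_mul]
    exact hj'
  exact hSA.trans (Cfsg.Agent.Lib.Helper11.le_pCore' hAn hAp)

end Cfsg.Agent.Lib.Helper53.Sch
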