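import Mathlib
import Cfsg.Agent.Lib.Helper53.SchC

/-!
# Schmidt-type Sylow subgroups: reduction to a cyclic quotient `S / O_p(G)` of order `p`
-/

set_option autoImplicit false
set_option linter.unusedSectionVars false
set_option linter.style.haveILetI false

namespace Cfsg.Agent.Lib.Helper53.Sch

open Cfsg
open scoped commutatorElement

universe u

variable {G : Type u} [Group G] {p : ℕ}

theorem mem_powers_of_mem_zpowers [Finite G] {x y : G} (h : y ∈ Subgroup.zpowers x) :
    ∃ n : ℕ, x ^ n = y := by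
  have := (isOfFinOrder_of_finite x).mem_powers_iff_mem_zpowers.mpr h
  exact (Submonoid.mem_powers_iff _ _).mp this

/-- The inductive step: if every proper subgroup containing `S` normalizes `S`, then
`S ≤ O_p(G)` or `S / O_p(G)` is cyclic, generated by the image of some `s`. -/
theorem exists_gen_of_IH [Finite G] [hp : Fact p.Prime] (hsol : IsPSolvable p G) (S : Sylow p G)
    (hZR : zOf (S : Subgroup G) ≤ pCore p G) (hP : GProps p (S : Subgroup G))
    (IH : ∀ H : Subgroup G, H ≠ ⊤ → pCore p G ≤ H → (S : Subgroup G) ≤ H →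
      ∀ g ∈ H, ∀ t ∈ (S : Subgroup G), g * t * g⁻¹ ∈ (S : Subgroup G))
    (hSR : ¬ (S : Subgroup G) ≤ pCore p G) :
    ∃ s ∈ (S : Subgroup G), s ∉ pCore p G ∧
      ∀ t ∈ (S : Subgroup G), ∃ n : ℕ, (s ^ n)⁻¹ * t ∈ pCore p G := by
  classical
  haveI hRn : (pCore p G).Normal := Cfsg.Agent.Lib.Helper55.pCore_normal' p
  have hRS : pCore p G ≤ (S : Subgroup G) := Cfsg.Agent.Lib.Helper11.pCore_le_sylow S
  set π := QuotientGroup.mk' (pCore p G) with hπ
  have hπ1 : ∀ g : G, π g = 1 ↔ g ∈ pCore p G := fun g => QuotientGroup.eq_one_iff g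
  have hOp : pCore p (G ⧸ pCore p G) = ⊥ := Cfsg.Agent.Lib.Helper47.pCore_quotient_pCore_eq_bot p
  have hsolq : IsPSolvable p (G ⧸ pCore p G) :=
    Cfsg.Agent.Lib.Helper76.isPSolvable_quotient _ hsol
  haveI hKn : (pPrimeCore p (G ⧸ pCore p G)).Normal :=
    Cfsg.Agent.Lib.Helper55.pPrimeCore_normal' p
  have hKc : (Nat.card (pPrimeCore p (G ⧸ pCore p G))).Coprime p :=
    Cfsg.Agent.Lib.Helper63.pPrimeCore_card_coprime' p
  have hCK := Cfsg.Agent.Lib.Helper63.HH.centralizer_pPrimeCore_le hsolq hOp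
  set K := pPrimeCore p (G ⧸ pCore p G) with hK
  have hKpow : ∀ k ∈ K, k ^ Nat.card K = 1 := by
    intro k hk
    have h1 : (⟨k, hk⟩ : ↥K) ^ Nat.card K = 1 := pow_card_eq_one'
    exact congrArg Subtype.val h1
  have hSpow : ∀ a ∈ (S : Subgroup G), ∃ j : ℕ, (π a) ^ p ^ j = 1 := by
    intro a ha
    obtain ⟨j, hj⟩ := S.2 ⟨a, ha⟩
    refine ⟨j, ?_⟩
    have : a ^ p ^ j = 1 := by simpa using congrArg Subtype.val hj
    rw [← map_pow, this, map_one]
  -- images of elements of `S` commute and have `p`-th power one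
  have hcomm : ∀ a ∈ (S : Subgroup G), ∀ b ∈ (S : Subgroup G), π a * π b = π b * π a := by
    intro a ha b hb
    rw [← commutatorElement_eq_one_iff_mul_comm, ← map_commutatorElement, hπ1]
    exact hZR (hP.comm_mem a ha b hb)
  have hpowp : ∀ a ∈ (S : Subgroup G), (π a) ^ p = 1 := by
    intro a ha
    rw [← map_pow, hπ1]
    exact hZR (hP.pow_mem a ha)
  have hK1 : ∀ a ∈ (S : Subgroup G), π a ∈ K → a ∈ pCore p G := by
    intro a ha hak
    rw [← hπ1]
    obtain ⟨j, hj⟩ := hSpow a ha
    exact eq_one_of_pow_coprime hKc (hKpow _ hak) hj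
  -- Q1
  have Q1 : ∀ s ∈ (S : Subgroup G), s ∉ pCore p G → ∀ k ∈ K, k * π s = π s * k →
      ∀ t ∈ (S : Subgroup G), k * π t = π t * k := by
    intro s hs hsR k hk hks t ht
    set G₂ : Subgroup G := (Subgroup.centralizer ({π s} : Set (G ⧸ pCore p G))).comap π with hG₂
    have hG₂mem : ∀ g : G, g ∈ G₂ ↔ π s * π g = π g * π s := by
      intro g
      rw [hG₂, Subgroup.mem_comap, mem_centralizer_singleton]
    have hne : G₂ ≠ ⊤ := by
      intro htop
      apply hsR
      apply hK1 s hs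
      apply hCK
      rw [Subgroup.mem_centralizer_iff]
      intro k' _
      obtain ⟨g, rfl⟩ := QuotientGroup.mk'_surjective (pCore p G) k'
      have : g ∈ G₂ := by rw [htop]; exact Subgroup.mem_top _
      exact ((hG₂mem g).1 this).symm
    have hRG₂ : pCore p G ≤ G₂ := by
      intro r hr
      rw [hG₂mem, (hπ1 r).2 hr, mul_one, one_mul]
    have hSG₂ : (S : Subgroup G) ≤ G₂ := by
      intro a ha
      rw [hG₂mem]
      exact hcomm s hs a ha
    obtain ⟨g, rfl⟩ := QuotientGroup.mk'_surjective (pCore p G) k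
    have hgG₂ : g ∈ G₂ := by rw [hG₂mem]; exact hks.symm
    have hconj := IH G₂ hne hRG₂ hSG₂ g hgG₂ t ht
    have hu : g * t * g⁻¹ * t⁻¹ ∈ (S : Subgroup G) :=
      Subgroup.mul_mem _ hconj (Subgroup.inv_mem _ ht)
    obtain ⟨j, hj⟩ := hSpow _ hu
    have hwK : π (g * t * g⁻¹ * t⁻¹) ∈ K := by
      have e : π (g * t * g⁻¹ * t⁻¹) = π g * (π t * (π g)⁻¹ * (π t)⁻¹) := by
        simp only [map_mul, map_inv]; group
      rw [e]
      exact K.mul_mem hk (hKn.conj_mem _ (K.inv_mem hk) (π t))
    have hw1 : π (g * t * g⁻¹ * t⁻¹) = 1 := eq_one_of_pow_coprime hKc (hKpow _ hwK) hj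
    have e2 : π (g * t * g⁻¹ * t⁻¹) = ⁅π g, π t⁆ := by
      simp only [map_mul, map_inv, commutatorElement_def]
    rw [e2, commutatorElement_eq_one_iff_mul_comm] at hw1
    exact hw1
  -- choose `s`
  obtain ⟨s, hsS, hsR⟩ := SetLike.not_le_iff_exists.mp hSR
  refine ⟨s, hsS, hsR, ?_⟩
  by_contra hcon
  push Not at hcon
  obtain ⟨t, htS, htn⟩ := hcon
  apply hSR
  have hne : ∀ n : ℕ, π t ≠ (π s) ^ n := by
    intro n h
    apply htn n
    rw [← hπ1, map_mul, map_inv, map_pow, h, inv_mul_cancel]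
  have hpK : ¬ p ∣ Nat.card K := by
    intro h
    have := Nat.Coprime.eq_one_of_dvd hKc.symm h
    exact hp.out.one_lt.ne' this
  have hgen := Cfsg.Agent.Lib.Helper48.coprime_gen K (π t) (π s) (hpowp t htS) (hpowp s hsS)
    (hcomm t htS s hsS) hpK
  have hKcent : ∀ k ∈ K, ∀ t' ∈ (S : Subgroup G), k * π t' = π t' * k := by
    have hle : Cfsg.Agent.Lib.Helper48.genSub K (π t) (π s) ≤
        Subgroup.centralizer (((S : Subgroup G).map π : Subgroup (G ⧸ pCore p G)) : Set _) := by
      unfold Cfsg.Agent.Lib.Helper48.genSub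
      apply iSup₂_le
      intro c hc k hk
      rw [Subgroup.mem_inf, mem_centralizer_singleton] at hk
      obtain ⟨hkK, hkc⟩ := hk
      rw [Subgroup.mem_centralizer_iff]
      rintro _ ⟨t', ht', rfl⟩
      rcases hc with rfl | ⟨n, rfl⟩
      · exact (Q1 s hsS hsR k hkK hkc.symm t' ht').symm
      · have huS : t * s ^ n ∈ (S : Subgroup G) :=
          Subgroup.mul_mem _ htS (Subgroup.pow_mem _ hsS n)
        have huR : t * s ^ n ∉ pCore p G := by
          intro hR
          have h1 : π t * (π s) ^ n = 1 := by rw [← map_pow, ← map_mul, hπ1]; exact hR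
          apply hne ((p - 1) * n)
          have h2 : (π s) ^ n * (π s) ^ ((p - 1) * n) = 1 := by
            rw [← pow_add]
            have : n + (p - 1) * n = p * n := by
              have := hp.out.pos
              calc n + (p - 1) * n = (1 + (p - 1)) * n := by ring
                _ = p * n := by congr 1; omega
            rw [this, pow_mul, hpowp s hsS, one_pow]
          calc π t = π t * ((π s) ^ n * (π s) ^ ((p - 1) * n)) := by rw [h2, mul_one]
            _ = (π t * (π s) ^ n) * (π s) ^ ((p - 1) * n) := by group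
            _ = (π s) ^ ((p - 1) * n) := by rw [h1, one_mul]
        have hkc' : k * π (t * s ^ n) = π (t * s ^ n) * k := by
          rw [map_mul, map_pow]; exact hkc.symm
        exact (Q1 _ huS huR k hkK hkc' t' ht').symm
    intro k hk t' ht'
    have := hle (hgen hk)
    rw [Subgroup.mem_centralizer_iff] at this
    exact (this (π t') ⟨t', ht', rfl⟩).symm
  intro t' ht'
  apply hK1 t' ht'
  apply hCK
  rw [Subgroup.mem_centralizer_iff]
  intro k hk
  exact hKcent k hk t' ht'

end Cfsg.Agent.Lib.Helper53.Sch
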