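import Mathlib
import Cfsg.Agent.Lib.Helper53.SchD

/-!
# Schmidt-type Sylow subgroups: quadratic action and Theorem B
-/

set_option autoImplicit false
set_option linter.unusedSectionVars false
set_option linter.style.haveILetI false

namespace Cfsg.Agent.Lib.Helper53.Sch

open Cfsg Polynomial
open scoped IsMulCommutative
open Cfsg.Agent.Lib.Helper53 (ThmB EA linRep linRep_of linRep_injective)

universe u

section quad

variable {p : ℕ} {Γ V : Type u} [Group Γ] [Group V] [IsMulCommutative V]

/-- An element of order `p` of a `p`-solvable group with trivial `p`-core acting faithfully and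
quadratically on an elementary abelian `p`-group forces `p ≤ 3` (Theorem B). -/
theorem quadratic_le_three [hp : Fact p.Prime] [Finite Γ] [Finite V] [Nontrivial V]
    (hV : ∀ v : V, v ^ p = 1)
    (hB : ThmB.{u} p) (hsol : IsPSolvable p Γ) (hO : pCore p Γ = ⊥)
    (ρ : Γ →* MulAut V) (hρ : Function.Injective ρ) (x : Γ) (hx : orderOf x = p)
    (hquad : ∀ v : V, ρ x (ρ x v * v⁻¹) = ρ x v * v⁻¹) : p ≤ 3 := by
  classical
  have hLinj := linRep_injective hV ρ hρ
  let H : Subgroup (EA p V hV ≃ₗ[ZMod p] EA p V hV) := (linRep hV ρ).range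
  let e : Γ ≃* H := MonoidHom.ofInjective hLinj
  have : Finite H := Finite.of_equiv Γ e.toEquiv
  have hHsol : IsPSolvable p H := Cfsg.Agent.Lib.Helper76.isPSolvable_of_mulEquiv e hsol
  have hHO : pCore p H = ⊥ := by
    rw [← Cfsg.Agent.Lib.Helper11.pCore_map_equiv' p e, hO, Subgroup.map_bot]
  have : Finite (EA p V hV) := inferInstanceAs (Finite (Additive V))
  have : Nontrivial (EA p V hV) := inferInstanceAs (Nontrivial (Additive V))
  have : FiniteDimensional (ZMod p) (EA p V hV) := Module.Finite.of_finite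
  have hxH : linRep hV ρ x ∈ H := ⟨x, rfl⟩
  have hord : orderOf (linRep hV ρ x) = p ^ 1 := by
    rw [orderOf_injective (linRep hV ρ) hLinj, hx, pow_one]
  set f : Module.End (ZMod p) (EA p V hV) := (linRep hV ρ x : Module.End (ZMod p) (EA p V hV))
    with hf
  -- `(f - 1) ^ 2 = 0`
  have hf2 : (f - 1) ^ 2 = 0 := by
    apply LinearMap.ext
    intro w
    have hw : w = EA.of hV (EA.to hV w) := rfl
    have h1 : ∀ v : V, (f - 1) (EA.of hV v) = EA.of hV (ρ x v * v⁻¹) := by
      intro v
      show linRep hV ρ x (EA.of hV v) - EA.of hV v = _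
      rw [linRep_of, Cfsg.Agent.Lib.Helper53.EA.of_mul, sub_eq_add_neg]
      rfl
    rw [pow_two, Module.End.mul_apply, hw, h1, h1, hquad, mul_inv_cancel]
    rfl
  have hann : aeval f (((X : (ZMod p)[X]) - 1) ^ 2) = 0 := by
    rw [map_pow, map_sub, aeval_X, map_one, hf2]
  have hdvd : minpoly (ZMod p) f ∣ ((X : (ZMod p)[X]) - 1) ^ 2 := minpoly.dvd _ _ hann
  have hprime : Prime ((X : (ZMod p)[X]) - 1) := by
    have := Polynomial.prime_X_sub_C (1 : ZMod p)
    simpa using this
  have hint : IsIntegral (ZMod p) f := Algebra.IsIntegral.isIntegral f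
  obtain ⟨r, hrle, hr⟩ := (dvd_prime_pow hprime _).1 hdvd
  have hmonic : (((X : (ZMod p)[X]) - 1) ^ r).Monic := by
    have := (Polynomial.monic_X_sub_C (1 : ZMod p)).pow r
    simpa using this
  have hr' : minpoly (ZMod p) f = (X - 1) ^ r :=
    Polynomial.eq_of_monic_of_associated (minpoly.monic hint) hmonic hr
  rcases hB H hHsol hHO (linRep hV ρ x) hxH 1 hord r hr' with h |
    ⟨n₀, q, m, h1, h2, hq, hm, heq, hsyl, hle⟩
  · rw [pow_one] at h
    omega
  · have hn₀ : n₀ = 1 := le_antisymm h2 h1
    subst hn₀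
    simp only [Nat.sub_self, pow_zero, one_mul, pow_one] at hle
    omega

end quad

end Cfsg.Agent.Lib.Helper53.Sch
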