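import Mathlib
import Cfsg.Agent.Lib.Helper53.SchE

/-!
# Schmidt-type Sylow subgroups: the final configuration `|S : O_p(G)| = p`
-/

set_option autoImplicit false
set_option linter.unusedSectionVars false
set_option linter.style.haveILetI false
set_option maxHeartbeats 1000000

namespace Cfsg.Agent.Lib.Helper53.Sch

open Cfsg
open scoped commutatorElement
open Cfsg.Agent.Lib.Helper53 (ThmB)

universe u

variable {G : Type u} [Group G] {p : ℕ}

theorem final_contra [Finite G] [hp : Fact p.Prime] (hB : ThmB.{u} p) (hsol : IsPSolvable p G)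
    (S : Sylow p G) (hC : Subgroup.centralizer (pCore p G : Set G) ≤ pCore p G)
    (hP : GProps p (S : Subgroup G)) (hZnn : ¬ (zOf (S : Subgroup G)).Normal)
    (s : G) (hsS : s ∈ (S : Subgroup G)) (hsR : s ∉ pCore p G)
    (hgen : ∀ t ∈ (S : Subgroup G), ∃ n : ℕ, (s ^ n)⁻¹ * t ∈ pCore p G) : False := by
  classical
  haveI hRn : (pCore p G).Normal := Cfsg.Agent.Lib.Helper55.pCore_normal' p
  have hRp : IsPGroup p (pCore p G) := Cfsg.Agent.Lib.Helper55.pCore_isPGroup p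
  have hRS : pCore p G ≤ (S : Subgroup G) := Cfsg.Agent.Lib.Helper11.pCore_le_sylow S
  set R := pCore p G with hR
  set Z := zOf (S : Subgroup G) with hZ
  have hZS : Z ≤ (S : Subgroup G) := zOf_le _
  have hZc : ∀ z ∈ Z, ∀ c ∈ (S : Subgroup G), c * z = z * c := fun z hz => (mem_zOf.1 hz).2
  have hZR : Z ≤ R := by
    intro z hz
    apply hC
    rw [Subgroup.mem_centralizer_iff]
    intro r hr
    exact hZc z hz r (hRS hr)
  have hdec : ∀ t ∈ (S : Subgroup G), ∃ n : ℕ, ∃ r ∈ R, t = s ^ n * r := by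
    intro t ht
    obtain ⟨n, hn⟩ := hgen t ht
    exact ⟨n, _, hn, by group⟩
  have hcz : ∀ a ∈ (S : Subgroup G), ∀ b ∈ (S : Subgroup G), ∀ c ∈ (S : Subgroup G),
      c * ⁅a, b⁆ = ⁅a, b⁆ * c := fun a ha b hb c hc => hZc _ (hP.comm_mem a ha b hb) c hc
  have hmulr : ∀ a ∈ (S : Subgroup G), ∀ b ∈ (S : Subgroup G), ∀ c ∈ (S : Subgroup G),
      ⁅a, b * c⁆ = ⁅a, b⁆ * ⁅a, c⁆ := by
    intro a ha b hb c hc
    have e1 : ⁅a, b * c⁆ = ⁅a, b⁆ * (b * ⁅a, c⁆ * b⁻¹) := by
      simp only [commutatorElement_def]; group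
    rw [e1, hcz a ha c hc b hb, mul_inv_cancel_right]
  have hmull : ∀ a ∈ (S : Subgroup G), ∀ b ∈ (S : Subgroup G), ∀ c ∈ (S : Subgroup G),
      ⁅a * b, c⁆ = ⁅b, c⁆ * ⁅a, c⁆ := by
    intro a ha b hb c hc
    have e1 : ⁅a * b, c⁆ = (a * ⁅b, c⁆ * a⁻¹) * ⁅a, c⁆ := by
      simp only [commutatorElement_def]; group
    rw [e1, hcz b hb c hc a ha, mul_inv_cancel_right]
  -- the centre of `R`
  set B : Subgroup G := R ⊓ Subgroup.centralizer (R : Set G) with hB'
  haveI hBn : B.Normal := Subgroup.normal_inf_normal _ _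
  have hZB : Z ≤ B := by
    intro z hz
    refine Subgroup.mem_inf.2 ⟨hZR hz, ?_⟩
    rw [Subgroup.mem_centralizer_iff]
    intro r hr
    exact hZc z hz r (hRS hr)
  by_cases hBZ : B ≤ Z
  · apply hZnn
    rw [show Z = B from le_antisymm hZB hBZ]
    exact hBn
  obtain ⟨x, hxB, hxZ⟩ := SetLike.not_le_iff_exists.mp hBZ
  have hxR : x ∈ R := (Subgroup.mem_inf.1 hxB).1
  have hxS : x ∈ (S : Subgroup G) := hRS hxR
  have hxc : ∀ r ∈ R, r * x = x * r := by
    have := (Subgroup.mem_inf.1 hxB).2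
    rw [Subgroup.mem_centralizer_iff] at this
    exact this
  have hxs : s * x ≠ x * s := by
    intro hsx
    apply hxZ
    rw [hZ, mem_zOf]
    refine ⟨hxS, fun c hc => ?_⟩
    obtain ⟨n, r, hr, rfl⟩ := hdec c hc
    have h1 : Commute (s ^ n) x := (show Commute s x from hsx).pow_left n
    have h2 : Commute r x := hxc r hr
    exact (h1.mul_left h2).eq
  set z₀ := ⁅x, s⁆ with hz₀
  have hz₀Z : z₀ ∈ Z := hP.comm_mem x hxS s hsS
  have hz₀1 : z₀ ≠ 1 := by
    rw [hz₀, Ne, commutatorElement_eq_one_iff_mul_comm]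
    exact fun h => hxs h.symm
  have hxpow : ∀ n : ℕ, ⁅x, s ^ n⁆ = z₀ ^ n := by
    intro n
    induction n with
    | zero => simp
    | succ n ih =>
      rw [pow_succ, hmulr x hxS _ (Subgroup.pow_mem _ hsS n) s hsS, ih, pow_succ]
  have hspZ : s ^ p ∈ Z := hP.pow_mem s hsS
  have hz₀p : z₀ ^ p = 1 := by
    rw [← hxpow, commutatorElement_eq_one_iff_mul_comm]
    exact hZc _ hspZ x hxS
  have hZpow : ∀ z ∈ Z, ∃ n : ℕ, z = z₀ ^ n := by
    intro z hz
    obtain ⟨g, hg, rfl⟩ := hP.surj x hxS hxZ z hz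
    obtain ⟨n, r, hr, rfl⟩ := hdec g hg
    refine ⟨n, ?_⟩
    rw [hmulr x hxS _ (Subgroup.pow_mem _ hsS n) r (hRS hr), hxpow]
    have : ⁅x, r⁆ = 1 := by
      rw [commutatorElement_eq_one_iff_mul_comm]
      exact (hxc r hr).symm
    rw [this, mul_one]
  have hord : orderOf z₀ = p := orderOf_eq_prime hz₀p hz₀1
  have hZeq : Z = Subgroup.zpowers z₀ := by
    apply le_antisymm
    · intro z hz
      obtain ⟨n, rfl⟩ := hZpow z hz
      exact Subgroup.pow_mem _ (Subgroup.mem_zpowers _) n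
    · rw [Subgroup.zpowers_le]
      exact hz₀Z
  have hZcard : Nat.card Z = p := by rw [hZeq, Nat.card_zpowers, hord]
  have hprim : ∀ w ∈ Z, w ≠ 1 → ∀ z ∈ Z, ∃ m : ℕ, z = w ^ m := by
    intro w hw hw1 z hz
    have h1 : Subgroup.zpowers (⟨w, hw⟩ : ↥Z) = ⊤ :=
      zpowers_eq_top_of_prime_card hZcard (by intro h; exact hw1 (congrArg Subtype.val h))
    have h2 : (⟨z, hz⟩ : ↥Z) ∈ Subgroup.zpowers (⟨w, hw⟩ : ↥Z) := by rw [h1]; trivial
    obtain ⟨m, hm⟩ := mem_powers_of_mem_zpowers h2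
    exact ⟨m, (congrArg Subtype.val hm).symm⟩
  by_cases hRab : ∀ r₁ ∈ R, ∀ r₂ ∈ R, r₁ * r₂ = r₂ * r₁
  swap
  · push Not at hRab
    obtain ⟨r₁, hr₁, r₂, hr₂, hne⟩ := hRab
    have hwZ : ⁅r₁, r₂⁆ ∈ Z := hP.comm_mem r₁ (hRS hr₁) r₂ (hRS hr₂)
    have hw1 : ⁅r₁, r₂⁆ ≠ 1 := by
      rw [Ne, commutatorElement_eq_one_iff_mul_comm]; exact hne
    have hD : ⁅R, R⁆ = Z := by
      apply le_antisymm
      · rw [Subgroup.commutator_le]
        intro a ha b hb
        exact hP.comm_mem a (hRS ha) b (hRS hb)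
      · intro z hz
        obtain ⟨m, rfl⟩ := hprim _ hwZ hw1 z hz
        exact Subgroup.pow_mem _ (Subgroup.commutator_mem_commutator hr₁ hr₂) m
    apply hZnn
    rw [← hD]
    infer_instance
  -- `R` is abelian
  have hcomS : ∀ r ∈ R, s * r = r * s → r ∈ Z := by
    intro r hr hsr
    rw [hZ, mem_zOf]
    refine ⟨hRS hr, fun c hc => ?_⟩
    obtain ⟨n, r', hr', rfl⟩ := hdec c hc
    have h1 : Commute (s ^ n) r := (show Commute s r from hsr).pow_left n
    have h2 : Commute r' r := hRab r' hr' r hr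
    exact (h1.mul_left h2).eq
  let ψ : ↥R →* ↥Z :=
    { toFun := fun r => ⟨⁅(r : G), s⁆, hP.comm_mem _ (hRS r.2) s hsS⟩
      map_one' := by
        apply Subtype.ext
        simp
      map_mul' := by
        intro a b
        apply Subtype.ext
        show ⁅(a : G) * b, s⁆ = ⁅(a : G), s⁆ * ⁅(b : G), s⁆
        rw [hmull _ (hRS a.2) _ (hRS b.2) s hsS]
        exact hcz _ (hRS a.2) s hsS _ (hZS (hP.comm_mem _ (hRS b.2) s hsS)) }
  have hψ : ∀ r : ↥R, ((ψ r : ↥Z) : G) = ⁅(r : G), s⁆ := fun r => rfl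
  have hker : ∀ r : ↥R, r ∈ ψ.ker ↔ (r : G) ∈ Z := by
    intro r
    rw [MonoidHom.mem_ker]
    constructor
    · intro h
      have h1 : ⁅(r : G), s⁆ = 1 := by rw [← hψ, h]; rfl
      rw [commutatorElement_eq_one_iff_mul_comm] at h1
      exact hcomS r r.2 h1.symm
    · intro h
      apply Subtype.ext
      rw [hψ]
      show ⁅(r : G), s⁆ = 1
      rw [commutatorElement_eq_one_iff_mul_comm]
      exact (hZc _ h s hsS).symm
  have hkermap : ψ.ker.map R.subtype = Z := by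
    ext g
    constructor
    · rintro ⟨r, hr, rfl⟩
      exact (hker r).1 hr
    · intro hg
      exact ⟨⟨g, hZR hg⟩, (hker _).2 hg, rfl⟩
  have hkercard : Nat.card ψ.ker = p := by
    rw [← Subgroup.card_map_of_injective (Subgroup.subtype_injective R), hkermap, hZcard]
  have hcardR : Nat.card R = p ^ 2 := by
    have h1 : Nat.card ψ.ker * ψ.ker.index = Nat.card ↥R := Subgroup.card_mul_index _
    have h2 : ψ.ker.index = Nat.card ψ.range := Subgroup.index_ker ψ
    have h4 : Nat.card ψ.range ∣ p := by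
      have := Subgroup.card_subgroup_dvd_card ψ.range
      rwa [hZcard] at this
    rcases (Nat.dvd_prime hp.out).mp h4 with h5 | h5
    · exfalso
      rw [h2, h5, hkercard, mul_one] at h1
      apply hxZ
      have : Z = R := Subgroup.eq_of_le_of_card_ge hZR (by rw [hZcard, ← h1])
      rw [this]
      exact hxR
    · rw [h2, h5, hkercard] at h1
      rw [← h1, pow_two]
  -- the order of `S`
  set π := QuotientGroup.mk' R with hπ
  have hπ1 : ∀ g : G, π g = 1 ↔ g ∈ R := fun g => QuotientGroup.eq_one_iff g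
  have hπsp : (π s) ^ p = 1 := by rw [← map_pow, hπ1]; exact hZR hspZ
  have hπs1 : π s ≠ 1 := by rw [Ne, hπ1]; exact hsR
  have hordπ : orderOf (π s) = p := orderOf_eq_prime hπsp hπs1
  have hmapS : (S : Subgroup G).map π = Subgroup.zpowers (π s) := by
    apply le_antisymm
    · rintro _ ⟨t, ht, rfl⟩
      obtain ⟨n, r, hr, rfl⟩ := hdec t ht
      rw [map_mul, (hπ1 r).2 hr, mul_one, map_pow]
      exact Subgroup.pow_mem _ (Subgroup.mem_zpowers _) n
    · rw [Subgroup.zpowers_le]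
      exact ⟨s, hsS, rfl⟩
  have hcardS : Nat.card (S : Subgroup G) = p ^ 3 := by
    have h1 := Cfsg.Agent.Lib.Helper55.card_mul_relIndex_eq hRS
    have h2 : R.relIndex (S : Subgroup G) = Nat.card ((S : Subgroup G).map π) := by
      have := Subgroup.relIndex_ker (S : Subgroup G) π
      rwa [QuotientGroup.ker_mk'] at this
    rw [h2, hmapS, Nat.card_zpowers, hordπ, hcardR] at h1
    rw [← h1]; ring
  obtain ⟨hp3, hp2⟩ := hP.small hcardS
  -- elements of order dividing `p` in `R`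
  let T : Subgroup G :=
    { carrier := {r | r ∈ R ∧ r ^ p = 1}
      one_mem' := ⟨R.one_mem, one_pow p⟩
      mul_mem' := by
        rintro a b ⟨ha, hap⟩ ⟨hb, hbp⟩
        refine ⟨R.mul_mem ha hb, ?_⟩
        have : Commute a b := hRab a ha b hb
        rw [this.mul_pow, hap, hbp, one_mul]
      inv_mem' := by
        rintro a ⟨ha, hap⟩
        exact ⟨R.inv_mem ha, by rw [inv_pow, hap, inv_one]⟩ }
  have hTmem : ∀ g : G, g ∈ T ↔ g ∈ R ∧ g ^ p = 1 := fun g => Iff.rfl
  have hTn : T.Normal := by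
    refine ⟨fun g hg x => ?_⟩
    rw [hTmem] at hg ⊢
    exact ⟨hRn.conj_mem g hg.1 x, by rw [conj_pow, hg.2, mul_one, mul_inv_cancel]⟩
  have hZT : Z ≤ T := by
    intro z hz
    rw [hTmem]
    refine ⟨hZR hz, ?_⟩
    obtain ⟨n, rfl⟩ := hZpow z hz
    rw [← pow_mul, mul_comm, pow_mul, hz₀p, one_pow]
  have hTR : T ≤ R := fun g hg => ((hTmem g).1 hg).1
  by_cases hTZ : T ≤ Z
  · apply hZnn
    rw [show Z = T from le_antisymm hZT hTZ]
    exact hTn
  obtain ⟨r₀, hr₀T, hr₀Z⟩ := SetLike.not_le_iff_exists.mp hTZ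
  have hp2' : p ≠ 2 := by
    intro h2
    apply hr₀Z
    apply hp2 h2 r₀ (hRS (hTR hr₀T))
    have := ((hTmem r₀).1 hr₀T).2
    rwa [h2] at this
  have hTeq : T = R := by
    apply Subgroup.eq_of_le_of_card_ge hTR
    have h1 : Nat.card T ∣ p ^ 2 := by rw [← hcardR]; exact Subgroup.card_dvd_of_le hTR
    obtain ⟨m, hm2, hm⟩ := (Nat.dvd_prime_pow hp.out).mp h1
    have hZTcard : Nat.card Z ≤ Nat.card T := Nat.le_of_dvd Nat.card_pos (Subgroup.card_dvd_of_le hZT)
    have hne : Nat.card T ≠ p := by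
      intro h
      apply hTZ
      have : Z = T := Subgroup.eq_of_le_of_card_ge hZT (by rw [hZcard, h])
      rw [this]
    rw [hcardR]
    interval_cases m
    · exfalso
      rw [pow_zero] at hm
      rw [hm, hZcard] at hZTcard
      have := hp.out.one_lt
      omega
    · exfalso
      exact hne (by rw [hm, pow_one])
    · exact le_of_eq hm.symm
  have hRexp : ∀ r ∈ R, r ^ p = 1 := by
    intro r hr
    have : r ∈ T := by rw [hTeq]; exact hr
    exact ((hTmem r).1 this).2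
  -- Theorem B
  haveI : IsMulCommutative ↥R := ⟨⟨fun a b => Subtype.ext (hRab a a.2 b b.2)⟩⟩
  have hV : ∀ v : ↥R, v ^ p = 1 := fun v => Subtype.ext (hRexp v v.2)
  haveI : Nontrivial ↥R := by
    refine ⟨⟨⟨x, hxR⟩, 1, ?_⟩⟩
    intro h
    apply hxZ
    have : x = 1 := congrArg Subtype.val h
    rw [this]
    exact Z.one_mem
  let ρ₀ : G →* MulAut ↥R := MulAut.conjNormal
  have hρ₀ : ∀ r ∈ R, ρ₀ r = 1 := by
    intro r hr
    apply MulEquiv.ext
    intro v
    apply Subtype.ext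
    show ((MulAut.conjNormal r v : ↥R) : G) = v
    rw [MulAut.conjNormal_apply, hRab r hr v v.2, mul_inv_cancel_right]
  let ρ : G ⧸ R →* MulAut ↥R := QuotientGroup.lift R ρ₀ hρ₀
  have hρmk : ∀ g : G, ρ (π g) = ρ₀ g := fun g => rfl
  have hρinj : Function.Injective ρ := by
    rw [injective_iff_map_eq_one]
    intro a ha
    obtain ⟨g, rfl⟩ := QuotientGroup.mk'_surjective R a
    rw [hρmk] at ha
    show π g = 1
    rw [hπ1]
    apply hC
    rw [Subgroup.mem_centralizer_iff]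
    intro r hr
    have h1 := congrArg (fun β : MulAut ↥R => ((β ⟨r, hr⟩ : ↥R) : G)) ha
    simp only [ρ₀, MulAut.conjNormal_apply, MulAut.one_apply] at h1
    calc r * g = (g * r * g⁻¹) * g := by rw [h1]
      _ = g * r := by group
  have hOp : pCore p (G ⧸ R) = ⊥ := Cfsg.Agent.Lib.Helper47.pCore_quotient_pCore_eq_bot p
  have hsolq : IsPSolvable p (G ⧸ R) := Cfsg.Agent.Lib.Helper76.isPSolvable_quotient _ hsol
  have hquad : ∀ v : ↥R, ρ (π s) (ρ (π s) v * v⁻¹) = ρ (π s) v * v⁻¹ := by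
    intro v
    apply Subtype.ext
    rw [hρmk]
    have e1 : (((ρ₀ s) v * v⁻¹ : ↥R) : G) = ⁅s, (v : G)⁆ := by
      show ((MulAut.conjNormal s v : ↥R) : G) * ((v : G))⁻¹ = _
      rw [MulAut.conjNormal_apply, commutatorElement_def]
    show ((MulAut.conjNormal s ((ρ₀ s) v * v⁻¹) : ↥R) : G) = _
    rw [MulAut.conjNormal_apply, e1]
    have := hcz s hsS v (hRS v.2) s hsS
    rw [this, mul_inv_cancel_right]
  have hle := quadratic_le_three hV hB hsolq hOp ρ hρinj (π s) hordπ hquad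
  have h2le := hp.out.two_le
  omega

end Cfsg.Agent.Lib.Helper53.Sch
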