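import Mathlib
import Cfsg.Agent.Lib.Helper53.SchF
import Cfsg.Agent.Lib.Helper63.PLength
import Cfsg.Agent.Lib.Helper30.PPrimeCore
import Cfsg.Agent.Lib.Helper32.PPrimeP

/-!
# `p`-solvable groups whose Sylow `p`-subgroup is of Schmidt type have `p`-length one
-/

set_option autoImplicit false
set_option linter.unusedSectionVars false
set_option linter.style.haveILetI false
set_option maxHeartbeats 1000000

namespace Cfsg.Agent.Lib.Helper53.Sch

open Cfsg
open scoped commutatorElement
open Cfsg.Agent.Lib.Helper53 (ThmB)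
open Cfsg.Agent.Lib.Helper63 (pLengthLE_iff PPrimeFac PFac IsPSeries)

universe u

variable {p : ℕ}

/-- The core theorem: with `O_{p'}(G) = 1`, a Sylow `p`-subgroup of Schmidt type is normal. -/
theorem sylow_le_pCore_aux [hp : Fact p.Prime] (hB : ThmB.{u} p) :
    ∀ (n : ℕ) (G : Type u) [Group G] [Finite G], Nat.card G = n → IsPSolvable p G →
      pPrimeCore p G = ⊥ → ∀ S : Sylow p G,
      (∃ (q : ℕ) (α : MulAut ↥(S : Subgroup G)), IsSchAut p q α) →
      (S : Subgroup G) ≤ pCore p G := by
  intro n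
  induction n using Nat.strong_induction_on with
  | _ n ih =>
    intro G _ _ hn hsol hO S hex
    obtain ⟨q, α, hα⟩ := hex
    haveI hRn : (pCore p G).Normal := Cfsg.Agent.Lib.Helper55.pCore_normal' p
    have hRp : IsPGroup p (pCore p G) := Cfsg.Agent.Lib.Helper55.pCore_isPGroup p
    have hRS : pCore p G ≤ (S : Subgroup G) := Cfsg.Agent.Lib.Helper11.pCore_le_sylow S
    have hC : Subgroup.centralizer (pCore p G : Set G) ≤ pCore p G :=
      Cfsg.Agent.Lib.Helper11.le_pCore_of_isPSolvable_of_le_centralizer hO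
        (Subgroup.centralizer (pCore p G : Set G))
        (Cfsg.Agent.Lib.Helper76.isPSolvable_subgroup _ hsol) le_rfl
    rcases hα.props with hab | hprops
    · intro t ht
      apply hC
      rw [Subgroup.mem_centralizer_iff]
      intro r hr
      have := hab ⟨r, hRS hr⟩ ⟨t, ht⟩
      exact congrArg Subtype.val this
    · have hP : GProps p (S : Subgroup G) := GProps.of_props hprops
      by_contra hSR
      have hZR : zOf (S : Subgroup G) ≤ pCore p G := by
        intro z hz
        apply hC
        rw [Subgroup.mem_centralizer_iff]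
        intro r hr
        exact (mem_zOf.1 hz).2 r (hRS hr)
      have IH : ∀ H : Subgroup G, H ≠ ⊤ → pCore p G ≤ H → (S : Subgroup G) ≤ H →
          ∀ g ∈ H, ∀ t ∈ (S : Subgroup G), g * t * g⁻¹ ∈ (S : Subgroup G) := by
        intro H hH hRH hSH g hg t ht
        have hcard : Nat.card H < n := by
          rw [← hn]
          by_contra hlt
          exact hH (Subgroup.eq_top_of_le_card H (not_lt.mp hlt))
        have hOH : pPrimeCore p ↥H = ⊥ :=
          pPrimeCore_subgroup_eq_bot (pCore p G) hRp hC H hRH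
        have hsolH := Cfsg.Agent.Lib.Helper76.isPSolvable_subgroup H hsol
        let e : ↥((S : Subgroup G).subgroupOf H) ≃* ↥(S : Subgroup G) :=
          Subgroup.subgroupOfEquivOfLe hSH
        have hα' : IsSchAut p q (MulAut.congr e.symm α) := hα.congr e.symm
        have hle := ih _ hcard ↥H rfl hsolH hOH (S.subtype hSH) ⟨q, _, hα'⟩
        haveI hHn : (pCore p ↥H).Normal := Cfsg.Agent.Lib.Helper55.pCore_normal' p
        have h1 : (⟨t, hSH ht⟩ : ↥H) ∈ pCore p ↥H := by
          apply hle
          show (⟨t, hSH ht⟩ : ↥H) ∈ (S : Subgroup G).subgroupOf H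
          rw [Subgroup.mem_subgroupOf]
          exact ht
        have h2 := hHn.conj_mem _ h1 ⟨g, hg⟩
        have h3 := Cfsg.Agent.Lib.Helper11.pCore_le_sylow (S.subtype hSH) h2
        have h4 : (⟨g, hg⟩ * ⟨t, hSH ht⟩ * (⟨g, hg⟩ : ↥H)⁻¹ : ↥H) ∈
            (S : Subgroup G).subgroupOf H := h3
        rw [Subgroup.mem_subgroupOf] at h4
        exact h4
      obtain ⟨s, hsS, hsR, hgen⟩ := exists_gen_of_IH hsol S hZR hP IH hSR
      have hZnn : ¬ (zOf (S : Subgroup G)).Normal := by
        intro hZn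
        apply hSR
        haveI := hZn
        exact sylow_le_pCore_of_normal_central S hC (zOf (S : Subgroup G)) (zOf_le _)
          (fun n hn s hs => (mem_zOf.1 hn).2 s hs) (fun a ha b hb => hP.comm_mem a ha b hb)
      exact final_contra hB hsol S hC hP hZnn s hsS hsR hgen

/-- `p`-length one from `P O_{p'}(G) / O_{p'}(G) ≤ O_p(G / O_{p'}(G))`. -/
theorem pLengthLE_one_of_sylow_le {G : Type u} [Group G] [Finite G] [hp : Fact p.Prime]
    (P : Sylow p G)
    (hle : ((P.mapSurjective (QuotientGroup.mk'_surjective (pPrimeCore p G)) :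
      Sylow p (G ⧸ pPrimeCore p G)) : Subgroup (G ⧸ pPrimeCore p G)) ≤
        pCore p (G ⧸ pPrimeCore p G)) : PLengthLE p 1 G := by
  classical
  haveI hKn : (pPrimeCore p G).Normal := Cfsg.Agent.Lib.Helper55.pPrimeCore_normal' p
  have hπ : Function.Surjective (QuotientGroup.mk' (pPrimeCore p G)) :=
    QuotientGroup.mk'_surjective _
  set Pb : Sylow p (G ⧸ pPrimeCore p G) := P.mapSurjective hπ with hPb
  haveI hCn : (pCore p (G ⧸ pPrimeCore p G)).Normal := Cfsg.Agent.Lib.Helper55.pCore_normal' p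
  have hCp : IsPGroup p (pCore p (G ⧸ pPrimeCore p G)) := Cfsg.Agent.Lib.Helper55.pCore_isPGroup p
  have hidx : (pCore p (G ⧸ pPrimeCore p G)).index.Coprime p := by
    have h1 : (pCore p (G ⧸ pPrimeCore p G)).index ∣
        (Pb : Subgroup (G ⧸ pPrimeCore p G)).index := Subgroup.index_dvd_of_le hle
    have h2 : ¬ p ∣ (Pb : Subgroup (G ⧸ pPrimeCore p G)).index := Pb.not_dvd_index
    rw [Nat.coprime_comm, Nat.Prime.coprime_iff_not_dvd hp.out]
    exact fun h => h2 (h.trans h1)
  have hKc : (Nat.card (pPrimeCore p G)).Coprime p :=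
    Cfsg.Agent.Lib.Helper63.pPrimeCore_card_coprime' p
  rw [pLengthLE_iff]
  refine ⟨fun i => if i = 0 then ⊥ else if i = 1 then pPrimeCore p G else
    if i = 2 then pPrimePCore p G else ⊤, ⟨by simp, ?_, ?_, ?_⟩, by simp⟩
  · intro i
    by_cases h0 : i = 0
    · simp only [h0, if_true]; infer_instance
    by_cases h1 : i = 1
    · simp only [h1, if_true]; exact hKn
    by_cases h2 : i = 2
    · simp only [h2, if_true]
      exact Cfsg.Agent.Lib.Helper32.pPrimePCore_normal p G
    · simp only [h0, h1, h2, if_false]; infer_instance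
  · intro i hi x hx
    by_cases h0 : i = 0
    · subst h0
      refine ⟨Nat.card (pPrimeCore p G), hKc, ?_⟩
      have hxK : x ∈ pPrimeCore p G := by simpa using hx
      have h1 : (⟨x, hxK⟩ : ↥(pPrimeCore p G)) ^ Nat.card (pPrimeCore p G) = 1 :=
        pow_card_eq_one'
      have h2 : x ^ Nat.card (pPrimeCore p G) = 1 := congrArg Subtype.val h1
      simp only [if_true]
      rw [h2]; exact Subgroup.one_mem _
    by_cases h2 : i = 2
    · subst h2
      refine ⟨(pCore p (G ⧸ pPrimeCore p G)).index, hidx, ?_⟩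
      have : (QuotientGroup.mk' (pPrimeCore p G) x) ^ (pCore p (G ⧸ pPrimeCore p G)).index ∈
          pCore p (G ⧸ pPrimeCore p G) := Subgroup.pow_index_mem _ _
      rw [← map_pow] at this
      simpa [pPrimePCore] using this
    · have hi1 : i ≠ 1 := by rintro rfl; exact absurd hi (by decide)
      refine ⟨1, Nat.coprime_one_left p, ?_⟩
      simp only [h0, hi1, h2, if_false]
      exact Subgroup.mem_top _
  · intro i hi x hx
    by_cases h1 : i = 1
    · subst h1
      have hx' : x ∈ pPrimePCore p G := by simpa using hx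
      have hx2 : QuotientGroup.mk' (pPrimeCore p G) x ∈ pCore p (G ⧸ pPrimeCore p G) := hx'
      obtain ⟨m, hm⟩ := hCp ⟨_, hx2⟩
      refine ⟨m, ?_⟩
      have h2 : (QuotientGroup.mk' (pPrimeCore p G) x) ^ p ^ m = 1 := congrArg Subtype.val hm
      rw [← map_pow, QuotientGroup.mk'_apply, QuotientGroup.eq_one_iff] at h2
      simpa using h2
    · have h0 : i ≠ 0 := by rintro rfl; exact hi (by decide)
      have h2 : i ≠ 2 := by rintro rfl; exact hi (by decide)
      refine ⟨0, ?_⟩
      simp only [h0, h1, h2, if_false]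
      exact Subgroup.mem_top _

/-- **Main theorem.** A `p`-solvable group whose Sylow `p`-subgroup carries an automorphism of
Schmidt type has `p`-length at most one (given Theorem B). -/
theorem pLengthLE_one_of_isSchAut [hp : Fact p.Prime] (hB : ThmB.{u} p) {G : Type u} [Group G]
    [Finite G] (hG : IsPSolvable p G) (Q : Sylow p G)
    (h : ∃ (q : ℕ) (α : MulAut ↥(Q : Subgroup G)), IsSchAut p q α) : PLengthLE p 1 G := by
  classical
  obtain ⟨q, α, hα⟩ := h
  haveI hKn : (pPrimeCore p G).Normal := Cfsg.Agent.Lib.Helper55.pPrimeCore_normal' p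
  have hπ : Function.Surjective (QuotientGroup.mk' (pPrimeCore p G)) :=
    QuotientGroup.mk'_surjective _
  have hsol' : IsPSolvable p (G ⧸ pPrimeCore p G) :=
    Cfsg.Agent.Lib.Helper76.isPSolvable_quotient _ hG
  have hO' : pPrimeCore p (G ⧸ pPrimeCore p G) = ⊥ :=
    Cfsg.Agent.Lib.Helper30.pPrimeCore_quotient_eq_bot p
  have hKc : (Nat.card (pPrimeCore p G)).Coprime p :=
    Cfsg.Agent.Lib.Helper63.pPrimeCore_card_coprime' p
  apply pLengthLE_one_of_sylow_le Q
  set Qb : Sylow p (G ⧸ pPrimeCore p G) := Q.mapSurjective hπ with hQb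
  -- the isomorphism `Q ≃ Qb`
  let f : ↥(Q : Subgroup G) →* ↥((Q : Subgroup G).map (QuotientGroup.mk' (pPrimeCore p G))) :=
    (QuotientGroup.mk' (pPrimeCore p G)).subgroupMap (Q : Subgroup G)
  have hfsurj : Function.Surjective f := MonoidHom.subgroupMap_surjective _ _
  have hfinj : Function.Injective f := by
    rw [injective_iff_map_eq_one]
    intro a ha
    have h1 : QuotientGroup.mk' (pPrimeCore p G) (a : G) = 1 := congrArg Subtype.val ha
    rw [QuotientGroup.mk'_apply, QuotientGroup.eq_one_iff] at h1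
    have h2 : (a : G) ^ Nat.card (pPrimeCore p G) = 1 := by
      have h3 : (⟨(a : G), h1⟩ : ↥(pPrimeCore p G)) ^ Nat.card (pPrimeCore p G) = 1 :=
        pow_card_eq_one'
      exact congrArg Subtype.val h3
    obtain ⟨k, hk⟩ := Q.2 a
    have h4 : (a : G) ^ p ^ k = 1 := by simpa using congrArg Subtype.val hk
    exact Subtype.ext (eq_one_of_pow_coprime hKc h2 h4)
  let e : ↥(Q : Subgroup G) ≃* ↥(Qb : Subgroup (G ⧸ pPrimeCore p G)) :=
    MulEquiv.ofBijective f ⟨hfinj, hfsurj⟩
  exact sylow_le_pCore_aux hB _ (G ⧸ pPrimeCore p G) rfl hsol' hO' Qb ⟨q, _, hα.congr e⟩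

end Cfsg.Agent.Lib.Helper53.Sch
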