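import Mathlib

/-!
Linear algebra core for elements of order three in `Sp₄(3)` normalizing a quaternion group.
-/

set_option autoImplicit false

namespace Cfsg.Agent.Lib.Helper53

open Module

section
variable {F V : Type*} [Field F] [AddCommGroup V] [Module F V] [FiniteDimensional F V]

/-- The nullity of a composition is at most the sum of the nullities. -/
theorem finrank_ker_comp_le (f g : V →ₗ[F] V) :
    finrank F (LinearMap.ker (f ∘ₗ g)) ≤
      finrank F (LinearMap.ker f) + finrank F (LinearMap.ker g) := by
  set K := LinearMap.ker (f ∘ₗ g) with hK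
  let h : K →ₗ[F] V := g.domRestrict K
  have h1 := LinearMap.finrank_range_add_finrank_ker h
  have h2 : LinearMap.range h ≤ LinearMap.ker f := by
    rintro _ ⟨k, rfl⟩
    have := LinearMap.mem_ker.1 k.2
    exact LinearMap.mem_ker.2 this
  have h3 : finrank F (LinearMap.ker h) ≤ finrank F (LinearMap.ker g) := by
    let ι : LinearMap.ker h →ₗ[F] LinearMap.ker g :=
      LinearMap.codRestrict (LinearMap.ker g) (K.subtype.comp (LinearMap.ker h).subtype) (by
        intro k
        have := k.2
        rw [LinearMap.mem_ker] at this ⊢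
        exact this)
    apply LinearMap.finrank_le_finrank_of_injective (f := ι)
    intro a b hab
    have := congrArg Subtype.val hab
    apply Subtype.ext
    apply Subtype.ext
    exact this
  have h4 := Submodule.finrank_mono h2
  omega

theorem sp4_order_three_core (h3 : (3 : F) = 0) (hdim : finrank F V = 4)
    (B : LinearMap.BilinForm F V) (hBalt : ∀ v, B v v = 0)
    (hBnd : ∀ u, (∀ v, B u v = 0) → u = 0)
    (g I I' : Module.End F V) (hg3 : g ^ 3 = 1) (hgB : ∀ v w, B (g v) (g w) = B v w)
    (hI : I * I = -1) (hgI : g * I = I' * g) (hII' : (I' - I) * (I' - I) = 1) :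
    finrank F (LinearMap.ker (g - 1)) = 2 ∧ ∀ v w, g v = v → g w = w → B v w = 0 := by
  set N : Module.End F V := g - 1 with hN
  have h3' : (3 : Module.End F V) = 0 := by
    have := congrArg (algebraMap F (Module.End F V)) h3
    rw [map_ofNat, map_zero] at this
    exact this
  have hN3 : N ^ 3 = 0 := by
    have : N ^ 3 = g ^ 3 - 1 - 3 * (g ^ 2 - g) := by
      rw [hN]; noncomm_ring
    rw [this, hg3, h3']; simp
  have hNapp : ∀ v, N v = g v - v := fun v => by
    rw [hN, LinearMap.sub_apply, Module.End.one_apply]
  have hkerN : ∀ v, v ∈ LinearMap.ker N ↔ g v = v := by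
    intro v
    rw [LinearMap.mem_ker, hNapp, sub_eq_zero]
  have hskew : ∀ v w, B v w = - B w v := by
    intro v w
    have h := hBalt (v + w)
    simp only [map_add, LinearMap.add_apply, hBalt, zero_add, add_zero] at h
    linear_combination h
  -- (i) nullity ≤ 2
  have hcomm : N * I - I * N = (I' - I) * g := by
    rw [hN]
    have : (g - 1) * I - I * (g - 1) = g * I - I * g := by noncomm_ring
    rw [this, hgI]; noncomm_ring
  have hg3app : ∀ w, g (g (g w)) = w := by
    intro w
    have := congrArg (fun f : Module.End F V => f w) hg3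
    simpa [pow_succ, Module.End.mul_apply] using this
  have hzero : ∀ w, N w = 0 → N (I w) = 0 → w = 0 := by
    intro w hw1 hw2
    have h1 : (N * I - I * N) w = 0 := by
      rw [LinearMap.sub_apply, Module.End.mul_apply, Module.End.mul_apply, hw1, hw2, map_zero,
        sub_zero]
    rw [hcomm, Module.End.mul_apply] at h1
    have h2 : ((I' - I) * (I' - I)) (g w) = 0 := by
      rw [Module.End.mul_apply, h1, map_zero]
    rw [hII', Module.End.one_apply] at h2
    rw [← hg3app w, h2, map_zero, map_zero]
  have hIinj : Function.Injective I := by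
    intro a b hab
    have h1 : (I * I) a = (I * I) b := by
      rw [Module.End.mul_apply, Module.End.mul_apply, hab]
    rw [hI] at h1
    simpa using h1
  set W := LinearMap.ker N with hW
  have hle2 : finrank F W ≤ 2 := by
    set W' := W.map I with hW'
    have hdisj : W ⊓ W' = ⊥ := by
      rw [eq_bot_iff]
      rintro v ⟨hv1, w, hw, rfl⟩
      have : w = 0 := hzero w (LinearMap.mem_ker.1 hw) (LinearMap.mem_ker.1 hv1)
      rw [this, map_zero]
      exact Submodule.zero_mem _
    have heq : finrank F W' = finrank F W :=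
      (LinearEquiv.finrank_eq (Submodule.equivMapOfInjective I hIinj W)).symm
    have h1 := Submodule.finrank_sup_add_finrank_inf_eq W W'
    rw [hdisj, finrank_bot] at h1
    have h2 : finrank F ↥(W ⊔ W') ≤ finrank F V := Submodule.finrank_le _
    omega
  -- (ii) nullity ≥ 2
  have hge2 : 2 ≤ finrank F W := by
    have h1 := finrank_ker_comp_le (F := F) N (N ∘ₗ N)
    have h2 := finrank_ker_comp_le (F := F) N N
    have h4 : LinearMap.ker (N ∘ₗ (N ∘ₗ N)) = ⊤ := by
      rw [eq_top_iff]
      intro v _
      rw [LinearMap.mem_ker]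
      have := congrArg (fun f : Module.End F V => f v) hN3
      simpa [pow_succ, Module.End.mul_apply] using this
    rw [h4, finrank_top, hdim] at h1
    rw [← hW] at h1 h2
    omega
  have hW2 : finrank F W = 2 := le_antisymm hle2 hge2
  have hR2 : finrank F (LinearMap.range N) = 2 := by
    have := LinearMap.finrank_range_add_finrank_ker N
    rw [hdim, ← hW] at this
    omega
  -- alternating form v ↦ B (N (N v)) v
  have hNN : ∀ v, N (N v) = g (g v) + g v + v := by
    intro v
    rw [hNapp, hNapp, map_sub]
    have h3v : (3 : F) • (g v) = 0 := by rw [h3, zero_smul]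
    have : g (g v) - g v - (g v - v) = g (g v) + g v + v - (3 : F) • g v := by
      rw [show (3 : F) = 1 + 1 + 1 by norm_num, add_smul, add_smul, one_smul]; abel
    rw [this, h3v, sub_zero]
  have hBNN : ∀ v, B (N (N v)) v = 0 := by
    intro v
    rw [hNN]
    simp only [map_add, LinearMap.add_apply, hBalt, add_zero]
    have h1 : B (g (g v)) v = B v (g v) := by
      have := hgB (g (g v)) v
      rw [hg3app] at this
      exact this.symm
    rw [h1, hskew v (g v)]
    ring
  -- (iii) N * N = 0
  have hN2 : ∀ v, N (N v) = 0 := by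
    by_contra hcon
    simp only [not_forall] at hcon
    obtain ⟨v₁, hv₁⟩ := hcon
    set u := N (N v₁) with hu
    -- range (N*N) ≤ range N ⊓ ker N < range N
    have hnot : ¬ (LinearMap.range N ≤ W) := by
      intro hle
      apply hv₁
      have : N v₁ ∈ W := hle ⟨v₁, rfl⟩
      exact LinearMap.mem_ker.1 this
    have hlt : LinearMap.range N ⊓ W < LinearMap.range N := by
      refine lt_of_le_of_ne inf_le_left ?_
      intro heq
      apply hnot
      rw [← heq]; exact inf_le_right
    have hfr : finrank F ↥(LinearMap.range N ⊓ W) ≤ 1 := by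
      have := Submodule.finrank_lt_finrank_of_lt hlt
      omega
    have hmem : ∀ v, N (N v) ∈ LinearMap.range N ⊓ W := by
      intro v
      refine Submodule.mem_inf.2 ⟨⟨N v, rfl⟩, LinearMap.mem_ker.2 ?_⟩
      have := congrArg (fun f : Module.End F V => f v) hN3
      simpa [pow_succ, Module.End.mul_apply] using this
    obtain ⟨v₀, hv₀⟩ := finrank_le_one_iff.1 hfr
    have hmult : ∀ v, ∃ c : F, N (N v) = c • u := by
      intro v
      obtain ⟨a, ha⟩ := hv₀ ⟨u, hmem v₁⟩
      obtain ⟨b, hb⟩ := hv₀ ⟨N (N v), hmem v⟩
      have ha' : a • (v₀ : V) = u := congrArg Subtype.val ha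
      have hb' : b • (v₀ : V) = N (N v) := congrArg Subtype.val hb
      have ha0 : a ≠ 0 := by
        rintro rfl
        rw [zero_smul] at ha'
        exact hv₁ ha'.symm
      refine ⟨b / a, ?_⟩
      rw [← hb', ← ha', smul_smul, div_mul_cancel₀ b ha0]
    obtain ⟨v₂, hv₂⟩ : ∃ v₂, B u v₂ ≠ 0 := by
      by_contra hcon
      simp only [not_exists, not_not] at hcon
      exact hv₁ (hBnd u hcon)
    have hB1 : B u v₁ = 0 := hBNN v₁
    obtain ⟨c, hc⟩ := hmult v₂
    have hc0 : c = 0 := by
      have := hBNN v₂
      rw [hc, map_smul, LinearMap.smul_apply, smul_eq_mul] at this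
      rcases mul_eq_zero.1 this with h | h
      · exact h
      · exact absurd h hv₂
    have hNN2 : N (N v₂) = 0 := by rw [hc, hc0, zero_smul]
    have e : N (N (v₁ + v₂)) = u := by rw [map_add, map_add, hNN2, add_zero]
    have := hBNN (v₁ + v₂)
    rw [e, map_add, hB1, zero_add] at this
    exact hv₂ this
  -- (iv)
  have hRW : LinearMap.range N = W := by
    apply Submodule.eq_of_le_of_finrank_eq
    · rintro _ ⟨v, rfl⟩
      exact LinearMap.mem_ker.2 (hN2 v)
    · rw [hR2, hW2]
  refine ⟨hW2, ?_⟩
  intro v w hv hw
  have hwW : w ∈ LinearMap.range N := by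
    rw [hRW]; exact (hkerN w).2 hw
  obtain ⟨w', rfl⟩ := hwW
  rw [hNapp, map_sub]
  have : B v (g w') = B v w' := by
    have := hgB v w'
    rw [hv] at this
    exact this
  rw [this, sub_self]

end

end Cfsg.Agent.Lib.Helper53
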