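import Mathlib

/-!
Fixed point counting for matrices of order five over the field with three elements.
-/

set_option autoImplicit false

namespace Cfsg.Agent.Lib.Helper53

open Module Matrix

section
variable {F : Type*} [Field F] [Fintype F] {n : Type*} [Fintype n] [DecidableEq n]

theorem mem_fix_iff (M : Matrix n n F) (v : n → F) :
    v ∈ LinearMap.ker (Matrix.toLin' M - LinearMap.id) ↔ M *ᵥ v = v := by
  rw [LinearMap.mem_ker, LinearMap.sub_apply, Matrix.toLin'_apply, LinearMap.id_apply, sub_eq_zero]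

theorem eq_one_of_fix_eq_top (M : Matrix n n F)
    (h : LinearMap.ker (Matrix.toLin' M - LinearMap.id) = ⊤) : M = 1 := by
  apply Matrix.toLin'.injective
  rw [Matrix.toLin'_one]
  refine LinearMap.ext fun v => ?_
  have : v ∈ LinearMap.ker (Matrix.toLin' M - LinearMap.id) := by rw [h]; trivial
  rw [mem_fix_iff] at this
  rw [LinearMap.id_apply, Matrix.toLin'_apply, this]

/-- fixed-point counting for a matrix of order 5 on an invariant subspace -/
theorem card_invariant_modEq (M : Matrix n n F) (hM : M ^ 5 = 1) (U : Submodule F (n → F))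
    (hU : ∀ u ∈ U, M *ᵥ u ∈ U) :
    Nat.card U ≡ Nat.card ↥(U ⊓ LinearMap.ker (Matrix.toLin' M - LinearMap.id)) [MOD 5] := by
  classical
  have : Fintype ↥U := Fintype.ofFinite _
  let f : Function.End ↥U := fun u => ⟨M *ᵥ u.1, hU u.1 u.2⟩
  have hpow : ∀ k : ℕ, ∀ u : ↥U, ((f ^ k) u).1 = (M ^ k) *ᵥ u.1 := by
    intro k
    induction k with
    | zero => intro u; rw [pow_zero, pow_zero, Matrix.one_mulVec]; rfl
    | succ k ih =>
      intro u
      rw [pow_succ]
      change ((f ^ k) (f u)).1 = _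
      rw [ih, pow_succ]
      change M ^ k *ᵥ (M *ᵥ u.1) = _
      rw [Matrix.mulVec_mulVec]
  have hf : f ^ 5 ^ 1 = 1 := by
    rw [pow_one]
    funext u
    apply Subtype.ext
    rw [hpow, hM, Matrix.one_mulVec]
    rfl
  have : Fact (Nat.Prime 5) := ⟨by norm_num⟩
  have key := Equiv.Perm.card_fixedPoints_modEq (p := 5) (n := 1) (f := f) hf
  rw [← Nat.card_eq_fintype_card, ← Nat.card_eq_fintype_card] at key
  have e : ↥(Function.fixedPoints f) ≃
      ↥(U ⊓ LinearMap.ker (Matrix.toLin' M - LinearMap.id)) :=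
    { toFun := fun u => ⟨u.1.1, Submodule.mem_inf.2 ⟨u.1.2, (mem_fix_iff M _).2 (by
        have := u.2
        exact congrArg Subtype.val this)⟩⟩
      invFun := fun v => ⟨⟨v.1, (Submodule.mem_inf.1 v.2).1⟩, by
        apply Subtype.ext
        exact (mem_fix_iff M _).1 (Submodule.mem_inf.1 v.2).2⟩
      left_inv := fun u => by apply Subtype.ext; apply Subtype.ext; rfl
      right_inv := fun v => by apply Subtype.ext; rfl }
  rw [Nat.card_congr e] at key
  exact key

theorem pow_three_modEq_aux : ∀ a b : ℕ, a ≤ 4 → b ≤ 4 → 3 ^ a ≡ 3 ^ b [MOD 5] →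
    a = b ∨ (a = 0 ∧ b = 4) ∨ (a = 4 ∧ b = 0) := by
  intro a b ha hb h
  interval_cases a <;> interval_cases b <;> simp_all [Nat.ModEq]

/-- A matrix of order dividing five over `𝔽₃` acting on `𝔽₃⁴`: an invariant subspace meeting
the fixed space trivially is `⊥` or `⊤`; and the fixed space is `⊥` or the matrix is `1`. -/
theorem order_five_invariant (hF : Fintype.card F = 3) (hn : Fintype.card n = 4)
    (M : Matrix n n F) (hM : M ^ 5 = 1) (U : Submodule F (n → F))
    (hU : ∀ u ∈ U, M *ᵥ u ∈ U) :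
    (finrank F U = finrank F ↥(U ⊓ LinearMap.ker (Matrix.toLin' M - LinearMap.id))) ∨
    (finrank F U = 0 ∧ finrank F ↥(U ⊓ LinearMap.ker (Matrix.toLin' M - LinearMap.id)) = 4) ∨
    (finrank F U = 4 ∧ finrank F ↥(U ⊓ LinearMap.ker (Matrix.toLin' M - LinearMap.id)) = 0) := by
  have key := card_invariant_modEq M hM U hU
  rw [Module.natCard_eq_pow_finrank (K := F) (V := ↥U),
    Module.natCard_eq_pow_finrank (K := F)
      (V := ↥(U ⊓ LinearMap.ker (Matrix.toLin' M - LinearMap.id))),
    Nat.card_eq_fintype_card, hF] at key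
  have hV : finrank F (n → F) = 4 := by rw [Module.finrank_fintype_fun_eq_card, hn]
  have h1 : finrank F U ≤ 4 := hV ▸ Submodule.finrank_le U
  have h2 : finrank F ↥(U ⊓ LinearMap.ker (Matrix.toLin' M - LinearMap.id)) ≤ 4 :=
    hV ▸ Submodule.finrank_le _
  exact pow_three_modEq_aux _ _ h1 h2 key

/-- The central involution must act as `-1`. -/
theorem central_involution_eq_neg_one (hF : Fintype.card F = 3) (hn : Fintype.card n = 4)
    (Y Z : Matrix n n F) (hY : Y ^ 5 = 1) (hY1 : Y ≠ 1) (hZ : Z * Z = 1) (hZ1 : Z ≠ 1)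
    (hYZ : Y * Z = Z * Y) : Z = -1 := by
  have hV : finrank F (n → F) = 4 := by rw [Module.finrank_fintype_fun_eq_card, hn]
  -- Step 1: Fix Y = ⊥
  have hfixY : LinearMap.ker (Matrix.toLin' Y - LinearMap.id) = ⊥ := by
    have h := order_five_invariant hF hn Y hY ⊤ (fun _ _ => trivial)
    rw [top_inf_eq, finrank_top, hV] at h
    rcases h with h | ⟨h, -⟩ | ⟨-, h⟩
    · exfalso
      apply hY1
      apply eq_one_of_fix_eq_top
      apply Submodule.eq_top_of_finrank_eq
      rw [hV, h]
    · omega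
    · exact Submodule.finrank_eq_zero.1 h
  -- Step 2: ker (Z - 1) = ⊥
  set U := LinearMap.ker (Matrix.toLin' Z - LinearMap.id) with hUdef
  have hUinv : ∀ u ∈ U, Y *ᵥ u ∈ U := by
    intro u hu
    rw [hUdef, mem_fix_iff] at hu ⊢
    rw [Matrix.mulVec_mulVec, ← hYZ, ← Matrix.mulVec_mulVec, hu]
  have hU : U = ⊥ := by
    have h := order_five_invariant hF hn Y hY U hUinv
    rw [hfixY, inf_bot_eq, finrank_bot] at h
    rcases h with h | ⟨h, -⟩ | ⟨h, -⟩
    · exact Submodule.finrank_eq_zero.1 h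
    · exact Submodule.finrank_eq_zero.1 h
    · exfalso
      apply hZ1
      apply eq_one_of_fix_eq_top
      apply Submodule.eq_top_of_finrank_eq
      rw [hV]; exact h
  -- Step 3
  have h3 : ∀ v : n → F, (Z + 1) *ᵥ v = 0 := by
    intro v
    have : (Z + 1) *ᵥ v ∈ U := by
      rw [hUdef, mem_fix_iff, Matrix.mulVec_mulVec]
      congr 1
      rw [mul_add, hZ, mul_one, add_comm]
    rw [hU] at this
    exact (Submodule.mem_bot F).1 this
  have h4 : Z + 1 = 0 := by
    apply Matrix.toLin'.injective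
    refine LinearMap.ext fun v => ?_
    rw [Matrix.toLin'_apply, h3 v, map_zero, LinearMap.zero_apply]
  exact eq_neg_of_add_eq_zero_left h4

end

end Cfsg.Agent.Lib.Helper53
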