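import Mathlib
import Cfsg.Prelude.Def_ClassicalGeometry

/-!
# S5980 hive (owner helper31), leaf SPT-E6: elements of `Sp_{2d}(F)` with square `-1` are conjugate
(`F` finite of odd characteristic).  General-`d` version of `Lib/Helper53/Q4I2B.lean`.
-/

set_option autoImplicit false
open scoped MatrixGroups
open Matrix

namespace Cfsg.Agent.Lib.Helper31.SpTns

universe v

variable {F : Type v} [Field F]

section e6aux

variable [Fintype F] {d : ℕ}

/-! ### the symplectic form -/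

omit [Fintype F] in
theorem e6_f_add_left (u u' v : Fin d ⊕ Fin d → F) :
    Cfsg.sympForm d F (u + u') v = Cfsg.sympForm d F u v + Cfsg.sympForm d F u' v := by
  simp [Cfsg.sympForm, add_dotProduct]

omit [Fintype F] in
theorem e6_f_smul_left (c : F) (u v : Fin d ⊕ Fin d → F) :
    Cfsg.sympForm d F (c • u) v = c * Cfsg.sympForm d F u v := by
  simp [Cfsg.sympForm, smul_dotProduct]

omit [Fintype F] in
theorem e6_f_add_right (u v v' : Fin d ⊕ Fin d → F) :
    Cfsg.sympForm d F u (v + v') = Cfsg.sympForm d F u v + Cfsg.sympForm d F u v' := by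
  simp [Cfsg.sympForm, mulVec_add, dotProduct_add]

omit [Fintype F] in
theorem e6_f_smul_right (c : F) (u v : Fin d ⊕ Fin d → F) :
    Cfsg.sympForm d F u (c • v) = c * Cfsg.sympForm d F u v := by
  simp [Cfsg.sympForm, mulVec_smul, dotProduct_smul]

omit [Fintype F] in
theorem e6_f_neg_left (u v : Fin d ⊕ Fin d → F) :
    Cfsg.sympForm d F (-u) v = - Cfsg.sympForm d F u v := by
  simp [Cfsg.sympForm, neg_dotProduct]

omit [Fintype F] in
theorem e6_f_neg_right (u v : Fin d ⊕ Fin d → F) :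
    Cfsg.sympForm d F u (-v) = - Cfsg.sympForm d F u v := by
  simp [Cfsg.sympForm, mulVec_neg, dotProduct_neg]

omit [Fintype F] in
theorem e6_f_swap (u v : Fin d ⊕ Fin d → F) : Cfsg.sympForm d F v u = - Cfsg.sympForm d F u v := by
  unfold Cfsg.sympForm
  rw [dotProduct_mulVec, ← mulVec_transpose, J_transpose, neg_mulVec, neg_dotProduct,
    dotProduct_comm]

omit [Fintype F] in
theorem e6_f_self (h2 : (2 : F) ≠ 0) (u : Fin d ⊕ Fin d → F) : Cfsg.sympForm d F u u = 0 := by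
  have h := e6_f_swap u u
  have h' : (2 : F) * Cfsg.sympForm d F u u = 0 := by linear_combination h
  rcases mul_eq_zero.mp h' with h'' | h''
  · exact absurd h'' h2
  · exact h''

omit [Fintype F] in
theorem e6_f_nondeg (u : Fin d ⊕ Fin d → F) (h : ∀ v, Cfsg.sympForm d F u v = 0) : u = 0 := by
  funext i
  have h1 := h (J (Fin d) F *ᵥ Pi.single i 1)
  unfold Cfsg.sympForm at h1
  rw [mulVec_mulVec, J_squared, neg_mulVec, one_mulVec, dotProduct_neg, dotProduct_single,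
    mul_one, neg_eq_zero] at h1
  simpa using h1

/-! ### the symmetric form `β(u, v) = f(x u, v)` -/

/-- the symmetric form attached to `X` -/
def e6_beta (X : Matrix (Fin d ⊕ Fin d) (Fin d ⊕ Fin d) F) (u v : Fin d ⊕ Fin d → F) : F := Cfsg.sympForm d F (X *ᵥ u) v

omit [Fintype F] in
theorem e6_XX (X : Matrix (Fin d ⊕ Fin d) (Fin d ⊕ Fin d) F) (hX2 : X * X = -1) (u : Fin d ⊕ Fin d → F) :
    X *ᵥ (X *ᵥ u) = -u := by
  rw [mulVec_mulVec, hX2, neg_mulVec, one_mulVec]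

omit [Fintype F] in
theorem e6_beta_add_left (X : Matrix (Fin d ⊕ Fin d) (Fin d ⊕ Fin d) F) (u u' v : Fin d ⊕ Fin d → F) :
    e6_beta X (u + u') v = e6_beta X u v + e6_beta X u' v := by
  unfold e6_beta
  rw [mulVec_add, e6_f_add_left]

omit [Fintype F] in
theorem e6_beta_smul_left (X : Matrix (Fin d ⊕ Fin d) (Fin d ⊕ Fin d) F) (c : F) (u v : Fin d ⊕ Fin d → F) :
    e6_beta X (c • u) v = c * e6_beta X u v := by
  unfold e6_beta
  rw [mulVec_smul, e6_f_smul_left]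

omit [Fintype F] in
theorem e6_beta_add_right (X : Matrix (Fin d ⊕ Fin d) (Fin d ⊕ Fin d) F) (u v v' : Fin d ⊕ Fin d → F) :
    e6_beta X u (v + v') = e6_beta X u v + e6_beta X u v' := by
  unfold e6_beta
  rw [e6_f_add_right]

omit [Fintype F] in
theorem e6_beta_smul_right (X : Matrix (Fin d ⊕ Fin d) (Fin d ⊕ Fin d) F) (c : F) (u v : Fin d ⊕ Fin d → F) :
    e6_beta X u (c • v) = c * e6_beta X u v := by
  unfold e6_beta
  rw [e6_f_smul_right]

omit [Fintype F] in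
theorem e6_beta_symm (X : Matrix (Fin d ⊕ Fin d) (Fin d ⊕ Fin d) F) (hX2 : X * X = -1)
    (hXf : ∀ u v, Cfsg.sympForm d F (X *ᵥ u) (X *ᵥ v) = Cfsg.sympForm d F u v)
    (u v : Fin d ⊕ Fin d → F) : e6_beta X u v = e6_beta X v u := by
  unfold e6_beta
  rw [← hXf (X *ᵥ u) v, e6_XX X hX2, e6_f_neg_left, e6_f_swap (X *ᵥ v) u, neg_neg]

omit [Fintype F] in
theorem e6_beta_XX (X : Matrix (Fin d ⊕ Fin d) (Fin d ⊕ Fin d) F)
    (hXf : ∀ u v, Cfsg.sympForm d F (X *ᵥ u) (X *ᵥ v) = Cfsg.sympForm d F u v)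
    (u v : Fin d ⊕ Fin d → F) : e6_beta X (X *ᵥ u) (X *ᵥ v) = e6_beta X u v := by
  unfold e6_beta
  rw [hXf]

omit [Fintype F] in
theorem e6_beta_self_X (h2 : (2 : F) ≠ 0) (X : Matrix (Fin d ⊕ Fin d) (Fin d ⊕ Fin d) F) (u : Fin d ⊕ Fin d → F) :
    e6_beta X u (X *ᵥ u) = 0 := e6_f_self h2 _

omit [Fintype F] in
/-- `β(u, X v) = f(u, v)` -/
theorem e6_beta_X_right (X : Matrix (Fin d ⊕ Fin d) (Fin d ⊕ Fin d) F)
    (hXf : ∀ u v, Cfsg.sympForm d F (X *ᵥ u) (X *ᵥ v) = Cfsg.sympForm d F u v)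
    (u v : Fin d ⊕ Fin d → F) : e6_beta X u (X *ᵥ v) = Cfsg.sympForm d F u v := hXf u v

omit [Fintype F] in
/-- `β(X u, v) = -f(u, v)` -/
theorem e6_beta_X_left (X : Matrix (Fin d ⊕ Fin d) (Fin d ⊕ Fin d) F) (hX2 : X * X = -1)
    (u v : Fin d ⊕ Fin d → F) : e6_beta X (X *ᵥ u) v = - Cfsg.sympForm d F u v := by
  unfold e6_beta
  rw [e6_XX X hX2, e6_f_neg_left]

omit [Fintype F] in
theorem e6_beta_nondeg (X : Matrix (Fin d ⊕ Fin d) (Fin d ⊕ Fin d) F) (hX2 : X * X = -1) (u : Fin d ⊕ Fin d → F)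
    (h : ∀ v, e6_beta X u v = 0) : u = 0 := by
  have h1 : X *ᵥ u = 0 := e6_f_nondeg _ h
  have h2 := e6_XX X hX2 u
  rw [h1, mulVec_zero] at h2
  exact neg_eq_zero.mp h2.symm

omit [Fintype F] in
/-- polarisation: an anisotropic vector among `v`, `t`, `v + t` -/
theorem e6_aniso_of_ne (h2 : (2 : F) ≠ 0) (X : Matrix (Fin d ⊕ Fin d) (Fin d ⊕ Fin d) F) (hX2 : X * X = -1)
    (hXf : ∀ u v, Cfsg.sympForm d F (X *ᵥ u) (X *ᵥ v) = Cfsg.sympForm d F u v)
    (v t : Fin d ⊕ Fin d → F) (hvt : e6_beta X v t ≠ 0) :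
    e6_beta X v v ≠ 0 ∨ e6_beta X t t ≠ 0 ∨ e6_beta X (v + t) (v + t) ≠ 0 := by
  by_contra hcon
  push Not at hcon
  obtain ⟨h1, h3, h4⟩ := hcon
  rw [e6_beta_add_left, e6_beta_add_right, e6_beta_add_right, h1, h3,
    e6_beta_symm X hX2 hXf t v] at h4
  have : (2 : F) * e6_beta X v t = 0 := by linear_combination h4
  rcases mul_eq_zero.mp this with h | h
  · exact h2 h
  · exact hvt h

/-- sums of two squares in a finite field of odd characteristic -/
theorem e6_sq_add_sq (h2 : (2 : F) ≠ 0) (c : F) : ∃ a b : F, a * a + b * b = c := by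
  classical
  have hchar : ringChar F ≠ 2 := by
    intro h
    apply h2
    have := CharP.cast_eq_zero F (ringChar F)
    rw [h] at this
    exact_mod_cast this
  have hodd : Fintype.card F % 2 = 1 := FiniteField.odd_card_of_char_ne_two hchar
  let f : Polynomial F := Polynomial.X ^ 2
  let g : Polynomial F := Polynomial.X ^ 2 - Polynomial.C c
  obtain ⟨a, b, hab⟩ : ∃ a b, f.eval a + g.eval b = 0 :=
    FiniteField.exists_root_sum_quadratic (f := f) (g := g) (Polynomial.degree_X_pow 2)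
      (Polynomial.degree_X_pow_sub_C (by decide) _) hodd
  refine ⟨a, b, ?_⟩
  simp only [f, g, Polynomial.eval_C, Polynomial.eval_X, Polynomial.eval_pow,
    Polynomial.eval_sub] at hab
  linear_combination hab

/-- rescaling an anisotropic vector inside `⟨u, X u⟩` -/
theorem e6_normalize (h2 : (2 : F) ≠ 0) (X : Matrix (Fin d ⊕ Fin d) (Fin d ⊕ Fin d) F) (hX2 : X * X = -1)
    (hXf : ∀ u v, Cfsg.sympForm d F (X *ᵥ u) (X *ᵥ v) = Cfsg.sympForm d F u v)
    (u : Fin d ⊕ Fin d → F) (hu : e6_beta X u u ≠ 0) :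
    ∃ a b : F, e6_beta X (a • u + b • X *ᵥ u) (a • u + b • X *ᵥ u) = 1 := by
  obtain ⟨a, b, hab⟩ := e6_sq_add_sq h2 (e6_beta X u u)⁻¹
  refine ⟨a, b, ?_⟩
  have h1 : e6_beta X u (X *ᵥ u) = 0 := e6_beta_self_X h2 X u
  have h3 : e6_beta X (X *ᵥ u) u = 0 := by rw [e6_beta_symm X hX2 hXf]; exact h1
  have h4 : e6_beta X (X *ᵥ u) (X *ᵥ u) = e6_beta X u u := e6_beta_XX X hXf u u
  simp only [e6_beta_add_left, e6_beta_add_right, e6_beta_smul_left, e6_beta_smul_right,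
    h1, h3, h4]
  have h5 : (e6_beta X u u)⁻¹ * e6_beta X u u = 1 := inv_mul_cancel₀ hu
  linear_combination (e6_beta X u u) * hab + h5

omit [Fintype F] in
/-- `β(·, z)` as a linear map -/
def e6_betaL (X : Matrix (Fin d ⊕ Fin d) (Fin d ⊕ Fin d) F) (z : Fin d ⊕ Fin d → F) :
    (Fin d ⊕ Fin d → F) →ₗ[F] F where
  toFun := fun v => e6_beta X v z
  map_add' := fun a b => e6_beta_add_left X a b z
  map_smul' := fun c a => by simp [e6_beta_smul_left]

omit [Fintype F] in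
theorem e6_betaL_apply (X : Matrix (Fin d ⊕ Fin d) (Fin d ⊕ Fin d) F) (z v : Fin d ⊕ Fin d → F) :
    e6_betaL X z v = e6_beta X v z := rfl

omit [Fintype F] in
theorem e6_beta_sum_left (X : Matrix (Fin d ⊕ Fin d) (Fin d ⊕ Fin d) F) {k : ℕ}
    (g : Fin k → Fin d ⊕ Fin d → F) (z : Fin d ⊕ Fin d → F) :
    e6_beta X (∑ i, g i) z = ∑ i, e6_beta X (g i) z := by
  have := map_sum (e6_betaL X z) g Finset.univ
  simp only [e6_betaL_apply] at this
  exact this

omit [Fintype F] in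
theorem e6_beta_neg_left (X : Matrix (Fin d ⊕ Fin d) (Fin d ⊕ Fin d) F)
    (u z : Fin d ⊕ Fin d → F) : e6_beta X (-u) z = - e6_beta X u z := by
  have := map_neg (e6_betaL X z) u
  simp only [e6_betaL_apply] at this
  exact this

omit [Fintype F] in
/-- a non-zero vector orthogonal to `2k < 2d` given ones -/
theorem e6_exists_ker (X : Matrix (Fin d ⊕ Fin d) (Fin d ⊕ Fin d) F) {k : ℕ} (hk : k < d)
    (w w2 : Fin k → Fin d ⊕ Fin d → F) :
    ∃ v : Fin d ⊕ Fin d → F, v ≠ 0 ∧ (∀ i, e6_beta X v (w i) = 0) ∧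
      ∀ i, e6_beta X v (w2 i) = 0 := by
  let φ1 : (Fin d ⊕ Fin d → F) →ₗ[F] (Fin k → F) := LinearMap.pi fun i => e6_betaL X (w i)
  let φ2 : (Fin d ⊕ Fin d → F) →ₗ[F] (Fin k → F) := LinearMap.pi fun i => e6_betaL X (w2 i)
  have hker : LinearMap.ker (φ1.prod φ2) ≠ ⊥ := by
    apply LinearMap.ker_ne_bot_of_finrank_lt
    simp only [Module.finrank_prod, Module.finrank_fintype_fun_eq_card, Fintype.card_fin,
      Fintype.card_sum]
    omega
  obtain ⟨v, hv, hv0⟩ := (Submodule.ne_bot_iff _).mp hker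
  rw [LinearMap.mem_ker, LinearMap.prod_apply] at hv
  have hv' := Prod.mk_eq_zero.mp hv
  refine ⟨v, hv0, fun i => ?_, fun i => ?_⟩
  · have := congrFun hv'.1 i
    simpa [φ1, e6_betaL_apply] using this
  · have := congrFun hv'.2 i
    simpa [φ2, e6_betaL_apply] using this

/-- the inductive step: one more vector of the adapted orthonormal family -/
theorem e6_exists_next (h2 : (2 : F) ≠ 0) (X : Matrix (Fin d ⊕ Fin d) (Fin d ⊕ Fin d) F)
    (hX2 : X * X = -1)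
    (hXf : ∀ u v, Cfsg.sympForm d F (X *ᵥ u) (X *ᵥ v) = Cfsg.sympForm d F u v)
    {k : ℕ} (hk : k < d) (w : Fin k → Fin d ⊕ Fin d → F)
    (hw1 : ∀ i j, e6_beta X (w i) (w j) = if i = j then 1 else 0)
    (hw2 : ∀ i j, e6_beta X (X *ᵥ w i) (w j) = 0) :
    ∃ z : Fin d ⊕ Fin d → F, e6_beta X z z = 1 ∧ (∀ i, e6_beta X z (w i) = 0) ∧
      ∀ i, e6_beta X z (X *ᵥ w i) = 0 := by
  classical
  have hsym := e6_beta_symm X hX2 hXf
  obtain ⟨v, hv0, hv1, hv2⟩ := e6_exists_ker X hk w (fun i => X *ᵥ w i)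
  have : ∃ t, e6_beta X v t ≠ 0 := by
    by_contra hcon
    push Not at hcon
    exact hv0 (e6_beta_nondeg X hX2 _ hcon)
  obtain ⟨t, ht⟩ := this
  have hw3 : ∀ i j, e6_beta X (w i) (X *ᵥ w j) = 0 := fun i j => by rw [hsym]; exact hw2 j i
  have hw4 : ∀ i j, e6_beta X (X *ᵥ w i) (X *ᵥ w j) = if i = j then 1 else 0 := fun i j => by
    rw [e6_beta_XX X hXf]; exact hw1 i j
  set t' : Fin d ⊕ Fin d → F :=
    t + -(∑ i, (e6_beta X (w i) t • w i + e6_beta X (X *ᵥ w i) t • X *ᵥ w i)) with ht'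
  have ht1 : ∀ j, e6_beta X t' (w j) = 0 := by
    intro j
    rw [ht', e6_beta_add_left, e6_beta_neg_left, e6_beta_sum_left]
    simp only [e6_beta_add_left, e6_beta_smul_left, hw1, hw2, mul_zero, add_zero, mul_ite, mul_one,
      Finset.sum_ite_eq', Finset.mem_univ, if_true]
    rw [hsym t (w j)]
    ring
  have ht2 : ∀ j, e6_beta X t' (X *ᵥ w j) = 0 := by
    intro j
    rw [ht', e6_beta_add_left, e6_beta_neg_left, e6_beta_sum_left]
    simp only [e6_beta_add_left, e6_beta_smul_left, hw3, hw4, mul_zero, zero_add, mul_ite, mul_one,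
      Finset.sum_ite_eq', Finset.mem_univ, if_true]
    rw [hsym t (X *ᵥ w j)]
    ring
  have ht3 : e6_beta X v t' ≠ 0 := by
    rw [hsym, ht', e6_beta_add_left, e6_beta_neg_left, e6_beta_sum_left]
    have : ∀ i, e6_beta X (e6_beta X (w i) t • w i + e6_beta X (X *ᵥ w i) t • X *ᵥ w i) v = 0 := by
      intro i
      rw [e6_beta_add_left, e6_beta_smul_left, e6_beta_smul_left, hsym (w i) v, hv1,
        hsym (X *ᵥ w i) v, hv2]
      ring
    simp only [this, Finset.sum_const_zero, neg_zero, add_zero]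
    rw [hsym]
    exact ht
  -- an anisotropic vector orthogonal to all `w i`, `X w i`
  obtain ⟨u', hu1, hu2, hu3⟩ : ∃ u' : Fin d ⊕ Fin d → F, (∀ i, e6_beta X u' (w i) = 0) ∧
      (∀ i, e6_beta X u' (X *ᵥ w i) = 0) ∧ e6_beta X u' u' ≠ 0 := by
    rcases e6_aniso_of_ne h2 X hX2 hXf v t' ht3 with h | h | h
    · exact ⟨v, hv1, hv2, h⟩
    · exact ⟨t', ht1, ht2, h⟩
    · refine ⟨v + t', fun i => ?_, fun i => ?_, h⟩
      · rw [e6_beta_add_left, hv1, ht1, add_zero]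
      · rw [e6_beta_add_left, hv2, ht2, add_zero]
  obtain ⟨a, b, hab⟩ := e6_normalize h2 X hX2 hXf u' hu3
  have hf0 : ∀ i, Cfsg.sympForm d F u' (w i) = 0 := by
    intro i
    rw [← e6_beta_X_right X hXf]; exact hu2 i
  have h5 : ∀ i, e6_beta X (X *ᵥ u') (w i) = 0 := by
    intro i
    rw [e6_beta_X_left X hX2, hf0, neg_zero]
  have h6 : ∀ i, e6_beta X (X *ᵥ u') (X *ᵥ w i) = 0 := by
    intro i
    rw [e6_beta_XX X hXf]; exact hu1 i
  refine ⟨a • u' + b • X *ᵥ u', hab, fun i => ?_, fun i => ?_⟩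
  · simp only [e6_beta_add_left, e6_beta_smul_left, hu1, h5]
    ring
  · simp only [e6_beta_add_left, e6_beta_smul_left, hu2, h6]
    ring

/-- the adapted orthonormal family -/
theorem e6_exists_family (h2 : (2 : F) ≠ 0) (X : Matrix (Fin d ⊕ Fin d) (Fin d ⊕ Fin d) F)
    (hX2 : X * X = -1)
    (hXf : ∀ u v, Cfsg.sympForm d F (X *ᵥ u) (X *ᵥ v) = Cfsg.sympForm d F u v) :
    ∀ k, k ≤ d → ∃ w : Fin k → Fin d ⊕ Fin d → F,
      (∀ i j, e6_beta X (w i) (w j) = if i = j then 1 else 0) ∧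
      ∀ i j, e6_beta X (X *ᵥ w i) (w j) = 0 := by
  have hsym := e6_beta_symm X hX2 hXf
  intro k
  induction k with
  | zero =>
    intro _
    exact ⟨fun i => i.elim0, fun i => i.elim0, fun i => i.elim0⟩
  | succ k ih =>
    intro hk
    obtain ⟨w, hw1, hw2⟩ := ih (by omega)
    obtain ⟨z, hz1, hz2, hz3⟩ := e6_exists_next h2 X hX2 hXf (by omega) w hw1 hw2
    have hz4 : ∀ i, e6_beta X (X *ᵥ z) (w i) = 0 := by
      intro i
      rw [← e6_beta_XX X hXf, e6_XX X hX2, e6_beta_neg_left, hz3, neg_zero]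
    refine ⟨Fin.cons z w, ?_, ?_⟩
    · intro i j
      refine Fin.cases ?_ (fun i => ?_) i <;> refine Fin.cases ?_ (fun j => ?_) j
      · simp [hz1]
      · simp only [Fin.cons_zero, Fin.cons_succ, hz2]
        rw [if_neg (Fin.succ_ne_zero j).symm]
      · simp only [Fin.cons_zero, Fin.cons_succ]
        rw [hsym, hz2, if_neg (Fin.succ_ne_zero i)]
      · simp only [Fin.cons_succ, hw1, Fin.succ_inj]
    · intro i j
      refine Fin.cases ?_ (fun i => ?_) i <;> refine Fin.cases ?_ (fun j => ?_) j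
      · simp only [Fin.cons_zero]
        rw [hsym]
        exact e6_beta_self_X h2 X z
      · simp only [Fin.cons_zero, Fin.cons_succ, hz4]
      · simp only [Fin.cons_zero, Fin.cons_succ]
        rw [hsym, hz3]
      · simp only [Fin.cons_succ, hw2]

omit [Fintype F] in
/-- Gram matrix of the columns -/
theorem e6_gram (c : Fin d ⊕ Fin d → Fin d ⊕ Fin d → F) :
    (Matrix.of c * J (Fin d) F * (Matrix.of c)ᵀ) =
      Matrix.of fun i j => Cfsg.sympForm d F (c i) (c j) := by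
  ext i j
  simp only [mul_apply, transpose_apply, of_apply, Cfsg.sympForm, dotProduct, mulVec,
    Finset.sum_mul, Finset.mul_sum, mul_assoc]
  exact Finset.sum_comm

omit [Fintype F] in
/-- matrices with `Pᵀ J P = J` are symplectic -/
theorem e6_mem_spGL (P : GL (Fin d ⊕ Fin d) F)
    (hP : (P : Matrix (Fin d ⊕ Fin d) (Fin d ⊕ Fin d) F)ᵀ * J (Fin d) F *
      (P : Matrix (Fin d ⊕ Fin d) (Fin d ⊕ Fin d) F) = J (Fin d) F) :
    P ∈ Cfsg.spGL d F := by
  intro u v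
  show Cfsg.sympForm d F ((P : Matrix (Fin d ⊕ Fin d) (Fin d ⊕ Fin d) F) *ᵥ u)
    ((P : Matrix (Fin d ⊕ Fin d) (Fin d ⊕ Fin d) F) *ᵥ v) = Cfsg.sympForm d F u v
  unfold Cfsg.sympForm
  rw [← vecMul_transpose, ← dotProduct_mulVec, mulVec_mulVec, mulVec_mulVec, hP]

omit [Fintype F] in
/-- the standard form: `x P = P J` with `P` symplectic, from an adapted family -/
theorem e6_standard_of_family (X : Matrix (Fin d ⊕ Fin d) (Fin d ⊕ Fin d) F) (hX2 : X * X = -1)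
    (hXf : ∀ u v, Cfsg.sympForm d F (X *ᵥ u) (X *ᵥ v) = Cfsg.sympForm d F u v)
    (w : Fin d → Fin d ⊕ Fin d → F)
    (hw1 : ∀ i j, e6_beta X (w i) (w j) = if i = j then 1 else 0)
    (hw2 : ∀ i j, e6_beta X (X *ᵥ w i) (w j) = 0) :
    ∃ P ∈ Cfsg.spGL d F, X * (P : Matrix (Fin d ⊕ Fin d) (Fin d ⊕ Fin d) F) =
      (P : Matrix (Fin d ⊕ Fin d) (Fin d ⊕ Fin d) F) * J (Fin d) F := by
  classical
  have hsym := e6_beta_symm X hX2 hXf
  -- values of `f`
  have fXl : ∀ u v, Cfsg.sympForm d F (X *ᵥ u) v = e6_beta X u v := fun u v => rfl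
  have fXr : ∀ u v, Cfsg.sympForm d F u (X *ᵥ v) = - e6_beta X v u := by
    intro u v
    rw [e6_f_swap (X *ᵥ v) u]
    rfl
  have fww : ∀ i j, Cfsg.sympForm d F (w i) (w j) = 0 := by
    intro i j
    have := e6_beta_X_left X hX2 (w i) (w j)
    rw [hw2] at this
    exact neg_eq_zero.mp this.symm
  set c : Fin d ⊕ Fin d → Fin d ⊕ Fin d → F := Sum.elim w (fun i => X *ᵥ w i) with hc
  have hgram : (Matrix.of c * J (Fin d) F * (Matrix.of c)ᵀ) = J (Fin d) F := by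
    rw [e6_gram]
    ext i j
    rcases i with i | i <;> rcases j with j | j
    · simp [hc, J, fww]
    · simp [hc, J, fXr, hw1, Matrix.one_apply, eq_comm]
    · simp [hc, J, fXl, hw1, Matrix.one_apply]
    · simp [hc, J, hXf, fww]
  have hdet : ((Matrix.of c)ᵀ).det ≠ 0 := by
    intro h
    have h3 := congrArg Matrix.det hgram
    rw [det_mul, det_mul, h, mul_zero] at h3
    exact (isUnit_det_J (Fin d) F).ne_zero h3.symm
  refine ⟨Matrix.GeneralLinearGroup.mkOfDetNeZero _ hdet, ?_, ?_⟩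
  · apply e6_mem_spGL
    show ((Matrix.of c)ᵀ)ᵀ * J (Fin d) F * (Matrix.of c)ᵀ = J (Fin d) F
    rw [transpose_transpose]
    exact hgram
  · show X * (Matrix.of c)ᵀ = (Matrix.of c)ᵀ * J (Fin d) F
    ext i j
    have hl : (X * (Matrix.of c)ᵀ) i j = (X *ᵥ c j) i := by
      simp [mul_apply, mulVec, dotProduct]
    rw [hl]
    rcases j with j | j
    · simp [hc, J, mul_apply, Fintype.sum_sum_type, Matrix.one_apply]
    · simp [hc, J, mul_apply, Fintype.sum_sum_type, Matrix.one_apply, e6_XX X hX2]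

/-- every `x ∈ Sp_{2d}(F)` with `x² = -1` is `Sp`-conjugate to `J` -/
theorem e6_standard (h2 : (2 : F) ≠ 0) (x : GL (Fin d ⊕ Fin d) F) (hx : x ∈ Cfsg.spGL d F)
    (hx2 : x.val * x.val = -1) :
    ∃ P ∈ Cfsg.spGL d F, x.val * (P : Matrix (Fin d ⊕ Fin d) (Fin d ⊕ Fin d) F) =
      (P : Matrix (Fin d ⊕ Fin d) (Fin d ⊕ Fin d) F) * J (Fin d) F := by
  have hXf : ∀ u v, Cfsg.sympForm d F (x.val *ᵥ u) (x.val *ᵥ v) = Cfsg.sympForm d F u v :=
    fun u v => hx u v
  obtain ⟨w, hw1, hw2⟩ := e6_exists_family h2 _ hx2 hXf d le_rfl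
  exact e6_standard_of_family _ hx2 hXf w hw1 hw2

end e6aux

/-- SPT-E6.  Elements of `Sp_{2d}(F)` with square `-1` are conjugate (`F` finite, odd). -/
theorem sp_conj_of_sq_neg_one [Fintype F] {d : ℕ} (h2 : (2 : F) ≠ 0) (x y : GL (Fin d ⊕ Fin d) F)
    (hx : x ∈ Cfsg.spGL d F) (hy : y ∈ Cfsg.spGL d F)
    (hxx : x.val * x.val = -1) (hyy : y.val * y.val = -1) :
    ∃ g ∈ Cfsg.spGL d F, g⁻¹ * x * g = y := by
  obtain ⟨P, hP, hxP⟩ := e6_standard h2 x hx hxx
  obtain ⟨Q, hQ, hyQ⟩ := e6_standard h2 y hy hyy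
  refine ⟨P * Q⁻¹, (Cfsg.spGL d F).mul_mem hP ((Cfsg.spGL d F).inv_mem hQ), ?_⟩
  have hJQ : J (Fin d) F * (Q⁻¹ : GL (Fin d ⊕ Fin d) F).val =
      (Q⁻¹ : GL (Fin d ⊕ Fin d) F).val * y.val := by
    have hQi : (Q⁻¹ : GL (Fin d ⊕ Fin d) F).val * Q.val = 1 := by
      rw [← Units.val_mul, inv_mul_cancel, Units.val_one]
    have hQi' : Q.val * (Q⁻¹ : GL (Fin d ⊕ Fin d) F).val = 1 := by
      rw [← Units.val_mul, mul_inv_cancel, Units.val_one]
    calc J (Fin d) F * (Q⁻¹ : GL (Fin d ⊕ Fin d) F).val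
        = (Q⁻¹ : GL (Fin d ⊕ Fin d) F).val * (Q.val * J (Fin d) F) *
            (Q⁻¹ : GL (Fin d ⊕ Fin d) F).val := by
          rw [← Matrix.mul_assoc, hQi, Matrix.one_mul]
      _ = (Q⁻¹ : GL (Fin d ⊕ Fin d) F).val * (y.val * Q.val) *
            (Q⁻¹ : GL (Fin d ⊕ Fin d) F).val := by rw [hyQ]
      _ = (Q⁻¹ : GL (Fin d ⊕ Fin d) F).val * y.val := by
          rw [Matrix.mul_assoc, Matrix.mul_assoc, hQi', Matrix.mul_one]
  have hcomm : x * (P * Q⁻¹) = (P * Q⁻¹) * y := by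
    apply Units.ext
    simp only [Units.val_mul]
    rw [← Matrix.mul_assoc, hxP, Matrix.mul_assoc, hJQ, Matrix.mul_assoc]
  rw [mul_assoc, hcomm, ← mul_assoc, inv_mul_cancel, one_mul]

end Cfsg.Agent.Lib.Helper31.SpTns
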