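import Mathlib

set_option autoImplicit false
set_option linter.style.haveILetI false
set_option linter.unnecessarySimpa false

namespace Cfsg.Agent.Lib.Helper53

open Subgroup
open scoped Pointwise

/-- Every `p`-subgroup is conjugate into a given Sylow `p`-subgroup. -/
theorem exists_conj_mem_sylow {G : Type*} [Group G] [Finite G] {p : ℕ} [Fact p.Prime]
    (R : Subgroup G) (hR : IsPGroup p ↥R) (P : Sylow p G) :
    ∃ k : G, ∀ r ∈ R, k * r * k⁻¹ ∈ (P : Subgroup G) := by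
  obtain ⟨P', hRP'⟩ := hR.exists_le_sylow
  obtain ⟨k, hk⟩ := MulAction.exists_smul_eq G P' P
  refine ⟨k, fun r hr => ?_⟩
  have h1 : r ∈ (P' : Subgroup G) := hRP' hr
  have h2 : MulAut.conj k • r ∈ MulAut.conj k • (P' : Subgroup G) :=
    Subgroup.smul_mem_pointwise_smul r (MulAut.conj k) (P' : Subgroup G) h1
  have h3 : ((k • P' : Sylow p G) : Subgroup G) = MulAut.conj k • (P' : Subgroup G) := rfl
  rw [← h3, hk] at h2
  simpa [MulAut.smul_def] using h2

/-- Two `p`-subgroups: the second can be conjugated into a `p`-subgroup containing the first. -/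
theorem exists_conj_common_pgroup {G : Type*} [Group G] [Finite G] {p : ℕ} [Fact p.Prime]
    (A B : Subgroup G) (hA : IsPGroup p ↥A) (hB : IsPGroup p ↥B) :
    ∃ h : G, ∃ R : Subgroup G, IsPGroup p ↥R ∧ A ≤ R ∧ ∀ b ∈ B, h * b * h⁻¹ ∈ R := by
  obtain ⟨R, hAR⟩ := hA.exists_le_sylow
  obtain ⟨h, hh⟩ := exists_conj_mem_sylow B hB R
  exact ⟨h, R, R.2, hAR, hh⟩

/-- Relative version: `A B ≤ K` both `p`-subgroups; conjugating element can be chosen in `K`. -/
theorem exists_conj_common_pgroup_rel {G : Type*} [Group G] [Finite G] {p : ℕ} [Fact p.Prime]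
    (K A B : Subgroup G) (hAK : A ≤ K) (hBK : B ≤ K) (hA : IsPGroup p ↥A) (hB : IsPGroup p ↥B) :
    ∃ h ∈ K, ∃ R : Subgroup G, IsPGroup p ↥R ∧ A ≤ R ∧ R ≤ K ∧ ∀ b ∈ B, h * b * h⁻¹ ∈ R := by
  have hA' : IsPGroup p ↥(A.subgroupOf K) :=
    hA.of_equiv (Subgroup.subgroupOfEquivOfLe hAK).symm
  have hB' : IsPGroup p ↥(B.subgroupOf K) :=
    hB.of_equiv (Subgroup.subgroupOfEquivOfLe hBK).symm
  obtain ⟨h, R', hR', hAR', hBR'⟩ := exists_conj_common_pgroup (A.subgroupOf K) (B.subgroupOf K) hA' hB'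
  refine ⟨(h : G), h.2, R'.map K.subtype, hR'.map _, ?_, Subgroup.map_subtype_le R', ?_⟩
  · intro a ha
    exact ⟨⟨a, hAK ha⟩, hAR' (Subgroup.mem_subgroupOf.2 ha), rfl⟩
  · intro b hb
    have := hBR' ⟨b, hBK hb⟩ (Subgroup.mem_subgroupOf.2 hb)
    exact ⟨_, this, rfl⟩

end Cfsg.Agent.Lib.Helper53
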