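import Mathlib
import Cfsg.Agent.Lib.Helper53.Transfer

set_option autoImplicit false
set_option linter.style.haveILetI false
set_option linter.unnecessarySimpa false

namespace Cfsg.Agent.Lib.Helper53

open MulAction Subgroup

/-- The transfer homomorphism into a group of order two attached to an index-two subgroup `X` of a
Sylow `2`-subgroup, with two evaluation rules. -/
theorem exists_transfer_hom {G : Type*} [Group G] [Finite G]
    (S : Sylow 2 G) (X : Subgroup G) (hX : X.relIndex (S : Subgroup G) = 2) :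
    ∃ τ : G →* Multiplicative (ZMod 2),
      (∀ n : ℕ, 1 ≤ n → (∀ y ∈ (S : Subgroup G), y ∉ X → 2 ^ (n - 1) < orderOf y) →
        ∀ x : G, orderOf x = 2 ^ n → (∀ g : G, g * x * g⁻¹ ∉ X) → τ x ≠ 1) ∧
      (∀ x : G, x ^ 2 = 1 → (∀ g : G, g * x * g⁻¹ ∈ (S : Subgroup G) → g * x * g⁻¹ ∈ X) → τ x = 1) := by
  classical
  haveI : Fact (Nat.Prime 2) := ⟨Nat.prime_two⟩
  obtain ⟨ϕ, hϕ⟩ := exists_hom_of_relIndex_two (S : Subgroup G) X hX
  refine ⟨MonoidHom.transfer ϕ, ?_, ?_⟩
  · intro n hn hord x hxn hcon
    haveI : Fintype (Quotient (orbitRel (zpowers x) (G ⧸ (S : Subgroup G)))) := Fintype.ofFinite _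
    have hform := MonoidHom.transfer_eq_prod_quotient_orbitRel_zpowers_quot ϕ x
    have hterm : ∀ q : Quotient (orbitRel (zpowers x) (G ⧸ (S : Subgroup G))),
        ϕ ⟨q.out.out⁻¹ * x ^ Function.minimalPeriod (x • ·) q.out * q.out.out,
            QuotientGroup.out_conj_pow_minimalPeriod_mem (S : Subgroup G) x q.out⟩ =
          Multiplicative.ofAdd ((Function.minimalPeriod (x • ·) q.out : ℕ) : ZMod 2) := by
      intro q
      have hper : Function.IsPeriodicPt (x • ·) (2 ^ n) q.out := by
        show (fun y : G ⧸ (S : Subgroup G) => x • y)^[2 ^ n] q.out = q.out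
        rw [smul_iterate_apply, ← hxn, pow_orderOf_eq_one, one_smul]
      exact transfer_term (S : Subgroup G) X ϕ hϕ n hn hord x hxn hcon q.out.out _
        hper.minimalPeriod_dvd _
    have hsum : (S : Subgroup G).index = ∑ q : Quotient (orbitRel (zpowers x) (G ⧸ (S : Subgroup G))),
        Function.minimalPeriod (x • ·) q.out := Subgroup.index_eq_sum_minimalPeriod (S : Subgroup G) x
    have hodd : ¬ 2 ∣ (S : Subgroup G).index := S.not_dvd_index
    rw [hform]
    simp_rw [hterm]
    rw [← ofAdd_sum, ← Nat.cast_sum, ← hsum]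
    intro h
    have h0 : (((S : Subgroup G).index : ℕ) : ZMod 2) = 0 := by
      simpa using h
    exact hodd ((ZMod.natCast_eq_zero_iff _ 2).1 h0)
  · intro x hx2 hcon
    haveI : Fintype (Quotient (orbitRel (zpowers x) (G ⧸ (S : Subgroup G)))) := Fintype.ofFinite _
    rw [MonoidHom.transfer_eq_prod_quotient_orbitRel_zpowers_quot ϕ x]
    apply Finset.prod_eq_one
    intro q _
    rw [hϕ]
    show q.out.out⁻¹ * x ^ Function.minimalPeriod (x • ·) q.out * q.out.out ∈ X
    have hmemS : q.out.out⁻¹ * x ^ Function.minimalPeriod (x • ·) q.out * q.out.out ∈ (S : Subgroup G) :=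
      QuotientGroup.out_conj_pow_minimalPeriod_mem (S : Subgroup G) x q.out
    have hper : Function.IsPeriodicPt (x • ·) 2 q.out := by
      show (fun y : G ⧸ (S : Subgroup G) => x • y)^[2] q.out = q.out
      rw [smul_iterate_apply, hx2, one_smul]
    have hdvd : Function.minimalPeriod (x • ·) q.out ∣ 2 := hper.minimalPeriod_dvd
    rcases (Nat.dvd_prime Nat.prime_two).1 hdvd with h1 | h2
    · rw [h1, pow_one] at hmemS ⊢
      have := hcon (q.out.out⁻¹) (by simpa using hmemS)
      simpa using this
    · rw [h2, hx2]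
      simp

end Cfsg.Agent.Lib.Helper53
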