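import Mathlib
import Cfsg.Prelude.Def_Transfer
import Cfsg.Agent.Lib.Helper53.SylowAux

set_option autoImplicit false
set_option linter.style.haveILetI false
set_option linter.unnecessarySimpa false

namespace Cfsg.Agent.Lib.Helper53

open Subgroup

/-- A weakly closed subgroup of a Sylow subgroup controls fusion in its centralizer. -/
theorem weaklyClosed_controls_conj {G : Type*} [Group G] [Finite G] {p : ℕ} [Fact p.Prime]
    (P : Sylow p G) (W : Subgroup G) (hW : Cfsg.IsWeaklyClosed W (P : Subgroup G)) (x y : G)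
    (hx : W ≤ Subgroup.centralizer ({x} : Set G)) (hy : W ≤ Subgroup.centralizer ({y} : Set G))
    (g : G) (hg : g * x * g⁻¹ = y) :
    ∃ h ∈ Subgroup.normalizer (W : Set G), h * x * h⁻¹ = y := by
  obtain ⟨hW1, hW2⟩ := hW
  have hWp : IsPGroup p ↥W := P.2.to_le hW1
  have hQC : W.map (MulAut.conj g).toMonoidHom ≤ Subgroup.centralizer ({y} : Set G) := by
    rintro _ ⟨w, hw, rfl⟩
    rw [Subgroup.mem_centralizer_singleton_iff]
    have h1 : w * x = x * w := Subgroup.mem_centralizer_singleton_iff.1 (hx hw)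
    show (g * w * g⁻¹) * y = y * (g * w * g⁻¹)
    rw [← hg]
    calc g * w * g⁻¹ * (g * x * g⁻¹) = g * (w * x) * g⁻¹ := by group
      _ = g * (x * w) * g⁻¹ := by rw [h1]
      _ = g * x * g⁻¹ * (g * w * g⁻¹) := by group
  have hQp : IsPGroup p ↥(W.map (MulAut.conj g).toMonoidHom) := hWp.map _
  obtain ⟨h, hhC, R, hR, hWR, _, hQR⟩ :=
    exists_conj_common_pgroup_rel (Subgroup.centralizer ({y} : Set G)) W
      (W.map (MulAut.conj g).toMonoidHom) hy hQC hWp hQp
  obtain ⟨k, hk⟩ := exists_conj_mem_sylow R hR P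
  have hk1 : W.map (MulAut.conj k).toMonoidHom = W := by
    apply hW2
    rintro _ ⟨w, hw, rfl⟩
    exact hk w (hWR hw)
  have hk2 : W.map (MulAut.conj (k * h * g)).toMonoidHom = W := by
    apply hW2
    rintro _ ⟨w, hw, rfl⟩
    have h1 : h * (g * w * g⁻¹) * h⁻¹ ∈ R := hQR _ ⟨w, hw, rfl⟩
    have h2 := hk _ h1
    show (k * h * g) * w * (k * h * g)⁻¹ ∈ _
    have h3 : (k * h * g) * w * (k * h * g)⁻¹ = k * (h * (g * w * g⁻¹) * h⁻¹) * k⁻¹ := by group
    rw [h3]; exact h2
  have hkN : k ∈ Subgroup.normalizer (W : Set G) := Subgroup.mem_normalizer_iff_map_conj_eq.2 hk1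
  have hkhgN : k * h * g ∈ Subgroup.normalizer (W : Set G) :=
    Subgroup.mem_normalizer_iff_map_conj_eq.2 hk2
  refine ⟨h * g, ?_, ?_⟩
  · have h4 : h * g = k⁻¹ * (k * h * g) := by group
    rw [h4]; exact mul_mem (inv_mem hkN) hkhgN
  · have h5 : h * y = y * h := Subgroup.mem_centralizer_singleton_iff.1 hhC
    calc h * g * x * (h * g)⁻¹ = h * (g * x * g⁻¹) * h⁻¹ := by group
      _ = h * y * h⁻¹ := by rw [hg]
      _ = y := by rw [h5]; group

end Cfsg.Agent.Lib.Helper53
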